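import Cfsg.Agent.Lib.Coprime
import Mathlib

/-!
Fixed points of a group of operators and coprime lifting.
-/

set_option autoImplicit false
set_option linter.unusedSectionVars false

namespace CfsgLib.SF23

open Subgroup

universe u
variable {H : Type u} [Group H] {B : Type u} [Group B]

/-- The fixed subgroup of an action. -/
def fixedSub (α : B →* MulAut H) : Subgroup H where
  carrier := {x | ∀ b, α b x = x}
  one_mem' b := map_one _
  mul_mem' hx hy b := by rw [map_mul, hx b, hy b]
  inv_mem' hx b := by rw [map_inv, hx b]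

theorem mem_fixedSub {α : B →* MulAut H} {x : H} : x ∈ fixedSub α ↔ ∀ b, α b x = x := Iff.rfl

set_option maxHeartbeats 400000 in
/-- Fixed points lift through a quotient by an invariant subgroup under a soluble coprime group of operators. -/
theorem exists_fixed_lift [Finite H] [Finite B] (α : B →* MulAut H) (hB : Group.IsSolvable B)
    (hcop : (Nat.card B).Coprime (Nat.card H)) (N : Subgroup H) [N.Normal]
    (hN : ∀ b, ∀ n ∈ N, α b n ∈ N) {x : H} (hx : ∀ b, α b x * x⁻¹ ∈ N) :
    ∃ c ∈ fixedSub α, x⁻¹ * c ∈ N := by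
  let S := SemidirectProduct H B α
  haveI : Finite S := Finite.of_equiv _ SemidirectProduct.equivProd.symm
  let iH : H →* S := SemidirectProduct.inl
  let iB : B →* S := SemidirectProduct.inr
  have hiH : Function.Injective iH := SemidirectProduct.inl_injective
  have hiB : Function.Injective iB := SemidirectProduct.inr_injective
  have hc : ∀ b h, iB b * iH h * (iB b)⁻¹ = iH (α b h) := fun b h => by rw [← map_inv]; exact (SemidirectProduct.inl_aut b h).symm
  have hAK : iB.range ≤ normalizer (iH.range : Set S) := fun s hs => by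
    obtain ⟨b, rfl⟩ := hs
    exact Subgroup.mem_normalizer_iff.mpr fun y => ⟨fun ⟨h, e⟩ => ⟨α b h, by rw [← hc, e]⟩,
      fun ⟨h, e⟩ => ⟨α b⁻¹ h, by rw [← hc, e]; simp only [map_inv]; group; simp⟩⟩
  have hsolv : Group.IsSolvable iB.range := Group.isSolvable_of_surjective iB.rangeRestrict_surjective
  have hcard : (Nat.card iB.range).Coprime (Nat.card iH.range) := by
    rwa [← Nat.card_congr (MonoidHom.ofInjective hiB).toEquiv, ← Nat.card_congr (MonoidHom.ofInjective hiH).toEquiv]
  have hNK : N.map iH ≤ iH.range := Subgroup.map_le_range _ _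
  have hKN : iH.range ≤ normalizer (N.map iH : Set S) := fun s hs => by
    obtain ⟨h, rfl⟩ := hs
    refine Subgroup.mem_normalizer_iff.mpr fun y => ⟨?_, ?_⟩
    · rintro ⟨n, hn, rfl⟩
      exact ⟨h * n * h⁻¹, ‹N.Normal›.conj_mem n hn h, by simp⟩
    · rintro ⟨n, hn, e⟩
      refine ⟨h⁻¹ * n * h, by simpa using ‹N.Normal›.conj_mem n hn h⁻¹, ?_⟩
      rw [map_mul, map_mul, map_inv, e]; group
  have hNA : iB.range ≤ normalizer (N.map iH : Set S) := fun s hs => by
    obtain ⟨b, rfl⟩ := hs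
    refine Subgroup.mem_normalizer_iff.mpr fun y => ⟨?_, ?_⟩
    · rintro ⟨n, hn, rfl⟩
      exact ⟨α b n, hN b n hn, (hc b n).symm⟩
    · rintro ⟨n, hn, e⟩
      exact ⟨α b⁻¹ n, hN _ n hn, by rw [← hc, e]; simp only [map_inv]; group; simp⟩
  obtain ⟨c, ⟨⟨h, rfl⟩, hcc⟩, hxc⟩ := coprime_fixed_quotient (k := iH x) hAK hcard (Or.inl hsolv) hNK hKN hNA
    ⟨x, rfl⟩ (by
      rintro _ ⟨b, rfl⟩
      exact ⟨α b x * x⁻¹, hx b, by rw [map_mul, map_inv, ← hc]⟩)
  refine ⟨h, fun b => hiH ?_, ?_⟩
  · rw [← hc, hcc (iB b) ⟨b, rfl⟩, mul_inv_cancel_right]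
  · obtain ⟨n, hn, e⟩ := hxc
    rw [← map_inv, ← map_mul] at e
    rwa [← hiH e]

/-- The fixed subgroup maps onto the fixed subgroup of the quotient. -/
theorem map_fixedSub_eq [Finite H] [Finite B] (α : B →* MulAut H) (hB : Group.IsSolvable B)
    (hcop : (Nat.card B).Coprime (Nat.card H)) (N : Subgroup H) [N.Normal]
    (hN : ∀ b, ∀ n ∈ N, α b n ∈ N) (β : B →* MulAut (H ⧸ N))
    (hβ : ∀ b h, β b (QuotientGroup.mk' N h) = QuotientGroup.mk' N (α b h)) :
    (fixedSub α).map (QuotientGroup.mk' N) = fixedSub β := by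
  refine le_antisymm ?_ fun z hz => ?_
  · rintro _ ⟨h, hh, rfl⟩ b
    rw [hβ, hh b]
  · obtain ⟨x, rfl⟩ := QuotientGroup.mk'_surjective N z
    obtain ⟨c, hc, hxc⟩ := exists_fixed_lift α hB hcop N hN (x := x) fun b => by
      have h1 := hz b
      rw [hβ] at h1
      refine (QuotientGroup.eq_one_iff _).mp ?_
      show QuotientGroup.mk' N (α b x * x⁻¹) = 1
      rw [map_mul, map_inv, h1, mul_inv_cancel]
    exact ⟨c, hc, ((QuotientGroup.eq).mpr hxc).symm⟩

end CfsgLib.SF23
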