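import Cfsg.Agent.Lib.SF23.SuzModel
import Cfsg.Agent.Lib.Suzuki.Lie
import Cfsg.Agent.Lib.Suzuki.Partition
import Cfsg.Agent.Lib.S3Simple.Rows
import Cfsg.Agent.Lib.S3Simple.Classification

/-!
Facts about the Suzuki groups: tori, three-groups of automorphisms, rigidity and the Borel data of a frame.

Blueprint: `blueprint/S1919.md`, section 1.
-/

set_option autoImplicit false
set_option linter.unusedSectionVars false
set_option linter.style.haveILetI false

namespace CfsgLib.SF23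

open Cfsg CfsgLib.Suzuki Subgroup
open scoped Pointwise

universe u v

variable {L : Type u} [Group L] [Finite L]

theorem exists_model (hL : Cfsg.Lie.IsoSuzuki L) :
    ∃ (F : Type) (_ : Field F) (_ : Fintype F) (m : ℕ) (_ : Fintype.card F = 2 ^ (2 * m + 1)),
      1 ≤ m ∧ Nonempty (L ≃* ↥(Cfsg.Sz F m)) := by
  obtain ⟨F, i1, i2, m, hm, hc, ⟨e⟩⟩ := hL
  exact ⟨F, i1, i2, m, hc, hm, ⟨e.trans (Suzuki.lieEquiv hc hm).symm⟩⟩

theorem suz_of_three_free (hs : IsSimpleGroup L) (hna : ¬ IsMulCommutative L) (h3 : ¬ 3 ∣ Nat.card L) :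
    Cfsg.Lie.IsoSuzuki L :=
  (S3Simple.suzuki_or_three (K := L) (S3Simple.classify L hs hna (S3Simple.free_of_not_three h3))).resolve_right
    fun hd => h3 hd.1

theorem suz_not_three_dvd (hL : Cfsg.Lie.IsoSuzuki L) : ¬ 3 ∣ Nat.card L := by
  obtain ⟨F, i1, i2, m, hF, hm, ⟨e⟩⟩ := exists_model hL
  rw [Nat.card_congr e.toEquiv]
  exact SzM.not_three_dvd hF hm

theorem suz_simple (hL : Cfsg.Lie.IsoSuzuki L) : IsSimpleGroup L := by
  obtain ⟨F, i1, i2, m, hF, hm, ⟨e⟩⟩ := exists_model hL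
  haveI := Suzuki.isSimple hF hm
  exact MulEquiv.isSimpleGroup e

theorem suz_five_dvd (hL : Cfsg.Lie.IsoSuzuki L) : 5 ∣ Nat.card L := by
  obtain ⟨F, i1, i2, m, hF, hm, ⟨e⟩⟩ := exists_model hL
  rw [Nat.card_congr e.toEquiv, Suzuki.card_Sz hF hm]
  exact ((SzM.five_not_dvd_q hF).2.2.mul_left _).mul_right _

section Transfer

variable {M : Type v} [Group M] (e : L ≃* M)

theorem mem_cent_iff {z x : L} : x ∈ centralizer ({z} : Set L) ↔ e x ∈ centralizer ({e z} : Set M) := by
  rw [mem_centralizer_singleton_iff, mem_centralizer_singleton_iff, ← map_mul, ← map_mul, e.injective.eq_iff]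

theorem map_cent (z : L) : (centralizer ({z} : Set L)).map e.toMonoidHom = centralizer ({e z} : Set M) := by
  ext y
  obtain ⟨x, rfl⟩ := e.surjective y
  rw [← mem_cent_iff]
  exact mem_map_iff_mem e.injective

theorem mem_norm_iff {z x : L} : x ∈ normalizer (centralizer ({z} : Set L) : Set L) ↔
    e x ∈ normalizer (centralizer ({e z} : Set M) : Set M) := by
  rw [← map_cent, ← map_equiv_normalizer_eq]
  exact (mem_map_iff_mem e.injective).symm

theorem card_norm (z : L) : Nat.card (normalizer (centralizer ({z} : Set L) : Set L)) =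
    Nat.card (normalizer (centralizer ({e z} : Set M) : Set M)) := by
  rw [← map_cent, ← map_equiv_normalizer_eq]
  exact (card_map_of_injective e.injective).symm

end Transfer

theorem suz_torus (hL : Cfsg.Lie.IsoSuzuki L) {z : L} (hz : orderOf z = 5) :
    IsCyclic (centralizer ({z} : Set L)) ∧
      (∀ a ∈ centralizer ({z} : Set L), a ≠ 1 → centralizer ({a} : Set L) = centralizer {z}) ∧
      Nat.card (normalizer (centralizer ({z} : Set L) : Set L)) = 4 * Nat.card (centralizer ({z} : Set L)) ∧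
      (∀ x ∈ normalizer (centralizer ({z} : Set L) : Set L), orderOf x = 5 → x ∈ centralizer ({z} : Set L)) ∧
      ∃ t ∈ normalizer (centralizer ({z} : Set L) : Set L), orderOf t = 4 ∧
        ∀ a ∈ centralizer ({z} : Set L), t * a = a * t → a = 1 := by
  obtain ⟨F, i1, i2, m, hF, hm, ⟨e⟩⟩ := exists_model hL
  obtain ⟨hc, hTI, hcard, h5, t, htN, ht4, hfix⟩ :=
    SzM.torus_facts hF hm (z := e z) (by rw [MulEquiv.orderOf_eq, hz])
  obtain ⟨t, rfl⟩ := e.surjective t
  haveI := hc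
  let f : centralizer ({z} : Set L) ≃* centralizer ({e z} : Set ↥(Cfsg.Sz F m)) :=
    ((centralizer ({z} : Set L)).equivMapOfInjective e.toMonoidHom e.injective).trans
      (MulEquiv.subgroupCongr (map_cent e z))
  refine ⟨isCyclic_of_injective f.toMonoidHom f.injective, fun a ha h1 => ?_, ?_, fun x hx ho => ?_,
    t, (mem_norm_iff e).mpr htN, by rw [← ht4, MulEquiv.orderOf_eq], fun a ha h => ?_⟩
  · refine map_injective (f := e.toMonoidHom) e.injective ?_
    rw [map_cent, map_cent]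
    exact hTI _ ((mem_cent_iff e).mp ha) fun h => h1 (e.injective (h.trans (map_one e).symm))
  · rw [card_norm e, hcard, Nat.card_congr f.toEquiv]
  · exact (mem_cent_iff e).mpr (h5 _ ((mem_norm_iff e).mp hx) (by rw [MulEquiv.orderOf_eq, ho]))
  · exact e.injective ((hfix _ ((mem_cent_iff e).mp ha) (by rw [← map_mul, h, map_mul])).trans (map_one e).symm)

theorem suz_solvable_le (hL : Cfsg.Lie.IsoSuzuki L) {z : L} (hz : orderOf z = 5) {X : Subgroup L}
    (hX : Group.IsSolvable X) (hzX : z ∈ X) : X ≤ normalizer (centralizer ({z} : Set L) : Set L) := by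
  obtain ⟨F, i1, i2, m, hF, hm, ⟨e⟩⟩ := exists_model hL
  haveI := hX
  have := SzM.solvable_le hF hm (z := e z) (by rw [MulEquiv.orderOf_eq, hz]) (X := X.map e.toMonoidHom)
    (Group.isSolvable_of_surjective (f := (X.equivMapOfInjective e.toMonoidHom e.injective).toMonoidHom)
      (MulEquiv.surjective _)) ⟨z, hzX, rfl⟩
  exact fun x hx => (mem_norm_iff e).mpr (this ⟨x, hx, rfl⟩)

theorem suz_three_group (hL : Cfsg.Lie.IsoSuzuki L) (A₀ : Subgroup (MulAut L))
    (hA : Cfsg.IsElementaryAbelian 3 A₀) :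
    Nat.card A₀ ≤ 3 ∧ ∃ z : L, orderOf z = 5 ∧ ∀ α ∈ A₀, α z = z := by
  haveI : Fact (Nat.Prime 3) := ⟨Nat.prime_three⟩
  haveI : Fact (Nat.Prime 5) := ⟨Nat.prime_five⟩
  have hp : IsPGroup 3 A₀ := fun a => ⟨1, Subtype.ext (by rw [SubmonoidClass.coe_pow, pow_one]; exact hA.2 _ a.2)⟩
  obtain ⟨F, i1, i2, m, hF, hm, ⟨e⟩⟩ := exists_model hL
  haveI : Finite (MulAut L) := MulEquiv.toEquiv_injective |> Finite.of_injective _
  refine ⟨?_, ?_⟩
  · obtain ⟨β, hβ⟩ := SzM.three_group_field hF hm (hp.map (MulAut.congr e).toMonoidHom)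
    let f : A₀ →* zpowers (fAut hF hm 1) :=
      ((MulAut.conj β).toMonoidHom.comp ((MulAut.congr e).toMonoidHom.comp A₀.subtype)).codRestrict _
        fun a => hβ _ ⟨a, a.2, rfl⟩
    have hf : Function.Injective f := fun a b h =>
      Subtype.ext ((MulAut.congr e).injective ((MulAut.conj β).injective (congrArg Subtype.val h)))
    haveI := isCyclic_of_injective f hf
    obtain ⟨a, ha⟩ := IsCyclic.exists_ofOrder_eq_natCard (α := A₀)
    rw [← ha]
    exact Nat.le_of_dvd (by norm_num) (orderOf_dvd_of_pow_eq_one (Subtype.ext (hA.2 _ a.2)))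
  · have hn : ¬ 3 ∣ Nat.card (Sylow 5 L) := by
      intro h
      obtain ⟨P⟩ : Nonempty (Sylow 5 L) := inferInstance
      rw [P.card_eq_index_normalizer] at h
      exact suz_not_three_dvd hL (h.trans (Subgroup.index_dvd_card _))
    obtain ⟨P, hP⟩ := hp.nonempty_fixed_point_of_prime_not_dvd_card (Sylow 5 L) hn
    haveI hcyc : IsCyclic P := by
      haveI : IsCyclic ((P : Subgroup L).map e.toMonoidHom) :=
        Suzuki.isCyclic_sylow_odd hF hm (by norm_num) (P.mapSurjective (f := e.toMonoidHom) e.surjective)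
      exact isCyclic_of_injective ((P : Subgroup L).equivMapOfInjective e.toMonoidHom e.injective).toMonoidHom
        (MulEquiv.injective _)
    obtain ⟨z, hz⟩ := exists_prime_orderOf_dvd_card' (G := P) 5 (by
      rw [P.card_eq_multiplicity]
      exact dvd_pow_self _ ((Nat.Prime.factorization_pos_of_dvd Nat.prime_five Nat.card_pos.ne' (suz_five_dvd hL)).ne'))
    refine ⟨z, by rw [orderOf_coe, hz], fun α hα => ?_⟩
    have hmem : ∀ x ∈ (P : Subgroup L), α x ∈ (P : Subgroup L) := fun x hx => by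
      have h : (⟨α, hα⟩ : A₀) • P = P := hP ⟨α, hα⟩
      rw [← h]
      exact smul_mem_pointwise_smul x (α : MulAut L) _ hx
    have hz5 : z ^ 5 = 1 := orderOf_dvd_iff_pow_eq_one.mp (dvd_of_eq hz)
    set y : P := ⟨α z, hmem _ z.2⟩ with hy
    have hy5 : y ^ 5 = 1 := Subtype.ext (by
      show α z ^ 5 = 1
      rw [← map_pow, ← SubmonoidClass.coe_pow, hz5, OneMemClass.coe_one, map_one])
    have hyz : y ∈ zpowers z := by
      classical
      haveI : Fintype P := Fintype.ofFinite P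
      by_contra hc
      have h1 := IsCyclic.card_pow_eq_one_le (α := P) (n := 5) (by norm_num)
      have h2 : insert y ((zpowers z : Set P).toFinset) ⊆ Finset.univ.filter fun a : P => a ^ 5 = 1 := by
        intro a ha
        rw [Finset.mem_filter]
        refine ⟨Finset.mem_univ _, ?_⟩
        rcases Finset.mem_insert.mp ha with rfl | h
        · exact hy5
        · obtain ⟨j, rfl⟩ := Set.mem_toFinset.mp h
          show (z ^ j) ^ 5 = 1
          rw [← zpow_natCast, ← zpow_mul, mul_comm, zpow_mul, zpow_natCast, hz5, one_zpow]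
      have h3 := Finset.card_le_card h2
      rw [Finset.card_insert_of_notMem (by simpa using hc), Set.toFinset_card, ← Nat.card_eq_fintype_card] at h3
      have h4 : Nat.card (zpowers z) = 5 := by rw [Nat.card_zpowers, hz]
      change Nat.card (zpowers z) + 1 ≤ _ at h3
      have h6 : Nat.card (zpowers z) + 1 ≤ 5 := Nat.le_trans h3 (by convert h1)
      omega
    obtain ⟨j, hj⟩ := (mem_powers_iff_mem_zpowers).mpr hyz
    have hj' : α (z : L) = (z : L) ^ j := by
      have := congrArg Subtype.val hj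
      exact this.symm
    have h3 : (z : L) ^ (j * (j * j)) = z := by
      have h := MulEquiv.congr_fun (hA.2 α hα) (z : L)
      rw [pow_succ, pow_succ, pow_one, MulAut.mul_apply, MulAut.mul_apply, MulAut.one_apply, hj', map_pow, hj',
        ← pow_mul, map_pow, hj', ← pow_mul] at h
      exact h
    have hm5 : j * (j * j) % 5 = 1 := by
      have h := pow_eq_pow_iff_modEq.mp (h3.trans (pow_one (z : L)).symm)
      rw [orderOf_coe, hz] at h
      exact h
    have hj5 : j % 5 = 1 := by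
      rw [Nat.mul_mod, Nat.mul_mod j j] at hm5
      have : j % 5 < 5 := Nat.mod_lt _ (by norm_num)
      interval_cases h : j % 5 <;> simp_all
    rw [hj', ← pow_mod_orderOf, orderOf_coe, hz, hj5, pow_one]

theorem suz_rigid (hL : Cfsg.Lie.IsoSuzuki L) {φ ψ : MulAut L} (hψ : orderOf ψ = 3) (_hc : φ * ψ = ψ * φ)
    (hφ : ¬ 3 ∣ orderOf φ) (hfix : ∀ x, ψ x = x → φ x = x) : φ = 1 := by
  obtain ⟨F, i1, i2, m, hF, hm, ⟨e⟩⟩ := exists_model hL
  refine (MulAut.congr e).map_eq_one_iff.mp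
    (SzM.rigid hF hm (ψ := MulAut.congr e ψ) (by rw [MulEquiv.orderOf_eq, hψ]) (by rwa [MulEquiv.orderOf_eq])
      fun x hx => ?_)
  obtain ⟨x, rfl⟩ := e.surjective x
  simp only [MulAut.congr_apply, MulEquiv.trans_apply, MulEquiv.symm_apply_apply] at hx ⊢
  rw [hfix x (e.injective hx)]

theorem suz_torus_rigid (hL : Cfsg.Lie.IsoSuzuki L) {z : L} (hz : orderOf z = 5) {φ : MulAut L}
    (hφ : ¬ 3 ∣ orderOf φ) (hfix : ∀ x ∈ normalizer (centralizer ({z} : Set L) : Set L), φ x = x) : φ = 1 := by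
  obtain ⟨F, i1, i2, m, hF, hm, ⟨e⟩⟩ := exists_model hL
  refine (MulAut.congr e).map_eq_one_iff.mp
    (SzM.torus_rigid hF hm (z := e z) (by rw [MulEquiv.orderOf_eq, hz]) (by rwa [MulEquiv.orderOf_eq])
      fun x hx => ?_)
  obtain ⟨x, rfl⟩ := e.surjective x
  simp only [MulAut.congr_apply, MulEquiv.trans_apply, MulEquiv.symm_apply_apply]
  rw [hfix x ((mem_norm_iff e).mpr hx)]

theorem suz_fixed (hL : Cfsg.Lie.IsoSuzuki L) {ψ : MulAut L} (hψ : orderOf ψ = 3) :
    let C := (MonoidHom.eqLocus ψ.toMonoidHom (MonoidHom.id L))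
    (Group.IsSolvable C ∧ Nat.card L = 29120 ∧ Nat.card C = 20 ∧
      ∀ z : L, orderOf z = 5 → Nat.card (centralizer ({z} : Set L)) = 5) ∨ Cfsg.Lie.IsoSuzuki C := by
  intro C
  obtain ⟨F, i1, i2, m, hF, hm, ⟨e⟩⟩ := exists_model hL
  have hC : ∀ x, x ∈ C.map e.toMonoidHom ↔ MulAut.congr e ψ x = x := by
    intro x
    obtain ⟨x, rfl⟩ := e.surjective x
    simp only [MulAut.congr_apply, MulEquiv.trans_apply, MulEquiv.symm_apply_apply, e.injective.eq_iff]
    exact (mem_map_iff_mem e.injective)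
  let f : C ≃* C.map e.toMonoidHom := C.equivMapOfInjective e.toMonoidHom e.injective
  rcases SzM.fixed hF hm (ψ := MulAut.congr e ψ) (by rw [MulEquiv.orderOf_eq, hψ]) _ hC with
    ⟨hs, hG, hc, h5⟩ | ⟨K, iK, iT, k, hk, hK, ⟨g⟩⟩
  · haveI := hs
    exact Or.inl ⟨Group.isSolvable_of_isSolvable_injective (f := f.toMonoidHom) f.injective,
      by rw [Nat.card_congr e.toEquiv, hG], by rw [Nat.card_congr f.toEquiv, hc], fun z hz => by
        rw [Nat.card_congr (((centralizer ({z} : Set L)).equivMapOfInjective e.toMonoidHom e.injective).trans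
          (MulEquiv.subgroupCongr (map_cent e z))).toEquiv]
        exact h5 _ (by rw [MulEquiv.orderOf_eq, hz])⟩
  · exact Or.inr ⟨K, iK, iT, k, hk, hK, ⟨(f.trans g).trans (Suzuki.lieEquiv hK hk)⟩⟩

/-- The Borel data of an involution and its conjugate under an element of order five. -/
theorem suz_borel (hL : Cfsg.Lie.IsoSuzuki L) {s z : L} (hs : orderOf s = 2) (hz : orderOf z = 5)
    {U U' T E : Subgroup L} (hU : U = centralizer {s}) (hU' : U' = centralizer {z * s * z⁻¹})
    (hT : T = normalizer (U : Set L) ⊓ normalizer (U' : Set L)) (hE : E = (center U).map U.subtype) :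
    IsPGroup 2 U ∧ U ⊔ U' = ⊤ ∧ IsCyclic T ∧ Odd (Nat.card T) ∧ normalizer (U : Set L) = U ⊔ T ∧
      Group.IsSolvable (normalizer (U : Set L)) ∧
      closure {x | ∃ u ∈ U, ∃ τ ∈ T, x = τ * u * τ⁻¹ * u⁻¹} = U ∧
      (∀ e ∈ E, e * e = 1) ∧ (∀ e ∈ E, e ≠ 1 → ∃ τ ∈ T, τ * s * τ⁻¹ = e) ∧
      (∀ u ∈ U, u * u = 1 → u ∈ E) ∧ s ∈ E ∧
      ∀ φ : MulAut L, U.map φ.toMonoidHom = U → U'.map φ.toMonoidHom = U' → (∀ e ∈ E, φ e = e) → φ = 1 := by
  obtain ⟨F, i1, i2, m, hF, hm, ⟨e₀⟩⟩ := exists_model hL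
  obtain ⟨g, b, hb, hg1, hg2⟩ := SzM.exists_frame hF hm (s := e₀ s) (z := e₀ z)
    (by rw [MulEquiv.orderOf_eq, hs]) (by rw [MulEquiv.orderOf_eq, hz])
  set f : L ≃* ↥(Cfsg.Sz F m) := e₀.trans (MulAut.conj g) with hf
  have fs : f s = uS hF 0 1 := hg1
  have ft : f (z * s * z⁻¹) = wS hF * uS hF 0 b * wS hF := by
    rw [← hg2]
    show g * e₀ (z * s * z⁻¹) * g⁻¹ = _
    rw [map_mul, map_mul, map_inv]
  have fU : U.map f.toMonoidHom = Suzuki.U hF := by
    rw [hU, map_cent, fs, SzM.centralizer_z hF hm one_ne_zero]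
  have fU' : U'.map f.toMonoidHom = (Suzuki.U hF).map (MulAut.conj (wS hF)).toMonoidHom := by
    rw [hU', map_cent, ft, SzM.centralizer_w hF hm hb]
  have fN : (normalizer (U : Set L)).map f.toMonoidHom =
      normalizer (Suzuki.U hF : Set ↥(Cfsg.Sz F m)) := by
    rw [map_equiv_normalizer_eq, fU]
  have fT : T.map f.toMonoidHom = Suzuki.T hF := by
    rw [hT, map_inf_eq _ _ _ f.injective, fN, map_equiv_normalizer_eq, fU', SzM.two_normalizers hF hm]
  have mU : ∀ x, f x ∈ Suzuki.U hF ↔ x ∈ U := fun x => by rw [← fU]; exact mem_map_iff_mem f.injective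
  have mT : ∀ x, f x ∈ Suzuki.T hF ↔ x ∈ T := fun x => by rw [← fT]; exact mem_map_iff_mem f.injective
  have mE : ∀ x, f x ∈ Suzuki.Z hF ↔ x ∈ E := by
    intro x
    rw [← SzM.center_eq hF hm, hE]
    constructor
    · rintro ⟨⟨c, hc⟩, hcz, rfl⟩
      refine ⟨⟨x, (mU x).mp hc⟩, mem_center_iff.mpr fun u => Subtype.ext (f.injective ?_), rfl⟩
      show f ((u : L) * x) = f (x * u)
      rw [map_mul, map_mul]
      exact congrArg Subtype.val (mem_center_iff.mp hcz ⟨f u, (mU _).mpr u.2⟩)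
    · rintro ⟨⟨c, hc⟩, hcz, rfl⟩
      refine ⟨⟨f c, (mU c).mpr hc⟩, mem_center_iff.mpr fun u => Subtype.ext ?_, rfl⟩
      obtain ⟨d, hd⟩ := f.surjective (u : ↥(Cfsg.Sz F m))
      show (u : ↥(Cfsg.Sz F m)) * f c = f c * u
      rw [← hd, ← map_mul, ← map_mul]
      exact congrArg f (congrArg Subtype.val (mem_center_iff.mp hcz ⟨d, (mU d).mp (by rw [hd]; exact u.2)⟩))
  have minj : Function.Injective (Subgroup.map f.toMonoidHom) := map_injective f.injective
  refine ⟨?_, minj ?_, ?_, ?_, minj ?_, ?_, minj ?_, ?_, ?_, fun u hu hu2 => (mE u).mp ?_,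
    (mE s).mp (fs ▸ ⟨1, rfl⟩), ?_⟩
  · refine IsPGroup.of_card (n := (2 * m + 1) * 2) ?_
    rw [Nat.card_congr (U.equivMapOfInjective f.toMonoidHom f.injective).toEquiv, fU, Suzuki.card_U, pow_mul]
  · rw [Subgroup.map_sup, fU, fU', SzM.sup_top hF hm, map_top_of_surjective _ f.surjective]
  · haveI : IsCyclic (T.map f.toMonoidHom) := by rw [fT]; exact Suzuki.isCyclic_T hF
    exact isCyclic_of_injective (T.equivMapOfInjective f.toMonoidHom f.injective).toMonoidHom (MulEquiv.injective _)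
  · rw [Nat.card_congr (T.equivMapOfInjective f.toMonoidHom f.injective).toEquiv, fT, Suzuki.card_T]
    exact Nat.Even.sub_odd Nat.one_le_two_pow ⟨2 ^ (2 * m), by rw [pow_succ, mul_two]⟩ odd_one
  · rw [Subgroup.map_sup, fN, fU, fT, SzM.normalizer_eq_sup hF hm]
  · haveI : Group.IsSolvable ((normalizer (U : Set L)).map f.toMonoidHom) := by
      rw [fN, normalizer_U hF hm]
      exact borel_solvable hF hm inf_mem
    exact Group.isSolvable_of_isSolvable_injective
      (f := ((normalizer (U : Set L)).equivMapOfInjective f.toMonoidHom f.injective).toMonoidHom) (MulEquiv.injective _)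
  · rw [MonoidHom.map_closure, fU]
    refine Eq.trans (congrArg Subgroup.closure ?_) (SzM.comm_closure hF hm)
    ext y
    constructor
    · rintro ⟨_, ⟨u, hu, τ, hτ, rfl⟩, rfl⟩
      exact ⟨f u, (mU u).mpr hu, f τ, (mT τ).mpr hτ, by
        show f (τ * u * τ⁻¹ * u⁻¹) = _
        rw [map_mul, map_mul, map_mul, map_inv, map_inv]⟩
    · rintro ⟨u, hu, τ, hτ, rfl⟩
      obtain ⟨u, rfl⟩ := f.surjective u
      obtain ⟨τ, rfl⟩ := f.surjective τ
      exact ⟨τ * u * τ⁻¹ * u⁻¹, ⟨u, (mU u).mp hu, τ, (mT τ).mp hτ, rfl⟩, by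
        show f (τ * u * τ⁻¹ * u⁻¹) = _
        rw [map_mul, map_mul, map_mul, map_inv, map_inv]⟩
  · intro x hx
    obtain ⟨a, ha⟩ := (mE x).mpr hx
    refine f.injective ?_
    rw [map_mul, map_one, ha, uS_sq, mul_zero, uS_zero]
  · intro x hx hx1
    obtain ⟨a, ha⟩ := (mE x).mpr hx
    have ha0 : a ≠ 0 := fun h => hx1 (f.injective (by rw [ha, h, uS_zero, map_one]))
    obtain ⟨t, ht⟩ := th_sq_surj hF (m := m) ha0
    obtain ⟨τ, hτ⟩ := f.surjective (dS hF t)
    refine ⟨τ, (mT τ).mp (by rw [hτ]; exact (mem_T hF).mpr ⟨t, rfl⟩), f.injective ?_⟩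
    rw [map_mul, map_mul, map_inv, hτ, fs, dS_uS, ha, mul_zero, mul_one, ht]
  · obtain ⟨a, c, hac⟩ := (mU u).mpr hu
    have h2 : f u * f u = 1 := by rw [← map_mul, hu2, map_one]
    rw [hac] at h2
    rw [hac]
    by_cases ha : a = 0
    · exact ⟨c, by rw [ha]⟩
    · rw [uS_sq, eq_one_iff_uS hF] at h2
      exact absurd h2.2 (mul_ne_zero (fun h => ha (th_eq_zero_iff.mp h)) ha)
  · intro φ _ hφU' hφE
    refine (MulAut.congr f).map_eq_one_iff.mp (SzM.frame_rigid hF hm (fun x hx => ?_) fun x hx => ?_)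
    · rw [← fU'] at hx ⊢
      obtain ⟨y, hy, rfl⟩ := hx
      refine ⟨φ y, hφU'.le ⟨y, hy, rfl⟩, ?_⟩
      simp
    · obtain ⟨y, rfl⟩ := f.surjective x
      simp only [MulAut.congr_apply, MulEquiv.trans_apply, MulEquiv.symm_apply_apply]
      rw [hφE y ((mE y).mp hx)]

end CfsgLib.SF23
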