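import Cfsg.Agent.Lib.SF23.Comps
import Cfsg.Agent.Lib.SF23.Fixed
import Cfsg.Agent.Lib.SF23.Suz

/-!
Automorphisms of order three of a group with trivial radical and order prime to three: fixed points
control the components, and components of fixed subgroups lie in the layer.
-/

set_option autoImplicit false
set_option linter.unusedSectionVars false
set_option linter.style.haveILetI false

namespace CfsgLib.SF23

open Cfsg Subgroup

universe u
variable {H : Type u} [Group H] [Finite H]

/-- The fixed subgroup of one automorphism. -/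
def fix1 (β : MulAut H) : Subgroup H := MonoidHom.eqLocus β.toMonoidHom (MonoidHom.id H)

theorem mem_fix1 {β : MulAut H} {x : H} : x ∈ fix1 β ↔ β x = x := Iff.rfl

/-- The restriction of an automorphism to an invariant subgroup. -/
def res (e : MulAut H) (K : Subgroup H) (h : mp e K = K) : MulAut K :=
  (e.subgroupMap K).trans (MulEquiv.subgroupCongr h)

theorem res_val (e : MulAut H) (K : Subgroup H) (h : mp e K = K) (k : K) : (res e K h k : H) = e k := rfl

/-- The restriction of the automorphisms stabilising a subgroup. -/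
def resHom {B : Type u} [Group B] (α : B →* MulAut H) (K : Subgroup H) (S : Subgroup B)
    (h : ∀ b ∈ S, mp (α b) K = K) : S →* MulAut K where
  toFun b := res (α b) K (h b b.2)
  map_one' := MulEquiv.ext fun k => Subtype.ext (by
    rw [res_val]
    show α ((1 : S) : B) (k : H) = k
    rw [OneMemClass.coe_one, map_one, MulAut.one_apply])
  map_mul' a b := MulEquiv.ext fun k => Subtype.ext (by
    show (α ((a * b : S) : B)) (k : H) = (α (a : B)) ((α (b : B)) (k : H))
    rw [Subgroup.coe_mul, map_mul, MulAut.mul_apply])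

theorem cube_orbit {β : MulAut H} (hβ : β ^ 3 = 1) (k : H) : β (β (β k)) = k := by
  have := congrArg (fun e : MulAut H => e k) hβ
  simpa [pow_succ, MulAut.mul_apply] using this

theorem mem_zpowers_cube (h3 : ¬ 3 ∣ Nat.card H) (x : H) : x ∈ zpowers (x ^ 3) := by
  have hc : (3 : ℕ).Coprime (orderOf x) :=
    Nat.prime_three.coprime_iff_not_dvd.mpr fun h => h3 (h.trans (orderOf_dvd_natCard x))
  obtain ⟨m, hm⟩ := exists_pow_eq_self_of_coprime hc
  exact ⟨(m : ℤ), show (x ^ 3) ^ (m : ℤ) = x by rw [zpow_natCast]; exact hm⟩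

section Trivial

variable (hR : solvableRadical H = ⊥) (h3 : ¬ 3 ∣ Nat.card H)
include hR h3

theorem comp_suz {K : Subgroup H} (hK : IsComponent K) : Lie.IsoSuzuki K := component_suzuki hR h3 hK

/-- An element of order five fixed by an elementary group of automorphisms of a component. -/
theorem exists_five_fixed {K : Subgroup H} (hK : IsComponent K) {B : Type u} [Group B]
    (α : B →* MulAut H) (hB : ∀ b : B, b ^ 3 = 1) (hBc : ∀ a b : B, a * b = b * a) :
    ∃ z ∈ K, orderOf z = 5 ∧ ∀ b, mp (α b) K = K → α b z = z := by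
  let S : Subgroup B :=
    { carrier := {b | mp (α b) K = K}
      one_mem' := by
        show mp (α 1) K = K
        rw [map_one, mp_one]
      mul_mem' := fun {a b} (ha : mp (α a) K = K) (hb : mp (α b) K = K) => by
        show mp (α (a * b)) K = K
        rw [map_mul, mp_mul, hb, ha]
      inv_mem' := fun {a} (ha : mp (α a) K = K) => by
        show mp (α a⁻¹) K = K
        apply mp_injective (α a)
        rw [← mp_mul, ← map_mul, mul_inv_cancel, map_one, mp_one, ha] }
  let r := resHom α K S fun b hb => hb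
  have hel : Cfsg.IsElementaryAbelian 3 r.range := by
    refine ⟨⟨⟨?_⟩⟩, ?_⟩
    · rintro ⟨_, a, rfl⟩ ⟨_, b, rfl⟩
      apply Subtype.ext
      show r a * r b = r b * r a
      rw [← map_mul, ← map_mul, show a * b = b * a from Subtype.ext (hBc a b)]
    · rintro _ ⟨a, rfl⟩
      rw [← map_pow, show a ^ 3 = 1 from Subtype.ext (hB a), map_one]
  obtain ⟨-, z, hz, hfix⟩ := suz_three_group (comp_suz hR h3 hK) r.range hel
  refine ⟨z, z.2, by rw [Subgroup.orderOf_coe]; exact hz, fun b hb => ?_⟩
  exact congrArg Subtype.val (hfix _ ⟨⟨b, hb⟩, rfl⟩)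

/-- An element fixed by an automorphism of order dividing three which commutes with the fixed elements
supported on the orbit of a component centralises that component. -/
theorem cent_comp {β : MulAut H} (hβ : β ^ 3 = 1) {K : Subgroup H} (hK : IsComponent K) {x : H}
    (hx : β x = x)
    (hcen : ∀ w ∈ layer H, β w = w →
      (∀ L, IsComponent L → L ≠ K → L ≠ mp β K → L ≠ mp β (mp β K) → prj L w = 1) → x * w = w * x) :
    ∀ k ∈ K, x * k = k * x := by
  set e : MulAut H := MulAut.conj x with he
  have heβ : e * β = β * e := MulEquiv.ext fun y => by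
    show x * β y * x⁻¹ = β (x * y * x⁻¹)
    rw [map_mul, map_mul, map_inv, hx]
  have hew : ∀ w, x * w = w * x → e w = w := fun w h => by
    show x * w * x⁻¹ = w
    rw [h, mul_inv_cancel_right]
  have hKl := CfsgLib.le_layer hK
  by_cases hKK : mp β K = K
  · -- fixed component
    let ψ : MulAut K := res β K hKK
    have hψ3 : ψ ^ 3 = 1 := MulEquiv.ext fun k => Subtype.ext (by
      rw [pow_succ, pow_succ, pow_one]
      exact cube_orbit hβ (k : H))
    have hψel : Cfsg.IsElementaryAbelian 3 (zpowers ψ) := by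
      refine ⟨⟨⟨fun a b => Subtype.ext ?_⟩⟩, ?_⟩
      · obtain ⟨i, hi⟩ := a.2
        obtain ⟨j, hj⟩ := b.2
        show (a : MulAut K) * b = b * a
        rw [← hi, ← hj, zpow_mul_comm]
      · rintro _ ⟨i, rfl⟩
        rw [← zpow_natCast, ← zpow_mul, mul_comm, zpow_mul, zpow_natCast, hψ3, one_zpow]
    obtain ⟨-, z, hz, hzfix⟩ := suz_three_group (comp_suz hR h3 hK) _ hψel
    have hz1 : (z : H) ≠ 1 := fun h => by
      rw [show z = 1 from Subtype.ext h, orderOf_one] at hz
      norm_num at hz
    have key : ∀ w : K, ψ w = w → x * (w : H) = w * x := fun w hw =>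
      hcen w (hKl w.2) (congrArg Subtype.val hw) fun L hL hne _ _ => prj_other hR hL hK hne w.2
    have hxK : x ∈ normalizer (K : Set H) := by
      refine mp_conj_eq_iff.mp ?_
      by_contra hne
      refine hz1 (comp_inter hR (mp_comp hK) hK hne (a := (z : H)) ?_ z.2)
      have h := mem_mp (e := e) z.2
      rwa [hew _ (key z (hzfix ψ (mem_zpowers ψ)))] at h
    let φ : MulAut K := K.normalizerMonoidHom ⟨x, hxK⟩
    have hφval : ∀ k : K, (φ k : H) = x * k * x⁻¹ := fun _ => rfl
    have hφ3 : ¬ 3 ∣ orderOf φ := fun h => h3 ((h.trans (orderOf_map_dvd K.normalizerMonoidHom _)).trans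
      (by rw [Subgroup.orderOf_mk]; exact orderOf_dvd_natCard x))
    have hφfix : ∀ w : K, ψ w = w → φ w = w := fun w hw => Subtype.ext (by
      rw [hφval]; exact hew _ (key w hw))
    have hφ : φ = 1 := by
      by_cases hψ : ψ = 1
      · exact MulEquiv.ext fun w => hφfix w (by rw [hψ, MulAut.one_apply])
      · refine suz_rigid (comp_suz hR h3 hK) (orderOf_eq_prime hψ3 hψ) ?_ hφ3 hφfix
        exact MulEquiv.ext fun k => Subtype.ext (congrArg (fun f : MulAut H => f (k : H)) heβ)
    intro k hk
    have h1 := congrArg (fun f : MulAut K => (f ⟨k, hk⟩ : H)) hφ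
    simp only [hφval, MulAut.one_apply] at h1
    exact mul_inv_eq_iff_eq_mul.mp h1
  · -- moved component
    set K1 := mp β K with hK1d
    set K2 := mp β K1 with hK2d
    have hK1 : IsComponent K1 := mp_comp hK
    have hK2 : IsComponent K2 := mp_comp hK1
    have h21 : K2 ≠ K1 := fun h => hKK (mp_injective β h)
    have hK3 : mp β K2 = K := by
      rw [hK2d, hK1d, ← mp_mul, ← mp_mul, ← pow_two, ← pow_succ, hβ, mp_one]
    have h20 : K2 ≠ K := fun h => by
      rw [h] at hK3
      exact hKK hK3
    have hw : ∀ k ∈ K, e (k * β k * β (β k)) = k * β k * β (β k) := by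
      intro k hk
      have m0 := hKl hk
      have m1 := mp_layer β m0
      have m2 := mp_layer β m1
      refine hew _ (hcen _ (mul_mem (mul_mem m0 m1) m2) ?_ fun L hL n0 n1 n2 => ?_)
      · rw [map_mul, map_mul, cube_orbit hβ]
        have c1 : β k * β (β k) * k = β k * (k * β (β k)) := by
          rw [mul_assoc, comp_commute hR hK2 hK h20 (mem_mp (mem_mp hk)) hk]
        rw [c1, ← mul_assoc, comp_commute hR hK1 hK hKK (mem_mp hk) hk]
      · rw [prj_mul hR hL (mul_mem m0 m1) m2, prj_mul hR hL m0 m1, prj_other hR hL hK n0 hk,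
          prj_other hR hL hK1 n1 (mem_mp hk), prj_other hR hL hK2 n2 (mem_mp (mem_mp hk))]
        simp
    have hp0 : ∀ k ∈ K, prj K (k * β k * β (β k)) = k := by
      intro k hk
      have m0 := hKl hk
      rw [prj_mul hR hK (mul_mem m0 (mp_layer β m0)) (mp_layer β (mp_layer β m0)),
        prj_mul hR hK m0 (mp_layer β m0), prj_self hR hK hk, prj_other hR hK hK1 (Ne.symm hKK) (mem_mp hk),
        prj_other hR hK hK2 h20.symm (mem_mp (mem_mp hk))]
      simp
    have hwl : ∀ k ∈ K, k * β k * β (β k) ∈ layer H := fun k hk =>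
      mul_mem (mul_mem (hKl hk) (mp_layer β (hKl hk))) (mp_layer β (mp_layer β (hKl hk)))
    have hmove : ∀ k ∈ K, prj (mp e K) (k * β k * β (β k)) = e k := fun k hk => by
      have h := prj_map hR e hK (hwl k hk)
      rwa [hp0 k hk, hw k hk] at h
    have hcases : mp e K = K ∨ mp e K = K1 ∨ mp e K = K2 := by
      by_contra h
      push Not at h
      refine isComponent_ne_bot hK (le_bot_iff.mp fun k hk => Subgroup.mem_bot.mpr ?_)
      have m0 := hKl hk
      have h1 := hmove k hk
      rw [prj_mul hR (mp_comp hK) (mul_mem m0 (mp_layer β m0)) (mp_layer β (mp_layer β m0)),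
        prj_mul hR (mp_comp hK) m0 (mp_layer β m0), prj_other hR (mp_comp hK) hK h.1 hk,
        prj_other hR (mp_comp hK) hK1 h.2.1 (mem_mp hk),
        prj_other hR (mp_comp hK) hK2 h.2.2 (mem_mp (mem_mp hk))] at h1
      exact e.injective (by rw [← h1, map_one]; simp)
    have hcommK : ∀ L, mp e (mp β L) = mp β (mp e L) := fun L => by rw [← mp_mul, ← mp_mul, heβ]
    have h0 : mp e K = K := by
      have hcube : mp e (mp e (mp e K)) = K := by
        rcases hcases with h | h | h
        · rw [h, h, h]
        · rw [h, hK1d, hcommK, h, hcommK, hcommK, h, ← hK2d, hK3]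
        · rw [hK2d, hK1d] at h
          simp only [h, hcommK]
          rw [← mp_mul, ← mp_mul, ← mp_mul, ← mp_mul, ← mp_mul]
          rw [show β * β * β * β * β * β = (β ^ 3) * (β ^ 3) by simp only [pow_succ, pow_zero, one_mul, mul_assoc], hβ,
            one_mul, mp_one]
      have hx3 : x ^ 3 ∈ normalizer (K : Set H) := by
        refine mp_conj_eq_iff.mp ?_
        rw [map_pow, ← he, pow_succ, pow_succ, pow_one, mp_mul, mp_mul]
        exact hcube
      exact mp_conj_eq_iff.mpr (Subgroup.zpowers_le.mpr hx3 (mem_zpowers_cube h3 x))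
    intro k hk
    have h1 := hmove k hk
    rw [h0, hp0 k hk] at h1
    exact (mul_inv_eq_iff_eq_mul.mp h1.symm)

/-- An element fixed by an automorphism of order dividing three which centralises its fixed points in
the layer is trivial. -/
theorem eq_one_of_fixed {β : MulAut H} (hβ : β ^ 3 = 1) {x : H} (hx : β x = x)
    (hcen : ∀ w ∈ layer H, β w = w → x * w = w * x) : x = 1 :=
  eq_one_of_centralizes hR fun _ hK k hk =>
    (cent_comp hR h3 hβ hK hx (fun w hw hw' _ => hcen w hw hw') k hk).symm

/-- A component of a fixed subgroup lies in the layer. -/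
theorem fixed_comp_le_layer {β : MulAut H} (hβ : β ^ 3 = 1) {S : Subgroup (fix1 β)} (hS : IsComponent S) :
    S.map (fix1 β).subtype ≤ layer H := by
  rcases CfsgLib.component_le_or_commutator_eq_bot hS ((layer H).subgroupOf (fix1 β)) with h | h
  · rintro _ ⟨s, hs, rfl⟩
    exact h hs
  · refine absurd (le_bot_iff.mp fun s hs => ?_) (CfsgLib.isComponent_ne_bot hS)
    refine Subgroup.mem_bot.mpr (Subtype.ext (eq_one_of_fixed hR h3 hβ s.2 fun w hw hw' => ?_))
    exact congrArg Subtype.val ((Subgroup.commutator_eq_bot_iff_le_centralizer.mp h hs) ⟨w, hw'⟩ hw).symm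

/-- An element of the layer fixed by a group of automorphisms with a given coordinate. -/
theorem exists_fixed_orbit {K : Subgroup H} (hK : IsComponent K) {B : Type u} [Group B]
    (α : B →* MulAut H) {z : H} (hz : z ∈ K) (hfix : ∀ b, mp (α b) K = K → α b z = z) :
    ∃ w ∈ layer H, w ∈ fixedSub α ∧ (∀ b, prj (mp (α b) K) w = α b z) ∧
      ∀ L, IsComponent L → (∀ b, mp (α b) K ≠ L) → prj L w = 1 := by
  classical
  let v : Subgroup H → H := fun L => if h : ∃ b, mp (α b) K = L then α h.choose z else 1
  have hv : ∀ b, v (mp (α b) K) = α b z := by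
    intro b
    have h : ∃ c, mp (α c) K = mp (α b) K := ⟨b, rfl⟩
    simp only [v, dif_pos h]
    have hc := h.choose_spec
    have h1 : mp (α (b⁻¹ * h.choose)) K = K := by
      rw [map_mul, mp_mul, hc, ← mp_mul, ← map_mul, inv_mul_cancel, map_one, mp_one]
    have h2 := hfix _ h1
    rw [map_mul, MulAut.mul_apply] at h2
    calc α h.choose z = α b (α b⁻¹ (α h.choose z)) := by
          rw [map_inv, MulAut.apply_inv_self]
      _ = α b z := by rw [h2]
  obtain ⟨w, hw, hp⟩ := exists_prj hR v fun L hL => by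
    simp only [v]
    split
    · next h =>
        have := mem_mp (e := α h.choose) hz
        rwa [h.choose_spec] at this
    · exact one_mem _
  have hout : ∀ L, IsComponent L → (∀ b, mp (α b) K ≠ L) → prj L w = 1 := fun L hL h => by
    rw [hp L hL]
    simp only [v]
    rw [dif_neg fun ⟨b, hb⟩ => h b hb]
  refine ⟨w, hw, fun c => layer_ext hR (mp_layer _ hw) hw fun L hL => ?_,
    fun b => by rw [hp _ (mp_comp hK), hv b], hout⟩
  obtain ⟨L', hL'⟩ : ∃ L', L' = mp (α c)⁻¹ L := ⟨_, rfl⟩
  have hLe : L = mp (α c) L' := by rw [hL', mp_inv_cancel]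
  have hL'c : IsComponent L' := hL' ▸ mp_comp hL
  rw [hLe, prj_map hR _ hL'c hw, ← hLe]
  by_cases h : ∃ b, mp (α b) K = L'
  · obtain ⟨b, rfl⟩ := h
    rw [hp _ (mp_comp hK), hv b, hLe, ← mp_mul, ← map_mul, hp _ (mp_comp hK), hv, map_mul, MulAut.mul_apply]
  · push Not at h
    rw [hout _ hL'c h, map_one, hout L hL fun b hb => h (c⁻¹ * b) ?_]
    rw [map_mul, mp_mul, hb, hL', map_inv]

/-- A group of automorphisms of `3`-power order, transitive on an orbit, and a normalised subgroup of
order prime to three permuting that orbit: the subgroup fixes each member. -/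
theorem normalizes_of_orbit {K : Subgroup H} {B : Type u} [Group B] [Finite B] (α : B →* MulAut H)
    (hB : IsPGroup 3 B) {V : Subgroup H} (hV : ∀ b, ∀ v ∈ V, α b v ∈ V)
    (horb : ∀ v ∈ V, ∃ b, mp (MulAut.conj v) K = mp (α b) K) : V ≤ normalizer (K : Set H) := by
  classical
  let Ω : Set (Subgroup H) := {L | ∃ v ∈ V, mp (MulAut.conj v) K = L}
  have hΩV : Nat.card Ω ∣ Nat.card V := by
    letI : MulAction V (Subgroup H) :=
      { smul := fun v L => mp (MulAut.conj (v : H)) L
        one_smul := fun L => by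
          show mp (MulAut.conj ((1 : V) : H)) L = L
          rw [OneMemClass.coe_one, map_one, mp_one]
        mul_smul := fun v w L => by
          show mp (MulAut.conj ((v * w : V) : H)) L = _
          rw [Subgroup.coe_mul, map_mul, mp_mul]
          rfl }
    have e : Ω = MulAction.orbit V K := by
      ext L
      exact ⟨fun ⟨v, hv, h⟩ => ⟨⟨v, hv⟩, h⟩, fun ⟨v, h⟩ => ⟨v, v.2, h⟩⟩
    rw [e, Nat.card_congr (MulAction.orbitEquivQuotientStabilizer V K), ← Subgroup.index]
    exact Subgroup.index_dvd_card _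
  have hmove : ∀ b : B, ∀ L ∈ Ω, mp (α b) K ∈ Ω → mp (α b) L ∈ Ω := by
    rintro b L ⟨v, hv, rfl⟩ ⟨u, hu, hu'⟩
    refine ⟨α b v * u, mul_mem (hV b v hv) hu, ?_⟩
    rw [map_mul, mp_mul, hu', ← mp_mul, ← mp_mul]
    congr 1
    refine MulEquiv.ext fun y => ?_
    show α b v * α b y * (α b v)⁻¹ = α b (v * y * v⁻¹)
    rw [map_mul, map_mul, map_inv]
  let B1 : Submonoid B :=
    { carrier := {b | mp (α b) K ∈ Ω}
      one_mem' := ⟨1, one_mem _, by rw [map_one, map_one, mp_one]⟩
      mul_mem' := fun {a b} (ha : mp (α a) K ∈ Ω) (hb : mp (α b) K ∈ Ω) => by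
        show mp (α (a * b)) K ∈ Ω
        rw [map_mul, mp_mul]
        exact hmove a _ hb ha }
  let B2 : Subgroup B :=
    { B1 with
      inv_mem' := fun {a} ha => by
        obtain ⟨n, hn⟩ : ∃ n : ℕ, a⁻¹ = a ^ n := by
          rcases mem_powers_iff_mem_zpowers.mpr (inv_mem (mem_zpowers a)) with ⟨n, hn⟩
          exact ⟨n, hn.symm⟩
        show a⁻¹ ∈ B1
        rw [hn]
        exact pow_mem ha n }
  have hΩB : Nat.card Ω ∣ Nat.card B2 := by
    letI : MulAction B2 (Subgroup H) :=
      { smul := fun b L => mp (α (b : B)) L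
        one_smul := fun L => by
          show mp (α ((1 : B2) : B)) L = L
          rw [OneMemClass.coe_one, map_one, mp_one]
        mul_smul := fun v w L => by
          show mp (α ((v * w : B2) : B)) L = _
          rw [Subgroup.coe_mul, map_mul, mp_mul]
          rfl }
    have e : Ω = MulAction.orbit B2 K := by
      ext L
      constructor
      · rintro ⟨v, hv, rfl⟩
        obtain ⟨b, hb⟩ := horb v hv
        exact ⟨⟨b, ⟨v, hv, hb⟩⟩, hb.symm⟩
      · rintro ⟨b, rfl⟩
        exact b.2
    rw [e, Nat.card_congr (MulAction.orbitEquivQuotientStabilizer B2 K), ← Subgroup.index]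
    exact Subgroup.index_dvd_card _
  have h1 : Nat.card Ω = 1 := by
    refine Nat.eq_one_of_dvd_coprimes ?_ hΩV (hΩB.trans (Subgroup.card_subgroup_dvd_card B2))
    obtain ⟨n, hn⟩ := IsPGroup.iff_card.mp hB
    rw [hn]
    refine Nat.Coprime.pow_right _ (Nat.Coprime.symm (Nat.prime_three.coprime_iff_not_dvd.mpr fun h => h3 ?_))
    exact h.trans (Subgroup.card_subgroup_dvd_card V)
  intro v hv
  refine mp_conj_eq_iff.mp ?_
  obtain ⟨L₀, hL₀⟩ := (Set.ncard_eq_one).mp (by rw [← Nat.card_coe_set_eq]; exact h1)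
  have a1 : mp (MulAut.conj v) K ∈ Ω := ⟨v, hv, rfl⟩
  have a2 : K ∈ Ω := ⟨1, one_mem _, by rw [map_one, mp_one]⟩
  rw [hL₀] at a1 a2
  rw [Set.mem_singleton_iff.mp a1, Set.mem_singleton_iff.mp a2]

end Trivial

end CfsgLib.SF23
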