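import Cfsg.Agent.Lib.SolvSF.Apply

/-!
Signalizer functors with values of order prime to `p` and no solvability hypothesis: members, the
minimal counterexample, and the first consequences of minimality.
-/

set_option autoImplicit false
set_option linter.unusedSectionVars false

namespace CfsgLib.SF23

open Cfsg Subgroup CfsgLib.Signalizer CfsgLib.SolvSF

universe u
variable {G : Type u} [Group G] [Finite G] {p : ℕ} [Fact p.Prime] {A : Subgroup G} {θ : G → Subgroup G}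

/-- A member: an `A`-invariant `p'`-subgroup whose fixed points lie in the values of `θ`. -/
structure IsMem (p : ℕ) (A : Subgroup G) (θ : G → Subgroup G) (X : Subgroup G) : Prop where
  not_dvd : ¬ p ∣ Nat.card X
  inv : A ≤ normalizer (X : Set G)
  fix : ∀ a, Pt A a → X ⊓ centralizer ({a} : Set G) ≤ θ a

/-- What a minimal counterexample provides. -/
structure Ctx (p : ℕ) (A : Subgroup G) (θ : G → Subgroup G) : Prop where
  hA : IsElementaryAbelian p A
  hA3 : Nat.card A = p ^ 3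
  hθ : IsSignalizerFunctor p A θ
  nsolv : ∃ a, Pt A a ∧ ¬ Group.IsSolvable ↥(θ a)
  ncomplete : ¬ ∃ X, IsMem p A θ X ∧ ∀ a, Pt A a → θ a ≤ X
  maxOf : ∀ N, IsMem p A θ N → N ≠ ⊥ →
    ∃ M, IsMem p A θ M ∧ ∀ X, IsMem p A θ X → X ≤ normalizer (N : Set G) → X ≤ M
  sub : ∀ ψ : G → Subgroup G, IsSignalizerFunctor p A ψ → (∀ a, Pt A a → ψ a ≤ θ a) →
    (∃ a, Pt A a ∧ ψ a ≠ θ a) → ∃ X, IsMem p A ψ X ∧ ∀ a, Pt A a → ψ a ≤ X

section Functor

variable (hθ : IsSignalizerFunctor p A θ)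
include hθ

theorem theta_le_cent {a : G} (ha : Pt A a) : θ a ≤ centralizer ({a} : Set G) := hθ.1 a ha.1 ha.2

theorem theta_not_dvd {a : G} (ha : Pt A a) : ¬ p ∣ Nat.card (θ a) := hθ.2.1 a ha.1 ha.2

theorem theta_inv {a : G} (ha : Pt A a) : A ≤ normalizer (θ a : Set G) :=
  inv_to_normalizer (hθ.2.2.1 a ha.1 ha.2)

theorem balance {a b : G} (ha : Pt A a) (hb : Pt A b) : θ a ⊓ centralizer ({b} : Set G) ≤ θ b :=
  hθ.2.2.2 a ha.1 ha.2 b hb.1 hb.2

theorem theta_isMem {a : G} (ha : Pt A a) : IsMem p A θ (θ a) :=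
  ⟨theta_not_dvd hθ ha, theta_inv hθ ha, fun _ hb => balance hθ ha hb⟩

end Functor

theorem IsMem.sub {X U : Subgroup G} (hX : IsMem p A θ X) (hle : U ≤ X) (hinv : A ≤ normalizer (U : Set G)) :
    IsMem p A θ U :=
  ⟨fun h => hX.not_dvd (h.trans (card_dvd_of_le hle)), hinv,
    fun a ha => (inf_le_inf_right _ hle).trans (hX.fix a ha)⟩

/-- Generation by the fixed points of the non-identity elements of a non-cyclic subgroup of `A`. -/
theorem le_of_fix (hA : IsElementaryAbelian p A) {B : Subgroup G} (hB : B ≤ A) (hB2 : p < Nat.card B)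
    {X Y : Subgroup G} (hXp : ¬ p ∣ Nat.card X) (hXA : A ≤ normalizer (X : Set G))
    (hle : ∀ b ∈ B, b ≠ 1 → X ⊓ centralizer ({b} : Set G) ≤ Y) : X ≤ Y :=
  gen_le (ea_le hA hB) hB2 hXp (hB.trans hXA) hle

theorem lt_card (h : Nat.card A = p ^ 3) : p < Nat.card A := by
  rw [h]
  exact lt_self_pow₀ (Fact.out : p.Prime).one_lt (by norm_num)

theorem IsMem.le_of (hA : IsElementaryAbelian p A) (h3 : Nat.card A = p ^ 3) {X Y : Subgroup G}
    (hX : IsMem p A θ X) (hle : ∀ a, Pt A a → X ⊓ centralizer ({a} : Set G) ≤ Y) : X ≤ Y :=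
  le_of_fix hA le_rfl (lt_card h3) hX.not_dvd hX.inv fun a ha h1 => hle a ⟨ha, h1⟩

/-- The closure of a functor which is complete is its witness. -/
theorem closure_eq (hA : IsElementaryAbelian p A) (hA2 : p < Nat.card A) {X : Subgroup G}
    (hX : IsMem p A θ X) (hle : ∀ a, Pt A a → θ a ≤ X) :
    (⨆ a : {a : G // Pt A a}, θ a) = X :=
  le_antisymm (iSup_le fun a => hle a a.2)
    (le_of_fix hA le_rfl hA2 hX.not_dvd hX.inv fun a ha h1 =>
      (hX.fix a ⟨ha, h1⟩).trans (le_iSup (fun b : {a : G // Pt A a} => θ b) ⟨a, ha, h1⟩))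

namespace Ctx

/-- No non-trivial member is normalised by every value. -/
theorem not_normalized (h : Ctx p A θ) {N : Subgroup G} (hN : IsMem p A θ N) (hN1 : N ≠ ⊥)
    (hnorm : ∀ a, Pt A a → θ a ≤ normalizer (N : Set G)) : False := by
  obtain ⟨M, hM, hmax⟩ := h.maxOf N hN hN1
  exact h.ncomplete ⟨M, hM, fun a ha => hmax _ (theta_isMem h.hθ ha) (hnorm a ha)⟩

/-- The maximal members. -/
def MaxMem (p : ℕ) (A : Subgroup G) (θ : G → Subgroup G) (M : Subgroup G) : Prop :=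
  IsMem p A θ M ∧ ∀ X, IsMem p A θ X → M ≤ X → X = M

theorem exists_max {X : Subgroup G} (hX : IsMem p A θ X) : ∃ M, MaxMem p A θ M ∧ X ≤ M := by
  obtain ⟨M, ⟨hM, hXM⟩, hmax⟩ :=
    (Set.toFinite {M : Subgroup G | IsMem p A θ M ∧ X ≤ M}).exists_maximal ⟨X, hX, le_rfl⟩
  exact ⟨M, ⟨hM, fun Y hY hMY => le_antisymm (hmax ⟨hY, hXM.trans hMY⟩ hMY) hMY⟩, hXM⟩

/-- A maximal member containing every member normalising `N`. -/
theorem exists_max_normalizing (h : Ctx p A θ) {N : Subgroup G} (hN : IsMem p A θ N) (hN1 : N ≠ ⊥) :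
    ∃ M, MaxMem p A θ M ∧ ∀ X, IsMem p A θ X → X ≤ normalizer (N : Set G) → X ≤ M := by
  obtain ⟨M₀, hM₀, hmax⟩ := h.maxOf N hN hN1
  obtain ⟨M, hM, hle⟩ := exists_max hM₀
  exact ⟨M, hM, fun X hX hXN => (hmax X hX hXN).trans hle⟩

/-- A maximal member contains every member normalising one of its non-trivial normal sub-members. -/
theorem le_max_of_normalizes (h : Ctx p A θ) {M N X : Subgroup G} (hM : MaxMem p A θ M) (hN : IsMem p A θ N)
    (hN1 : N ≠ ⊥) (hMN : M ≤ normalizer (N : Set G)) (hX : IsMem p A θ X)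
    (hXN : X ≤ normalizer (N : Set G)) : X ≤ M := by
  obtain ⟨M', hM', hle⟩ := h.exists_max_normalizing hN hN1
  have := hM.2 M' hM'.1 (hle M hM.1 hMN)
  exact this ▸ hle X hX hXN

end Ctx

end CfsgLib.SF23
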