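import Cfsg.Agent.Lib.SF23.Act

/-!
Visible points of a component and the components they give in the fixed subgroup.
-/

set_option autoImplicit false
set_option linter.unusedSectionVars false
set_option linter.style.haveILetI false

namespace CfsgLib.SF23

open Cfsg Subgroup

universe u
variable {H : Type u} [Group H] [Finite H]

theorem quasisimple_of_suz {L : Type u} [Group L] [Finite L] (hL : Lie.IsoSuzuki L) : IsQuasisimple L := by
  haveI := suz_simple hL
  have hna : ¬ ∀ a b : L, a * b = b * a := fun hab => by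
    haveI : Fact (Nat.Prime 5) := ⟨Nat.prime_five⟩
    obtain ⟨z, hz⟩ := exists_prime_orderOf_dvd_card' 5 (suz_five_dvd hL)
    obtain ⟨-, -, -, -, t, -, -, hfix⟩ := suz_torus hL hz
    have h1 := hfix z (Subgroup.mem_centralizer_singleton_iff.mpr rfl) (hab t z)
    rw [h1, orderOf_one] at hz
    norm_num at hz
  have hc : center L = ⊥ := (Subgroup.Normal.eq_bot_or_eq_top inferInstance).resolve_right fun h =>
    hna fun a b => (Subgroup.mem_center_iff.mp (h ▸ Subgroup.mem_top b) a)
  refine ⟨?_, ?_⟩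
  · rw [Group.isPerfect_def]
    refine (Subgroup.Normal.eq_bot_or_eq_top inferInstance).resolve_left fun h => hna fun a b => ?_
    refine commutatorElement_eq_one_iff_mul_comm.mp (Subgroup.mem_bot.mp (h ▸ ?_))
    exact Subgroup.commutator_mem_commutator (Subgroup.mem_top a) (Subgroup.mem_top b)
  · exact MulEquiv.isSimpleGroup ((QuotientGroup.quotientMulEquivOfEq hc).trans QuotientGroup.quotientBot)

theorem isoSuzuki_congr {L M : Type u} [Group L] [Group M] (hL : Lie.IsoSuzuki L) (e : M ≃* L) :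
    Lie.IsoSuzuki M := by
  obtain ⟨F, i1, i2, m, hm, hc, ⟨f⟩⟩ := hL
  exact ⟨F, i1, i2, m, hm, hc, ⟨e.trans f⟩⟩

/-- The automorphism moves the component or fixes a non-soluble subgroup of it. -/
def Vis (β : MulAut H) (K : Subgroup H) : Prop := mp β K ≠ K ∨ ¬ Group.IsSolvable ↥(K ⊓ fix1 β)

/-- The fixed elements of the layer supported on the orbit of a component. -/
def piece (β : MulAut H) (K : Subgroup H) (hR : solvableRadical H = ⊥) : Subgroup H where
  carrier := {w | w ∈ layer H ∧ β w = w ∧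
    ∀ L, IsComponent L → L ≠ K → L ≠ mp β K → L ≠ mp β (mp β K) → prj L w = 1}
  one_mem' := ⟨one_mem _, map_one β, fun L hL _ _ _ => prj_one hR hL⟩
  mul_mem' {a b} ha hb := ⟨mul_mem ha.1 hb.1, by rw [map_mul, ha.2.1, hb.2.1], fun L hL n0 n1 n2 => by
    rw [prj_mul hR hL ha.1 hb.1, ha.2.2 L hL n0 n1 n2, hb.2.2 L hL n0 n1 n2, one_mul]⟩
  inv_mem' {a} ha := ⟨inv_mem ha.1, by rw [map_inv, ha.2.1], fun L hL n0 n1 n2 => by
    rw [prj_inv hR hL ha.1, ha.2.2 L hL n0 n1 n2, inv_one]⟩

section Trivial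

variable (hR : solvableRadical H = ⊥) (h3 : ¬ 3 ∣ Nat.card H)
include hR h3

theorem piece_le_fix (β : MulAut H) (K : Subgroup H) : piece β K hR ≤ fix1 β := fun _ hw => hw.2.1

theorem piece_le_layer (β : MulAut H) (K : Subgroup H) : piece β K hR ≤ layer H := fun _ hw => hw.1

theorem piece_fixed_eq {β : MulAut H} {K : Subgroup H} (hK : IsComponent K) (h : mp β K = K) :
    piece β K hR = K ⊓ fix1 β := by
  ext w
  constructor
  · intro hw
    refine ⟨?_, hw.2.1⟩
    have hwe : prj K w = w := by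
      refine layer_ext hR (CfsgLib.le_layer hK (prj_mem K w)) hw.1 fun L hL => ?_
      rcases eq_or_ne L K with rfl | hne
      · rw [prj_self hR hL (prj_mem _ w)]
      · rw [prj_other hR hL hK hne (prj_mem K w), hw.2.2 L hL hne (by rwa [h]) (by rwa [h, h])]
    rw [← hwe]
    exact prj_mem K w
  · rintro ⟨hwK, hwf⟩
    exact ⟨CfsgLib.le_layer hK hwK, hwf, fun L hL n0 _ _ => prj_other hR hL hK n0 hwK⟩

/-- A visible piece is a Suzuki group. -/
theorem piece_suzuki {β : MulAut H} (hβ : β ^ 3 = 1) {K : Subgroup H} (hK : IsComponent K) (hv : Vis β K) :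
    Lie.IsoSuzuki ↥(piece β K hR) := by
  have hS := component_suzuki hR h3 hK
  by_cases h : mp β K = K
  · have hns := hv.resolve_left (not_not.mpr h)
    refine isoSuzuki_congr (L := ↥(K ⊓ fix1 β : Subgroup H)) ?_ (MulEquiv.subgroupCongr (piece_fixed_eq hR h3 hK h))
    let ψ : MulAut K := res β K h
    by_cases hψ : ψ = 1
    · have hKe : K ⊓ fix1 β = K := inf_eq_left.mpr fun k hk => by
        have h1 := congrArg (fun f : MulAut K => (f ⟨k, hk⟩ : H)) hψ
        exact h1
      exact isoSuzuki_congr hS (MulEquiv.subgroupCongr hKe)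
    · have hψ3 : ψ ^ 3 = 1 := MulEquiv.ext fun k => Subtype.ext (by
        rw [pow_succ, pow_succ, pow_one]
        exact cube_orbit hβ (k : H))
      let C := MonoidHom.eqLocus ψ.toMonoidHom (MonoidHom.id K)
      let e : ↥(K ⊓ fix1 β : Subgroup H) ≃* C :=
        { toFun := fun x => ⟨⟨x, x.2.1⟩, Subtype.ext x.2.2⟩
          invFun := fun x => ⟨(x : K), (x : K).2, congrArg Subtype.val x.2⟩
          left_inv := fun _ => rfl
          right_inv := fun _ => rfl
          map_mul' := fun _ _ => rfl }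
      rcases suz_fixed hS (ψ := ψ) (orderOf_eq_prime hψ3 hψ) with ⟨hs, -, -⟩ | hC
      · haveI := hs
        exact absurd (Group.isSolvable_of_isSolvable_injective (f := e.toMonoidHom) e.injective) hns
      · exact isoSuzuki_congr hC e
  · have h1c : IsComponent (mp β K) := mp_comp hK
    have h2c : IsComponent (mp β (mp β K)) := mp_comp h1c
    have h20 : mp β (mp β K) ≠ K := fun e => h (by
      calc mp β K = mp β (mp β (mp β K)) := by rw [e]
        _ = K := by rw [← mp_mul, ← mp_mul, ← pow_two, ← pow_succ, hβ, mp_one])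
    let f : piece β K hR →* K :=
      { toFun := fun w => ⟨prj K w, prj_mem K w⟩
        map_one' := Subtype.ext (prj_one hR hK)
        map_mul' := fun a b => Subtype.ext (prj_mul hR hK a.2.1 b.2.1) }
    refine isoSuzuki_congr hS (MulEquiv.ofBijective f ⟨?_, ?_⟩)
    · intro a b hab
      have h0 : prj K (a : H) = prj K b := congrArg Subtype.val hab
      refine Subtype.ext (layer_ext hR a.2.1 b.2.1 fun L hL => ?_)
      by_cases e0 : L = K
      · rw [e0, h0]
      have key : prj (mp β K) (a : H) = prj (mp β K) b := by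
        have ha := prj_map hR β hK a.2.1
        have hb := prj_map hR β hK b.2.1
        rw [a.2.2.1] at ha
        rw [b.2.2.1] at hb
        rw [ha, hb, h0]
      by_cases e1 : L = mp β K
      · rw [e1, key]
      by_cases e2 : L = mp β (mp β K)
      · have ha := prj_map hR β h1c a.2.1
        have hb := prj_map hR β h1c b.2.1
        rw [a.2.2.1] at ha
        rw [b.2.2.1] at hb
        rw [e2, ha, hb, key]
      · rw [a.2.2.2 L hL e0 e1 e2, b.2.2.2 L hL e0 e1 e2]
    · rintro ⟨k, hk⟩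
      have m0 : k ∈ layer H := CfsgLib.le_layer hK hk
      have m1 := mp_layer β m0
      have m2 := mp_layer β m1
      refine ⟨⟨k * β k * β (β k), mul_mem (mul_mem m0 m1) m2, ?_, fun L hL n0 n1 n2 => ?_⟩, Subtype.ext ?_⟩
      · rw [map_mul, map_mul, cube_orbit hβ]
        have c1 : β k * β (β k) * k = β k * (k * β (β k)) := by
          rw [mul_assoc, comp_commute hR h2c hK h20 (mem_mp (mem_mp hk)) hk]
        rw [c1, ← mul_assoc, comp_commute hR h1c hK h (mem_mp hk) hk]
      · rw [prj_mul hR hL (mul_mem m0 m1) m2, prj_mul hR hL m0 m1, prj_other hR hL hK n0 hk,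
          prj_other hR hL h1c n1 (mem_mp hk), prj_other hR hL h2c n2 (mem_mp (mem_mp hk))]
        simp
      · show prj K (k * β k * β (β k)) = k
        rw [prj_mul hR hK (mul_mem m0 m1) m2, prj_mul hR hK m0 m1, prj_self hR hK hk,
          prj_other hR hK h1c (Ne.symm h) (mem_mp hk), prj_other hR hK h2c h20.symm (mem_mp (mem_mp hk))]
        simp

theorem piece_component {β : MulAut H} (hβ : β ^ 3 = 1) {K : Subgroup H} (hK : IsComponent K) (hv : Vis β K) :
    IsComponent ((piece β K hR).subgroupOf (fix1 β)) := by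
  have hle := piece_le_fix hR h3 β K
  refine ⟨?_, isQuasisimple_of_equiv (Subgroup.subgroupOfEquivOfLe hle).symm
    (quasisimple_of_suz (piece_suzuki hR h3 hβ hK hv))⟩
  set Λ := (layer H).subgroupOf (fix1 β)
  have hPL : (piece β K hR).subgroupOf (fix1 β) ≤ Λ := fun w hw => (piece_le_layer hR h3 β K hw : _)
  have hn : (((piece β K hR).subgroupOf (fix1 β)).subgroupOf Λ).Normal := by
    refine ⟨fun w hw g => ?_⟩
    have hwp : ((w : fix1 β) : H) ∈ piece β K hR := hw
    have hg : ((g : fix1 β) : H) ∈ layer H := g.2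
    refine ⟨mul_mem (mul_mem hg hwp.1) (inv_mem hg), ?_, fun L hL n0 n1 n2 => ?_⟩
    · have hgf : β ((g : fix1 β) : H) = ((g : fix1 β) : H) := (g : fix1 β).2
      show β (((g : fix1 β) : H) * ((w : fix1 β) : H) * ((g : fix1 β) : H)⁻¹) = _
      rw [map_mul, map_mul, map_inv, hgf, hwp.2.1]
      rfl
    · show prj L (((g : fix1 β) : H) * ((w : fix1 β) : H) * ((g : fix1 β) : H)⁻¹) = 1
      rw [prj_mul hR hL (mul_mem hg hwp.1) (inv_mem hg), prj_mul hR hL hg hwp.1, prj_inv hR hL hg,
        hwp.2.2 L hL n0 n1 n2]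
      simp
  have h1 := Subgroup.IsSubnormal.trans' hn.isSubnormal (inferInstance : Λ.Normal).isSubnormal
  rwa [Subgroup.map_subgroupOf_eq_of_le hPL] at h1

/-- A soluble normal subgroup of the fixed subgroup centralises the visible components. -/
theorem cent_of_radical_fix {β : MulAut H} (hβ : β ^ 3 = 1) {K : Subgroup H} (hK : IsComponent K) (hv : Vis β K)
    {x : fix1 β} (hx : x ∈ solvableRadical (fix1 β)) : ∀ k ∈ K, (x : H) * k = k * x := by
  refine cent_comp hR h3 hβ hK x.2 fun w hw hwf hsupp => ?_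
  have h := CfsgLib.component_commutator_radical (piece_component hR h3 hβ hK hv)
  exact (congrArg Subtype.val ((Subgroup.commutator_eq_bot_iff_le_centralizer.mp h
    (show (⟨w, hwf⟩ : fix1 β) ∈ (piece β K hR).subgroupOf (fix1 β) from ⟨hw, hwf, hsupp⟩)) x hx))

/-- An invisible point fixes the component and acts non-trivially on it. -/
theorem not_vis {β : MulAut H} {K : Subgroup H} (hK : IsComponent K) (hv : ¬ Vis β K) :
    mp β K = K ∧ ∃ k ∈ K, β k ≠ k := by
  have h1 : mp β K = K := by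
    by_contra h
    exact hv (Or.inl h)
  refine ⟨h1, ?_⟩
  by_contra h
  push Not at h
  refine hv (Or.inr fun hs => CfsgLib.isQuasisimple_not_isSolvable hK.2 ?_)
  rw [inf_eq_left.mpr (show K ≤ fix1 β from fun k hk => h k hk)] at hs
  exact hs

end Trivial

/-- A subgroup maximal among those avoiding an element has index at most three. -/
theorem exists_avoid {B : Type u} [Group B] [Finite B] (hB : ∀ b : B, b ^ 3 = 1) (hBc : ∀ a b : B, a * b = b * a)
    {W : Subgroup B} {a : B} (ha : a ∉ W) : ∃ D : Subgroup B, W ≤ D ∧ a ∉ D ∧ Nat.card B ≤ 3 * Nat.card D := by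
  classical
  obtain ⟨D, ⟨hWD, haD⟩, hmax⟩ := (Set.toFinite {D : Subgroup B | W ≤ D ∧ a ∉ D}).exists_maximal
    ⟨W, le_rfl, ha⟩
  refine ⟨D, hWD, haD, ?_⟩
  haveI : D.Normal := ⟨fun n hn g => by rwa [hBc g n, mul_inv_cancel_right]⟩
  have hcov : ∀ e : B, ∃ i : ℤ, e * a ^ i ∈ D := by
    intro e
    by_cases he : e ∈ D
    · exact ⟨0, by simpa using he⟩
    have : a ∈ D ⊔ zpowers e := by
      by_contra h
      exact he (hmax ⟨hWD.trans le_sup_left, h⟩ le_sup_left (mem_sup_right (mem_zpowers e)))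
    obtain ⟨d, hd, _, ⟨j, rfl⟩, hda⟩ := (Subgroup.mem_sup_of_normal_left).mp this
    -- write `e` through `a`
    have he3 : e ^ (3 : ℤ) = 1 := by rw [show (3 : ℤ) = ((3 : ℕ) : ℤ) from rfl, zpow_natCast]; exact hB e
    obtain ⟨q, rfl | rfl | rfl⟩ : ∃ q : ℤ, j = 3 * q ∨ j = 3 * q + 1 ∨ j = 3 * q + 2 :=
      ⟨j / 3, by omega⟩
    · simp only [zpow_mul, he3, one_zpow, mul_one] at hda
      exact absurd (hda ▸ hd) haD
    · simp only [zpow_add, zpow_mul, he3, one_zpow, one_mul, zpow_one] at hda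
      refine ⟨-1, ?_⟩
      rw [zpow_neg, zpow_one, ← hda, mul_inv_rev, hBc e⁻¹ d⁻¹, ← mul_assoc, hBc e d⁻¹, mul_assoc, mul_inv_cancel,
        mul_one]
      exact inv_mem hd
    · simp only [zpow_add, zpow_mul, he3, one_zpow, one_mul] at hda
      refine ⟨1, ?_⟩
      rw [zpow_one, ← hda, hBc d, ← mul_assoc, show e * e ^ (2 : ℤ) = e ^ (3 : ℤ) by group, he3, one_mul]
      exact hd
  let f : Fin 3 × D → B := fun x => a ^ (x.1 : ℕ) * (x.2 : B)
  have hf : Function.Surjective f := by
    intro e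
    obtain ⟨i, hi⟩ := hcov e
    refine ⟨(⟨((-i) % 3).toNat, by omega⟩, ⟨e * a ^ i, hi⟩), ?_⟩
    have ha3 : a ^ (3 : ℤ) = 1 := by rw [show (3 : ℤ) = ((3 : ℕ) : ℤ) from rfl, zpow_natCast]; exact hB a
    show a ^ (((-i) % 3).toNat) * (e * a ^ i) = e
    rw [← zpow_natCast, Int.toNat_of_nonneg (Int.emod_nonneg _ (by norm_num)), hBc e, ← mul_assoc, ← zpow_add]
    have : ((-i) % 3 + i) = 3 * (-((-i) / 3)) := by omega
    rw [this, zpow_mul, ha3, one_zpow, one_mul]
  have := Nat.card_le_card_of_surjective f hf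
  rwa [Nat.card_prod, Nat.card_fin] at this

/-- All points of some large subgroup are visible. -/
theorem exists_visible_plane (hR : solvableRadical H = ⊥) (h3 : ¬ 3 ∣ Nat.card H) {B : Type u} [Group B] [Finite B]
    (hB : ∀ b : B, b ^ 3 = 1) (hBc : ∀ a b : B, a * b = b * a) (α : B →* MulAut H) {K : Subgroup H}
    (hK : IsComponent K) : ∃ D : Subgroup B, Nat.card B ≤ 3 * Nat.card D ∧ ∀ d ∈ D, Vis (α d) K := by
  let S : Subgroup B :=
    { carrier := {b | mp (α b) K = K}
      one_mem' := by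
        show mp (α 1) K = K
        rw [map_one, mp_one]
      mul_mem' := fun {a b} (ha : mp (α a) K = K) (hb : mp (α b) K = K) => by
        show mp (α (a * b)) K = K
        rw [map_mul, mp_mul, hb, ha]
      inv_mem' := fun {a} (ha : mp (α a) K = K) => by
        show mp (α a⁻¹) K = K
        apply mp_injective (α a)
        rw [← mp_mul, ← map_mul, mul_inv_cancel, map_one, mp_one, ha] }
  let r := resHom α K S fun b hb => hb
  by_cases hW : ∀ s : S, r s = 1
  · refine ⟨⊤, by rw [Subgroup.card_top]; omega, fun d _ => ?_⟩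
    by_contra h
    obtain ⟨h1, k, hk, hne⟩ := not_vis hR h3 hK h
    exact hne (congrArg (fun f : MulAut K => (f ⟨k, hk⟩ : H)) (hW ⟨d, h1⟩))
  push Not at hW
  obtain ⟨a, ha⟩ := hW
  have haW : (a : B) ∉ r.ker.map S.subtype := by
    rintro ⟨s, hs, e⟩
    exact ha (by rw [← show s = a from Subtype.ext e]; exact MonoidHom.mem_ker.mp hs)
  obtain ⟨D, hWD, haD, hc⟩ := exists_avoid hB hBc haW
  refine ⟨D, hc, fun d hd => ?_⟩
  by_contra h
  obtain ⟨h1, k, hk, hne⟩ := not_vis hR h3 hK h
  -- the image of the stabiliser has order three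
  have hel : Cfsg.IsElementaryAbelian 3 r.range := by
    refine ⟨⟨⟨?_⟩⟩, ?_⟩
    · rintro ⟨_, x, rfl⟩ ⟨_, y, rfl⟩
      apply Subtype.ext
      show r x * r y = r y * r x
      rw [← map_mul, ← map_mul, show x * y = y * x from Subtype.ext (hBc x y)]
    · rintro _ ⟨x, rfl⟩
      rw [← map_pow, show x ^ 3 = 1 from Subtype.ext (hB x), map_one]
  obtain ⟨hle, -⟩ := suz_three_group (component_suzuki hR h3 hK) r.range hel
  have hzl : zpowers (r a) ≤ r.range := Subgroup.zpowers_le.mpr ⟨a, rfl⟩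
  have hoa : orderOf (r a) = 3 :=
    haveI : Fact (Nat.Prime 3) := ⟨Nat.prime_three⟩
    orderOf_eq_prime (by rw [← map_pow, show a ^ 3 = 1 from Subtype.ext (hB _), map_one]) ha
  have heq : zpowers (r a) = r.range := Subgroup.eq_of_le_of_card_ge hzl (by rw [Nat.card_zpowers, hoa]; exact hle)
  obtain ⟨i, hi⟩ : ∃ i : ℤ, r a ^ i = r ⟨d, h1⟩ := Subgroup.mem_zpowers_iff.mp (heq.ge ⟨⟨d, h1⟩, rfl⟩)
  have hai : (a : B) ^ i ∈ D := by
    have hker : (⟨d, h1⟩ : S) * (a ^ i)⁻¹ ∈ r.ker :=
      MonoidHom.mem_ker.mpr (by rw [map_mul, map_inv, map_zpow, hi, mul_inv_cancel])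
    have h2 : d * ((a : B) ^ i)⁻¹ ∈ D := hWD ⟨_, hker, by simp⟩
    have h3' := mul_mem (inv_mem h2) hd
    rwa [mul_inv_rev, inv_inv, inv_mul_cancel_right] at h3'
  have hi0 : ¬ (3 : ℤ) ∣ i := fun ⟨q, hq⟩ => hne (by
    have h4 : r ⟨d, h1⟩ = 1 := by
      rw [← hi, hq, zpow_mul, show r a ^ (3 : ℤ) = 1 by
        rw [show (3 : ℤ) = ((3 : ℕ) : ℤ) from rfl, zpow_natCast, ← hoa, pow_orderOf_eq_one], one_zpow]
    exact congrArg (fun f : MulAut K => (f ⟨k, hk⟩ : H)) h4)
  refine haD ?_
  have ha3 : (a : B) ^ (3 : ℤ) = 1 := by rw [show (3 : ℤ) = ((3 : ℕ) : ℤ) from rfl, zpow_natCast]; exact hB _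
  obtain ⟨q, hq | hq⟩ : ∃ q : ℤ, i = 3 * q + 1 ∨ i = 3 * q + 2 := ⟨i / 3, by omega⟩
  · rw [hq, zpow_add, zpow_mul, ha3, one_zpow, one_mul, zpow_one] at hai
    exact hai
  · rw [hq, zpow_add, zpow_mul, ha3, one_zpow, one_mul] at hai
    have := inv_mem hai
    rwa [← zpow_neg, show (-2 : ℤ) = 3 * (-1) + 1 by norm_num, zpow_add, zpow_mul, ha3, one_zpow, one_mul,
      zpow_one] at this

end CfsgLib.SF23
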