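import Cfsg.Agent.Lib.SF23.Socle
import Cfsg.Agent.Lib.SF23.Piece
import Cfsg.Agent.Lib.SF23.Basic

/-!
A subgroup invariant under the elementary group, modulo its soluble radical, with the induced action.
-/

set_option autoImplicit false
set_option linter.unusedSectionVars false
set_option linter.style.haveILetI false

namespace CfsgLib.SF23

open Cfsg Subgroup CfsgLib.Signalizer

universe u
variable {G : Type u} [Group G] [Finite G]

/-- The soluble radical of a subgroup, as a subgroup of the ambient group. -/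
def radS (X : Subgroup G) : Subgroup G := (solvableRadical ↥X).map X.subtype

theorem radS_le (X : Subgroup G) : radS X ≤ X := Subgroup.map_subtype_le _

theorem mem_radS {X : Subgroup G} {x : G} (hx : x ∈ X) : x ∈ radS X ↔ (⟨x, hx⟩ : X) ∈ solvableRadical ↥X :=
  ⟨fun ⟨y, hy, e⟩ => by rwa [← show y = ⟨x, hx⟩ from Subtype.ext e], fun h => ⟨_, h, rfl⟩⟩

theorem radS_solvable (X : Subgroup G) : Group.IsSolvable (radS X) := by
  haveI := CfsgLib.isSolvable_solvableRadical (G := ↥X)
  exact Group.isSolvable_of_surjective (f := X.subtype.subgroupMap (solvableRadical ↥X))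
    (MonoidHom.subgroupMap_surjective _ _)

theorem le_normalizer_radS {X U : Subgroup G} (hU : U ≤ normalizer (X : Set G)) :
    U ≤ normalizer (radS X : Set G) := fun g hg => by
  refine Subgroup.mem_normalizer_fintype fun y hy => ?_
  have hyX := radS_le X hy
  have h := (CfsgLib.map_solvableRadical_le_of_equiv (X.normalizerMonoidHom ⟨g, hU hg⟩))
    ⟨⟨y, hyX⟩, (mem_radS hyX).mp hy, rfl⟩
  exact (mem_radS _).mpr h

theorem self_normalizes_radS (X : Subgroup G) : X ≤ normalizer (radS X : Set G) :=
  le_normalizer_radS Subgroup.le_normalizer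

theorem le_radS {X S : Subgroup G} (hS : S ≤ X) (hs : Group.IsSolvable S) (hn : X ≤ normalizer (S : Set G)) :
    S ≤ radS X := fun x hx => by
  haveI : (S.subgroupOf X).Normal := (Subgroup.normal_subgroupOf_iff_le_normalizer hS).mpr hn
  haveI := hs
  refine (mem_radS (hS hx)).mpr (CfsgLib.le_solvableRadical (N := S.subgroupOf X) ?_ hx)
  exact Group.isSolvable_of_isSolvable_injective (f := (Subgroup.subgroupOfEquivOfLe hS).toMonoidHom)
    (MulEquiv.injective _)

/-- The join of the soluble subgroups of `X` containing `Q`. -/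
def joinIn (X Q : Subgroup G) : Subgroup G := sSup {S : Subgroup G | S ≤ X ∧ Group.IsSolvable S ∧ Q ≤ S}

theorem joinIn_le (X Q : Subgroup G) : joinIn X Q ≤ X := sSup_le fun _ hS => hS.1

theorem le_joinIn {X Q S : Subgroup G} (h1 : S ≤ X) (h2 : Group.IsSolvable S) (h3 : Q ≤ S) : S ≤ joinIn X Q :=
  le_sSup ⟨h1, h2, h3⟩

variable {A : Subgroup G}

/-- The action of the elementary group on an invariant subgroup. -/
def actOn (X : Subgroup G) (hinv : A ≤ normalizer (X : Set G)) : A →* MulAut X :=
  X.normalizerMonoidHom.comp (Subgroup.inclusion hinv)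

theorem actOn_val (X : Subgroup G) (hinv : A ≤ normalizer (X : Set G)) (a : A) (x : X) :
    (actOn X hinv a x : G) = (a : G) * x * (a : G)⁻¹ := rfl

theorem mem_fixedSub_actOn {X : Subgroup G} {hinv : A ≤ normalizer (X : Set G)} {x : X} :
    x ∈ fixedSub (actOn X hinv) ↔ (x : G) ∈ centralizer (A : Set G) := by
  rw [Subgroup.mem_centralizer_iff]
  constructor
  · intro h a ha
    have h1 : (a : G) * x * a⁻¹ = x := congrArg Subtype.val (h ⟨a, ha⟩)
    exact mul_inv_eq_iff_eq_mul.mp h1
  · intro h a
    refine Subtype.ext ?_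
    rw [actOn_val]
    exact mul_inv_eq_iff_eq_mul.mpr (h a a.2)

/-- The soluble quotient group. -/
abbrev Bar (X : Subgroup G) : Type u := ↥X ⧸ solvableRadical ↥X

/-- The action on the soluble quotient. -/
noncomputable def actBar (X : Subgroup G) (hinv : A ≤ normalizer (X : Set G)) : A →* MulAut (Bar X) :=
  (quotAut (solvableRadical ↥X)).comp (actOn X hinv)

/-- The image of a subgroup in the soluble quotient. -/
def img (X U : Subgroup G) : Subgroup (Bar X) := (U.subgroupOf X).map (QuotientGroup.mk' _)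

/-- The projection. -/
def toBar (X : Subgroup G) {x : G} (hx : x ∈ X) : Bar X := QuotientGroup.mk' _ ⟨x, hx⟩

theorem toBar_eq_one_iff {X : Subgroup G} {x : G} (hx : x ∈ X) : toBar X hx = 1 ↔ x ∈ radS X := by
  rw [mem_radS hx]
  exact QuotientGroup.eq_one_iff _

theorem mem_img {X U : Subgroup G} {x : G} (hx : x ∈ X) (hU : x ∈ U) : toBar X hx ∈ img X U := ⟨⟨x, hx⟩, hU, rfl⟩

theorem bar_rad (X : Subgroup G) : solvableRadical (Bar X) = ⊥ := radical_quotient_bot

theorem bar_not_dvd {X : Subgroup G} (h3 : ¬ 3 ∣ Nat.card X) : ¬ 3 ∣ Nat.card (Bar X) :=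
  fun h => h3 (h.trans (Subgroup.card_quotient_dvd_card _))

theorem act_cube (hA : IsElementaryAbelian 3 A) : ∀ a : A, a ^ 3 = 1 := fun a => Subtype.ext (hA.2 _ a.2)

theorem act_comm (hA : IsElementaryAbelian 3 A) : ∀ a b : A, a * b = b * a := fun a b => hA.1.is_comm.comm a b

theorem actBar_cube (hA : IsElementaryAbelian 3 A) {X : Subgroup G} (hinv : A ≤ normalizer (X : Set G)) (a : A) :
    actBar X hinv a ^ 3 = 1 := by rw [← map_pow, act_cube hA a, map_one]

theorem actBar_toBar {X : Subgroup G} (hinv : A ≤ normalizer (X : Set G)) (a : A) {x : G} (hx : x ∈ X) :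
    actBar X hinv a (toBar X hx) =
      toBar X ((Subgroup.mem_normalizer_iff.mp (hinv a.2) x).mp hx) :=
  quotAut_mk _ (actOn X hinv a) ⟨x, hx⟩

theorem toBar_fix {X : Subgroup G} (hinv : A ≤ normalizer (X : Set G)) {a : A} {x : G} (hx : x ∈ X)
    (hc : x ∈ centralizer ({(a : G)} : Set G)) : toBar X hx ∈ fix1 (actBar X hinv a) := by
  rw [mem_fix1, actBar_toBar]
  unfold toBar
  congr 2
  rw [← Subgroup.mem_centralizer_singleton_iff.mp hc, mul_inv_cancel_right]

/-- Fixed points of one operator in the quotient come from fixed points. -/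
theorem fix_lift (hA : IsElementaryAbelian 3 A) {X : Subgroup G} (hinv : A ≤ normalizer (X : Set G))
    (h3 : ¬ 3 ∣ Nat.card X) {a : A} {y : Bar X} (hy : y ∈ fix1 (actBar X hinv a)) :
    ∃ (x : G) (hx : x ∈ X), x ∈ centralizer ({(a : G)} : Set G) ∧ toBar X hx = y := by
  obtain ⟨x, rfl⟩ := QuotientGroup.mk'_surjective _ y
  let α : ↥(zpowers a) →* MulAut X := (actOn X hinv).comp (zpowers a).subtype
  have hcop : (Nat.card (zpowers a)).Coprime (Nat.card X) := by
    have := ea_coprime hA h3
    exact Nat.Coprime.coprime_dvd_left (Subgroup.card_subgroup_dvd_card (zpowers a)) this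
  obtain ⟨c, hc, hxc⟩ := exists_fixed_lift α (Group.isSolvable_of_comm fun s t => Subtype.ext (act_comm hA s t)) hcop
    (solvableRadical ↥X) (fun b n hn => (Subgroup.characteristic_iff_map_eq.mp inferInstance (α b)).le ⟨n, hn, rfl⟩)
    (x := x) fun b => by
      obtain ⟨i, hi⟩ := b.2
      have h1 : actBar X hinv (b : A) (QuotientGroup.mk' _ x) = QuotientGroup.mk' _ x := by
        have hs : ∀ c ∈ zpowers a, actBar X hinv c (QuotientGroup.mk' _ x) = QuotientGroup.mk' _ x := by
          intro c hc
          obtain ⟨j, rfl⟩ := hc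
          have hst : actBar X hinv a ∈ MulAction.stabilizer (MulAut (Bar X))
              (QuotientGroup.mk' (solvableRadical ↥X) x) := hy
          have := zpow_mem hst j
          rw [← map_zpow] at this
          exact this
        exact hs _ b.2
      refine (QuotientGroup.eq_one_iff _).mp ?_
      show QuotientGroup.mk' _ (actOn X hinv (b : A) x * x⁻¹) = 1
      rw [map_mul, map_inv, ← quotAut_mk, ]
      exact mul_inv_eq_one.mpr h1
  refine ⟨c, c.2, Subgroup.mem_centralizer_singleton_iff.mpr ?_, ((QuotientGroup.eq).mpr hxc).symm⟩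
  have h2 : (a : G) * c * (a : G)⁻¹ = c := congrArg Subtype.val (hc ⟨a, mem_zpowers a⟩)
  exact (mul_inv_eq_iff_eq_mul.mp h2).symm

/-- The join inside an invariant subgroup is soluble. -/
theorem joinIn_solvable (hA : IsElementaryAbelian 3 A) {X : Subgroup G} (hinv : A ≤ normalizer (X : Set G))
    (h3 : ¬ 3 ∣ Nat.card X) [Fact (Nat.Prime 5)] {Q : Subgroup G} (hQ : Q ≤ X ⊓ centralizer (A : Set G))
    (hQp : IsPGroup 5 Q) (hQi : ¬ 5 ∣ Q.relIndex (X ⊓ centralizer (A : Set G))) :
    Group.IsSolvable (joinIn X Q) := by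
  let α := actOn X hinv
  let F := fixedSub α
  let i : F →* G := X.subtype.comp F.subtype
  have hi : Function.Injective i := X.subtype_injective.comp F.subtype_injective
  have hr : (⊤ : Subgroup F).map i = X ⊓ centralizer (A : Set G) := by
    ext x
    constructor
    · rintro ⟨w, -, rfl⟩
      exact ⟨w.1.2, mem_fixedSub_actOn.mp w.2⟩
    · rintro ⟨hx, hc⟩
      exact ⟨⟨⟨x, hx⟩, mem_fixedSub_actOn.mpr hc⟩, Subgroup.mem_top _, rfl⟩
  have hQm : (Q.comap i).map i = Q := Subgroup.map_comap_eq_self (by
    rw [MonoidHom.range_eq_map, hr]; exact hQ)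
  let P : Sylow 5 F := (hQp.comap_of_injective i hi).toSylow (by
    rw [← Subgroup.relIndex_top_right, ← Subgroup.relIndex_map_map_of_injective _ _ hi, hQm, hr]
    exact hQi)
  have hs := join_solvable (act_cube hA) (act_comm hA) (Nat.card X) (H := ↥X) h3 α P rfl
  have hle : joinIn X Q ≤ (joinS ((P : Subgroup F).map F.subtype)).map X.subtype := by
    refine sSup_le fun S hS => ?_
    rw [← Subgroup.map_subgroupOf_eq_of_le hS.1]
    haveI := hS.2.1
    refine Subgroup.map_mono (le_joinS (Group.isSolvable_of_isSolvable_injective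
      (f := (Subgroup.subgroupOfEquivOfLe hS.1).toMonoidHom) (MulEquiv.injective _)) ?_)
    rintro _ ⟨w, hw, rfl⟩
    exact hS.2.2 (show i w ∈ Q from hw)
  haveI := hs
  haveI := Group.isSolvable_of_surjective
    (f := X.subtype.subgroupMap (joinS ((P : Subgroup F).map F.subtype))) (MonoidHom.subgroupMap_surjective _ _)
  exact Group.isSolvable_of_isSolvable_injective (f := Subgroup.inclusion hle) (Subgroup.inclusion_injective _)

end CfsgLib.SF23
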