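import Cfsg.Agent.Lib.ZJ.Theorem
import Cfsg.Agent.Lib.Quadratic.Stable
import Cfsg.Agent.Lib.StrongFusion.LocalFree
import Cfsg.Agent.Lib.Stellmacher.Fusion
import Cfsg.Agent.Lib.FpfSymThree.Basic

/-!
A characteristic functor on `q`-groups giving a normal subgroup in constrained groups of order prime to three.
-/

set_option autoImplicit false
set_option linter.unusedSectionVars false
set_option linter.style.haveILetI false

namespace CfsgLib.SF23

open Cfsg Subgroup

universe u
variable {G : Type u} [Group G] [Finite G]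

theorem three_dvd_card_sl2 (q : ℕ) [Fact q.Prime] :
    3 ∣ Nat.card (Matrix.SpecialLinearGroup (Fin 2) (ZMod q)) := by
  let x : Matrix.SpecialLinearGroup (Fin 2) (ZMod q) := ⟨!![0, -1; 1, -1], by simp [Matrix.det_fin_two]⟩
  have h3 : x ^ 3 = 1 := by
    refine Subtype.ext ?_
    rw [pow_three]
    show (!![0, -1; 1, -1] : Matrix (Fin 2) (Fin 2) (ZMod q)) * (!![0, -1; 1, -1] * !![0, -1; 1, -1]) = 1
    ext i j
    fin_cases i <;> fin_cases j <;> simp [Matrix.mul_apply, Fin.sum_univ_two]
  have h1 : x ≠ 1 := fun e => by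
    have h00 := congrArg (fun y : Matrix.SpecialLinearGroup (Fin 2) (ZMod q) =>
      (y : Matrix (Fin 2) (Fin 2) (ZMod q)) 0 0) e
    simp [x] at h00
  haveI : Fact (Nat.Prime 3) := ⟨Nat.prime_three⟩
  exact orderOf_eq_prime h3 h1 ▸ orderOf_dvd_natCard x

theorem quadStable_of_three {q : ℕ} [Fact q.Prime] (hq : q ≠ 2) {M : Type u} [Group M] [Finite M]
    (h3 : ¬ 3 ∣ Nat.card M) : ZJ.QuadStable q M := by
  refine Quadratic.quadStable_of_isNormalizerPStable (Quadratic.isNormalizerPStable_of_free hq fun hi => h3 ?_)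
  obtain ⟨K, R, hn, ⟨f⟩⟩ := StrongFusion.involves_sl2_of_involves_qd hi
  refine (three_dvd_card_sl2 q).trans ?_
  rw [← Nat.card_congr f.toEquiv]
  exact (Subgroup.card_quotient_dvd_card _).trans (Subgroup.card_subgroup_dvd_card K)

/-- The functor: `W (P)` is characteristic in `P` and normal in constrained overgroups with `P` Sylow. -/
structure Kernel {G : Type u} [Group G] [Finite G] (q : ℕ) (W : Subgroup G → Subgroup G) : Prop where
  ne_bot : ∀ P : Subgroup G, IsPGroup q P → P ≠ ⊥ → W P ≠ ⊥
  le : ∀ P : Subgroup G, W P ≤ P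
  conj : ∀ P : Subgroup G, IsPGroup q P → ∀ g : G,
    W (P.map (MulAut.conj g).toMonoidHom) = (W P).map (MulAut.conj g).toMonoidHom
  normal : ∀ (M : Subgroup G), ¬ 3 ∣ Nat.card M → centralizer (pCore q ↥M : Set ↥M) ≤ pCore q ↥M →
    ∀ S : Sylow q M, M ≤ normalizer (W ((S : Subgroup M).map M.subtype) : Set G)

theorem normal_map {M : Subgroup G} {N : Subgroup ↥M} (h : N.Normal) :
    M ≤ normalizer (N.map M.subtype : Set G) := fun g hg => Subgroup.mem_normalizer_fintype fun x hx => by
  obtain ⟨y, hy, rfl⟩ := hx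
  exact ⟨⟨g, hg⟩ * y * ⟨g, hg⟩⁻¹, h.conj_mem y hy _, rfl⟩

theorem exists_kernel {q : ℕ} [Fact q.Prime] : ∃ W : Subgroup G → Subgroup G, Kernel q W := by
  by_cases hq : q = 2
  · subst hq
    refine ⟨fun P => (Stellmacher.wFun ↥P).map P.subtype, fun P hP hne => ?_,
      fun P => Subgroup.map_subtype_le _, fun P hP g => ?_, fun M h3 hc S => ?_⟩
    · rw [Ne, Subgroup.map_eq_bot_iff_of_injective _ P.subtype_injective]
      exact Stellmacher.wFun_ne_bot' _ hP ((Subgroup.nontrivial_iff_ne_bot P).mpr hne)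
    · let e := P.equivMapOfInjective (MulAut.conj g).toMonoidHom (MulAut.conj g).injective
      show (Stellmacher.wFun ↥(P.map (MulAut.conj g).toMonoidHom)).map _ = _
      rw [← Stellmacher.wFun_map' _ _ hP e, Subgroup.map_map, Subgroup.map_map]
      rfl
    · have hn := Stellmacher.wFun_normal S.2 (τ := (S : Subgroup M).subtype) ⟨Subtype.val_injective,
        ⟨S, (Subgroup.range_subtype _).symm⟩, FpfSymThree.not_involves_sym_four h3, hc⟩
      have e : (Stellmacher.wFun ↥((S : Subgroup M).map M.subtype)).map ((S : Subgroup M).map M.subtype).subtype =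
          ((Stellmacher.wFun ↥(S : Subgroup M)).map (S : Subgroup M).subtype).map M.subtype := by
        rw [← Stellmacher.wFun_map' _ _ S.2
          ((S : Subgroup M).equivMapOfInjective M.subtype M.subtype_injective), Subgroup.map_map, Subgroup.map_map]
        rfl
      show M ≤ normalizer (_ : Set G)
      rw [e]
      exact normal_map hn
  · refine ⟨fun P => ZJ.zj 0 P, fun P hP hne => ZJ.zj_ne_bot (p := q) (Or.inl rfl) hP hne,
      fun P => ZJ.zj_le 0 P, fun P _ g => ZJ.zj_map 0 (MulAut.conj g).injective P, fun M h3 hc S => ?_⟩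
    have hn := ZJ.zj_normal hq (Or.inl rfl) hc (quadStable_of_three hq h3) S
    show M ≤ normalizer (ZJ.zj 0 ((S : Subgroup M).map M.subtype) : Set G)
    rw [ZJ.zj_map 0 M.subtype_injective]
    exact normal_map hn

end CfsgLib.SF23
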