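import Cfsg.Agent.Lib.SF23.Transit
import Cfsg.Agent.Lib.SF23.Kernel
import Cfsg.Agent.Lib.SolvSF.Cores
import Cfsg.Agent.Lib.CoprimeSeries

/-!
Two maximal members whose Fitting subgroups have the same primes and contain their centralizers: Bender's
argument for several primes, the characteristic functor for one.
-/

set_option autoImplicit false
set_option linter.unusedSectionVars false
set_option linter.style.haveILetI false

namespace CfsgLib.SF23

open Cfsg Subgroup CfsgLib.Signalizer CfsgLib.SolvSF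
open CfsgLib.DihedralLemma (fit fit_le isNilpotent_fit le_normalizer_fit)

universe u
variable {G : Type u} [Group G] [Finite G] {A : Subgroup G} {θ : G → Subgroup G}

theorem O_le_fit {q : ℕ} (hq : q.Prime) (H : Subgroup G) : O q H ≤ fit H :=
  Subgroup.map_mono (CfsgLib.pCore_le_fittingSubgroup hq)

theorem fit_le_of {H X : Subgroup G} (hX : ∀ q : ℕ, q.Prime → O q H ≤ X) : fit H ≤ X := by
  rw [fit, CfsgLib.fittingSubgroup_eq_iSup_pCore, Subgroup.map_iSup]
  exact iSup_le fun q => hX q q.2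

theorem fit_split (u : ℕ) [Fact u.Prime] {L : Subgroup G} {c : G} (hc : c ∈ fit L) :
    ∃ n ∈ ⨆ r : {r : Nat.Primes // (r : ℕ) ≠ u}, O ((r : Nat.Primes) : ℕ) L, ∃ o ∈ O u L, c = n * o := by
  set N := ⨆ r : {r : Nat.Primes // (r : ℕ) ≠ u}, O ((r : Nat.Primes) : ℕ) L with hN
  have hcomm : O u L ≤ centralizer (N : Set G) := by
    rw [Subgroup.le_centralizer_iff, hN]
    refine iSup_le fun r => ?_
    haveI := Fact.mk r.1.2
    exact commute_of_normalize (O_coprime r.2) (O_le.trans O_normal) (O_le.trans O_normal)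
  have hle : fit L ≤ N ⊔ O u L := fit_le_of fun r hr => by
    by_cases e : r = u
    · exact le_sup_of_le_right (by rw [e])
    · exact le_sup_of_le_left (le_iSup (fun r : {r : Nat.Primes // (r : ℕ) ≠ u} => O ((r : Nat.Primes) : ℕ) L)
        ⟨⟨r, hr⟩, e⟩)
  obtain ⟨n, hn, o, ho, e⟩ :=
    mem_sup_of_le_normalizer (hcomm.trans (Subgroup.centralizer_le_normalizer _)) (hle hc)
  exact ⟨n, hn, o, ho, e.symm⟩

theorem normalizer_le_normalizer_cent (X : Subgroup G) :
    normalizer (X : Set G) ≤ normalizer (centralizer (X : Set G) : Set G) := fun _ hg =>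
  Comp.mem_normalizer_of_maps fun _ hx => centralizer_conj hg hx

/-- A maximal member with self-centralizing Fitting subgroup in a fixed soluble group. -/
structure Good (h : Ctx 3 A θ) (H : Subgroup G) : Prop where
  max : Ctx.MaxMem 3 A θ H
  con : H ⊓ centralizer (fit H : Set G) ≤ fit H
  fit_le_yCl : fit H ≤ yCl h
  prime : ∀ q : ℕ, q.Prime → (O q H ≠ ⊥ ↔ q ∣ Nat.card (fZero h))

variable (h : Ctx 3 A θ)
include h

theorem O_isMem {q : ℕ} {H : Subgroup G} (hH : IsMem 3 A θ H) : IsMem 3 A θ (O q H) :=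
  hH.sub O_le (pCore_normalizes hH.inv)

theorem good_of (hC : yCl h ⊓ centralizer (fZero h : Set G) ≤ fZero h) {H : Subgroup G}
    (hmax : Ctx.MaxMem 3 A θ H) (hQ : qfive h ≤ H) (hF : fZero h ≤ H) : Good h H := by
  have hFf := fZero_le_fit h hmax.1 hQ hF
  have hfy : fit H ≤ yCl h := (fit_le_radS H).trans (radS_le_yCl h hmax.1 hQ)
  refine ⟨hmax, centralizer_fit (lay_eq_bot h hC hmax.1 hQ hFf), hfy, fun q hq => ⟨fun hne => ?_, fun hd e => ?_⟩⟩
  · haveI := Fact.mk hq
    by_contra hd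
    obtain ⟨n, hn⟩ := IsPGroup.iff_card.mp (O_isPGroup (q := q) (K := H))
    have hcop : (Nat.card (O q H)).Coprime (Nat.card (fZero h)) :=
      hn ▸ Nat.Coprime.pow_left n (hq.coprime_iff_not_dvd.mpr hd)
    have hOy : O q H ≤ yCl h := (O_le_fit hq H).trans hfy
    have h1 := commute_of_normalize hcop (hOy.trans (fZero_spec h).2.1) (hF.trans O_normal)
    refine hne (le_bot_iff.mp ?_)
    rw [← Subgroup.inf_eq_bot_of_coprime hcop]
    exact le_inf le_rfl ((le_inf hOy h1).trans hC)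
  · haveI := Fact.mk hq
    refine CfsgLib.not_dvd_card_fitting_of_pCore_eq_bot
      ((Subgroup.map_eq_bot_iff_of_injective _ H.subtype_injective).mp e) ?_
    have := hd.trans (Subgroup.card_dvd_of_le hFf)
    rwa [fit, Subgroup.card_map_of_injective H.subtype_injective] at this

theorem Good.le_max {H : Subgroup G} (gH : Good h H) {q : ℕ} (hne : O q H ≠ ⊥) {X : Subgroup G}
    (hX : IsMem 3 A θ X) (hn : X ≤ normalizer (O q H : Set G)) : X ≤ H :=
  h.le_max_of_normalizes gH.max (O_isMem h gH.max.1) hne O_normal hX hn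

/-- The cross centralization. -/
theorem cross {M H : Subgroup G} (gM : Good h M) (gH : Good h H) (hHM : fit H ≤ M) {r q : ℕ}
    [Fact r.Prime] [Fact q.Prime] (hrq : r ≠ q) : O r M ≤ centralizer (O q H : Set G) := by
  rcases eq_or_ne (O r M) ⊥ with hb | hb
  · rw [hb]
    exact bot_le
  have hrH : O r H ≠ ⊥ := (gH.prime r Fact.out).mpr ((gM.prime r Fact.out).mp hb)
  have hqM : O q H ≤ M := (O_le_fit Fact.out H).trans hHM
  have hrM : O r H ≤ M := (O_le_fit Fact.out H).trans hHM
  have hqr : O q H ≤ centralizer (O r H : Set G) :=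
    commute_of_normalize (O_coprime hrq.symm) (O_le.trans O_normal) (O_le.trans O_normal)
  have hnc := hqr.trans ((Subgroup.centralizer_le_normalizer _).trans (normalizer_le_normalizer_cent (O r H)))
  set C := O r M ⊓ centralizer (O r H : Set G) with hCdef
  have hCm : IsMem 3 A θ C := (O_isMem h gM.max.1).sub inf_le_left
    (inf_normalizes (O_isMem h gM.max.1).inv ((O_isMem h gH.max.1).inv.trans (normalizer_le_normalizer_cent _)))
  have hCH : C ≤ H := gH.le_max h hrH hCm (inf_le_right.trans (Subgroup.centralizer_le_normalizer _))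
  have hCq : C ≤ centralizer (O q H : Set G) := commute_of_normalize
    (IsPGroup.coprime_card_of_ne r q hrq _ _ (O_isPGroup.to_le inf_le_left) O_isPGroup)
    (hCH.trans O_normal) (inf_normalizes (hqM.trans O_normal) hnc)
  rw [Subgroup.le_centralizer_iff]
  intro x hx
  obtain ⟨i, hi⟩ := IsPGroup.iff_orderOf.mp (O_isPGroup (q := q) (K := H)) ⟨x, hx⟩
  rw [Subgroup.orderOf_mk] at hi
  refine mem_centralizer_of fun y hy => ?_
  exact (CfsgLib.Stabilizer.thompson_axb O_isPGroup O_isPGroup (hrM.trans O_normal)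
    (hi ▸ Nat.Coprime.pow_left i ((Nat.coprime_primes Fact.out Fact.out).mpr hrq.symm)) (O_normal (hqM hx))
    (fun z hz => (Subgroup.mem_centralizer_iff.mp (hqr hx) z hz).symm)
    (fun z hz => Subgroup.mem_centralizer_iff.mp (hCq hz) x hx) y hy).symm

/-- With two primes the cores of the one maximal member lie in those of the other. -/
theorem core_le {M H : Subgroup G} (gM : Good h M) (gH : Good h H) (hHM : fit H ≤ M) {u v : ℕ}
    [Fact u.Prime] [Fact v.Prime] (huv : u ≠ v) (hvH : O v H ≠ ⊥) : O u H ≤ O u M := by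
  set C : Subgroup G := M ⊓ ⨅ r : {r : Nat.Primes // (r : ℕ) ≠ u}, centralizer (O ((r : Nat.Primes) : ℕ) M : Set G)
    with hC
  set E : Subgroup G := Subgroup.closure {g : G | g ∈ C ∧ ∃ k : ℕ, g ^ u ^ k = 1} with hE
  have hEM : E ≤ M := (Subgroup.closure_le _).mpr fun g hg => hg.1.1
  have hCn : ∀ g ∈ normalizer (M : Set G), ∀ x ∈ C, g * x * g⁻¹ ∈ C := fun g hg x hx => Subgroup.mem_inf.mpr
    ⟨(Subgroup.mem_normalizer_iff.mp hg x).mp hx.1, Subgroup.mem_iInf.mpr fun r =>
      centralizer_conj (pCore_normalizes le_rfl hg) (Subgroup.mem_iInf.mp hx.2 r)⟩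
  have hEn : normalizer (M : Set G) ≤ normalizer (E : Set G) := fun g hg => Comp.mem_normalizer_of_maps (by
    have hle : E ≤ E.comap (MulAut.conj g).toMonoidHom := (Subgroup.closure_le _).mpr (by
      rintro x ⟨hx, k, hk⟩
      exact Subgroup.subset_closure ⟨hCn g hg x hx, k, by rw [← map_pow, hk, map_one]⟩)
    exact fun x hx => hle hx)
  have hEc : E ≤ centralizer (O v H : Set G) := by
    refine (Subgroup.closure_le _).mpr ?_
    rintro g ⟨hgC, k, hk⟩
    refine mem_centralizer_of fun y hy => ?_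
    have hyM : y ∈ M := ((O_le_fit Fact.out H).trans hHM) hy
    have hyu : ∀ z ∈ O u M, Commute y z := fun z hz =>
      Subgroup.mem_centralizer_iff.mp (cross h gM gH hHM huv hz) y hy
    set c := y * g * y⁻¹ * g⁻¹ with hc
    have hcC : c ∈ C := mul_mem (hCn y (Subgroup.le_normalizer hyM) g hgC) (inv_mem hgC)
    have hcall : fit M ≤ centralizer ({c} : Set G) := by
      refine fit_le_of fun r hr z hz => Subgroup.mem_centralizer_singleton_iff.mpr ?_
      by_cases hru : r = u
      · subst hru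
        have hz' : g⁻¹ * z * g ∈ O r M := (Subgroup.mem_normalizer_iff''.mp (O_normal hgC.1) z).mp hz
        have e1 : z * y = y * z := (hyu z hz).eq.symm
        have e2 := (hyu _ hz').eq
        calc z * c = z * y * g * y⁻¹ * g⁻¹ := by simp [hc, mul_assoc]
          _ = y * g * (g⁻¹ * z * g) * y⁻¹ * g⁻¹ := by rw [e1]; group
          _ = y * g * y⁻¹ * (y * (g⁻¹ * z * g)) * y⁻¹ * g⁻¹ := by group
          _ = y * g * y⁻¹ * (g⁻¹ * z * g * y) * y⁻¹ * g⁻¹ := by rw [e2]
          _ = c * z := by rw [hc]; group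
      · exact Subgroup.mem_centralizer_iff.mp (Subgroup.mem_iInf.mp hcC.2 ⟨⟨r, hr⟩, hru⟩) z hz
    have hcF : c ∈ fit M := gM.con (Subgroup.mem_inf.mpr
      ⟨hcC.1, fun z hz => Subgroup.mem_centralizer_singleton_iff.mp (hcall hz)⟩)
    obtain ⟨n, hn, o, ho, hcno⟩ := fit_split u hcF
    have hgn : Commute g n := by
      have hle : (⨆ r : {r : Nat.Primes // (r : ℕ) ≠ u}, O ((r : Nat.Primes) : ℕ) M) ≤ centralizer ({g} : Set G) :=
        iSup_le fun r x hx => Subgroup.mem_centralizer_singleton_iff.mpr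
          (Subgroup.mem_centralizer_iff.mp (Subgroup.mem_iInf.mp hgC.2 r) x hx)
      exact (Subgroup.mem_centralizer_singleton_iff.mp (hle hn)).symm
    have hno : Commute n o := by
      have hle : (⨆ r : {r : Nat.Primes // (r : ℕ) ≠ u}, O ((r : Nat.Primes) : ℕ) M) ≤ centralizer ({o} : Set G) :=
        iSup_le fun r x hx => by
          haveI := Fact.mk r.1.2
          exact Subgroup.mem_centralizer_singleton_iff.mpr ((Subgroup.mem_centralizer_iff.mp
            (commute_of_normalize (O_coprime (K := M) (L := M) r.2) (O_le.trans O_normal) (O_le.trans O_normal) hx)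
              o ho).symm)
      exact Subgroup.mem_centralizer_singleton_iff.mp (hle hn)
    -- the part prime to `u` vanishes
    have hog : ∃ j, (o * g) ^ u ^ j = 1 := by
      have hgp : IsPGroup u (zpowers g) := by
        rintro ⟨_, i, rfl⟩
        refine ⟨k, Subtype.ext ?_⟩
        show (g ^ i) ^ u ^ k = 1
        rw [← zpow_natCast, ← zpow_mul, mul_comm, zpow_mul, zpow_natCast, hk, one_zpow]
      have hU : IsPGroup u ↥(O u M ⊔ zpowers g) := O_isPGroup.to_sup_of_normal_left' hgp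
        (Subgroup.zpowers_le.mpr (O_normal hgC.1))
      obtain ⟨j, hj⟩ := hU ⟨o * g, Subgroup.mul_mem_sup ho (mem_zpowers g)⟩
      exact ⟨j, congrArg Subtype.val hj⟩
    obtain ⟨j, hj⟩ := hog
    have hyg : y * g * y⁻¹ = n * (o * g) := by rw [← mul_assoc, ← hcno, hc]; group
    have hn1 : n = 1 := by
      have h1 : (y * g * y⁻¹) ^ u ^ (k + j) = 1 := by
        rw [conj_pow, pow_add, pow_mul, hk, one_pow, mul_one, mul_inv_cancel]
      rw [hyg, (hno.mul_right hgn.symm).mul_pow,
        show (o * g) ^ u ^ (k + j) = 1 by rw [pow_add, mul_comm, pow_mul, hj, one_pow], mul_one] at h1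
      refine orderOf_eq_one_iff.mp (Nat.eq_one_of_dvd_coprimes ?_ (orderOf_dvd_of_pow_eq_one h1) dvd_rfl)
      exact Nat.Coprime.pow_left _ ((Fact.out : u.Prime).coprime_iff_not_dvd.mpr fun hd =>
        not_dvd_iSup_O (hd.trans (Subgroup.orderOf_dvd_natCard _ hn)))
    rw [hn1, one_mul] at hyg
    -- then the part at `u`
    have hyo : Commute y o := hyu o ho
    have hiter : ∀ i : ℕ, y ^ i * g * (y ^ i)⁻¹ = o ^ i * g := by
      intro i
      induction i with
      | zero => simp
      | succ i ih =>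
        calc y ^ (i + 1) * g * (y ^ (i + 1))⁻¹ = y * (y ^ i * g * (y ^ i)⁻¹) * y⁻¹ := by rw [pow_succ']; group
          _ = (y * o ^ i) * g * y⁻¹ := by rw [ih]; group
          _ = o ^ i * (y * g * y⁻¹) := by rw [(hyo.pow_right i).eq]; group
          _ = o ^ (i + 1) * g := by rw [hyg, pow_succ, mul_assoc]
    have ho1 : o = 1 := by
      have h1 := hiter (orderOf y)
      rw [pow_orderOf_eq_one, inv_one, one_mul, mul_one] at h1
      have h2 : o ^ orderOf y = 1 := mul_eq_right.mp h1.symm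
      obtain ⟨a, ha⟩ := IsPGroup.iff_orderOf.mp (O_isPGroup (q := u) (K := M)) ⟨o, ho⟩
      obtain ⟨b, hb⟩ := IsPGroup.iff_orderOf.mp (O_isPGroup (q := v) (K := H)) ⟨y, hy⟩
      rw [Subgroup.orderOf_mk] at ha hb
      refine orderOf_eq_one_iff.mp (Nat.eq_one_of_dvd_coprimes (Nat.coprime_pow_primes a b Fact.out Fact.out huv)
        ha.dvd ?_)
      rw [← hb]
      exact orderOf_dvd_of_pow_eq_one h2
    rw [ho1, one_mul] at hyg
    exact mul_inv_eq_iff_eq_mul.mp hyg
  have hEm : IsMem 3 A θ E := gM.max.1.sub hEM (gM.max.1.inv.trans hEn)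
  have hEH : E ≤ H := gH.le_max h hvH hEm (hEc.trans (Subgroup.centralizer_le_normalizer _))
  have hOE : O u H ≤ E := by
    intro x hx
    obtain ⟨i, hi⟩ := IsPGroup.iff_orderOf.mp (O_isPGroup (q := u) (K := H)) ⟨x, hx⟩
    rw [Subgroup.orderOf_mk] at hi
    refine Subgroup.subset_closure ⟨Subgroup.mem_inf.mpr ⟨((O_le_fit Fact.out H).trans hHM) hx,
      Subgroup.mem_iInf.mpr fun r => ?_⟩, i, hi ▸ pow_orderOf_eq_one x⟩
    haveI := Fact.mk r.1.2
    exact (Subgroup.le_centralizer_iff.mp (cross h gM gH hHM r.2)) hx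
  exact (le_O hOE O_isPGroup (hEH.trans O_normal)).trans
    (le_O (O_le.trans hEM) O_isPGroup (pCore_normalizes (Subgroup.le_normalizer.trans hEn)))

/-- Several primes. -/
theorem eq_of_two {M H : Subgroup G} (gM : Good h M) (gH : Good h H) (hHM : fit H ≤ M) {u v : ℕ}
    (hu : u.Prime) (hv : v.Prime) (huv : u ≠ v) (huH : O u H ≠ ⊥) (hvH : O v H ≠ ⊥) : M = H := by
  haveI := Fact.mk hu
  haveI := Fact.mk hv
  have hMH : fit M ≤ H := fit_le_of fun r hr => by
    haveI := Fact.mk hr
    obtain ⟨w, hw, hwr, hwH⟩ : ∃ w : ℕ, w.Prime ∧ r ≠ w ∧ O w H ≠ ⊥ := by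
      by_cases e : r = u
      · exact ⟨v, hv, e ▸ huv, hvH⟩
      · exact ⟨u, hu, e, huH⟩
    haveI := Fact.mk hw
    exact gH.le_max h hwH (O_isMem h gM.max.1)
      ((cross h gM gH hHM hwr).trans (Subgroup.centralizer_le_normalizer _))
  have key : O u M = O u H := le_antisymm
    (core_le h gH gM hMH huv ((gM.prime v hv).mpr ((gH.prime v hv).mp hvH))) (core_le h gM gH hHM huv hvH)
  have huM : O u M ≠ ⊥ := key ▸ huH
  exact gH.max.2 M gM.max.1 (gM.le_max h huM gH.max.1 (key ▸ O_normal))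

/-- An invariant Sylow subgroup of a constrained maximal member is a maximal `q`-member. -/
theorem sylow_maxM {q : ℕ} [Fact q.Prime] {W : Subgroup G → Subgroup G} (hW : Kernel q W) {M : Subgroup G}
    (hM : Ctx.MaxMem 3 A θ M) (S : Sylow q M) (hSA : A ≤ normalizer ((S : Subgroup M).map M.subtype : Set G))
    (hn : M ≤ normalizer (W ((S : Subgroup M).map M.subtype) : Set G))
    (hne : W ((S : Subgroup M).map M.subtype) ≠ ⊥) : IsMaxM A θ q ((S : Subgroup M).map M.subtype) := by
  set T := (S : Subgroup M).map M.subtype with hT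
  refine ⟨hM.1.sub (Subgroup.map_subtype_le _) hSA, S.2.map _, fun R hR hRq hTR => ?_⟩
  by_contra hne'
  haveI : Group.IsNilpotent R := hRq.isNilpotent
  have hlt : T.subgroupOf R < ⊤ :=
    lt_top_iff_ne_top.mpr fun e => hne' (le_antisymm (Subgroup.subgroupOf_eq_top.mp e) hTR)
  obtain ⟨⟨x, hxR⟩, hxN, hxT⟩ := SetLike.exists_of_lt (Group.normalizerCondition_of_isNilpotent _ hlt)
  have hxn : x ∈ normalizer (T : Set G) :=
    Comp.mem_normalizer_of_maps fun d hd => (Subgroup.mem_normalizer_iff.mp hxN ⟨d, hTR hd⟩).mp hd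
  have hTW : normalizer (T : Set G) ≤ normalizer (W T : Set G) := fun g hg => by
    refine mp_conj_eq_iff.mp ?_
    have h1 : mp (MulAut.conj g) T = T := mp_conj_eq_iff.mpr hg
    rw [mp] at h1 ⊢
    rw [← hW.conj T (S.2.map _) g, h1]
  have hX : R ⊓ normalizer (T : Set G) ≤ M := h.le_max_of_normalizes hM
    (hM.1.sub ((hW.le T).trans (Subgroup.map_subtype_le _)) (hSA.trans hTW)) hne hn
    (hR.sub inf_le_left (inf_normalizes hR.inv fun a ha => Subgroup.le_normalizer (hSA ha)))
    (inf_le_right.trans hTW)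
  have hp : IsPGroup q ((R ⊓ normalizer (T : Set G)).subgroupOf M) := (hRq.to_le inf_le_left).comap_subtype
  have he := S.3 hp fun y hy => Subgroup.mem_inf.mpr
    ⟨hTR ⟨y, hy, rfl⟩, Subgroup.le_normalizer ⟨y, hy, rfl⟩⟩
  refine hxT ?_
  show x ∈ T
  exact ⟨⟨x, hX ⟨hxR, hxn⟩⟩, he.le (Subgroup.mem_inf.mpr ⟨hxR, hxn⟩), rfl⟩

/-- One prime. -/
theorem eq_of_one {M H : Subgroup G} (gM : Good h M) (gH : Good h H) {q : ℕ} [Fact q.Prime]
    (honly : ∀ r : ℕ, r.Prime → r ∣ Nat.card (fZero h) → r = q) (hq : q ∣ Nat.card (fZero h))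
    (hd : dfix h ≤ H) : M = H := by
  obtain ⟨W, hW⟩ := exists_kernel (G := G) (q := q)
  have data : ∀ X, Good h X → ∃ S : Sylow q X, IsMaxM A θ q ((S : Subgroup X).map X.subtype) ∧
      X ≤ normalizer (W ((S : Subgroup X).map X.subtype) : Set G) ∧ W ((S : Subgroup X).map X.subtype) ≠ ⊥ := by
    intro X gX
    have hfO : fit X ≤ O q X := fit_le_of fun r hr => by
      by_cases e : r = q
      · rw [e]
      · rw [show O r X = ⊥ from by_contra fun hne => e (honly r hr ((gX.prime r hr).mp hne))]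
        exact bot_le
    have hc : centralizer (pCore q ↥X : Set ↥X) ≤ pCore q ↥X := by
      intro x hx
      have h1 : (x : G) ∈ fit X := gX.con (Subgroup.mem_inf.mpr ⟨x.2, fun z hz => by
        obtain ⟨y, hy, rfl⟩ := hfO hz
        exact congrArg Subtype.val (hx y hy)⟩)
      obtain ⟨y, hy, e⟩ := hfO h1
      exact (Subtype.ext e : y = x) ▸ hy
    obtain ⟨S, hS⟩ := coprime_exists_invariant_sylow gX.max.1.inv (ea_coprime h.hA gX.max.1.not_dvd)
      (Or.inl (ea_solvable h.hA)) q
    have hn := hW.normal X gX.max.1.not_dvd hc S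
    have hne : W ((S : Subgroup X).map X.subtype) ≠ ⊥ := hW.ne_bot _ (S.2.map _) fun e =>
      (gX.prime q Fact.out).mpr hq (le_bot_iff.mp (e ▸ Subgroup.map_mono (pCore_le_sylow S)))
    exact ⟨S, sylow_maxM h hW gX.max S hS hn hne, hn, hne⟩
  obtain ⟨S, hS, hSn, hSne⟩ := data M gM
  obtain ⟨T, hT, hTn, hTne⟩ := data H gH
  obtain ⟨c, hc, e⟩ := transit h _ _ hS hT
  have hle : M.map (MulAut.conj c).toMonoidHom ≤ H := by
    refine h.le_max_of_normalizes gH.max
      (gH.max.1.sub ((hW.le _).trans (Subgroup.map_subtype_le _))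
        (hT.1.inv.trans fun g hg => mp_conj_eq_iff.mp (by
          have h1 : mp (MulAut.conj g) _ = _ := mp_conj_eq_iff.mpr hg
          rw [mp] at h1 ⊢
          rw [← hW.conj _ hT.2.1 g, h1]))) hTne hTn (conj_isMem h gM.max.1 hc) ?_
    rw [← e, hW.conj _ hS.2.1 c]
    rintro _ ⟨m, hm, rfl⟩
    refine Comp.mem_normalizer_of_maps ?_
    rintro _ ⟨w, hw, rfl⟩
    exact ⟨m * w * m⁻¹, (Subgroup.mem_normalizer_iff.mp (hSn hm) w).mp hw, by simp [mul_assoc]⟩
  refine (gM.max.2 H gH.max.1 fun m hm => ?_).symm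
  have h1 : c * m * c⁻¹ ∈ H := hle ⟨m, hm, rfl⟩
  have := mul_mem (mul_mem (inv_mem (hd hc)) h1) (hd hc)
  rwa [show c⁻¹ * (c * m * c⁻¹) * c = m by group] at this

end CfsgLib.SF23
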