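import Cfsg.Agent.Lib.SF23.Bender

/-!
Case I: the largest zero nilpotent normal subgroup contains its centralizer in the closure of the soluble
functor.  Then one maximal member contains every value.
-/

set_option autoImplicit false
set_option linter.unusedSectionVars false
set_option linter.style.haveILetI false

namespace CfsgLib.SF23

open Cfsg Subgroup CfsgLib.Signalizer CfsgLib.SolvSF
open CfsgLib.DihedralLemma (fit)

universe u
variable {G : Type u} [Group G] [Finite G] {A : Subgroup G} {θ : G → Subgroup G}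

theorem iSup_normalizes {ι : Sort*} {V : ι → Subgroup G} {U : Subgroup G}
    (hV : ∀ i, U ≤ normalizer (V i : Set G)) : U ≤ normalizer ((⨆ i, V i : Subgroup G) : Set G) := fun g hg => by
  refine mp_conj_eq_iff.mp ?_
  rw [mp, Subgroup.map_iSup]
  refine iSup_congr fun i => ?_
  exact mp_conj_eq_iff.mpr (hV i hg)

variable (h : Ctx 3 A θ)
include h

theorem caseI (hC : yCl h ⊓ centralizer (fZero h : Set G) ≤ fZero h) : False := by
  have hF0 := fZero_ne_bot h hC
  obtain ⟨hFy, hyF, hFA, -, hz⟩ := fZero_spec h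
  obtain ⟨M, hM, hMmax⟩ := h.exists_max_normalizing (fZero_mem h) hF0
  have hYM : yCl h ≤ M := hMmax _ (yCl_mem h) hyF
  have gM : Good h M := good_of h hC hM ((qfive_le_yCl h).trans hYM) (hFy.trans hYM)
  have plane : ∀ B : Subgroup G, B ≤ A → 3 < Nat.card B → ∀ b ∈ B, b ≠ 1 →
      θ b ⊓ centralizer (B : Set G) ≤ M := by
    intro B hB hB3 b hb hb1
    set W := ⨆ x : {x : G // x ∈ B ∧ x ≠ 1}, rv θ (x : G) with hW
    have hpt : ∀ x : {x : G // x ∈ B ∧ x ≠ 1}, Pt A (x : G) := fun x => ⟨hB x.2.1, x.2.2⟩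
    have hWA : A ≤ normalizer (W : Set G) :=
      iSup_normalizes fun x => le_normalizer_radS (theta_inv h.hθ (hpt x))
    have hWm : IsMem 3 A θ W := (yCl_mem h).sub (iSup_le fun x => rv_le_yCl h (hpt x)) hWA
    have hFW : fZero h ≤ W := le_of_fix h.hA hB hB3 (fZero_mem h).not_dvd hFA fun x hx hx1 =>
      (hz x ⟨hB hx, hx1⟩).trans (le_iSup (fun x : {x : G // x ∈ B ∧ x ≠ 1} => rv θ (x : G)) ⟨x, hx, hx1⟩)
    have hW1 : W ≠ ⊥ := fun e => hF0 (le_bot_iff.mp (hFW.trans e.le))
    obtain ⟨H, hH, hHmax⟩ := h.exists_max_normalizing hWm hW1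
    have hcmem : IsMem 3 A θ (θ b ⊓ centralizer (B : Set G)) :=
      (theta_isMem h.hθ ⟨hB hb, hb1⟩).sub inf_le_left
        (inf_normalizes (theta_inv h.hθ ⟨hB hb, hb1⟩) (le_normalizer_centralizer h.hA hB))
    have hcH : θ b ⊓ centralizer (B : Set G) ≤ H := hHmax _ hcmem <| iSup_normalizes fun x y hy => by
      refine self_normalizes_radS _ ?_
      exact balance h.hθ ⟨hB hb, hb1⟩ (hpt x)
        (Subgroup.mem_inf.mpr ⟨hy.1, Subgroup.centralizer_le (Set.singleton_subset_iff.mpr x.2.1) hy.2⟩)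
    have hdH : dfix h ≤ H :=
      (le_inf (dfix_le_theta h ⟨hB hb, hb1⟩) ((dfix_le_cent h).trans (Subgroup.centralizer_le hB))).trans hcH
    have gH : Good h H := good_of h hC hH ((qfive_le h).trans hdH) (hFW.trans (hHmax _ hWm Subgroup.le_normalizer))
    have hHM : fit H ≤ M := gH.fit_le_yCl.trans hYM
    obtain ⟨q, hq, hqd⟩ : ∃ q : ℕ, q.Prime ∧ q ∣ Nat.card (fZero h) :=
      Nat.exists_prime_and_dvd fun e => hF0 (Subgroup.eq_bot_of_card_eq _ e)
    haveI := Fact.mk hq
    suffices e : M = H from e ▸ hcH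
    by_cases honly : ∀ r : ℕ, r.Prime → r ∣ Nat.card (fZero h) → r = q
    · exact eq_of_one h gM gH honly hqd hdH
    · push Not at honly
      obtain ⟨r, hr, hrd, hrq⟩ := honly
      exact eq_of_two h gM gH hHM hr hq hrq ((gH.prime r hr).mpr hrd) ((gH.prime q hq).mpr hqd)
  refine h.ncomplete ⟨M, hM.1, fun g hg => ?_⟩
  have hg' : (⟨g, hg.1⟩ : A) ∉ (⊥ : Subgroup A) := fun e =>
    hg.2 (congrArg Subtype.val (Subgroup.mem_bot.mp e))
  obtain ⟨D, -, hgD, hD⟩ := exists_avoid (act_cube h.hA) (act_comm h.hA) hg'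
  refine le_of_fix h.hA (Subgroup.map_subtype_le D) ?_ (theta_not_dvd h.hθ hg) (theta_inv h.hθ hg) ?_
  · rw [Subgroup.card_map_of_injective A.subtype_injective]
    rw [h.hA3] at hD
    omega
  rintro _ ⟨d, hd, rfl⟩ hd1
  set B := zpowers g ⊔ zpowers (d : G) with hBdef
  have hog : Nat.card (zpowers g) = 3 := by
    rw [Nat.card_zpowers]
    exact orderOf_eq_prime_of_ea h.hA hg.1 hg.2
  have hB3 : 3 < Nat.card B := by
    rcases (hog ▸ Subgroup.card_le_of_le (le_sup_left : zpowers g ≤ B) : 3 ≤ Nat.card B).lt_or_eq with h' | h'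
    · exact h'
    · exfalso
      have e : zpowers g = B := Subgroup.eq_of_le_of_card_ge le_sup_left (by rw [hog, h'])
      have hdg : (d : G) ∈ zpowers g := e.ge (Subgroup.mem_sup_right (mem_zpowers _))
      have heq : zpowers (d : G) = zpowers g := Subgroup.eq_of_le_of_card_ge (Subgroup.zpowers_le.mpr hdg)
        (by rw [hog, Nat.card_zpowers, orderOf_eq_prime_of_ea h.hA d.2 hd1])
      obtain ⟨i, hi⟩ := Subgroup.mem_zpowers_iff.mp (heq.ge (mem_zpowers g))
      refine hgD ?_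
      have hmem : (d : A) ^ i ∈ D := zpow_mem hd i
      exact (Subtype.ext (by rw [Subgroup.coe_zpow]; exact hi) : d ^ i = ⟨g, hg.1⟩) ▸ hmem
  refine le_trans ?_ (plane B (sup_le (Subgroup.zpowers_le.mpr hg.1) (Subgroup.zpowers_le.mpr d.2)) hB3 g
    (Subgroup.mem_sup_left (mem_zpowers g)) hg.2)
  refine le_inf inf_le_left ?_
  rw [hBdef, Subgroup.le_centralizer_iff]
  refine sup_le (Subgroup.zpowers_le.mpr fun x hx => ?_) (Subgroup.zpowers_le.mpr fun x hx => ?_)
  · exact Subgroup.mem_centralizer_singleton_iff.mp (theta_le_cent h.hθ hg hx.1)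
  · exact Subgroup.mem_centralizer_singleton_iff.mp hx.2

end CfsgLib.SF23
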