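import Cfsg.Agent.Lib.SF23.Radical
import Mathlib

/-!
A group with trivial soluble radical: the layer as a product of its components, and automorphisms
permuting the components.
-/

set_option autoImplicit false
set_option linter.unusedSectionVars false
set_option linter.style.haveILetI false

namespace CfsgLib.SF23

open Cfsg Subgroup

universe u
variable {H : Type u} [Group H] [Finite H]

/-- The image of a subgroup under an automorphism. -/
def mp (e : MulAut H) (K : Subgroup H) : Subgroup H := K.map e.toMonoidHom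

theorem mem_mp {e : MulAut H} {K : Subgroup H} {x : H} (hx : x ∈ K) : e x ∈ mp e K := ⟨x, hx, rfl⟩

theorem mp_mem_iff {e : MulAut H} {K : Subgroup H} {x : H} : e x ∈ mp e K ↔ x ∈ K :=
  Subgroup.mem_map_iff_mem e.injective

theorem mp_one (K : Subgroup H) : mp (1 : MulAut H) K = K := K.map_id

theorem mp_mul (e d : MulAut H) (K : Subgroup H) : mp (e * d) K = mp e (mp d K) := by
  rw [mp, mp, mp, Subgroup.map_map]
  rfl

theorem mp_injective (e : MulAut H) : Function.Injective (mp e) :=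
  Subgroup.map_injective e.injective

theorem mp_comp {e : MulAut H} {K : Subgroup H} (hK : IsComponent K) : IsComponent (mp e K) :=
  CfsgLib.isComponent_map_equiv e hK

theorem mp_layer (e : MulAut H) {x : H} (hx : x ∈ layer H) : e x ∈ layer H :=
  (CfsgLib.map_layer_equiv e).le ⟨x, hx, rfl⟩

theorem mp_inv_cancel (e : MulAut H) (K : Subgroup H) : mp e (mp e⁻¹ K) = K := by
  rw [← mp_mul, mul_inv_cancel, mp_one]

theorem mp_conj_eq_iff {x : H} {K : Subgroup H} :
    mp (MulAut.conj x) K = K ↔ x ∈ normalizer (K : Set H) := by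
  constructor
  · intro h
    refine Subgroup.mem_normalizer_iff.mpr fun k => ?_
    constructor
    · intro hk
      exact h.le ⟨k, hk, rfl⟩
    · intro hk
      obtain ⟨k', hk', e⟩ := h.ge hk
      rwa [(MulAut.conj x).injective (show MulAut.conj x k' = MulAut.conj x k from e)] at hk'
  · intro h
    refine le_antisymm ?_ fun k hk => ?_
    · rintro _ ⟨k, hk, rfl⟩
      exact (Subgroup.mem_normalizer_iff.mp h k).mp hk
    · refine ⟨x⁻¹ * k * x, (Subgroup.mem_normalizer_iff'' (g := x)).mp h k |>.mp hk, ?_⟩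
      show x * (x⁻¹ * k * x) * x⁻¹ = k
      group

theorem layer_induction {P : H → Prop} {x : H} (hx : x ∈ layer H)
    (hp : ∀ K, IsComponent K → ∀ y ∈ K, P y) (h1 : P 1) (hmul : ∀ a b, P a → P b → P (a * b)) : P x := by
  rw [layer, sSup_eq_iSup'] at hx
  exact Subgroup.iSup_induction (C := P) _ hx (fun K y hy => hp K K.2 y hy) h1 hmul

section Trivial

variable (hR : solvableRadical H = ⊥)
include hR

theorem comp_center {K : Subgroup H} (hK : IsComponent K) {a : H} (ha : a ∈ K)
    (hc : ∀ k ∈ K, k * a = a * k) : a = 1 := by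
  have h : (⟨a, ha⟩ : K) ∈ center K := Subgroup.mem_center_iff.mpr fun k => Subtype.ext (hc k k.2)
  rw [component_center_bot hR hK, Subgroup.mem_bot] at h
  exact congrArg Subtype.val h

theorem comp_commute {K L : Subgroup H} (hK : IsComponent K) (hL : IsComponent L) (hne : K ≠ L)
    {a b : H} (ha : a ∈ K) (hb : b ∈ L) : a * b = b * a :=
  (Subgroup.commutator_eq_bot_iff_le_centralizer.mp
    ((CfsgLib.components_eq_or_commute hK hL).resolve_left hne) ha b hb).symm

theorem eq_one_of_centralizes {x : H} (h : ∀ K, IsComponent K → ∀ k ∈ K, k * x = x * k) : x = 1 := by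
  have hx : x ∈ centralizer (layer H : Set H) := by
    intro y hy
    refine layer_induction (P := fun y => y * x = x * y) hy h (by simp) fun a b ha hb => ?_
    rw [mul_assoc, hb, ← mul_assoc, ha, mul_assoc]
  rwa [centralizer_layer_bot hR, Subgroup.mem_bot] at hx

theorem comp_inter {K L : Subgroup H} (hK : IsComponent K) (hL : IsComponent L) (hne : K ≠ L)
    {a : H} (ha : a ∈ K) (hb : a ∈ L) : a = 1 :=
  comp_center hR hK ha fun _ hk => comp_commute hR hK hL hne hk hb

theorem layer_split {K : Subgroup H} (hK : IsComponent K) {x : H} (hx : x ∈ layer H) :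
    ∃ k ∈ K, ∀ l ∈ K, l * (k⁻¹ * x) = (k⁻¹ * x) * l := by
  refine layer_induction (P := fun x => ∃ k ∈ K, ∀ l ∈ K, l * (k⁻¹ * x) = (k⁻¹ * x) * l) hx
    (fun L hL y hy => ?_) ⟨1, one_mem _, fun l _ => by simp⟩ fun a b iha ihb => ?_
  · rcases eq_or_ne L K with rfl | hne
    · exact ⟨y, hy, fun l _ => by simp⟩
    · exact ⟨1, one_mem _, fun l hl => by simpa using comp_commute hR hK hL (Ne.symm hne) hl hy⟩
  · obtain ⟨k, hk, hck⟩ := iha
    obtain ⟨k', hk', hck'⟩ := ihb
    refine ⟨k * k', mul_mem hk hk', fun l hl => ?_⟩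
    have e : (k * k')⁻¹ * (a * b) = (k⁻¹ * a) * (k'⁻¹ * b) := by
      have h1 := hck _ (inv_mem hk')
      calc (k * k')⁻¹ * (a * b) = k'⁻¹ * (k⁻¹ * a) * b := by group
        _ = (k⁻¹ * a) * k'⁻¹ * b := by rw [h1]
        _ = (k⁻¹ * a) * (k'⁻¹ * b) := by group
    rw [e, ← mul_assoc, hck l hl, mul_assoc, hck' l hl, ← mul_assoc]

theorem split_unique {K : Subgroup H} (hK : IsComponent K) {x k k' : H} (hk : k ∈ K) (hk' : k' ∈ K)
    (h : ∀ l ∈ K, l * (k⁻¹ * x) = (k⁻¹ * x) * l) (h' : ∀ l ∈ K, l * (k'⁻¹ * x) = (k'⁻¹ * x) * l) :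
    k = k' := by
  have : k'⁻¹ * k = 1 := by
    refine comp_center hR hK (mul_mem (inv_mem hk') hk) fun l hl => ?_
    have e : k'⁻¹ * k = (k'⁻¹ * x) * (k⁻¹ * x)⁻¹ := by group
    rw [e, ← mul_assoc, h' l hl, mul_assoc (k'⁻¹ * x), mul_assoc (k'⁻¹ * x)]
    congr 1
    have h2 := h l hl
    calc l * (k⁻¹ * x)⁻¹ = (k⁻¹ * x)⁻¹ * ((k⁻¹ * x) * l) * (k⁻¹ * x)⁻¹ := by group
      _ = (k⁻¹ * x)⁻¹ * (l * (k⁻¹ * x)) * (k⁻¹ * x)⁻¹ := by rw [h2]
      _ = (k⁻¹ * x)⁻¹ * l := by group
  exact (inv_mul_eq_one.mp this).symm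

end Trivial

open Classical in
/-- The coordinate of an element of the layer at a component. -/
noncomputable def prj (K : Subgroup H) (x : H) : H :=
  if h : ∃ k ∈ K, ∀ l ∈ K, l * (k⁻¹ * x) = (k⁻¹ * x) * l then h.choose else 1

theorem prj_mem (K : Subgroup H) (x : H) : prj K x ∈ K := by
  rw [prj]
  split
  · next h => exact h.choose_spec.1
  · exact one_mem _

section Trivial

variable (hR : solvableRadical H = ⊥)
include hR

theorem prj_eq {K : Subgroup H} (hK : IsComponent K) {x k : H} (hk : k ∈ K)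
    (h : ∀ l ∈ K, l * (k⁻¹ * x) = (k⁻¹ * x) * l) : prj K x = k := by
  rw [prj, dif_pos ⟨k, hk, h⟩]
  have hs := (Exists.intro k ⟨hk, h⟩ : ∃ k ∈ K, ∀ l ∈ K, l * (k⁻¹ * x) = (k⁻¹ * x) * l).choose_spec
  exact split_unique hR hK hs.1 hk hs.2 h

theorem prj_spec {K : Subgroup H} (hK : IsComponent K) {x : H} (hx : x ∈ layer H) :
    ∀ l ∈ K, l * ((prj K x)⁻¹ * x) = ((prj K x)⁻¹ * x) * l := by
  obtain ⟨k, hk, h⟩ := layer_split hR hK hx
  rw [prj_eq hR hK hk h]
  exact h

theorem prj_mul {K : Subgroup H} (hK : IsComponent K) {x y : H} (hx : x ∈ layer H) (hy : y ∈ layer H) :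
    prj K (x * y) = prj K x * prj K y := by
  refine prj_eq hR hK (mul_mem (prj_mem K x) (prj_mem K y)) fun l hl => ?_
  have h1 := prj_spec hR hK hx
  have h2 := prj_spec hR hK hy
  set a := prj K x
  set b := prj K y
  have e : (a * b)⁻¹ * (x * y) = (a⁻¹ * x) * (b⁻¹ * y) := by
    calc (a * b)⁻¹ * (x * y) = b⁻¹ * (a⁻¹ * x) * y := by group
      _ = (a⁻¹ * x) * b⁻¹ * y := by rw [h1 _ (inv_mem (prj_mem K y))]
      _ = (a⁻¹ * x) * (b⁻¹ * y) := by group
  rw [e, ← mul_assoc, h1 l hl, mul_assoc, h2 l hl, ← mul_assoc]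

theorem prj_one {K : Subgroup H} (hK : IsComponent K) : prj K (1 : H) = 1 :=
  prj_eq hR hK (one_mem _) fun l _ => by simp

theorem prj_inv {K : Subgroup H} (hK : IsComponent K) {x : H} (hx : x ∈ layer H) :
    prj K x⁻¹ = (prj K x)⁻¹ := by
  refine eq_inv_of_mul_eq_one_left ?_
  rw [← prj_mul hR hK (inv_mem hx) hx, inv_mul_cancel, prj_one hR hK]

theorem prj_self {K : Subgroup H} (hK : IsComponent K) {x : H} (hx : x ∈ K) : prj K x = x :=
  prj_eq hR hK hx fun l _ => by simp

theorem prj_other {K L : Subgroup H} (hK : IsComponent K) (hL : IsComponent L) (hne : K ≠ L) {x : H}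
    (hx : x ∈ L) : prj K x = 1 :=
  prj_eq hR hK (one_mem _) fun l hl => by simpa using comp_commute hR hK hL hne hl hx

theorem prj_of_centralizes {K : Subgroup H} (hK : IsComponent K) {x : H}
    (h : ∀ l ∈ K, l * x = x * l) : prj K x = 1 :=
  prj_eq hR hK (one_mem _) fun l hl => by simpa using h l hl

theorem prj_map (e : MulAut H) {K : Subgroup H} (hK : IsComponent K) {x : H} (hx : x ∈ layer H) :
    prj (mp e K) (e x) = e (prj K x) := by
  refine prj_eq hR (mp_comp hK) (mem_mp (prj_mem K x)) ?_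
  rintro _ ⟨l, hl, rfl⟩
  show e l * ((e (prj K x))⁻¹ * e x) = (e (prj K x))⁻¹ * e x * e l
  rw [← map_inv, ← map_mul, ← map_mul, ← map_mul, prj_spec hR hK hx l hl]

theorem layer_ext {x y : H} (hx : x ∈ layer H) (hy : y ∈ layer H)
    (h : ∀ K, IsComponent K → prj K x = prj K y) : x = y := by
  have hxy : x⁻¹ * y ∈ layer H := mul_mem (inv_mem hx) hy
  refine inv_mul_eq_one.mp (eq_one_of_centralizes hR fun K hK k hk => ?_)
  have h1 := prj_spec hR hK hxy k hk
  rwa [prj_mul hR hK (inv_mem hx) hy, prj_inv hR hK hx, h K hK, inv_mul_cancel, inv_one, one_mul] at h1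

/-- Every family of coordinates is realised in the layer. -/
theorem exists_prj (v : Subgroup H → H) (hv : ∀ K, IsComponent K → v K ∈ K) :
    ∃ x ∈ layer H, ∀ K, IsComponent K → prj K x = v K := by
  classical
  haveI := Fintype.ofFinite (Subgroup H)
  suffices h : ∀ S : Finset (Subgroup H), (∀ K ∈ S, IsComponent K) →
      ∃ x ∈ layer H, ∀ K, IsComponent K → prj K x = if K ∈ S then v K else 1 by
    obtain ⟨x, hx, hp⟩ := h (Finset.univ.filter fun K => IsComponent K) fun K hK => (Finset.mem_filter.mp hK).2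
    exact ⟨x, hx, fun K hK => by rw [hp K hK, if_pos (Finset.mem_filter.mpr ⟨Finset.mem_univ K, hK⟩)]⟩
  intro S hS
  induction S using Finset.induction_on with
  | empty => exact ⟨1, one_mem _, fun K hK => by rw [prj_one hR hK, if_neg (Finset.notMem_empty K)]⟩
  | insert L S hLS ih =>
    obtain ⟨x, hx, hp⟩ := ih fun K hK => hS K (Finset.mem_insert_of_mem hK)
    have hL := hS L (Finset.mem_insert_self L S)
    have hvL := CfsgLib.le_layer hL (hv L hL)
    refine ⟨x * v L, mul_mem hx hvL, fun K hK => ?_⟩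
    rw [prj_mul hR hK hx hvL, hp K hK]
    rcases eq_or_ne K L with rfl | hne
    · rw [if_neg hLS, one_mul, prj_self hR hK (hv _ hK), if_pos (Finset.mem_insert_self _ _)]
    · rw [prj_other hR hK hL hne (hv L hL), mul_one]
      simp [Finset.mem_insert, hne]

theorem layer_mul_comm_prj {K : Subgroup H} (hK : IsComponent K) {x : H} (hx : x ∈ layer H) {k : H}
    (hk : k ∈ K) : x * k * x⁻¹ = prj K x * k * (prj K x)⁻¹ := by
  have h := prj_spec hR hK hx k hk
  set a := prj K x
  calc x * k * x⁻¹ = a * ((a⁻¹ * x) * k) * x⁻¹ := by group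
    _ = a * (k * (a⁻¹ * x)) * x⁻¹ := by rw [h]
    _ = a * k * a⁻¹ := by group

theorem layer_le_normalizer {K : Subgroup H} (hK : IsComponent K) {x : H} (hx : x ∈ layer H) :
    x ∈ normalizer (K : Set H) := by
  refine Subgroup.mem_normalizer_fintype fun k hk => ?_
  show x * k * x⁻¹ ∈ K
  rw [layer_mul_comm_prj hR hK hx hk]
  exact mul_mem (mul_mem (prj_mem K x) hk) (inv_mem (prj_mem K x))

end Trivial

end CfsgLib.SF23
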