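import Cfsg.Agent.Lib.SF23.CubicBorel
import Cfsg.Agent.Lib.SF23.Suz

/-!
Cubic elements of odd prime order centralising an element of order five act trivially on the modules
of a perfect central extension of a Suzuki group.

Blueprint: `blueprint/S1919.md`, section 4; pieces file, P2.
-/

set_option autoImplicit false
set_option linter.unusedSectionVars false
set_option linter.style.haveILetI false

namespace CfsgLib.SF23

open Cfsg CfsgLib.Suzuki Module

universe u v w

namespace Cub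

variable {k : Type} [Field k] {Γ : Type u} [Group Γ] [Finite Γ]

/-- The invariance subgroup of a submodule. -/
def invSub {M : Type v} [AddCommGroup M] [Module k M] (ρ : Γ →* Module.End k M) (P : Submodule k M) :
    Subgroup Γ where
  carrier := {g | Inv (ρ g) P ∧ Inv (ρ g⁻¹) P}
  one_mem' := by
    refine ⟨?_, ?_⟩ <;> simp [Inv]
  mul_mem' := fun {a b} ha hb => ⟨fun x hx => by rw [map_mul]; exact ha.1 _ (hb.1 x hx),
    fun x hx => by rw [_root_.mul_inv_rev, map_mul]; exact hb.2 _ (ha.2 x hx)⟩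
  inv_mem' := fun {a} ha => ⟨ha.2, by rw [inv_inv]; exact ha.1⟩

theorem pow_inv {M : Type v} [AddCommGroup M] [Module k M] (ρ : Γ →* Module.End k M) {P : Submodule k M} {g : Γ}
    (h : Inv (ρ g) P) : g ∈ invSub ρ P := by
  refine ⟨h, ?_⟩
  obtain ⟨l, hl⟩ : g⁻¹ ∈ Submonoid.powers g := by
    rw [mem_powers_iff_mem_zpowers]
    exact inv_mem (Subgroup.mem_zpowers g)
  change g ^ l = g⁻¹ at hl
  rw [← hl, map_pow]
  exact h.pow l

section green

variable {M : Type v} [AddCommGroup M] [Module k M] [FiniteDimensional k M] [Nontrivial M] [IsAlgClosed k]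

/-- An irreducible module has no splitting over a subgroup meeting the orbit condition of a cubic element. -/
theorem no_split {r : ℕ} [Fact r.Prime] [CharP k r] (hr : 5 ≤ r) {ρ : Γ →* Module.End k M} (hirr : Irred ρ)
    (N : Subgroup Γ) {z : Γ} (hzN : z ∈ N) (hZ : (ρ z - 1) ^ 3 = 0) (hzr : z ^ r ∈ Subgroup.center Γ ⊓ N)
    (hfree : ∀ g, g ∉ N → ∀ i, 0 < i → i < r → g⁻¹ * z ^ i * g ∉ N) (P R : Submodule k M) (hPR : IsCompl P R)
    (hP : ∀ n ∈ N, Inv (ρ n) P) (hR : ∀ n ∈ N, Inv (ρ n) R) : P = ⊥ ∨ R = ⊥ := by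
  classical
  haveI : Fintype (Γ ⧸ N) := Fintype.ofFinite _
  set f : Module.End k M := P.subtype ∘ₗ P.projectionOnto R hPR with hf
  have hfP : ∀ x ∈ P, f x = x := fun x hx => by
    simp only [hf, LinearMap.comp_apply]
    rw [Submodule.linearProjOfIsCompl_apply_left hPR ⟨x, hx⟩]
    rfl
  have hfR : ∀ x ∈ R, f x = 0 := fun x hx => by
    simp only [hf, LinearMap.comp_apply]
    rw [Submodule.linearProjOfIsCompl_apply_right hPR ⟨x, hx⟩, map_zero]
  have hfN : ∀ n ∈ N, Commute (ρ n) f := fun n hn => LinearMap.ext fun x => by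
    obtain ⟨y, hy, w, hw, rfl⟩ := Submodule.mem_sup.1 (hPR.sup_eq_top.ge (Submodule.mem_top (x := x)))
    simp only [Module.End.mul_apply, map_add]
    rw [hfP _ (hP n hn y hy), hfR _ (hR n hn w hw), hfP y hy, hfR w hw, map_zero]
  set F : Γ ⧸ N → Module.End k M := fun q => ρ q.out * f * ρ q.out⁻¹ with hFdef
  have hFg : ∀ (g : Γ) (q : Γ ⧸ N), F (g • q) = ρ g * F q * ρ g⁻¹ := by
    intro g q
    have hn : (g * q.out)⁻¹ * (g • q).out ∈ N := by
      rw [← QuotientGroup.eq, QuotientGroup.out_eq']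
      conv_rhs => rw [← QuotientGroup.out_eq' q]
      rfl
    set n := (g * q.out)⁻¹ * (g • q).out
    have e : (g • q).out = g * q.out * n := (mul_inv_cancel_left _ _).symm
    simp only [hFdef, e, map_mul, _root_.mul_inv_rev]
    have h1 : ρ n * f * ρ n⁻¹ = f := by
      rw [(hfN n hn).eq, mul_assoc, ← map_mul, mul_inv_cancel, map_one, mul_one]
    calc ρ g * ρ q.out * ρ n * f * (ρ n⁻¹ * (ρ q.out⁻¹ * ρ g⁻¹))
        = ρ g * ρ q.out * (ρ n * f * ρ n⁻¹) * (ρ q.out⁻¹ * ρ g⁻¹) := by simp only [mul_assoc]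
      _ = _ := by rw [h1]; simp only [mul_assoc]
  obtain ⟨lam, hlam⟩ := scalar_of_commute hirr (X := ∑ q, F q) fun g => by
    have h : ρ g * (∑ q, F q) * ρ g⁻¹ = ∑ q, F q := by
      rw [Finset.mul_sum, Finset.sum_mul, Finset.sum_congr rfl fun q _ => (hFg g q).symm]
      exact Equiv.sum_comp (MulAction.toPerm g) F
    calc ρ g * (∑ q, F q) = ρ g * (∑ q, F q) * ρ g⁻¹ * ρ g := by
          rw [mul_assoc _ (ρ g⁻¹), ← map_mul, inv_mul_cancel, map_one, mul_one]
      _ = (∑ q, F q) * ρ g := by rw [h]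
  set q₀ : Γ ⧸ N := ((1 : Γ) : Γ ⧸ N) with hq₀
  have hF0 : F q₀ = f := by
    have hn : q₀.out ∈ N := by
      have := QuotientGroup.out_eq' q₀
      rwa [hq₀, QuotientGroup.eq, mul_one, inv_mem_iff] at this
    simp only [hFdef]
    rw [(hfN _ hn).eq, mul_assoc, ← map_mul, mul_inv_cancel, map_one, mul_one]
  have hzpow : ∀ (i : ℕ) (q : Γ ⧸ N), (fun q => z • q)^[i] q = z ^ i • q := fun i q => by
    rw [smul_iterate]
  have hfix0 : ∀ g ∈ N, g • q₀ = q₀ := fun g hg => by
    show ((g * 1 : Γ) : Γ ⧸ N) = ((1 : Γ) : Γ ⧸ N)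
    rw [QuotientGroup.eq, mul_one, mul_one]
    exact N.inv_mem hg
  have hZr : ρ z ^ r = 1 := by
    haveI : Nontrivial (Module.End k M) := by
      obtain ⟨x, hx⟩ := exists_ne (0 : M)
      exact ⟨1, 0, fun e => hx (LinearMap.congr_fun e x)⟩
    haveI : CharP (Module.End k M) r :=
      charP_of_injective_algebraMap (algebraMap k (Module.End k M)).injective r
    have h : (ρ z - 1) ^ r = 0 := pow_eq_zero_of_le (by omega) hZ
    rwa [sub_pow_char_of_commute r (Commute.one_right _), one_pow, sub_eq_zero] at h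
  let S : AddSubmonoid (Module.End k M) :=
    { carrier := {X | ∃ h', X = (ρ z - 1) ^ 2 * h'}
      zero_mem' := ⟨0, (mul_zero _).symm⟩
      add_mem' := fun {a b} ⟨h, e⟩ ⟨h', e'⟩ => ⟨h + h', by rw [mul_add, e, e']⟩ }
  obtain ⟨h', hh'⟩ : ∑ q ∈ Finset.univ.erase q₀, F q ∈ S := by
    refine sum_mem_of_free S (fun q => z • q) r F (fun q => ?_) (fun q => ?_) _ (fun q hq => ?_)
      (fun q hq i hi0 hir h => ?_) (Fact.out : r.Prime).pos
    · rw [hzpow]
      obtain ⟨hc, hn⟩ := hzr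
      conv_lhs => rw [← QuotientGroup.out_eq' q]
      conv_rhs => rw [← QuotientGroup.out_eq' q]
      show ((z ^ r * q.out : Γ) : Γ ⧸ N) = _
      rw [QuotientGroup.eq, _root_.mul_inv_rev, mul_assoc,
        show (z ^ r)⁻¹ * q.out = q.out * (z ^ r)⁻¹ from
          (Subgroup.mem_center_iff.1 (inv_mem hc) q.out).symm, inv_mul_cancel_left]
      exact N.inv_mem hn
    · obtain ⟨h', e⟩ := conj_sum_mem (k := k) (r := r) hr (Z := ρ z) (Z' := ρ z⁻¹)
        (by rw [← map_mul, mul_inv_cancel, map_one]) (by rw [← map_mul, inv_mul_cancel, map_one]) hZ (F q)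
      refine ⟨h', ?_⟩
      rw [← e]
      refine Finset.sum_congr rfl fun i _ => ?_
      rw [hzpow, hFg, map_pow, ← inv_pow, map_pow]
    · refine Finset.mem_erase.2 ⟨fun e => (Finset.mem_erase.1 hq).1 ?_, Finset.mem_univ _⟩
      exact smul_left_cancel z (e.trans (hfix0 z hzN).symm)
    · rw [hzpow] at h
      refine hfree q.out (fun hc => (Finset.mem_erase.1 hq).1 ?_) i hi0 hir ?_
      · rw [← QuotientGroup.out_eq' q, hq₀, QuotientGroup.eq, mul_one]
        exact N.inv_mem hc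
      · rw [← QuotientGroup.out_eq' q] at h
        have h' : ((z ^ i * q.out : Γ) : Γ ⧸ N) = (q.out : Γ ⧸ N) := h
        have := QuotientGroup.eq.1 h'.symm
        rwa [← mul_assoc] at this
  have key : ∀ x, f x - lam • x ∈ LinearMap.range ((ρ z - 1) ^ 2) := by
    intro x
    have h := LinearMap.congr_fun hlam x
    rw [← Finset.add_sum_erase _ _ (Finset.mem_univ q₀), hF0, hh', LinearMap.add_apply,
      Module.End.mul_apply, LinearMap.smul_apply, Module.End.one_apply] at h
    rw [← h, sub_add_cancel_left]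
    exact neg_mem (LinearMap.mem_range_self _ _)
  have h3 : ∀ x : M, (((ρ z - 1) ^ 4 : Module.End k M)) x = 0 := fun x => by
    rw [pow_eq_zero_of_le (by norm_num) hZ, LinearMap.zero_apply]
  have fin : ∀ A B : Submodule k M, IsCompl A B → (∀ n ∈ N, Inv (ρ n) A) → (∀ n ∈ N, Inv (ρ n) B) →
      (∀ x ∈ A, x ∈ LinearMap.range ((ρ z - 1) ^ 2)) → A = ⊥ := by
    intro A B hAB hA hB hle
    set D := (ρ z - 1) ^ 2 with hD
    have hDA : Inv D A := by
      rw [hD]
      exact Inv.pow (fun x hx => by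
        rw [LinearMap.sub_apply, Module.End.one_apply]; exact A.sub_mem (hA z hzN x hx) hx) 2
    have hDB : Inv D B := by
      rw [hD]
      exact Inv.pow (fun x hx => by
        rw [LinearMap.sub_apply, Module.End.one_apply]; exact B.sub_mem (hB z hzN x hx) hx) 2
    have step : ∀ x ∈ A, ∃ y ∈ A, D y = x := by
      intro x hx
      obtain ⟨y, hy⟩ := hle x hx
      obtain ⟨a, ha, b, hb, rfl⟩ := Submodule.mem_sup.1 (hAB.sup_eq_top.ge (Submodule.mem_top (x := y)))
      refine ⟨a, ha, ?_⟩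
      rw [map_add] at hy
      have h0 : D b = 0 := Submodule.disjoint_def.1 hAB.disjoint _
        (by rw [show D b = x - D a by rw [← hy]; abel]; exact A.sub_mem hx (hDA a ha)) (hDB b hb)
      rwa [h0, add_zero] at hy
    rw [eq_bot_iff]
    intro x hx
    obtain ⟨y, hy, rfl⟩ := step x hx
    obtain ⟨y', -, rfl⟩ := step y hy
    rw [Submodule.mem_bot, hD, ← Module.End.mul_apply, ← pow_add]
    exact h3 y'
  by_cases hl : lam = 0
  · refine Or.inl (fin P R hPR hP hR fun x hx => ?_)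
    have := key x
    rwa [hfP x hx, hl, zero_smul, sub_zero] at this
  · refine Or.inr (fin R P hPR.symm hR hP fun x hx => ?_)
    have := key x
    rw [hfR x hx, zero_sub, neg_mem_iff] at this
    exact (Submodule.smul_mem_iff _ hl).1 this

end green

/-- Triviality follows from triviality of the irreducible constituents. -/
theorem trivial_of_irred (hperf : commutator Γ = ⊤) {z : Γ}
    (hirr : ∀ (M : Type v) [AddCommGroup M] [Module k M] [FiniteDimensional k M] [Nontrivial M]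
      (ρ : Γ →* Module.End k M), Irred ρ → (ρ z - 1) ^ 3 = 0 → ∀ g, ρ g = 1) :
    ∀ (n : ℕ) (M : Type v) [AddCommGroup M] [Module k M] [FiniteDimensional k M]
      (ρ : Γ →* Module.End k M), finrank k M ≤ n → (ρ z - 1) ^ 3 = 0 → ∀ g, ρ g = 1 := by
  intro n
  induction n with
  | zero =>
    intro M _ _ _ ρ h _ g
    haveI : Subsingleton M := Module.finrank_zero_iff.1 (Nat.le_zero.1 h)
    exact LinearMap.ext fun x => Subsingleton.elim _ _
  | succ n ih =>
    intro M _ _ _ ρ h hc g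
    rcases subsingleton_or_nontrivial M with hM | hM
    · exact LinearMap.ext fun x => Subsingleton.elim _ _
    by_cases hi : Irred ρ
    · exact hirr M ρ hi hc g
    simp only [Irred, not_forall, not_or] at hi
    obtain ⟨W, hW, hW0, hW1⟩ := hi
    let ρW : Γ →* Module.End k W :=
      { toFun := fun g => (ρ g).restrict (hW g)
        map_one' := LinearMap.ext fun x => Subtype.ext (by simp)
        map_mul' := fun a b => LinearMap.ext fun x => Subtype.ext (by show ρ (a * b) (x : M) = ρ a (ρ b (x : M)); rw [map_mul]; rfl) }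
    let ρQ : Γ →* Module.End k (M ⧸ W) :=
      { toFun := fun g => W.mapQ W (ρ g) (hW g)
        map_one' := by
          refine Submodule.linearMap_qext _ (LinearMap.ext fun x => ?_)
          simp
        map_mul' := fun a b => by
          refine Submodule.linearMap_qext _ (LinearMap.ext fun x => ?_)
          simp only [map_mul]
          rfl }
    have hDW : ∀ (i : ℕ) (x : W), (((ρW z - 1) ^ i) x : M) = ((ρ z - 1) ^ i) (x : M) := by
      intro i
      induction i with
      | zero => exact fun x => rfl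
      | succ i ihi =>
        intro x
        rw [pow_succ, pow_succ, Module.End.mul_apply, Module.End.mul_apply, ihi]
        rfl
    have hDQ : ∀ (i : ℕ) (x : M), ((ρQ z - 1) ^ i) (W.mkQ x) = W.mkQ (((ρ z - 1) ^ i) x) := by
      intro i
      induction i with
      | zero => exact fun x => rfl
      | succ i ihi =>
        intro x
        rw [pow_succ, pow_succ, Module.End.mul_apply, Module.End.mul_apply, ← ihi]
        rfl
    have hlt : finrank k W < finrank k M := Submodule.finrank_lt hW1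
    have hpos : 0 < finrank k W := Nat.pos_of_ne_zero fun e => hW0 (Submodule.finrank_eq_zero.1 e)
    have hq := Submodule.finrank_quotient_add_finrank W
    have h1 := ih W ρW (by omega) (LinearMap.ext fun x => Subtype.ext (by rw [hDW, hc]; rfl))
    have h2 := ih (M ⧸ W) ρQ (by omega) (by
      refine Submodule.linearMap_qext _ (LinearMap.ext fun x => ?_)
      rw [LinearMap.comp_apply, hDQ, hc]
      simp)
    have hfixW : ∀ a, ∀ x ∈ W, ρ a x = x := fun a x hx =>
      congrArg Subtype.val (LinearMap.congr_fun (h1 a) ⟨x, hx⟩)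
    have hinW : ∀ a x, ρ a x - x ∈ W := fun a x =>
      (Submodule.Quotient.eq W).1 (LinearMap.congr_fun (h2 a) (W.mkQ x))
    have hcomm : ∀ a b, ρ (a * b) = ρ (b * a) := fun a b => LinearMap.ext fun x => by
      rw [map_mul, map_mul, Module.End.mul_apply, Module.End.mul_apply]
      have ha := hfixW a _ (hinW b x)
      have hb := hfixW b _ (hinW a x)
      rw [map_sub, sub_eq_iff_eq_add] at ha hb
      rw [ha, hb]
      abel
    have hle : commutator Γ ≤ ρ.ker := by
      rw [commutator_def, Subgroup.commutator_le]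
      intro a _ b _
      rw [MonoidHom.mem_ker, commutatorElement_def, mul_assoc (a * b), map_mul, hcomm a b, ← map_mul]
      group
      exact map_one ρ
    exact MonoidHom.mem_ker.1 (hle (hperf ▸ Subgroup.mem_top g))

theorem size_bound {m R T' T : ℕ} {r : ℕ} (hm : 1 ≤ m) (hr : 5 ≤ r) (hRr : ∃ e, R = r ^ e)
    (hT : R * r * T' = T) (hbound : T ≤ 2 ^ (2 * m + 1) + 2 ^ (m + 1) + 1) :
    (T' = 1 → 3 * R < 2 ^ (2 * m + 1) - 1) ∧ (5 ≤ T' → 12 * R < 2 ^ (2 * m + 1) - 1) := by
  have hR : 1 ≤ R := by obtain ⟨e, rfl⟩ := hRr; exact Nat.one_le_pow _ _ (by omega)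
  have hq : 2 * 2 ^ (2 * m + 1) = 2 ^ (m + 1) * 2 ^ (m + 1) := by
    rw [← pow_add, ← pow_succ']
    ring_nf
  set s := 2 ^ (m + 1) with hs
  set q := 2 ^ (2 * m + 1) with hqd
  have hs4 : 4 ≤ s := le_trans (le_of_eq (by norm_num)) (Nat.pow_le_pow_right two_pos (by omega : 2 ≤ m + 1))
  rcases eq_or_lt_of_le hs4 with h4 | h4
  · -- the smallest group
    have hq8 : q = 8 := by rw [← h4] at hq; omega
    refine ⟨fun h1 => ?_, fun h5 => ?_⟩
    · subst h1
      have : R * 5 ≤ T := by rw [← hT, mul_one]; exact Nat.mul_le_mul_left R hr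
      obtain ⟨e, rfl⟩ := hRr
      rcases Nat.eq_zero_or_pos e with rfl | he
      · simp only [pow_zero]; omega
      · have : r ≤ r ^ e := Nat.le_self_pow he.ne' r
        omega
    · have : R * 5 * 5 ≤ T := by
        rw [← hT]
        exact Nat.mul_le_mul (Nat.mul_le_mul_left R hr) h5
      omega
  · have h8 : 8 ≤ s := by
      obtain ⟨t, ht⟩ : ∃ t, s = 2 ^ t := ⟨m + 1, rfl⟩
      rcases Nat.lt_or_ge t 3 with h | h
      · interval_cases t <;> omega
      · rw [ht]; exact le_trans (by norm_num) (Nat.pow_le_pow_right two_pos h)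
    have h2q : 8 * s ≤ 2 * q := hq ▸ Nat.mul_le_mul_right s h8
    refine ⟨fun h1 => ?_, fun h5 => ?_⟩
    · subst h1
      have : R * 5 ≤ T := by rw [← hT, mul_one]; exact Nat.mul_le_mul_left R hr
      omega
    · have : R * 5 * 5 ≤ T := by
        rw [← hT]
        exact Nat.mul_le_mul (Nat.mul_le_mul_left R hr) h5
      omega

variable {F : Type} [Field F] [Fintype F] {m : ℕ} (hF : Fintype.card F = 2 ^ (2 * m + 1)) (hm : 1 ≤ m)
include hF hm

/-- The irreducible case. -/
theorem irred_trivial [IsAlgClosed k] {r : ℕ} [Fact r.Prime] [CharP k r]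
    {π : Γ →* ↥(Cfsg.Sz F m)} (hπ : Function.Surjective π) (hperf : commutator Γ = ⊤)
    (hcen : π.ker ≤ Subgroup.center Γ) {z : Γ} (hz1 : π z ≠ 1) (hzr : (π z) ^ r = 1)
    (h5 : ∃ w, orderOf w = 5 ∧ π z * w = w * π z)
    {M : Type v} [AddCommGroup M] [Module k M] [FiniteDimensional k M] [Nontrivial M]
    (ρ : Γ →* Module.End k M) (hirr : Irred ρ) (hZ : (ρ z - 1) ^ 3 = 0) : ∀ g, ρ g = 1 := by
  classical
  by_contra hne
  push Not at hne
  obtain ⟨w, hw, hzw⟩ := h5
  obtain ⟨hcyc, hTI, hcardN, -, τ0, hτN, hτ4, hτfix⟩ := SzM.torus_facts hF hm hw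
  obtain ⟨kk, hk, hAt, -⟩ := SzM.five_torus hF hm hw
  set A := Subgroup.centralizer ({w} : Set ↥(Cfsg.Sz F m)) with hA
  obtain ⟨-, hk5, hk2, hk3⟩ := torusOrder_props hF hm hk
  have hAcard : Nat.card A = kk := hAt.1
  have hbound : kk ≤ 2 ^ (2 * m + 1) + 2 ^ (m + 1) + 1 := by
    rcases hk with rfl | rfl | rfl
    · exact le_trans (Nat.sub_le _ _) (Nat.le_trans (Nat.le_add_right _ _) (Nat.le_add_right _ 1))
    · exact le_rfl
    · exact Nat.add_le_add_right (le_trans (Nat.sub_le _ _) (Nat.le_add_right _ _)) 1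
  have hzA : π z ∈ A := Subgroup.mem_centralizer_singleton_iff.2 hzw
  haveI := hcyc
  obtain ⟨t0, ht0⟩ := IsCyclic.exists_generator (α := A)
  have ht0ord : orderOf (t0 : ↥(Cfsg.Sz F m)) = kk := by
    rw [Subgroup.orderOf_coe, orderOf_eq_card_of_forall_mem_zpowers ht0, hAcard]
  have hgen : ∀ x ∈ A, ∃ i : ℕ, (t0 : ↥(Cfsg.Sz F m)) ^ i = x := fun x hx => by
    obtain ⟨i, hi⟩ := (mem_powers_iff_mem_zpowers).2 (ht0 ⟨x, hx⟩)
    exact ⟨i, by simpa using congrArg Subtype.val hi⟩
  have hzord : orderOf (π z) = r := orderOf_eq_prime hzr hz1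
  have hrk : r ∣ kk := by
    rw [← hAcard, ← hzord]
    exact Subgroup.orderOf_dvd_natCard _ hzA
  have hrp := (Fact.out : r.Prime)
  have hr2 : r ≠ 2 := fun e => hk2 (e ▸ hrk)
  have hr5 : 5 ≤ r := by
    have h3 : r ≠ 3 := fun e => hk3 (e ▸ hrk)
    have := hrp.two_le
    have h4 : r ≠ 4 := fun e => by rw [e] at hrp; norm_num at hrp
    omega
  have h2 : (2 : k) ≠ 0 := fun e => hr2 <| by
    have h : ((2 : ℕ) : k) = 0 := by exact_mod_cast e
    rw [CharP.cast_eq_zero_iff k r, Nat.prime_dvd_prime_iff_eq hrp Nat.prime_two] at h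
    exact h
  -- arithmetic of the torus
  obtain ⟨e, T', hT', hkk⟩ : ∃ e T' : ℕ, ¬ r ∣ T' ∧ kk = r ^ e * r * T' := by
    have hk0 : kk ≠ 0 := by omega
    obtain ⟨e', T', hT', he'⟩ := Nat.exists_eq_pow_mul_and_not_dvd hk0 r hrp.ne_one
    rcases Nat.eq_zero_or_pos e' with rfl | h0
    · rw [pow_zero, one_mul] at he'
      exact absurd (he' ▸ hrk) hT'
    · refine ⟨e' - 1, T', hT', ?_⟩
      rw [← pow_succ, Nat.sub_add_cancel h0, he']
  -- lifts
  obtain ⟨t, ht⟩ := hπ (t0 : ↥(Cfsg.Sz F m))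
  obtain ⟨τ, hτ⟩ := hπ τ0
  set N : Subgroup Γ := (Subgroup.normalizer (A : Set ↥(Cfsg.Sz F m))).comap π with hNdef
  have hmemN : ∀ g, g ∈ N ↔ π g ∈ Subgroup.normalizer (A : Set ↥(Cfsg.Sz F m)) := fun g => Iff.rfl
  have hkerN : π.ker ≤ N := fun g hg => by
    rw [hmemN, (MonoidHom.mem_ker).1 hg]; exact one_mem _
  have hsc : ∀ g, π g = 1 → ∃ c : k, ρ g = c • 1 := fun g hg =>
    scalar_central hirr (hcen ((MonoidHom.mem_ker).2 hg))
  -- powers of the operator of `t`
  obtain ⟨s, hs⟩ := hgen _ hzA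
  obtain ⟨n, hnk, hsn⟩ : ∃ n : ℕ, (n : k) ≠ 0 ∧ s = n * r ^ e := by
    have hdiv : kk ∣ s * r := by
      rw [← ht0ord]
      refine orderOf_dvd_of_pow_eq_one ?_
      rw [pow_mul, hs, hzr]
    rw [hkk, show r ^ e * r * T' = r ^ e * T' * r by ring] at hdiv
    obtain ⟨j, hj⟩ := Nat.dvd_of_mul_dvd_mul_right hrp.pos hdiv
    refine ⟨T' * j, fun h => ?_, by rw [hj]; ring⟩
    rw [CharP.cast_eq_zero_iff k r] at h
    rcases hrp.dvd_mul.1 h with h | ⟨j', hj'⟩
    · exact hT' h
    · refine hz1 ?_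
      rw [← hs, hj, hj', show r ^ e * T' * (r * j') = r ^ e * r * T' * j' by ring, ← hkk, pow_mul,
        ← ht0ord, pow_orderOf_eq_one, one_pow]
  set Aop : Module.End k M := ρ t with hAop
  have hA' : ρ t⁻¹ * Aop = 1 := by rw [hAop, ← map_mul, inv_mul_cancel, map_one]
  obtain ⟨c₁, hc₁⟩ := hsc (t ^ (n * r ^ e) * z⁻¹) (by rw [map_mul, map_pow, map_inv, ht, ← hsn, hs, mul_inv_cancel])
  have hpowA : Aop ^ (n * r ^ e) = c₁ • ρ z := by
    rw [hAop, ← map_pow, show t ^ (n * r ^ e) = t ^ (n * r ^ e) * z⁻¹ * z by rw [inv_mul_cancel_right],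
      map_mul, hc₁, smul_mul_assoc, one_mul]
  have hnil : ∀ (μ : k) (N' : ℕ) (x : M), ((Aop - μ • 1) ^ N') x = 0 →
      ((Aop - μ • 1) ^ (3 * r ^ e)) x = 0 := by
    refine nil_bound (r := r) hA' hnk (c := c₁) ?_
    rw [hpowA, ← smul_sub, _root_.smul_pow, hZ, smul_zero]
  -- the element of order four
  have hT'u : ∀ g : Γ, ρ g * ρ g⁻¹ = 1 ∧ ρ g⁻¹ * ρ g = 1 := fun g =>
    ⟨by rw [← map_mul, mul_inv_cancel, map_one], by rw [← map_mul, inv_mul_cancel, map_one]⟩
  let τu : (Module.End k M)ˣ := ⟨ρ τ, ρ τ⁻¹, (hT'u τ).1, (hT'u τ).2⟩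
  have hτp : τ0 ^ 4 = 1 := orderOf_dvd_iff_pow_eq_one.1 (dvd_of_eq hτ4)
  obtain ⟨c4, hc4⟩ := hsc (τ ^ 4) (by rw [map_pow, hτ]; exact hτp)
  have hconj : ∀ g : Γ, π g ∈ Subgroup.normalizer (A : Set ↥(Cfsg.Sz F m)) →
      ∃ (c : k) (j : ℕ), ρ g * Aop * ρ g⁻¹ = c • Aop ^ j := by
    intro g hg
    obtain ⟨j, hj⟩ := hgen (π g * t0 * (π g)⁻¹) ((Subgroup.mem_normalizer_iff.1 hg _).1 t0.2)
    obtain ⟨c, hc⟩ := hsc (g * t * g⁻¹ * (t ^ j)⁻¹) (by
      rw [map_mul, map_mul, map_mul, map_inv, map_inv, map_pow, ht, hj, mul_inv_cancel])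
    refine ⟨c, j, ?_⟩
    rw [hAop, ← map_mul, ← map_mul, ← map_pow,
      show g * t * g⁻¹ = g * t * g⁻¹ * (t ^ j)⁻¹ * t ^ j by rw [inv_mul_cancel_right], map_mul, hc,
      smul_mul_assoc, one_mul]
  have hτmem : π τ ∈ Subgroup.normalizer (A : Set ↥(Cfsg.Sz F m)) := by rw [hτ]; exact hτN
  obtain ⟨c', j', hτA⟩ := hconj τ hτmem
  obtain ⟨c, j, hAτ⟩ := hconj τ⁻¹ (by rw [map_inv]; exact inv_mem hτmem)
  rw [inv_inv] at hAτ
  -- the normaliser is generated
  have hgenN : ∀ S : Subgroup Γ, π.ker ≤ S → t ∈ S → τ ∈ S → N ≤ S := by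
    intro S hker htS hτS
    have hle : Subgroup.normalizer (A : Set ↥(Cfsg.Sz F m)) ≤ S.map π := by
      set X := (S.map π) ⊓ Subgroup.normalizer (A : Set ↥(Cfsg.Sz F m)) with hX
      have hAX : A ≤ X := by
        intro x hx
        refine Subgroup.mem_inf.2 ⟨?_, Subgroup.le_normalizer hx⟩
        obtain ⟨i, rfl⟩ := hgen x hx
        exact pow_mem (Subgroup.mem_map.2 ⟨t, htS, ht⟩) i
      have hτX : τ0 ∈ X := Subgroup.mem_inf.2 ⟨Subgroup.mem_map.2 ⟨τ, hτS, hτ⟩, hτN⟩
      have h4 : 4 ∣ Nat.card X := (dvd_of_eq hτ4.symm).trans (Subgroup.orderOf_dvd_natCard _ hτX)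
      have hAd : Nat.card A ∣ Nat.card X := Subgroup.card_dvd_of_le hAX
      have hco : Nat.Coprime 4 (Nat.card A) := by
        rw [hAcard, show (4 : ℕ) = 2 ^ 2 by norm_num]
        exact ((Nat.Prime.coprime_iff_not_dvd Nat.prime_two).2 hk2).pow_left 2
      have : X = Subgroup.normalizer (A : Set ↥(Cfsg.Sz F m)) :=
        Subgroup.eq_of_le_of_card_ge inf_le_right (by
          rw [hcardN]
          exact Nat.le_of_dvd Nat.card_pos (hco.mul_dvd_of_dvd_of_dvd h4 hAd))
      rw [← this]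
      exact inf_le_left
    intro g hg
    obtain ⟨h, hh, he⟩ := hle hg
    rw [← mul_inv_cancel_left h g]
    exact S.mul_mem hh (hker (by rw [MonoidHom.mem_ker, map_mul, map_inv, he, inv_mul_cancel]))
  have htN : t ∈ N := by rw [hmemN, ht]; exact Subgroup.le_normalizer t0.2
  have hzN : z ∈ N := Subgroup.le_normalizer hzA
  -- no splitting
  have hind : ∀ P R : Submodule k M, IsCompl P R → Inv Aop P → Inv Aop R → Inv (τu : Module.End k M) P →
      Inv (τu : Module.End k M) R → P = ⊥ ∨ R = ⊥ := by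
    intro P R hPR hAP hAR hτP hτR
    have hN : ∀ Q : Submodule k M, Inv Aop Q → Inv (ρ τ) Q → ∀ g ∈ N, Inv (ρ g) Q := by
      intro Q hAQ hτQ g hg
      refine (hgenN (invSub ρ Q) (fun κ hκ => pow_inv ρ ?_) (pow_inv ρ hAQ) (pow_inv ρ hτQ) hg).1
      obtain ⟨d, hd⟩ := hsc κ ((MonoidHom.mem_ker).1 hκ)
      intro x hx
      rw [hd, LinearMap.smul_apply, Module.End.one_apply]
      exact Q.smul_mem d hx
    refine no_split hr5 hirr N hzN hZ ⟨hcen ?_, pow_mem hzN r⟩ ?_ P R hPR (hN P hAP hτP) (hN R hAR hτR)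
    · rw [MonoidHom.mem_ker, map_pow, hzr]
    intro g hg i hi0 hir hc
    refine hg ?_
    rw [hmemN]
    set y := (π g)⁻¹ * π z ^ i * π g with hy
    have hyN : y ∈ Subgroup.normalizer (A : Set ↥(Cfsg.Sz F m)) := by
      rw [hmemN, map_mul, map_mul, map_inv, map_pow] at hc
      exact hc
    have hyord : orderOf y = r := by
      rw [hy]
      have h : orderOf ((π g)⁻¹ * π z ^ i * π g) = orderOf (π z ^ i) := by
        simpa using (MulAut.conj (π g)⁻¹).orderOf_eq (π z ^ i)
      rw [h, Nat.Coprime.orderOf_pow (by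
        rw [hzord]; exact (hrp.coprime_iff_not_dvd.2 (Nat.not_dvd_of_pos_of_lt hi0 hir))), hzord]
    have hyA : y ∈ A := torus_odd_mem hF hm hk hAt hyN (by rw [hyord]; exact fun h => hk2 (h.trans hrk))
    have hzi : π z ^ i ≠ 1 := fun e => Nat.not_dvd_of_pos_of_lt hi0 hir
      (hzord ▸ orderOf_dvd_of_pow_eq_one e)
    have hy1 : y ≠ 1 := fun e => by rw [e, orderOf_one] at hyord; omega
    have e1 : Subgroup.centralizer ({y} : Set ↥(Cfsg.Sz F m)) = A := hTI y hyA hy1
    have e2 : Subgroup.centralizer ({π z ^ i} : Set ↥(Cfsg.Sz F m)) = A := hTI _ (pow_mem hzA i) hzi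
    refine Subgroup.mem_normalizer_iff.2 fun x => ?_
    conv_lhs => rw [← e1, Subgroup.mem_centralizer_singleton_iff, hy]
    conv_rhs => rw [← e2, Subgroup.mem_centralizer_singleton_iff]
    constructor
    · intro h
      calc π g * x * (π g)⁻¹ * π z ^ i
          = π g * (x * ((π g)⁻¹ * π z ^ i * π g)) * (π g)⁻¹ := by group
        _ = π g * ((π g)⁻¹ * π z ^ i * π g * x) * (π g)⁻¹ := by rw [h]
        _ = π z ^ i * (π g * x * (π g)⁻¹) := by group
    · intro h
      calc x * ((π g)⁻¹ * π z ^ i * π g)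
          = (π g)⁻¹ * (π g * x * (π g)⁻¹ * π z ^ i) * π g := by group
        _ = (π g)⁻¹ * (π z ^ i * (π g * x * (π g)⁻¹)) * π g := by rw [h]
        _ = (π g)⁻¹ * π z ^ i * π g * x := by group
  obtain ⟨hall, hone⟩ := finrank_le h2 τu (A := Aop) (c := c) (c' := c') (j := j) (j' := j') hAτ hτA
    (scalar_ne_zero ρ hc4) (by show ρ τ ^ 4 = c4 • 1; rw [← map_pow]; exact hc4) hind hnil
  have hlow := card_le_finrank_borel hF hm h2 hπ hperf hcen hirr hne
  rw [hF] at hlow
  obtain ⟨b1, b5⟩ := size_bound (R := r ^ e) (T' := T') hm hr5 ⟨e, rfl⟩ hkk.symm hbound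
  by_cases h1 : T' = 1
  · obtain ⟨c₂, hc₂⟩ := hsc (t ^ kk) (by rw [map_pow, ht, ← ht0ord, pow_orderOf_eq_one])
    have hroot : ∀ μ : k, Aop.HasEigenvalue μ → μ ^ kk = c₂ := fun μ hμ => by
      obtain ⟨x, hx⟩ := hμ.exists_hasEigenvector
      have h := hx.pow_apply kk
      rw [hAop, ← map_pow, hc₂, LinearMap.smul_apply, Module.End.one_apply] at h
      exact (smul_left_injective k hx.2 h).symm
    have hle := hone fun μ ν hμ hν => by
      have h := (hroot μ hμ).trans (hroot ν hν).symm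
      rw [hkk, h1, mul_one, ← pow_succ, ← sub_eq_zero, ← sub_pow_char_pow,
        pow_eq_zero_iff (pow_ne_zero _ hrp.ne_zero), sub_eq_zero] at h
      exact h
    have := b1 h1
    omega
  · have hT5 : 5 ≤ T' := by
      have h2' : ¬ 2 ∣ T' := fun h => hk2 (by rw [hkk]; exact h.mul_left _)
      have h3' : ¬ 3 ∣ T' := fun h => hk3 (by rw [hkk]; exact h.mul_left _)
      omega
    have := b5 hT5
    omega

end Cub

/-- The endomorphisms of a vector space over `ZMod r` as matrices over its algebraic closure. -/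
theorem Cub.exists_embedding {V : Type w} [AddCommGroup V] {r : ℕ} [hr : Fact r.Prime] [Module (ZMod r) V]
    [Module.Finite (ZMod r) V] : ∃ (n : ℕ) (Φ : AddMonoid.End V →+*
      Module.End (AlgebraicClosure (ZMod r)) (Fin n → AlgebraicClosure (ZMod r))), Function.Injective Φ := by
  set n := Module.finrank (ZMod r) V
  let b := Module.finBasis (ZMod r) V
  let kk := AlgebraicClosure (ZMod r)
  let J : AddMonoid.End V →+* Module.End (ZMod r) V :=
    { toFun := fun f => AddMonoidHom.toZModLinearMap r f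
      map_one' := LinearMap.ext fun x => rfl
      map_mul' := fun f g => LinearMap.ext fun x => rfl
      map_zero' := LinearMap.ext fun x => rfl
      map_add' := fun f g => LinearMap.ext fun x => rfl }
  have hJ : Function.Injective J := fun f g h =>
    AddMonoidHom.ext fun x => LinearMap.congr_fun h x
  let Φ : Module.End (ZMod r) V →+* Module.End kk (Fin n → kk) :=
    ((Matrix.toLinAlgEquiv' : Matrix (Fin n) (Fin n) kk ≃ₐ[kk] _).toRingEquiv.toRingHom.comp
      ((algebraMap (ZMod r) kk).mapMatrix)).comp (LinearMap.toMatrixAlgEquiv b).toRingEquiv.toRingHom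
  have hΦ : Function.Injective Φ := fun f g h => by
    refine (LinearMap.toMatrixAlgEquiv b).injective ?_
    refine Matrix.map_injective (algebraMap (ZMod r) kk).injective ?_
    exact (Matrix.toLinAlgEquiv' : Matrix (Fin n) (Fin n) kk ≃ₐ[kk] _).injective h
  exact ⟨n, Φ.comp J, hΦ.comp hJ⟩

/-- Cubic elements act trivially. -/
theorem cubic_trivial {L : Type u} [Group L] [Finite L] {Γ : Type v} [Group Γ] [Finite Γ]
    {V : Type w} [AddCommGroup V] [Finite V] (π : Γ →* L) (hπ : Function.Surjective π)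
    (hL : Cfsg.Lie.IsoSuzuki L) (hperf : commutator Γ = ⊤) (hker : π.ker ≤ Subgroup.center Γ)
    {r : ℕ} [hr : Fact r.Prime] (hV : ∀ v : V, r • v = 0) (σ : Γ →* AddMonoid.End V) {z : Γ}
    (hz1 : π z ≠ 1) (hzr : (π z) ^ r = 1)
    (h5 : ∃ w : L, orderOf w = 5 ∧ π z * w = w * π z) (hcub : (σ z - 1) ^ 3 = 0) : ∀ g, σ g = 1 := by
  classical
  obtain ⟨F, iF, iFt, m, hF, hm, ⟨e⟩⟩ := exists_model hL
  set π' : Γ →* ↥(Cfsg.Sz F m) := e.toMonoidHom.comp π with hπ'
  have hsurj : Function.Surjective π' := e.surjective.comp hπ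
  have hker' : π'.ker ≤ Subgroup.center Γ := fun g hg => hker (by
    rw [MonoidHom.mem_ker] at hg ⊢
    exact e.injective (hg.trans (map_one e).symm))
  letI : Module (ZMod r) V := AddCommGroup.zmodModule hV
  haveI hfd : Module.Finite (ZMod r) V := Module.Finite.of_finite
  let kk := AlgebraicClosure (ZMod r)
  obtain ⟨n, Ψ, hΨ⟩ := @Cub.exists_embedding V _ r hr _ hfd
  haveI : CharP kk r := charP_of_injective_algebraMap (algebraMap (ZMod r) kk).injective r
  let ρ : Γ →* Module.End kk (Fin n → kk) := Ψ.toMonoidHom.comp σ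
  have hc : (ρ z - 1) ^ 3 = 0 := by
    show (Ψ (σ z) - 1) ^ 3 = 0
    rw [← map_one Ψ, ← map_sub, ← map_pow, hcub, map_zero]
  obtain ⟨w, hw, hzw⟩ := h5
  have htriv := Cub.trivial_of_irred (k := kk) hperf (z := z)
    (fun M _ _ _ _ ρ hi hc => Cub.irred_trivial hF hm hsurj hperf hker' (z := z)
      (fun h => hz1 (e.injective (h.trans (map_one e).symm)))
      (by show e (π z) ^ r = 1; rw [← map_pow, hzr, map_one])
      ⟨e w, by rw [MulEquiv.orderOf_eq, hw], by
        show e (π z) * e w = e w * e (π z)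
        rw [← map_mul, hzw, map_mul]⟩ ρ hi hc)
    _ _ ρ le_rfl hc
  intro g
  refine hΨ ?_
  rw [map_one]
  exact htriv g

end CfsgLib.SF23
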