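import Cfsg.Agent.Lib.SF23.SuzAut
import Cfsg.Agent.Lib.CharTheory.Burnside

/-!
The torus of an element of order five, the Borel data and rigidity of automorphisms on the model `Sz(q)`.

Blueprint: `blueprint/S1919.md`, section 1.
-/

set_option autoImplicit false
set_option linter.unusedSectionVars false
set_option linter.style.haveILetI false

namespace CfsgLib.SF23.SzM

open Cfsg CfsgLib.Suzuki Subgroup
open scoped Pointwise

universe v

variable {F : Type v} [Field F] [Fintype F] {m : ℕ} (hF : Fintype.card F = 2 ^ (2 * m + 1)) (hm : 1 ≤ m)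
include hF hm

theorem five_ss {z : ↥(Cfsg.Sz F m)} (hz : orderOf z = 5) : SS hF z := by
  refine ⟨fun e => by rw [e, orderOf_one] at hz; norm_num at hz, fun h => ?_⟩
  have := orderOf_dvd_of_conjSet _ h
  rw [hz, card_U] at this
  exact (five_not_dvd_q hF).2.1 this

/-- The torus of an element of order five. -/
theorem five_torus {z : ↥(Cfsg.Sz F m)} (hz : orderOf z = 5) :
    ∃ k, IsTorusOrder m k ∧ centralizer ({z} : Set ↥(Cfsg.Sz F m)) ∈ tori hF k ∧
      torC m k = 4 := by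
  obtain ⟨k, hk, hd, hA⟩ := torus_of_ss hF hm (five_ss hF hm hz)
  refine ⟨k, hk, hA, ?_⟩
  rw [torC, if_neg]
  intro e
  rw [hz, e] at hd
  exact (five_not_dvd_q hF).1 hd

theorem torus_facts {z : ↥(Cfsg.Sz F m)} (hz : orderOf z = 5) :
    IsCyclic (centralizer ({z} : Set ↥(Cfsg.Sz F m))) ∧
      (∀ a ∈ centralizer ({z} : Set ↥(Cfsg.Sz F m)), a ≠ 1 →
        centralizer ({a} : Set ↥(Cfsg.Sz F m)) = centralizer {z}) ∧
      Nat.card (normalizer (centralizer ({z} : Set ↥(Cfsg.Sz F m)) : Set ↥(Cfsg.Sz F m))) =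
        4 * Nat.card (centralizer ({z} : Set ↥(Cfsg.Sz F m))) ∧
      (∀ x ∈ normalizer (centralizer ({z} : Set ↥(Cfsg.Sz F m)) : Set ↥(Cfsg.Sz F m)), orderOf x = 5 →
        x ∈ centralizer ({z} : Set ↥(Cfsg.Sz F m))) ∧
      ∃ t ∈ normalizer (centralizer ({z} : Set ↥(Cfsg.Sz F m)) : Set ↥(Cfsg.Sz F m)), orderOf t = 4 ∧
        ∀ a ∈ centralizer ({z} : Set ↥(Cfsg.Sz F m)), t * a = a * t → a = 1 := by
  obtain ⟨c, -, hcyc, -, -⟩ := ss_data hF hm (five_ss hF hm hz)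
  obtain ⟨k, hk, hA, h4⟩ := five_torus hF hm hz
  obtain ⟨-, hk5, hk2, -⟩ := torusOrder_props hF hm hk
  refine ⟨hcyc, fun a ha h1 => (torus_self hF hm hk hA ha h1).2, ?_,
    fun x hx ho => torus_odd_mem hF hm hk hA hx (by rw [ho]; norm_num), ?_⟩
  · rw [tori_card_normalizer hF hm hk hA, h4, hA.1]
  · have hc := card_normalizer_order hF hm hk hA (j := 4) (Or.inr rfl)
    rw [if_neg (by norm_num), if_pos h4] at hc
    obtain ⟨⟨⟨t, ht4, htN⟩⟩, -⟩ := Nat.card_ne_zero.mp (hc.trans_ne (by omega))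
    refine ⟨t, htN, ht4, fun a ha e => by_contra fun h1 => hk2 ?_⟩
    have htA : t ∈ centralizer ({a} : Set ↥(Cfsg.Sz F m)) := mem_centralizer_singleton_iff.mpr e
    rw [(torus_self hF hm hk hA ha h1).2] at htA
    have := Subgroup.orderOf_dvd_natCard _ htA
    rw [ht4, hA.1] at this
    exact dvd_trans (by norm_num) this

theorem subGp_not_solvable {k : ℕ} (hk : 1 ≤ k) (hdiv : 2 * k + 1 ∣ 2 * m + 1) :
    ¬ Group.IsSolvable ↥(subGp hF hm k) := by
  intro h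
  haveI := h
  obtain ⟨K, iK, iT, hK, ⟨e⟩⟩ := exists_galois_subGp hF hm hk hdiv
  haveI := isSimple hK hk
  haveI : Group.IsSolvable ↥(Cfsg.Sz K k) := Group.isSolvable_of_surjective (f := e.toMonoidHom) e.surjective
  exact (Group.IsSolvable.commutator_lt_top_of_nontrivial (G := ↥(Cfsg.Sz K k))).ne (perfect hK hk)

theorem solvable_le {z : ↥(Cfsg.Sz F m)} (hz : orderOf z = 5) {X : Subgroup ↥(Cfsg.Sz F m)}
    (hX : Group.IsSolvable X) (hzX : z ∈ X) :
    X ≤ normalizer (centralizer ({z} : Set ↥(Cfsg.Sz F m)) : Set ↥(Cfsg.Sz F m)) := by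
  have hss := five_ss hF hm hz
  rcases trichotomy hF hm X with ⟨p, hp, hfix⟩ | ⟨y, hy, hle⟩ | ⟨k, g, hk, hdiv, rfl⟩
  · exfalso
    have h := (classify_point hF hm hss.1 hp (hfix z hzX)).resolve_left hss.2
    have := orderOf_dvd_of_conjSet _ h
    rw [hz, card_T] at this
    exact (five_not_dvd_q hF).1 this
  · obtain ⟨k, hk, -, hA⟩ := torus_of_ss hF hm hy
    rw [← ss_mem_torus_normalizer hF hm hss hk hA (hle hzX)]
    exact hle
  · exfalso
    haveI := hX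
    exact subGp_not_solvable hF hm hk hdiv (Group.isSolvable_of_isSolvable_injective
      (f := ((subGp hF hm k).equivMapOfInjective (MulAut.conj g).toMonoidHom (MulAut.conj g).injective).toMonoidHom)
      (MulEquiv.injective _))

theorem centralizer_z {b : F} (hb : b ≠ 0) : centralizer ({uS hF 0 b} : Set ↥(Cfsg.Sz F m)) = U hF :=
  le_antisymm (centralizer_unipotent hF hm ⟨0, b, rfl⟩ fun e => hb ((eq_one_iff_uS hF).mp e).2)
    (U_le_centralizer hF b)

theorem centralizer_w {b : F} (hb : b ≠ 0) :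
    centralizer ({wS hF * uS hF 0 b * wS hF} : Set ↥(Cfsg.Sz F m)) =
      (U hF).map (MulAut.conj (wS hF)).toMonoidHom := by
  conv_lhs => rw [show wS hF * uS hF 0 b * wS hF = wS hF * uS hF 0 b * (wS hF)⁻¹ by rw [wS_inv]]
  rw [centralizer_conj, centralizer_z hF hm hb]

theorem sup_top : U hF ⊔ (U hF).map (MulAut.conj (wS hF)).toMonoidHom = ⊤ := by
  set V := (U hF).map (MulAut.conj (wS hF)).toMonoidHom with hV
  set H := U hF ⊔ V
  have hu : ∀ a b, uS hF a b ∈ H := fun a b => mem_sup_left ⟨a, b, rfl⟩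
  have hd : ∀ t : Fˣ, dS hF t ∈ normalizer (H : Set ↥(Cfsg.Sz F m)) := by
    intro t
    have h1 : dS hF t ∈ normalizer (U hF : Set ↥(Cfsg.Sz F m)) := by
      rw [normalizer_U hF hm]; exact smul_dS_inf hF t
    have h2 : dS hF t ∈ normalizer (V : Set ↥(Cfsg.Sz F m)) := by
      rw [hV, ← map_equiv_normalizer_eq]
      refine ⟨dS hF t⁻¹, ?_, ?_⟩
      · show dS hF t⁻¹ ∈ normalizer (U hF : Set ↥(Cfsg.Sz F m))
        rw [normalizer_U hF hm]; exact smul_dS_inf hF t⁻¹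
      · show wS hF * dS hF t⁻¹ * (wS hF)⁻¹ = dS hF t
        rw [wS_inv, wS_dS, inv_inv]
    exact normalizer_inf_normalizer_le_normalizer_sup (U hF) V ⟨h1, h2⟩
  have hw : wS hF ∈ normalizer (H : Set ↥(Cfsg.Sz F m)) := by
    have hinv : (MulAut.conj (wS hF)).toMonoidHom.comp (MulAut.conj (wS hF)).toMonoidHom = MonoidHom.id _ := by
      refine MonoidHom.ext fun x => ?_
      show wS hF * (wS hF * x * (wS hF)⁻¹) * (wS hF)⁻¹ = x
      rw [wS_inv, mul_assoc, mul_assoc, mul_assoc, wS_mul_self, mul_one, ← mul_assoc, wS_mul_self, one_mul]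
    have hH : H.map (MulAut.conj (wS hF)).toMonoidHom = H := by
      rw [Subgroup.map_sup, Subgroup.map_map, hinv, Subgroup.map_id, sup_comm]
    rw [mem_normalizer_iff]
    intro x
    constructor
    · exact fun h => hH.le ⟨x, h, rfl⟩
    · intro h
      obtain ⟨y, hy, e⟩ := hH.ge h
      rwa [← (MulAut.conj (wS hF)).injective e]
  haveI : H.Normal := normalizer_eq_top_iff.mp
    (eq_top_of_mem hF hm _ (fun a b => le_normalizer (hu a b)) hd hw)
  exact eq_top_of_uS_mem hF hm H hu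

theorem two_normalizers :
    normalizer (U hF : Set ↥(Cfsg.Sz F m)) ⊓
      normalizer ((U hF).map (MulAut.conj (wS hF)).toMonoidHom : Set ↥(Cfsg.Sz F m)) = T hF := by
  rw [← map_equiv_normalizer_eq, normalizer_U hF hm]
  ext g
  rw [mem_inf, mem_map_conj_iff, MulAction.mem_stabilizer_iff, MulAction.mem_stabilizer_iff, wS_inv, mem_T]
  constructor
  · rintro ⟨h1, h2⟩
    refine two_point hF hm h1 ?_
    rwa [mul_smul, mul_smul, smul_wS_inf, ← wS_inv, inv_smul_eq_iff, smul_wS_inf] at h2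
  · rintro ⟨t, rfl⟩
    exact ⟨smul_dS_inf hF t, by rw [mul_smul, mul_smul, smul_wS_inf, smul_dS_zero, smul_wS_zero]⟩

theorem normalizer_eq_sup : normalizer (U hF : Set ↥(Cfsg.Sz F m)) = U hF ⊔ T hF := by
  refine le_antisymm (fun g hg => ?_) (sup_le le_normalizer fun g hg => ?_)
  · rw [normalizer_U hF hm] at hg
    obtain ⟨a, b, t, rfl⟩ := (mem_stabInf_iff hF hm).mp hg
    exact mul_mem_sup ⟨a, b, rfl⟩ ((mem_T hF).mpr ⟨t, rfl⟩)
  · obtain ⟨t, rfl⟩ := (mem_T hF).mp hg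
    rw [normalizer_U hF hm]
    exact smul_dS_inf hF t

theorem comm_closure :
    closure {x | ∃ u ∈ U hF, ∃ τ ∈ T hF, x = τ * u * τ⁻¹ * u⁻¹} = U hF := by
  refine le_antisymm ((closure_le _).mpr ?_) fun x hx => subset_closure ?_
  · rintro _ ⟨_, ⟨a, b, rfl⟩, τ, hτ, rfl⟩
    obtain ⟨t, rfl⟩ := (mem_T hF).mp hτ
    rw [dS_uS, uS_inv, uS_mul]
    exact ⟨_, _, rfl⟩
  · obtain ⟨r, hr0, hr1⟩ := exists_not_zero_one hF hm
    set t : Fˣ := Units.mk0 r hr0
    have ht : t ≠ 1 := fun e => hr1 (congrArg Units.val e)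
    let f : ↥(U hF) → ↥(U hF) := fun u => ⟨dS hF t * u * (dS hF t)⁻¹ * (u : ↥(Cfsg.Sz F m))⁻¹, by
      obtain ⟨a, b, hu⟩ := u.2
      rw [hu, dS_uS, uS_inv, uS_mul]
      exact ⟨_, _, rfl⟩⟩
    have hf : Function.Injective f := by
      intro u v e
      have e' : dS hF t * u * (dS hF t)⁻¹ * (u : ↥(Cfsg.Sz F m))⁻¹ =
          dS hF t * v * (dS hF t)⁻¹ * (v : ↥(Cfsg.Sz F m))⁻¹ := congrArg Subtype.val e
      have hw : ((v : ↥(Cfsg.Sz F m))⁻¹ * u) ∈ centralizer ({dS hF t} : Set ↥(Cfsg.Sz F m)) := by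
        refine mem_centralizer_singleton_iff.mpr ?_
        have e2 : dS hF t * ((v : ↥(Cfsg.Sz F m))⁻¹ * u) * (dS hF t)⁻¹ = (v : ↥(Cfsg.Sz F m))⁻¹ * u := by
          calc _ = (v : ↥(Cfsg.Sz F m))⁻¹ * (dS hF t * v * (dS hF t)⁻¹ * (v : ↥(Cfsg.Sz F m))⁻¹)⁻¹ *
                (dS hF t * u * (dS hF t)⁻¹ * (u : ↥(Cfsg.Sz F m))⁻¹) * u := by group
            _ = _ := by rw [e']; group
        exact (mul_inv_eq_iff_eq_mul.mp e2).symm
      rw [centralizer_torus hF hm ht] at hw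
      obtain ⟨s, hs⟩ := (mem_T hF).mp hw
      obtain ⟨a, b, hab⟩ : (v : ↥(Cfsg.Sz F m))⁻¹ * u ∈ U hF := mul_mem (inv_mem v.2) u.2
      have hs1 : s = 1 := ((form_injective hF (show uS hF a b * dS hF (1 : Fˣ) = uS hF 0 0 * dS hF s by
        rw [dS_one, mul_one, uS_zero, one_mul, ← hab, hs])).2.2).symm
      refine Subtype.ext (inv_mul_eq_one.mp ?_).symm
      rw [hs, hs1, dS_one]
    obtain ⟨⟨u, hu⟩, e⟩ := (Finite.injective_iff_surjective.mp hf) ⟨x, hx⟩
    exact ⟨u, hu, dS hF t, (mem_T hF).mpr ⟨t, rfl⟩, (congrArg Subtype.val e).symm⟩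

theorem center_eq : (center ↥(U hF)).map (U hF).subtype = Z hF := by
  rw [(U_structure hF hm).2.1, subgroupOf_map_subtype, inf_eq_left]
  rintro g ⟨b, rfl⟩
  exact ⟨0, b, rfl⟩

/-- An automorphism fixing the frame and the centre of the Sylow subgroup is trivial. -/
theorem frame_rigid {φ : MulAut ↥(Cfsg.Sz F m)} (hV : ∀ x ∈ (U hF).map (MulAut.conj (wS hF)).toMonoidHom,
    φ x ∈ (U hF).map (MulAut.conj (wS hF)).toMonoidHom) (hZ : ∀ e ∈ Z hF, φ e = e) : φ = 1 := by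
  obtain ⟨i, hi, rfl⟩ := frame_aut hF hm (hZ _ ⟨1, rfl⟩) (b := 1) one_ne_zero
    (hV _ ⟨uS hF 0 1, ⟨0, 1, rfl⟩, by
      show wS hF * uS hF 0 1 * (wS hF)⁻¹ = _
      rw [wS_inv]⟩)
  have h0 : i = 0 := pow_two_pow_injective hF hi (by omega) hm fun a => by
    have := hZ _ (⟨a, rfl⟩ : uS hF 0 a ∈ Z hF)
    rw [fAut_uS] at this
    rw [pow_zero, pow_one]
    exact (uS_inj hF this).2
  rw [h0, fAut_one]

theorem card_subGp_zero : Nat.card ↥(subGp hF hm 0) = 20 := by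
  have hs : ∀ x : F, x ∈ subSet (F := F) 0 ↔ x = 0 ∨ x = 1 := fun x => by
    show x ^ 2 ^ (2 * 0 + 1) = x ↔ _
    constructor
    · intro h
      have : x * (x - 1) = 0 := by
        have h' : x ^ 2 = x := h
        linear_combination h'
      rcases mul_eq_zero.mp this with h | h
      · exact Or.inl h
      · exact Or.inr (sub_eq_zero.mp h)
    · rintro (rfl | rfl) <;> simp
  let B := {x : F // x ∈ subSet (F := F) 0}
  have hB : Nat.card B = 2 := by
    let f : Fin 2 → B := ![⟨0, (hs 0).mpr (Or.inl rfl)⟩, ⟨1, (hs 1).mpr (Or.inr rfl)⟩]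
    rw [← Nat.card_congr (Equiv.ofBijective f ⟨?_, ?_⟩), Nat.card_fin]
    · intro i j h
      have h' := congrArg Subtype.val h
      fin_cases i <;> fin_cases j <;> first | rfl | simp [f] at h'
    · rintro ⟨x, hx⟩
      rcases (hs x).mp hx with rfl | rfl
      · exact ⟨0, rfl⟩
      · exact ⟨1, rfl⟩
  have hu : ∀ a b : B, uS hF a.1 b.1 ∈ subGp hF hm 0 := fun a b => (uS_mem_subGp hF hm).mpr ⟨a.2, b.2⟩
  let f : (B × B) ⊕ ((B × B) × (B × B)) → ↥(subGp hF hm 0) := Sum.elim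
    (fun p => ⟨uS hF p.1.1 p.2.1, hu _ _⟩)
    (fun p => ⟨uS hF p.1.1.1 p.1.2.1 * wS hF * uS hF p.2.1.1 p.2.2.1,
      mul_mem (mul_mem (hu _ _) (wS_mem_subGp hF hm 0)) (hu _ _)⟩)
  have hne : ∀ a b c d e g : F, uS hF a b ≠ uS hF c d * wS hF * uS hF e g := by
    intro a b c d e g h
    have := congrArg (fun x : ↥(Cfsg.Sz F m) => x • suzukiPointInfinity F) h
    simp only [mul_smul, smul_uS_inf, smul_wS_inf, smul_uS_zero] at this
    exact pt_ne_inf _ _ this.symm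
  have hf : Function.Bijective f := by
    constructor
    · rintro (⟨a, b⟩ | ⟨⟨a, b⟩, c, d⟩) (⟨a', b'⟩ | ⟨⟨a', b'⟩, c', d'⟩) h <;>
        have h' := congrArg Subtype.val h <;> simp only [f, Sum.elim_inl, Sum.elim_inr] at h'
      · obtain ⟨e1, e2⟩ := uS_inj hF h'
        rw [Subtype.ext e1, Subtype.ext e2]
      · exact absurd h' (hne _ _ _ _ _ _)
      · exact absurd h'.symm (hne _ _ _ _ _ _)
      · have h1 := congrArg (fun x : ↥(Cfsg.Sz F m) => x • suzukiPointInfinity F) h'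
        simp only [mul_smul, smul_uS_inf, smul_wS_inf, smul_uS_zero] at h1
        obtain ⟨e1, e2⟩ := pt_injective h1
        rw [e1, e2] at h'
        obtain ⟨e3, e4⟩ := uS_inj hF (mul_left_cancel h')
        rw [Subtype.ext e1, Subtype.ext e2, Subtype.ext e3, Subtype.ext e4]
    · rintro ⟨g, hg⟩
      have one : ∀ t : Fˣ, (t : F) ∈ subSet (F := F) 0 → t = 1 := fun t ht =>
        Units.ext (((hs _).mp ht).resolve_left t.ne_zero)
      rcases subGp_form hF hm hg with ⟨a, b, t, ha, hb, ht, rfl⟩ | ⟨a, b, c, d, t, ha, hb, hc, hd, ht, rfl⟩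
      · exact ⟨Sum.inl (⟨a, ha⟩, ⟨b, hb⟩), Subtype.ext (by simp [f, one t ht, dS_one])⟩
      · exact ⟨Sum.inr ((⟨a, ha⟩, ⟨b, hb⟩), ⟨c, hc⟩, ⟨d, hd⟩), Subtype.ext (by simp [f, one t ht, dS_one])⟩
  rw [← Nat.card_congr (Equiv.ofBijective f hf), Nat.card_sum, Nat.card_prod, Nat.card_prod, Nat.card_prod, hB]

/-- Element orders in a subfield subgroup. -/
theorem orderOf_subGp_le {k : ℕ} (hdiv : 2 * k + 1 ∣ 2 * m + 1) {a : ↥(Cfsg.Sz F m)}
    (ha : a ∈ subGp hF hm k) : orderOf a ≤ 5 * 4 ^ (2 * k + 1) := by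
  rcases Nat.eq_zero_or_pos k with rfl | hk
  · have := Nat.le_of_dvd (by rw [card_subGp_zero hF hm]; norm_num) (Subgroup.orderOf_dvd_natCard _ ha)
    rw [card_subGp_zero hF hm] at this
    exact this
  obtain ⟨K, iK, iT, hK, ⟨e⟩⟩ := exists_galois_subGp hF hm hk hdiv
  have ho : orderOf a = orderOf (e ⟨a, ha⟩) := by
    rw [MulEquiv.orderOf_eq]
    exact Subgroup.orderOf_coe (⟨a, ha⟩ : ↥(subGp hF hm k))
  rw [ho]
  set y := e ⟨a, ha⟩
  have h4 : (4 : ℕ) ^ (2 * k + 1) = (2 ^ (2 * k + 1)) ^ 2 := by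
    rw [← pow_mul, mul_comm (2 * k + 1) 2, pow_mul]; norm_num
  by_cases hy : y = 1
  · rw [hy, orderOf_one]
    exact Nat.one_le_iff_ne_zero.mpr (by positivity)
  by_cases hU : y ∈ conjSet (U hK)
  · have := Nat.le_of_dvd (by rw [card_U]; positivity) (orderOf_dvd_of_conjSet _ hU)
    rw [card_U] at this
    rw [h4]
    omega
  · obtain ⟨j, hj, hd, -⟩ := torus_of_ss hK hk (x := y) ⟨hy, hU⟩
    obtain ⟨-, hj5, -, -⟩ := torusOrder_props hK hk hj
    refine (Nat.le_of_dvd (by omega) hd).trans ?_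
    have hs : 2 ^ (k + 1) ≤ 2 ^ (2 * k + 1) := Nat.pow_le_pow_right two_pos (by omega)
    have hq : 2 ^ (2 * k + 1) ≤ (2 ^ (2 * k + 1)) ^ 2 := Nat.le_self_pow two_ne_zero _
    have h1 : 1 ≤ 2 ^ (2 * k + 1) := Nat.one_le_two_pow
    rw [h4]
    generalize (2 ^ (2 * k + 1)) ^ 2 = Q2 at *
    have h2 : 1 ≤ 2 ^ (k + 1) := Nat.one_le_two_pow
    rcases hj with rfl | rfl | rfl <;> omega

/-- An automorphism of order prime to three fixing the normaliser of a torus pointwise is trivial. -/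
theorem torus_rigid {z : ↥(Cfsg.Sz F m)} (hz : orderOf z = 5) {φ : MulAut ↥(Cfsg.Sz F m)}
    (hφ : ¬ 3 ∣ orderOf φ)
    (hfix : ∀ x ∈ normalizer (centralizer ({z} : Set ↥(Cfsg.Sz F m)) : Set ↥(Cfsg.Sz F m)), φ x = x) :
    φ = 1 := by
  haveI := finite_aut hF hm
  obtain ⟨hcyc, -, -, -, t, htN, ht4, -⟩ := torus_facts hF hm hz
  obtain ⟨k, hk, hA, -⟩ := five_torus hF hm hz
  set A := centralizer ({z} : Set ↥(Cfsg.Sz F m)) with hAdef
  have hzA : z ∈ A := mem_centralizer_singleton_iff.mpr rfl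
  have hs : orderOf (t * t) = 2 := by rw [← sq, orderOf_pow, ht4]; norm_num
  obtain ⟨g, b, hb, hg1, hg2⟩ := exists_frame hF hm hs hz
  set c := MulAut.conj (MulAut.conj g : MulAut ↥(Cfsg.Sz F m)) φ with hc
  have hcfix : ∀ x ∈ normalizer (A : Set ↥(Cfsg.Sz F m)), c (g * x * g⁻¹) = g * x * g⁻¹ := by
    intro x hx
    show MulAut.conj g (φ ((MulAut.conj g)⁻¹ (MulAut.conj g x))) = MulAut.conj g x
    rw [MulAut.inv_apply_self, hfix x hx]
  have hV : c (wS hF * uS hF 0 b * wS hF) ∈ (U hF).map (MulAut.conj (wS hF)).toMonoidHom := by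
    rw [← hg2, hcfix _ (mul_mem (mul_mem (le_normalizer hzA) (mul_mem htN htN)) (inv_mem (le_normalizer hzA))), hg2]
    exact ⟨uS hF 0 b, ⟨0, b, rfl⟩, by show wS hF * uS hF 0 b * (wS hF)⁻¹ = _; rw [wS_inv]⟩
  obtain ⟨i, hin, hi⟩ := frame_aut hF hm (φ := c) (by rw [← hg1, hcfix _ (mul_mem htN htN)]) hb hV
  have hoc : orderOf c = orderOf φ := MulEquiv.orderOf_eq _ φ
  suffices h1 : c = 1 by
    rw [h1, orderOf_one] at hoc
    exact orderOf_eq_one_iff.mp hoc.symm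
  by_contra h1
  -- the generator of the torus lies in a small subfield group
  obtain ⟨a, ha⟩ := IsCyclic.exists_ofOrder_eq_natCard (α := A)
  have hfa : c (g * (a : ↥(Cfsg.Sz F m)) * g⁻¹) = g * a * g⁻¹ := hcfix _ (le_normalizer a.2)
  set d := Nat.gcd i (2 * m + 1) with hd
  have hdn : d ∣ 2 * m + 1 := Nat.gcd_dvd_right _ _
  obtain ⟨r, hr⟩ := hdn
  obtain ⟨j, hj⟩ : Odd d := Nat.Odd.of_mul_left (show Odd (d * r) by rw [← hr]; exact ⟨m, rfl⟩)
  have hi0 : ¬ 2 * m + 1 ∣ i := fun h => h1 (by rw [hi, (fAut_eq_one_iff hF hm).mpr h])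
  have hr1 : r ≠ 1 := fun e => hi0 (by rw [e, mul_one] at hr; rw [hr, hd]; exact Nat.gcd_dvd_left _ _)
  have hordc : orderOf c = r := by
    rw [hi, show fAut hF hm i = fAut hF hm 1 ^ i by rw [fAut_pow, one_mul], orderOf_pow, orderOf_fAut_one hF hm,
      Nat.gcd_comm, ← hd, hr, Nat.mul_div_cancel_left r (by omega)]
  have hrodd : Odd r := Nat.Odd.of_mul_right (show Odd (d * r) by rw [← hr]; exact ⟨m, rfl⟩)
  have hr5 : 5 ≤ r := by
    have h3 : ¬ 3 ∣ r := by rw [← hordc, hoc]; exact hφ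
    obtain ⟨w, rfl⟩ := hrodd
    omega
  have hsub : g * (a : ↥(Cfsg.Sz F m)) * g⁻¹ ∈ subGp hF hm j := by
    have hmem : fAut hF hm (2 * j + 1) ∈ zpowers c := by
      obtain ⟨l, hl⟩ : ∃ l : ℕ, i * l % (2 * m + 1) = d % (2 * m + 1) := by
        have hlt : Nat.gcd i (2 * m + 1) < 2 * m + 1 :=
          Nat.lt_of_le_of_ne (Nat.le_of_dvd (by omega) (Nat.gcd_dvd_right _ _))
            fun e => hi0 ((dvd_of_eq e.symm).trans (Nat.gcd_dvd_left _ _))
        obtain ⟨l, -, hl⟩ := Nat.exists_mul_mod_eq_gcd (k := 2 * m + 1) (n := i) hlt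
        exact ⟨l, by rw [hl, Nat.mod_eq_of_lt (show d < 2 * m + 1 from hlt)]⟩
      have hfm : ∀ x, fAut hF hm x = fAut hF hm (x % (2 * m + 1)) := fun x => by
        conv_lhs => rw [← Nat.div_add_mod x (2 * m + 1)]
        rw [← fAut_mul, (fAut_eq_one_iff hF hm).mpr (dvd_mul_right _ _), one_mul]
      refine ⟨l, ?_⟩
      show c ^ (l : ℤ) = _
      rw [zpow_natCast, hi, fAut_pow, hfm, hl, ← hfm, hj]
    obtain ⟨l, hl⟩ := (mem_powers_iff_mem_zpowers).mpr hmem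
    rw [mem_subGp hF hm, ← (show c ^ l = fAut hF hm (2 * j + 1) from hl)]
    exact fix_pow hF hm hfa l
  have hle := orderOf_subGp_le hF hm (k := j) (by rw [← hj, hr]; exact dvd_mul_right _ _) hsub
  have hoa : orderOf (g * (a : ↥(Cfsg.Sz F m)) * g⁻¹) = k := by
    rw [← MulAut.conj_apply, MulEquiv.orderOf_eq, Subgroup.orderOf_coe, ha, hA.1]
  rw [hoa] at hle
  obtain ⟨-, hsq, hs4, hq8, -, -, -⟩ := arith hF hm _ _ rfl rfl
  -- the torus is larger than every element order there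
  have hm5 : (2 * j + 1) * 5 ≤ 2 * m + 1 := by rw [hr, hj]; exact Nat.mul_le_mul_left _ hr5
  have hs' : 2 ^ (2 * m + 1) = 2 ^ (m + 1) * 2 ^ m := by rw [← pow_add]; congr 1; omega
  have h2m : 4 ≤ 2 ^ m := by
    calc 4 = 2 ^ 2 := by norm_num
      _ ≤ _ := Nat.pow_le_pow_right two_pos (by omega)
  have hdiff : 3 * 2 ^ (m + 1) ≤ 2 ^ (2 * m + 1) - 2 ^ (m + 1) := by
    have : 2 ^ (m + 1) * 4 ≤ 2 ^ (2 * m + 1) := hs' ▸ Nat.mul_le_mul_left _ h2m
    omega
  have hhalf : 2 * 2 ^ (2 * m) = 2 ^ (2 * m + 1) := by rw [pow_succ']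
  have hbound : 5 * 4 ^ (2 * j + 1) < 2 ^ (2 * m + 1) - 2 ^ (m + 1) + 1 := by
    rcases Nat.eq_zero_or_pos j with rfl | hjpos
    · have : 8 ≤ 2 ^ (m + 1) := by
        calc 8 = 2 ^ 3 := by norm_num
          _ ≤ _ := Nat.pow_le_pow_right two_pos (by omega)
      norm_num
      omega
    · have e4 : 4 ^ (2 * j + 1) = 2 ^ (2 * (2 * j + 1)) := by rw [pow_mul]; norm_num
      have h8 : 2 ^ (2 * (2 * j + 1)) * 8 ≤ 2 ^ (2 * m) := by
        rw [show (8 : ℕ) = 2 ^ 3 from rfl, ← pow_add]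
        exact Nat.pow_le_pow_right two_pos (by omega)
      have h2 : 2 * 2 ^ (m + 1) ≤ 2 ^ (2 * m + 1) := by
        rw [← pow_succ']
        exact Nat.pow_le_pow_right two_pos (by omega)
      rw [e4]
      omega
  rcases hk with rfl | rfl | rfl <;> omega

/-- An automorphism of order prime to three fixing the fixed points of one of order three is trivial. -/
theorem rigid {φ ψ : MulAut ↥(Cfsg.Sz F m)} (hψ : orderOf ψ = 3) (hφ : ¬ 3 ∣ orderOf φ)
    (hfix : ∀ x, ψ x = x → φ x = x) : φ = 1 := by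
  haveI := finite_aut hF hm
  obtain ⟨β, k, hn, hk⟩ := three_field hF hm hψ
  set c := MulAut.conj β φ with hc
  have hoc : orderOf c = orderOf φ := MulEquiv.orderOf_eq _ φ
  have hcfix : ∀ y ∈ subGp hF hm k, c y = y := by
    intro y hy
    show β (φ (β⁻¹ y)) = y
    have : φ (β⁻¹ y) = β⁻¹ y := hfix _ ((hk _).mpr (by rwa [MulAut.apply_inv_self]))
    rw [this, MulAut.apply_inv_self]
  have h01 : (0 : F) ∈ subSet (F := F) k ∧ (1 : F) ∈ subSet (F := F) k :=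
    ⟨zero_pow (by positivity), one_pow _⟩
  have hu := (uS_mem_subGp hF hm).mpr (show (0 : F) ∈ subSet k ∧ (1 : F) ∈ subSet k from h01)
  obtain ⟨i, hin, hi⟩ := frame_aut hF hm (φ := c) (hcfix _ hu) (b := 1) one_ne_zero (by
    rw [hcfix _ (mul_mem (mul_mem (wS_mem_subGp hF hm k) hu) (wS_mem_subGp hF hm k))]
    exact ⟨uS hF 0 1, ⟨0, 1, rfl⟩, by show wS hF * uS hF 0 1 * (wS hF)⁻¹ = _; rw [wS_inv]⟩)
  suffices h1 : c = 1 by
    rw [h1, orderOf_one] at hoc
    exact orderOf_eq_one_iff.mp hoc.symm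
  -- `i` is a multiple of the degree of the subfield
  have hd : 2 * k + 1 ∣ i := by
    obtain ⟨gen, hgen⟩ := IsCyclic.exists_ofOrder_eq_natCard (α := Fˣ)
    rw [Nat.card_units, Nat.card_eq_fintype_card, hF] at hgen
    have hdvd : 2 ^ (2 * k + 1) - 1 ∣ 2 ^ (2 * m + 1) - 1 := by
      refine Nat.pow_sub_one_dvd_pow_sub_one 2 ?_
      rw [hn]; exact dvd_mul_left _ _
    obtain ⟨e, he⟩ := hdvd
    set c0 := gen ^ e
    have hc0 : orderOf c0 = 2 ^ (2 * k + 1) - 1 := by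
      have he0 : 0 < e := Nat.pos_of_ne_zero fun h => by
        rw [h, mul_zero] at he
        have : 2 ≤ 2 ^ (2 * m + 1) := Nat.le_self_pow (by omega) 2
        omega
      rw [orderOf_pow, hgen, he, Nat.gcd_eq_right (dvd_mul_left e _), Nat.mul_div_cancel _ he0]
    have hmem : (c0 : F) ∈ subSet (F := F) k := by
      show (c0 : F) ^ 2 ^ (2 * k + 1) = c0
      have h := pow_orderOf_eq_one c0
      rw [hc0] at h
      rw [← Units.val_pow_eq_pow_val, ← Nat.sub_add_cancel (Nat.one_le_two_pow (n := 2 * k + 1)), pow_succ, h,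
        one_mul]
    have h := hcfix _ ((uS_mem_subGp hF hm).mpr ⟨hmem, h01.1⟩)
    rw [hi, fAut_uS] at h
    have h2 : c0 ^ 2 ^ i = c0 := Units.ext (by rw [Units.val_pow_eq_pow_val]; exact (uS_inj hF h).1)
    have h3 : 2 ^ (2 * k + 1) - 1 ∣ 2 ^ i - 1 := by
      rw [← hc0]
      refine orderOf_dvd_of_pow_eq_one (mul_right_cancel (b := c0) ?_)
      rw [← pow_succ, Nat.sub_add_cancel Nat.one_le_two_pow, h2, one_mul]
    have h4 := Nat.pow_sub_one_gcd_pow_sub_one 2 (2 * k + 1) i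
    rw [Nat.gcd_eq_left h3] at h4
    have h5 : 2 * k + 1 = Nat.gcd (2 * k + 1) i := Nat.pow_right_injective le_rfl (show 2 ^ (2 * k + 1) = 2 ^ Nat.gcd (2 * k + 1) i by
      have := Nat.one_le_two_pow (n := Nat.gcd (2 * k + 1) i)
      have := Nat.one_le_two_pow (n := 2 * k + 1)
      omega)
    exact h5 ▸ Nat.gcd_dvd_right _ _
  have h3 : c ^ 3 = 1 := by
    rw [hi, fAut_pow, fAut_eq_one_iff hF hm, hn]
    obtain ⟨w, rfl⟩ := hd
    exact ⟨w, by ring⟩
  by_contra h1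
  exact hφ (hoc ▸ (orderOf_eq_prime h3 h1) ▸ dvd_rfl)

/-- The fixed points of an automorphism of order three. -/
theorem fixed {ψ : MulAut ↥(Cfsg.Sz F m)} (hψ : orderOf ψ = 3)
    (C : Subgroup ↥(Cfsg.Sz F m)) (hC : ∀ x, x ∈ C ↔ ψ x = x) :
    (Group.IsSolvable C ∧ Nat.card ↥(Cfsg.Sz F m) = 29120 ∧ Nat.card C = 20 ∧
      ∀ z : ↥(Cfsg.Sz F m), orderOf z = 5 → Nat.card (centralizer ({z} : Set ↥(Cfsg.Sz F m))) = 5) ∨
      ∃ (K : Type) (_ : Field K) (_ : Fintype K) (k : ℕ), 1 ≤ k ∧ Fintype.card K = 2 ^ (2 * k + 1) ∧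
        Nonempty (C ≃* ↥(Cfsg.Sz K k)) := by
  obtain ⟨β, k, hn, hk⟩ := three_field hF hm hψ
  let e : C ≃* ↥(subGp hF hm k) :=
    { toFun := fun x => ⟨β x, (hk x).mp ((hC x).mp x.2)⟩
      invFun := fun y => ⟨β⁻¹ y, (hC _).mpr ((hk _).mpr (by rw [MulAut.apply_inv_self]; exact y.2))⟩
      left_inv := fun x => Subtype.ext (MulAut.inv_apply_self _ _ _)
      right_inv := fun y => Subtype.ext (MulAut.apply_inv_self _ _ _)
      map_mul' := fun x y => Subtype.ext (map_mul β _ _) }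
  rcases Nat.eq_zero_or_pos k with rfl | hk1
  · obtain rfl : m = 1 := by omega
    have h20 : Nat.card C = 20 := by rw [Nat.card_congr e.toEquiv, card_subGp_zero hF hm]
    refine Or.inl ⟨?_, by rw [card_Sz hF hm]; norm_num, h20, fun z hz => ?_⟩
    swap
    · obtain ⟨k, hk, hd, hA⟩ := torus_of_ss hF hm (five_ss hF hm hz)
      rw [hA.1]
      rw [hz] at hd
      rcases hk with rfl | rfl | rfl <;> first | rfl | (norm_num at hd; done) | norm_num
    exact CfsgLib.CharTheory.isSolvable_of_card_two_primes (a := 2) (b := 1) Nat.prime_two Nat.prime_five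
      (by rw [h20]; norm_num)
  · obtain ⟨K, iK, iT, hK, ⟨f⟩⟩ := exists_galois_subGp hF hm hk1 (show 2 * k + 1 ∣ 2 * m + 1 from ⟨3, by omega⟩)
    exact Or.inr ⟨K, iK, iT, k, hk1, hK, ⟨e.trans f⟩⟩

end CfsgLib.SF23.SzM
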