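import Cfsg.Agent.Lib.SF23.CubicOp
import Cfsg.Agent.Lib.SF23.SuzModel
import Cfsg.Agent.Lib.Suzuki.Multiplier

/-!
A nontrivial irreducible module in odd characteristic of a perfect central extension of `Sz(q)` has
dimension at least `q - 1`.

Blueprint: `blueprint/S1919.md`, section 4.
-/

set_option autoImplicit false
set_option linter.unusedSectionVars false
set_option linter.style.haveILetI false

namespace CfsgLib.SF23.Cub

open Cfsg CfsgLib.Suzuki Module
open scoped commutatorElement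

universe u v

section irr

variable {k : Type*} [Field k] {M : Type v} [AddCommGroup M] [Module k M] {Γ : Type u} [Group Γ]

/-- Irreducibility. -/
def Irred (ρ : Γ →* Module.End k M) : Prop :=
  ∀ W : Submodule k M, (∀ g, Inv (ρ g) W) → W = ⊥ ∨ W = ⊤

variable {ρ : Γ →* Module.End k M}

theorem scalar_of_commute [IsAlgClosed k] [FiniteDimensional k M] [Nontrivial M] (hirr : Irred ρ)
    {X : Module.End k M} (hX : ∀ g, Commute (ρ g) X) : ∃ c : k, X = c • 1 := by
  obtain ⟨c, hc⟩ := Module.End.exists_eigenvalue X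
  refine ⟨c, ?_⟩
  rcases hirr (LinearMap.ker (X - c • 1)) (fun g => inv_ker ((hX g).sub_right
    ((Commute.one_right _).smul_right c))) with h | h
  · exfalso
    obtain ⟨x, hx⟩ := hc.exists_hasEigenvector
    have : x ∈ LinearMap.ker (X - c • 1) := by simp [hx.apply_eq_smul]
    rw [h, Submodule.mem_bot] at this
    exact hx.2 this
  · exact sub_eq_zero.1 (LinearMap.ker_eq_top.1 h)

theorem scalar_central [IsAlgClosed k] [FiniteDimensional k M] [Nontrivial M] (hirr : Irred ρ) {x : Γ}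
    (hx : x ∈ Subgroup.center Γ) : ∃ c : k, ρ x = c • 1 :=
  scalar_of_commute hirr fun g => ((show Commute g x from Subgroup.mem_center_iff.1 hx g)).map ρ

theorem scalar_ne_zero [Nontrivial M] (ρ : Γ →* Module.End k M) {x : Γ} {c : k}
    (h : ρ x = c • 1) : c ≠ 0 := by
  rintro rfl
  have h1 : ρ x * ρ x⁻¹ = 1 := by rw [← map_mul, mul_inv_cancel, map_one]
  rw [h, zero_smul, zero_mul] at h1
  exact zero_ne_one h1

/-- A commuting family has a common eigenvector in every invariant subspace. -/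
theorem exists_common {ι : Type*} [IsAlgClosed k] (A : ι → Module.End k M)
    (hc : ∀ a b, Commute (A a) (A b)) :
    ∀ (n : ℕ) (W : Submodule k M), [FiniteDimensional k W] → finrank k W ≤ n → W ≠ ⊥ → (∀ a, Inv (A a) W) →
      ∃ v ∈ W, v ≠ 0 ∧ ∃ ψ : ι → k, ∀ a, A a v = ψ a • v := by
  intro n
  induction n with
  | zero =>
    intro W _ h hW
    exact absurd (Submodule.finrank_eq_zero.1 (Nat.le_zero.1 h)) hW
  | succ n ih =>
    intro W _ h hW hinv
    by_cases hall : ∀ a, ∃ c : k, ∀ x ∈ W, A a x = c • x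
    · choose ψ hψ using hall
      obtain ⟨v, hv, hv0⟩ := (Submodule.ne_bot_iff _).1 hW
      exact ⟨v, hv, hv0, ψ, fun a => hψ a v hv⟩
    push Not at hall
    obtain ⟨a, ha⟩ := hall
    haveI : Nontrivial W := Submodule.nontrivial_iff_ne_bot.2 hW
    obtain ⟨c, hcv⟩ := Module.End.exists_eigenvalue ((A a).restrict (hinv a))
    obtain ⟨x, hx⟩ := hcv.exists_hasEigenvector
    set W' := W ⊓ LinearMap.ker (A a - c • 1) with hW'
    obtain ⟨y, hy, hyne⟩ := ha c
    have hlt : W' < W := lt_of_le_of_ne inf_le_left fun e => hyne <| by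
      have : y ∈ W' := e ▸ hy
      exact sub_eq_zero.1 (by simpa using this.2)
    have hx' : (x : M) ∈ W' := by
      refine ⟨x.2, ?_⟩
      have := congrArg Subtype.val hx.apply_eq_smul
      simp only [SetLike.val_smul] at this
      show (A a - c • 1) (x : M) = 0
      rw [LinearMap.sub_apply, LinearMap.smul_apply, Module.End.one_apply, sub_eq_zero]
      exact this
    haveI : FiniteDimensional k W' := Submodule.finiteDimensional_of_le inf_le_left
    obtain ⟨v, hv, h0, ψ, hψ⟩ := ih W' (by have := Submodule.finrank_lt_finrank_of_lt hlt; omega)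
      ((Submodule.ne_bot_iff _).2 ⟨x, hx', fun e => hx.2 (Subtype.ext e)⟩)
      (fun b z hz => ⟨hinv b z hz.1, inv_ker ((hc b a).sub_right ((Commute.one_right _).smul_right c)) z hz.2⟩)
    exact ⟨v, hv.1, h0, ψ, hψ⟩

end irr

variable {F : Type} [Field F] [Fintype F] {m : ℕ} (hF : Fintype.card F = 2 ^ (2 * m + 1)) (hm : 1 ≤ m)
include hF hm

/-- The preimage of `Z` in a central extension is abelian. -/
theorem commute_preimage {Γ : Type u} [Group Γ] {σ : Γ →* ↥(Cfsg.Sz F m)}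
    (hsurj : Function.Surjective σ) (hcen : σ.ker ≤ Subgroup.center Γ) {x y : Γ}
    (hx : σ x ∈ Suzuki.Z hF) (hy : σ y ∈ Suzuki.Z hF) : Commute x y := by
  classical
  set L := Function.surjInv hsurj with hLdef
  have hL : ∀ g, σ (L g) = g := Function.surjInv_eq hsurj
  set e : F → ↥(Cfsg.Sz F m) := fun b => uS hF 0 b with he
  have hee : ∀ b b', e (b + b') = e b * e b' := fun b b' => by
    simp only [he, uS_mul, th_zero, zero_mul, add_zero]
  have hcomE : ∀ b b', Commute (e b) (e b') := fun b b' => by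
    show e b * e b' = e b' * e b
    rw [← hee, ← hee, add_comm]
  obtain ⟨x0, hx0, hx1⟩ := exists_not_zero_one hF hm
  haveI := charTwo hF
  have hx01 : 1 + x0 ≠ 0 := fun e => hx1 (by
    rw [← sub_eq_zero, CharTwo.sub_eq_add, add_comm]; exact e)
  have hbad : 1 + x0⁻¹ ≠ (1 + x0)⁻¹ := by
    intro e
    field_simp at e
    have h3 : x0 ^ 3 = 1 := by linear_combination (x0 - 1) * e
    have hq := FiniteField.pow_card_sub_one_eq_one x0 hx0
    have hd : orderOf x0 ∣ 3 := orderOf_dvd_of_pow_eq_one h3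
    have hd' : orderOf x0 ∣ Fintype.card F - 1 := orderOf_dvd_of_pow_eq_one hq
    rcases (Nat.dvd_prime Nat.prime_three).1 hd with h | h
    · exact hx1 (orderOf_eq_one_iff.1 h)
    · rw [h, hF] at hd'
      have h4 : (2 ^ (2 * m + 1)) % 3 = 2 := by
        rw [Nat.pow_succ, pow_mul, Nat.mul_mod, Nat.pow_mod]
        norm_num
      have : 1 ≤ 2 ^ (2 * m + 1) := Nat.one_le_two_pow
      omega
  obtain ⟨r1, hr1⟩ := th_sq_surj hF (m := m) (one_ne_zero (α := F))
  obtain ⟨r2, hr2⟩ := th_sq_surj hF (m := m) hx0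
  obtain ⟨r3, hr3⟩ := th_sq_surj hF (m := m) hx01
  have hEE : ∀ b b', ⁅L (e b), L (e b')⁆ = 1 := by
    refine Suzuki.Multiplier.biadd_trivial (fun b b' => ⁅L (e b), L (e b')⁆) ?_ ?_ (fun r : Fˣ => th m (r : F) * (r : F) ^ 2)
      (fun r : Fˣ => th m (r : F) * (r : F) ^ 2) (fun x hx => th_sq_surj hF hx)
      (fun r h => mul_ne_zero (fun h' => r.ne_zero (th_eq_zero_iff.mp h')) (pow_ne_zero _ r.ne_zero) h) ?_
      (r₁ := r1) (r₂ := r2) (r₃ := r3) ?_ ?_
    · intro b b' c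
      show ⁅L (e (b + b')), L (e c)⁆ = ⁅L (e b), L (e c)⁆ * ⁅L (e b'), L (e c)⁆
      rw [CfsgLib.StSL.comm_congr hcen (a' := L (e b') * L (e b)) (b' := L (e c))
        (by rw [map_mul, hL, hL, hL, add_comm, hee]) rfl,
        Suzuki.Multiplier.comm_left_add hcen (by rw [hL, hL]; exact hcomE _ _)]
    · intro c b b'
      show ⁅L (e c), L (e (b + b'))⁆ = ⁅L (e c), L (e b)⁆ * ⁅L (e c), L (e b')⁆
      rw [CfsgLib.StSL.comm_congr hcen (a' := L (e c)) (b' := L (e b) * L (e b'))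
        rfl (by rw [map_mul, hL, hL, hL, hee]), Suzuki.Multiplier.comm_right_add hcen (by rw [hL, hL]; exact hcomE _ _)]
    · intro r b b'
      have h := Suzuki.Multiplier.conj_comm (L (dS hF r)) (L (e b)) (L (e b'))
      rw [Suzuki.Multiplier.comm_central hcen (by rw [hL, hL]; exact hcomE _ _) (L (dS hF r)), mul_inv_cancel_right] at h
      show ⁅L (e _), L (e _)⁆ = ⁅L (e b), L (e b')⁆
      rw [h]
      refine (CfsgLib.StSL.comm_congr hcen ?_ ?_).symm <;>
        simp only [map_mul, map_inv, hL, he, dS_uS, mul_zero]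
    · rw [hr1, hr2, hr3]
    · rw [hr1, hr2, hr3, inv_one]; exact hbad
  obtain ⟨b, hb⟩ := hx
  obtain ⟨c, hc⟩ := hy
  rw [← commutatorElement_eq_one_iff_commute,
    CfsgLib.StSL.comm_congr hcen (a' := L (e b)) (b' := L (e c)) (by rw [hL]; exact hb)
      (by rw [hL]; exact hc)]
  exact hEE b c

/-- Borel lower bound. -/
theorem card_le_finrank_borel {k : Type*} [Field k] [IsAlgClosed k] (h2 : (2 : k) ≠ 0)
    {M : Type v} [AddCommGroup M] [Module k M] [FiniteDimensional k M] [Nontrivial M]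
    {Γ : Type u} [Group Γ] {π : Γ →* ↥(Cfsg.Sz F m)} (hsurj : Function.Surjective π)
    (hperf : commutator Γ = ⊤) (hcen : π.ker ≤ Subgroup.center Γ) {ρ : Γ →* Module.End k M}
    (hirr : Irred ρ) (hne : ∃ g, ρ g ≠ 1) : Fintype.card F - 1 ≤ finrank k M := by
  classical
  set E : Subgroup Γ := (Suzuki.Z hF).comap π with hEdef
  have hEc : ∀ x y : E, Commute (ρ x) (ρ y) := fun x y =>
    (commute_preimage hF hm hsurj hcen x.2 y.2).map ρ
  set L := Function.surjInv hsurj with hLdef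
  have hL : ∀ g, π (L g) = g := Function.surjInv_eq hsurj
  -- an element of `E` acting without being scalar
  obtain ⟨x₀, hx₀⟩ : ∃ x : E, ∀ c : k, ρ (x : Γ) ≠ c • 1 := by
    by_contra hall
    push Not at hall
    let K : Subgroup Γ :=
      { carrier := {g | ∃ c : k, ρ g = c • 1}
        one_mem' := ⟨1, by rw [map_one, one_smul]⟩
        mul_mem' := fun {a b} ⟨c, hc⟩ ⟨d, hd⟩ => ⟨c * d, by rw [map_mul, hc, hd, smul_mul_smul_comm, one_mul]⟩
        inv_mem' := fun {a} ⟨c, hc⟩ => ⟨c⁻¹, by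
          have h1 : ρ a * ρ a⁻¹ = 1 := by rw [← map_mul, mul_inv_cancel, map_one]
          rw [hc, smul_mul_assoc, one_mul] at h1
          rw [← h1, smul_smul, inv_mul_cancel₀ (scalar_ne_zero ρ hc), one_smul]⟩ }
    have hKn : K.Normal := ⟨fun a ⟨c, hc⟩ g => ⟨c, by
      rw [map_mul, map_mul, hc, mul_smul_comm, mul_one, smul_mul_assoc, ← map_mul, mul_inv_cancel, map_one]⟩⟩
    haveI : (K.map π).Normal := Subgroup.Normal.map hKn π hsurj
    haveI := Suzuki.isSimple hF hm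
    have htop : K.map π = ⊤ := (Subgroup.Normal.eq_bot_or_eq_top inferInstance).resolve_left fun e => by
      have h1 : uS hF 0 (1 : F) ∈ K.map π :=
        ⟨L (uS hF 0 1), hall ⟨L (uS hF 0 1), by rw [hEdef, Subgroup.mem_comap, hL]; exact ⟨1, rfl⟩⟩, hL _⟩
      rw [e, Subgroup.mem_bot, ← uS_zero hF] at h1
      exact one_ne_zero (uS_inj hF h1).2
    have hKtop : ∀ g, ∃ c : k, ρ g = c • 1 := by
      intro g
      obtain ⟨h, ⟨c, hc⟩, hh⟩ : π g ∈ K.map π := htop ▸ Subgroup.mem_top _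
      have hk : h⁻¹ * g ∈ π.ker := by rw [MonoidHom.mem_ker, map_mul, map_inv, hh, inv_mul_cancel]
      obtain ⟨d, hd⟩ := scalar_central hirr (hcen hk)
      refine ⟨c * d, ?_⟩
      rw [← mul_inv_cancel_left h g, map_mul, hc, hd, smul_mul_smul_comm, one_mul]
    obtain ⟨g, hg⟩ := hne
    refine hg ?_
    have hle : commutator Γ ≤ ρ.ker := by
      rw [commutator_def, Subgroup.commutator_le]
      intro a _ b _
      obtain ⟨c, hc⟩ := hKtop a
      obtain ⟨c', hc'⟩ := hKtop a⁻¹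
      rw [MonoidHom.mem_ker, commutatorElement_def, map_mul, map_mul, map_mul, hc, hc',
        smul_mul_assoc, one_mul, smul_mul_assoc, mul_smul_comm, mul_one, smul_mul_assoc, smul_mul_assoc, ← map_mul,
        mul_inv_cancel, map_one]
      have h1 : ρ a * ρ a⁻¹ = 1 := by rw [← map_mul, mul_inv_cancel, map_one]
      rw [hc, hc', smul_mul_smul_comm, one_mul] at h1
      rw [smul_smul]
      exact h1
    exact (MonoidHom.mem_ker).1 (hle (hperf ▸ Subgroup.mem_top g))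
  -- two different weights
  set A : E → Module.End k M := fun x => ρ x with hA
  obtain ⟨c, hc⟩ : ∃ c : k, ρ (x₀ : Γ) * ρ x₀ = c • 1 := by
    obtain ⟨b, hb⟩ := x₀.2
    obtain ⟨c, hc⟩ := scalar_central hirr (hcen (show (x₀ : Γ) * x₀ ∈ π.ker by
      rw [MonoidHom.mem_ker, map_mul, hb, uS_sq, mul_zero, uS_zero]))
    exact ⟨c, by rw [← map_mul, hc]⟩
  have hc0 : c ≠ 0 := scalar_ne_zero ρ (x := (x₀ : Γ) * x₀) (by rw [map_mul, hc])
  obtain ⟨s, hs⟩ := IsAlgClosed.exists_pow_nat_eq c (n := 2) (by norm_num)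
  have hW : ∀ t : k, t ^ 2 = c → LinearMap.ker (ρ (x₀ : Γ) - t • 1) ≠ ⊥ := by
    intro t ht hbot
    refine hx₀ (-t) (LinearMap.ext fun x => ?_)
    have hx : (ρ (x₀ : Γ)) x + t • x ∈ LinearMap.ker (ρ (x₀ : Γ) - t • 1) := by
      rw [LinearMap.mem_ker, LinearMap.sub_apply, LinearMap.smul_apply, Module.End.one_apply, map_add,
        map_smul, ← Module.End.mul_apply, hc, LinearMap.smul_apply, Module.End.one_apply, ← ht, smul_add,
        smul_smul, pow_two]
      abel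
    rw [hbot, Submodule.mem_bot, add_eq_zero_iff_eq_neg] at hx
    rw [hx, LinearMap.smul_apply, Module.End.one_apply, neg_smul]
  have hs0 : s ≠ 0 := fun e => hc0 (by rw [← hs, e]; simp)
  have hWinv : ∀ t : k, ∀ x : E, Inv (A x) (LinearMap.ker (ρ (x₀ : Γ) - t • 1)) := fun t x =>
    inv_ker ((hEc x x₀).sub_right ((Commute.one_right _).smul_right t))
  obtain ⟨v₁, hv₁m, hv₁, ψ₁, hψ₁⟩ := exists_common A hEc _ _ le_rfl (hW s hs) (hWinv s)
  obtain ⟨v₂, hv₂m, hv₂, ψ₂, hψ₂⟩ := exists_common A hEc _ _ le_rfl (hW (-s) (by rw [neg_sq, hs]))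
    (hWinv (-s))
  have hval : ∀ (t : k) (v : M) (ψ : E → k), v ∈ LinearMap.ker (ρ (x₀ : Γ) - t • 1) → v ≠ 0 →
      (∀ a, A a v = ψ a • v) → ψ x₀ = t := by
    intro t v ψ hv hv0 hψ
    rw [LinearMap.mem_ker, LinearMap.sub_apply, sub_eq_zero, LinearMap.smul_apply,
      Module.End.one_apply] at hv
    exact smul_left_injective k hv0 (show ψ x₀ • v = t • v by rw [← hψ x₀, ← hv])
  have hne12 : ψ₁ ≠ ψ₂ := fun e => by
    have h1 := hval s v₁ ψ₁ hv₁m hv₁ hψ₁
    rw [e, hval (-s) v₂ ψ₂ hv₂m hv₂ hψ₂] at h1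
    exact mul_ne_zero h2 hs0 (by linear_combination -h1)
  -- conjugate weights
  have hnorm : ∀ (a : Fˣ) (x : E), (L (dS hF a))⁻¹ * (x : Γ) * L (dS hF a) ∈ E := by
    intro a x
    obtain ⟨b, hb⟩ := x.2
    show π _ ∈ Suzuki.Z hF
    rw [map_mul, map_mul, map_inv, hL, hb]
    refine ⟨th m ((a⁻¹ : Fˣ) : F) * ((a⁻¹ : Fˣ) : F) ^ 2 * b, ?_⟩
    have h := dS_uS hF a⁻¹ 0 b
    rw [mul_zero, ← dS_inv, inv_inv] at h
    exact h
  set act : Fˣ → (E → k) → (E → k) := fun a ψ x => ψ ⟨_, hnorm a x⟩ with hact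
  have hactv : ∀ (a : Fˣ) (v : M) (ψ : E → k), (∀ x, A x v = ψ x • v) →
      ∀ x, A x (ρ (L (dS hF a)) v) = act a ψ x • ρ (L (dS hF a)) v := by
    intro a v ψ hψ x
    have h := congrArg (ρ (L (dS hF a))) (hψ ⟨_, hnorm a x⟩)
    rw [map_smul] at h
    simp only [hA] at h ⊢
    rw [← h, ← Module.End.mul_apply, ← Module.End.mul_apply, ← map_mul, ← map_mul]
    congr 2
    group
  have hρ0 : ∀ (g : Γ) (v : M), v ≠ 0 → ρ g v ≠ 0 := fun g v hv e => hv (by
    have h := congrArg (ρ g⁻¹) e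
    rwa [map_zero, ← Module.End.mul_apply, ← map_mul, inv_mul_cancel, map_one, Module.End.one_apply] at h)
  have hker : ∀ (v : M) (ψ : E → k), v ≠ 0 → (∀ x, A x v = ψ x • v) → ∀ κ : E, (κ : Γ) ∈ π.ker →
      ∀ d : k, ρ (κ : Γ) = d • 1 → ψ κ = d := fun v ψ hv hψ κ _ d hd =>
    smul_left_injective k hv (show ψ κ • v = d • v by
      rw [← hψ κ]
      simp only [hA, hd, LinearMap.smul_apply, Module.End.one_apply])
  have hmulψ : ∀ (v : M) (ψ : E → k), v ≠ 0 → (∀ x, A x v = ψ x • v) → ∀ x y, ψ (x * y) = ψ x * ψ y :=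
    fun v ψ hv hψ x y => smul_left_injective k hv (show ψ (x * y) • v = (ψ x * ψ y) • v by
      rw [← hψ (x * y)]
      simp only [hA, Subgroup.coe_mul, map_mul, Module.End.mul_apply]
      rw [show ρ (y : Γ) v = ψ y • v from hψ y, map_smul, show ρ (x : Γ) v = ψ x • v from hψ x, smul_smul,
        mul_comm])
  -- a weight fixed by a nontrivial torus element is unique
  have huniq : ∀ (a : Fˣ), a ≠ 1 → ∀ (v v' : M) (ψ ψ' : E → k), v ≠ 0 → v' ≠ 0 → (∀ x, A x v = ψ x • v) →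
      (∀ x, A x v' = ψ' x • v') → act a ψ = ψ → act a ψ' = ψ' → ψ = ψ' := by
    intro a ha v v' ψ ψ' hv hv' hψ hψ' hf hf'
    funext x
    obtain ⟨b, hb⟩ := x.2
    set sc : F := th m ((a⁻¹ : Fˣ) : F) * ((a⁻¹ : Fˣ) : F) ^ 2 with hsc
    have hsc1 : sc ≠ 1 := fun e => ha (by
      have := eq_one_of_th_sq hF e
      rw [Units.val_eq_one, inv_eq_one] at this
      exact this)
    have hsc0 : sc + 1 ≠ 0 := fun e => hsc1 (by
      haveI := charTwo hF
      rw [← sub_eq_zero, CharTwo.sub_eq_add]; exact e)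
    set y : E := ⟨L (uS hF 0 (b * (sc + 1)⁻¹)), by
      rw [hEdef, Subgroup.mem_comap, hL]; exact ⟨_, rfl⟩⟩ with hy
    set D : E := ⟨_, hnorm a y⟩ * y⁻¹ with hD
    have hπD : π (D : Γ) = π (x : Γ) := by
      have h := dS_uS hF a⁻¹ 0 (b * (sc + 1)⁻¹)
      rw [mul_zero, ← dS_inv, inv_inv] at h
      show π ((L (dS hF a))⁻¹ * L (uS hF 0 _) * L (dS hF a) * (L (uS hF 0 _))⁻¹) = _
      rw [map_mul, map_mul, map_mul, map_inv, map_inv, hL, hL, h, uS_inv, uS_mul, hb]
      haveI := charTwo hF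
      rw [← hsc]
      congr 1
      · rw [add_zero]
      · rw [th_zero, zero_mul, add_zero, add_zero,
          show sc * (b * (sc + 1)⁻¹) + b * (sc + 1)⁻¹ = b * ((sc + 1) * (sc + 1)⁻¹) by ring,
          mul_inv_cancel₀ hsc0, mul_one]
    obtain ⟨d, hd⟩ := scalar_central hirr (hcen (show ((x * D⁻¹ : E) : Γ) ∈ π.ker by
      rw [MonoidHom.mem_ker, Subgroup.coe_mul, InvMemClass.coe_inv, map_mul, map_inv, hπD, mul_inv_cancel]))
    have key : ∀ (w : M) (φ : E → k), w ≠ 0 → (∀ x, A x w = φ x • w) → act a φ = φ → φ x = d := by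
      intro w φ hw hφ hfix
      have h1 : φ ⟨_, hnorm a y⟩ = φ y := congrFun hfix y
      have h2 : φ D = 1 := by
        rw [hD, hmulψ w φ hw hφ, h1, ← hmulψ w φ hw hφ, mul_inv_cancel]
        exact smul_left_injective k hw (show φ 1 • w = (1 : k) • w by
          rw [← hφ 1]
          simp only [hA, OneMemClass.coe_one, map_one, Module.End.one_apply, one_smul])
      have h3 : φ (x * D⁻¹) = d := hker w φ hw hφ _ (by
        rw [MonoidHom.mem_ker, Subgroup.coe_mul, InvMemClass.coe_inv, map_mul, map_inv, hπD, mul_inv_cancel]) d hd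
      rw [show x = x * D⁻¹ * D by rw [inv_mul_cancel_right], hmulψ w φ hw hφ, h2, h3, mul_one]
    rw [key v ψ hv hψ hf, key v' ψ' hv' hψ' hf']
  -- torus elements act on weights
  have hcomp : ∀ (a b : Fˣ) (v : M) (ψ : E → k), v ≠ 0 → (∀ x, A x v = ψ x • v) →
      act a (act b ψ) = act (a * b) ψ := by
    intro a b v ψ hv hψ
    funext x
    have hk : (L (dS hF a) * L (dS hF b))⁻¹⁻¹ * (L (dS hF (a * b)))⁻¹ ∈ π.ker := by
      rw [MonoidHom.mem_ker, inv_inv, map_mul, map_mul, map_inv, hL, hL, hL, dS_mul, mul_inv_cancel]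
    rw [inv_inv] at hk
    have hz := Subgroup.mem_center_iff.1 (hcen hk)
    simp only [hact]
    congr 1
    refine Subtype.ext ?_
    show (L (dS hF b))⁻¹ * ((L (dS hF a))⁻¹ * (x : Γ) * L (dS hF a)) * L (dS hF b) =
      (L (dS hF (a * b)))⁻¹ * (x : Γ) * L (dS hF (a * b))
    set P := L (dS hF (a * b))
    set Q := L (dS hF a) * L (dS hF b)
    calc (L (dS hF b))⁻¹ * ((L (dS hF a))⁻¹ * (x : Γ) * L (dS hF a)) * L (dS hF b)
        = P⁻¹ * (Q * P⁻¹)⁻¹ * ((x : Γ) * (Q * P⁻¹)) * P := by simp only [Q]; group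
      _ = P⁻¹ * (Q * P⁻¹)⁻¹ * ((Q * P⁻¹) * (x : Γ)) * P := by rw [hz (x : Γ)]
      _ = P⁻¹ * (x : Γ) * P := by group
  have hone : ∀ (v : M) (ψ : E → k), v ≠ 0 → (∀ x, A x v = ψ x • v) → act 1 ψ = ψ := by
    intro v ψ hv hψ
    funext x
    have hk : L (dS hF (1 : Fˣ)) ∈ π.ker := by rw [MonoidHom.mem_ker, hL, dS_one]
    have hz := Subgroup.mem_center_iff.1 (hcen hk) (x : Γ)
    simp only [hact]
    congr 1
    refine Subtype.ext ?_
    show _ * (x : Γ) * _ = _
    rw [mul_assoc, hz, inv_mul_cancel_left]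
  -- count
  have key : ∀ (v : M) (ψ : E → k), v ≠ 0 → (∀ x, A x v = ψ x • v) →
      Fintype.card F - 1 ≤ finrank k M ∨ ∃ a : Fˣ, a ≠ 1 ∧ act a ψ = ψ := by
    intro v ψ hv hψ
    by_cases hinj : Function.Injective (fun a : Fˣ => act a ψ)
    · left
      rw [← Fintype.card_units]
      exact card_le_finrank (ρ.comp E.subtype) (fun a : Fˣ => ρ (L (dS hF a)) v) (fun a => act a ψ)
        (fun a => hρ0 _ v hv) (fun a => hactv a v ψ hψ) hinj
    · right
      simp only [Function.Injective, not_forall] at hinj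
      obtain ⟨a, b, hab, hne⟩ := hinj
      refine ⟨a⁻¹ * b, fun e => hne (inv_mul_eq_one.1 e), ?_⟩
      rw [← hcomp a⁻¹ b v ψ hv hψ, ← hab, hcomp a⁻¹ a v ψ hv hψ, inv_mul_cancel, hone v ψ hv hψ]
  rcases key v₁ ψ₁ hv₁ hψ₁ with h | ⟨a, ha, hfa⟩
  · exact h
  rcases key v₂ ψ₂ hv₂ hψ₂ with h | ⟨b, hb, hfb⟩
  · exact h
  exfalso
  refine hne12 (huniq b hb v₁ v₂ ψ₁ ψ₂ hv₁ hv₂ hψ₁ hψ₂ ?_ hfb)
  refine huniq a ha _ v₁ _ ψ₁ (hρ0 (L (dS hF b)) v₁ hv₁) hv₁ (hactv b v₁ ψ₁ hψ₁) hψ₁ ?_ hfa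
  rw [hcomp a b v₁ ψ₁ hv₁ hψ₁, mul_comm, ← hcomp b a v₁ ψ₁ hv₁ hψ₁, hfa]

end CfsgLib.SF23.Cub
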