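import Mathlib

/-!
Linear algebra for the argument on cubic elements: relative traces, one cyclic operator normalised
by an operator of order four, weights.

Blueprint: `blueprint/S1919.md`, section 4.
-/

set_option autoImplicit false
set_option linter.unusedSectionVars false

namespace CfsgLib.SF23.Cub

open Module

universe u v w

variable {k : Type u} [Field k] {M : Type v} [AddCommGroup M] [Module k M]

/-- The submodule `P` is invariant under `f`. -/
def Inv (f : Module.End k M) (P : Submodule k M) : Prop := ∀ x ∈ P, f x ∈ P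

theorem Inv.pow {f : Module.End k M} {P : Submodule k M} (h : Inv f P) (n : ℕ) : Inv (f ^ n) P := by
  induction n with
  | zero => exact fun x hx => hx
  | succ n ih => exact fun x hx => by rw [pow_succ']; exact h _ (ih x hx)

theorem inv_ker {f g : Module.End k M} (h : Commute f g) : Inv f (LinearMap.ker g) := fun x hx => by
  rw [LinearMap.mem_ker] at hx ⊢
  rw [← Module.End.mul_apply, ← h.eq, Module.End.mul_apply, hx, map_zero]

theorem inv_range {f g : Module.End k M} (h : Commute f g) : Inv f (LinearMap.range g) := by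
  rintro x ⟨y, rfl⟩
  exact ⟨f y, by rw [← Module.End.mul_apply, ← h.eq, Module.End.mul_apply]⟩

/-! ### The sum over an orbit of a cubic unipotent operator -/

theorem mulLeft_pow_apply (D : Module.End k M) (n : ℕ) (h : Module.End k M) :
    (LinearMap.mulLeft k D ^ n) h = D ^ n * h := by
  induction n generalizing h with
  | zero => simp
  | succ n ih => rw [pow_succ, Module.End.mul_apply, LinearMap.mulLeft_apply, ih, pow_succ, mul_assoc]

theorem mulRight_pow_apply (D : Module.End k M) (n : ℕ) (h : Module.End k M) :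
    (LinearMap.mulRight k D ^ n) h = h * D ^ n := by
  induction n generalizing h with
  | zero => simp
  | succ n ih => rw [pow_succ, Module.End.mul_apply, LinearMap.mulRight_apply, ih, pow_succ', mul_assoc]

theorem geom_eq_pow {r : ℕ} [Fact r.Prime] [CharP k r] :
    (∑ i ∈ Finset.range r, (Polynomial.X : Polynomial k) ^ i) = (Polynomial.X - 1) ^ (r - 1) := by
  haveI : CharP (Polynomial k) r := inferInstance
  have h0 : (Polynomial.X - 1 : Polynomial k) ≠ 0 := by
    intro e
    have := congrArg (Polynomial.eval (0 : k)) e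
    simp at this
  refine mul_right_cancel₀ h0 ?_
  rw [geom_sum_mul, ← pow_succ, Nat.sub_add_cancel (Fact.out : r.Prime).one_le, sub_pow_char, one_pow]

theorem conj_sum_mem {r : ℕ} [Fact r.Prime] [CharP k r] (hr : 5 ≤ r) {Z Z' : Module.End k M}
    (h1 : Z * Z' = 1) (h2 : Z' * Z = 1) (hZ : (Z - 1) ^ 3 = 0) (h : Module.End k M) :
    ∃ h' : Module.End k M, ∑ i ∈ Finset.range r, Z ^ i * h * Z' ^ i = (Z - 1) ^ 2 * h' := by
  set X : Module.End k (Module.End k M) := LinearMap.mulLeft k (Z - 1) with hX
  set Y : Module.End k (Module.End k M) := LinearMap.mulRight k (Z - 1) with hY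
  set S : Module.End k (Module.End k M) := LinearMap.mulRight k Z' with hS
  set C : Module.End k (Module.End k M) := LinearMap.mulLeft k Z * S with hC
  have hLR : ∀ a b : Module.End k M, Commute (LinearMap.mulLeft k a) (LinearMap.mulRight k b) :=
    fun a b => LinearMap.ext fun x => (mul_assoc a x b).symm
  have hCi : ∀ i, (C ^ i) h = Z ^ i * h * Z' ^ i := by
    intro i
    rw [hC, (hLR Z Z').mul_pow, Module.End.mul_apply, mulLeft_pow_apply, mulRight_pow_apply, mul_assoc]
  have hsum : ∑ i ∈ Finset.range r, C ^ i = (C - 1) ^ (r - 1) := by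
    have := congrArg (Polynomial.aeval C) (geom_eq_pow (k := k) (r := r))
    simpa using this
  have hCS : C - 1 = S * (X - Y) := by
    refine LinearMap.ext fun x => ?_
    simp only [hC, hS, hX, hY, LinearMap.sub_apply, Module.End.one_apply, Module.End.mul_apply,
      LinearMap.mulLeft_apply, LinearMap.mulRight_apply, sub_mul, mul_sub, one_mul, mul_one, mul_assoc, h1]
    abel
  have hcXY : Commute X Y := hLR _ _
  have hcSY : Commute S Y := LinearMap.ext fun x => by
    show x * (Z - 1) * Z' = x * Z' * (Z - 1)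
    rw [mul_assoc, mul_assoc, sub_mul, mul_sub Z', h1, h2, one_mul, mul_one]
  have hcSX : Commute S X := (hLR _ _).symm
  have hY3 : ∀ b, 3 ≤ b → Y ^ b = 0 := fun b hb => LinearMap.ext fun x => by
    rw [hY, mulRight_pow_apply, pow_eq_zero_of_le hb hZ, mul_zero, LinearMap.zero_apply]
  obtain ⟨Φ, hΦ⟩ : ∃ Φ : Module.End k (Module.End k M), (X - Y) ^ (r - 1) = X ^ 2 * Φ := by
    refine ⟨∑ m ∈ Finset.range (r - 1 + 1),
      if 2 ≤ m then X ^ (m - 2) * (-Y) ^ (r - 1 - m) * ((r - 1).choose m : Module.End k (Module.End k M))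
      else 0, ?_⟩
    rw [sub_eq_add_neg, hcXY.neg_right.add_pow, Finset.mul_sum]
    refine Finset.sum_congr rfl fun m _ => ?_
    split_ifs with hm
    · rw [← mul_assoc, ← mul_assoc, ← pow_add, Nat.add_sub_cancel' hm]
    · rw [mul_zero, show (-Y) ^ (r - 1 - m) = 0 by rw [neg_eq_neg_one_mul Y, (Commute.neg_one_left Y).mul_pow, hY3 _ (by omega), mul_zero], mul_zero,
        zero_mul]
  refine ⟨(S ^ (r - 1) * Φ) h, ?_⟩
  have hcomm : Commute (S ^ (r - 1)) (X ^ 2) := hcSX.pow_pow _ _
  have e := LinearMap.congr_fun hsum h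
  rw [LinearMap.sum_apply, Finset.sum_congr rfl fun i _ => hCi i, hCS,
    ((hcSX.sub_right hcSY)).mul_pow, hΦ, ← mul_assoc, hcomm.eq, mul_assoc, Module.End.mul_apply, hX,
    mulLeft_pow_apply] at e
  exact e

/-- A sum over a set permuted freely in orbits of length `r`. -/
theorem sum_mem_of_free {ι : Type w} [DecidableEq ι] {N : Type v} [AddCommMonoid N] (S : AddSubmonoid N)
    (σ : ι → ι) (r : ℕ) (F : ι → N) (hper : ∀ q, σ^[r] q = q)
    (horb : ∀ q, ∑ i ∈ Finset.range r, F (σ^[i] q) ∈ S) :
    ∀ s : Finset ι, (∀ q ∈ s, σ q ∈ s) → (∀ q ∈ s, ∀ i, 0 < i → i < r → σ^[i] q ≠ q) → 0 < r →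
      ∑ q ∈ s, F q ∈ S := by
  intro s
  induction s using Finset.strongInduction with
  | _ s ih =>
    intro hs hfree hr
    rcases s.eq_empty_or_nonempty with rfl | ⟨q, hq⟩
    · simp
    set O := (Finset.range r).image fun i => σ^[i] q with hO
    have hiter : ∀ i, σ^[i] q ∈ s := by
      intro i
      induction i with
      | zero => exact hq
      | succ i ihi => rw [Function.iterate_succ_apply']; exact hs _ ihi
    have hOs : O ⊆ s := by
      intro x hx
      obtain ⟨i, -, rfl⟩ := Finset.mem_image.1 hx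
      exact hiter i
    have hinj : ∀ a b, a ≤ b → b < r → σ^[a] q = σ^[b] q → a = b := by
      intro a b hab hb e
      by_contra hne
      refine hfree _ (hiter a) (b - a) (by omega) (by omega) ?_
      rw [← Function.iterate_add_apply, Nat.sub_add_cancel hab, ← e]
    have hsumO : ∑ x ∈ O, F x = ∑ i ∈ Finset.range r, F (σ^[i] q) := by
      refine Finset.sum_image fun a ha b hb e => ?_
      rcases le_total a b with h | h
      · exact hinj a b h (Finset.mem_range.1 hb) e
      · exact (hinj b a h (Finset.mem_range.1 ha) e.symm).symm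
    rw [← Finset.sum_sdiff hOs, hsumO]
    refine S.add_mem (ih _ (Finset.sdiff_ssubset hOs ⟨q, Finset.mem_image.2 ⟨0, Finset.mem_range.2 hr, rfl⟩⟩)
      (fun x hx => ?_) (fun x hx => hfree x (Finset.mem_sdiff.1 hx).1) hr) (horb q)
    obtain ⟨hxs, hxO⟩ := Finset.mem_sdiff.1 hx
    refine Finset.mem_sdiff.2 ⟨hs x hxs, fun hc => hxO ?_⟩
    obtain ⟨i, hi, hix⟩ := Finset.mem_image.1 hc
    have e : x = σ^[r - 1 + i] q := by
      conv_lhs => rw [← hper x, show r = (r - 1) + 1 by omega, Function.iterate_succ_apply, ← hix,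
        ← Function.iterate_add_apply]
    refine Finset.mem_image.2 ⟨(r - 1 + i) % r, Finset.mem_range.2 (Nat.mod_lt _ hr), ?_⟩
    rw [e]
    conv_rhs => rw [← Nat.mod_add_div (r - 1 + i) r, Function.iterate_add_apply, Function.iterate_mul]
    congr 1
    exact (Function.iterate_fixed (hper q) _).symm

/-! ### Eigenvectors of an operator with a scalar square -/

theorem exists_eigvec_of_sq [IsAlgClosed k] (h2 : (2 : k) ≠ 0) {T : Module.End k M}
    {B K : Submodule k M} {c : k} (hc : c ≠ 0) (hB : Inv T B) (hT : ∀ x ∈ B, T (T x) = c • x)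
    {x : M} (hxB : x ∈ B) (hxK : x ∉ K) : ∃ v ∈ B, v ∉ K ∧ ∃ s : k, s ≠ 0 ∧ T v = s • v := by
  obtain ⟨s, hs⟩ := IsAlgClosed.exists_pow_nat_eq c (n := 2) (by norm_num)
  have hs0 : s ≠ 0 := fun e => hc (by rw [← hs, e]; simp)
  by_cases hp : s • x + T x ∈ K
  · refine ⟨s • x - T x, B.sub_mem (B.smul_mem _ hxB) (hB x hxB), fun hm => hxK ?_, -s, neg_ne_zero.2 hs0, ?_⟩
    · have h := K.add_mem hp hm
      rw [show s • x + T x + (s • x - T x) = (2 * s) • x by rw [two_mul, add_smul]; abel] at h
      have h' := K.smul_mem (2 * s)⁻¹ h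
      rwa [smul_smul, inv_mul_cancel₀ (mul_ne_zero h2 hs0), one_smul] at h'
    · rw [map_sub, map_smul, hT x hxB, ← hs, smul_sub, smul_smul]
      simp only [neg_smul, neg_mul, pow_two]
      abel
  · refine ⟨s • x + T x, B.add_mem (B.smul_mem _ hxB) (hB x hxB), hp, s, hs0, ?_⟩
    rw [map_add, map_smul, hT x hxB, ← hs, smul_add, smul_smul, pow_two]
    abel

/-! ### Projection on a cyclic block -/

section block

variable [FiniteDimensional k M]

theorem exists_block_proj (a : Module.End k M) {N L : ℕ} (hN : IsCompl (LinearMap.ker (a ^ N)) (LinearMap.range (a ^ N)))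
    (hL : ∀ x ∈ LinearMap.ker (a ^ N), (a ^ L) x = 0) {v : M} (hv : v ∈ LinearMap.ker (a ^ N))
    (hv' : L = 0 ∨ (a ^ (L - 1)) v ≠ 0) :
    ∃ e : Module.End k M, Commute e a ∧
      (∀ x, e x ∈ Submodule.span k (Set.range fun i : Fin L => (a ^ (i : ℕ)) v)) ∧
      e v = v ∧ (∀ x ∈ LinearMap.range (a ^ N), e x = 0) := by
  classical
  rcases Nat.eq_zero_or_pos L with rfl | hL0
  · have hv0 : v = 0 := by simpa using hL v hv
    exact ⟨0, Commute.zero_left _, fun x => Submodule.zero_mem _, by simp [hv0], fun x _ => rfl⟩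
  have hv1 : (a ^ (L - 1)) v ≠ 0 := hv'.resolve_left (by omega)
  set U := Submodule.span k (Set.range fun i : Fin L => (a ^ (i : ℕ)) v) with hU
  set Q := LinearMap.range (a ^ N) with hQ
  have hKinv : ∀ i : ℕ, Inv (a ^ i) (LinearMap.ker (a ^ N)) := fun i =>
    inv_ker ((Commute.refl a).pow_pow _ _)
  have hQinv : ∀ i : ℕ, Inv (a ^ i) Q := fun i => inv_range ((Commute.refl a).pow_pow _ _)
  have hnot : (a ^ (L - 1)) v ∉ Q := fun h =>
    hv1 (Submodule.disjoint_def.1 hN.disjoint _ (hKinv _ _ hv) h)
  obtain ⟨φ, hφv, hφQ⟩ := Submodule.exists_dual_map_eq_bot_of_notMem hnot inferInstance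
  have hφQ' : ∀ x ∈ Q, φ x = 0 := fun x hx => by
    have : φ x ∈ Q.map φ := Submodule.mem_map_of_mem hx
    rwa [hφQ, Submodule.mem_bot] at this
  set W : Submodule k M := ⨅ i : Fin L, LinearMap.ker (φ ∘ₗ (a ^ (i : ℕ))) with hW
  have hWmem : ∀ x, x ∈ W ↔ ∀ i, i < L → φ ((a ^ i) x) = 0 := by
    intro x
    simp only [hW, Submodule.mem_iInf, LinearMap.mem_ker, LinearMap.comp_apply]
    exact ⟨fun h i hi => h ⟨i, hi⟩, fun h i => h i i.2⟩
  have hQW : Q ≤ W := fun x hx => (hWmem x).2 fun i _ => hφQ' _ (hQinv i x hx)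
  have hvan : ∀ x, φ ((a ^ L) x) = 0 := by
    intro x
    obtain ⟨y, hy, w, hw, rfl⟩ := Submodule.mem_sup.1 (hN.sup_eq_top.ge (Submodule.mem_top (x := x)))
    rw [map_add, map_add, hL y hy, map_zero, zero_add]
    exact hφQ' _ (hQinv L w hw)
  have hUinv : Inv a U := by
    intro x hx
    induction hx using Submodule.span_induction with
    | mem x hx =>
      obtain ⟨i, rfl⟩ := hx
      rw [← Module.End.mul_apply, ← pow_succ']
      by_cases hi : (i : ℕ) + 1 < L
      · exact Submodule.subset_span ⟨⟨_, hi⟩, rfl⟩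
      · rw [show (i : ℕ) + 1 = L by have := i.2; omega, hL v hv]
        exact U.zero_mem
    | zero => rw [map_zero]; exact U.zero_mem
    | add x y _ _ hx hy => rw [map_add]; exact U.add_mem hx hy
    | smul c x _ hx => rw [map_smul]; exact U.smul_mem c hx
  have hWinv : Inv a W := by
    intro x hx
    refine (hWmem _).2 fun i hi => ?_
    rw [← Module.End.mul_apply, ← pow_succ]
    by_cases h : i + 1 < L
    · exact (hWmem x).1 hx _ h
    · rw [show i + 1 = L by omega]
      exact hvan x
  have hvU : v ∈ U := Submodule.subset_span ⟨⟨0, hL0⟩, by simp⟩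
  have hdisj : Disjoint U W := by
    rw [Submodule.disjoint_def]
    intro x hxU hxW
    obtain ⟨c, hc⟩ := (Submodule.mem_span_range_iff_exists_fun k).1 hxU
    suffices h : ∀ n (i : Fin L), (i : ℕ) < n → c i = 0 by
      rw [← hc]
      exact Finset.sum_eq_zero fun i _ => by rw [h L i i.2, zero_smul]
    intro n
    induction n with
    | zero => exact fun i hi => absurd hi (Nat.not_lt_zero _)
    | succ n ih =>
      intro i hi
      rcases Nat.lt_succ_iff_lt_or_eq.1 hi with h | h
      · exact ih i h
      have e := (hWmem x).1 hxW (L - 1 - n) (by omega)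
      rw [← hc, map_sum, map_sum, Finset.sum_eq_single i] at e
      · rw [map_smul, map_smul, ← Module.End.mul_apply, ← pow_add, smul_eq_mul,
          show L - 1 - n + (i : ℕ) = L - 1 by omega] at e
        exact (mul_eq_zero.1 e).resolve_right hφv
      · intro j _ hji
        rw [map_smul, map_smul]
        rcases Nat.lt_or_gt_of_ne (fun e : (j : ℕ) = i => hji (Fin.ext e)) with hj | hj
        · rw [ih j (by omega), zero_smul]
        · rw [← Module.End.mul_apply, ← pow_add, show L - 1 - n + (j : ℕ) = ((j : ℕ) - n - 1) + L by omega,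
            pow_add, Module.End.mul_apply, hL v hv, map_zero, map_zero, smul_zero]
      · exact fun hni => absurd (Finset.mem_univ i) hni
  have hcodisj : Codisjoint U W := by
    rw [codisjoint_iff]
    refine Submodule.eq_top_of_disjoint U W ?_ hdisj
    have h1 : finrank k M ≤ finrank k W + L := by
      have h := LinearMap.finrank_range_add_finrank_ker
        (LinearMap.pi fun i : Fin L => φ ∘ₗ (a ^ (i : ℕ)))
      have h' := Submodule.finrank_le (LinearMap.range (LinearMap.pi fun i : Fin L => φ ∘ₗ (a ^ (i : ℕ))))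
      rw [finrank_fintype_fun_eq_card, Fintype.card_fin] at h'
      have e : LinearMap.ker (LinearMap.pi fun i : Fin L => φ ∘ₗ (a ^ (i : ℕ))) = W := by
        rw [LinearMap.ker_pi]
      rw [e] at h
      omega
    have h2 : finrank k U = L := by
      rw [hU]
      refine (finrank_span_eq_card ?_).trans (Fintype.card_fin L)
      rw [Fintype.linearIndependent_iff]
      intro c hc i
      suffices h : ∀ n (i : Fin L), (i : ℕ) < n → c i = 0 from h L i i.2
      intro n
      induction n with
      | zero => exact fun i hi => absurd hi (Nat.not_lt_zero _)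
      | succ n ih =>
        intro i hi
        rcases Nat.lt_succ_iff_lt_or_eq.1 hi with h | h
        · exact ih i h
        have e := congrArg (fun x => φ ((a ^ (L - 1 - n)) x)) hc
        simp only [map_sum, map_smul, map_zero, smul_eq_mul] at e
        rw [Finset.sum_eq_single i] at e
        · rw [← Module.End.mul_apply, ← pow_add, show L - 1 - n + (i : ℕ) = L - 1 by omega] at e
          exact (mul_eq_zero.1 e).resolve_right hφv
        · intro j _ hji
          rcases Nat.lt_or_gt_of_ne (fun e : (j : ℕ) = i => hji (Fin.ext e)) with hj | hj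
          · rw [ih j (by omega), zero_mul]
          · rw [← Module.End.mul_apply, ← pow_add, show L - 1 - n + (j : ℕ) = ((j : ℕ) - n - 1) + L by omega,
              pow_add, Module.End.mul_apply, hL v hv, map_zero, map_zero, mul_zero]
        · exact fun hni => absurd (Finset.mem_univ i) hni
    omega
  have hcompl : IsCompl U W := ⟨hdisj, hcodisj⟩
  set e : Module.End k M := U.projectionOnto W hcompl |> fun p => U.subtype ∘ₗ p with he
  have heU : ∀ x ∈ U, e x = x := fun x hx => by
    simp only [he, LinearMap.comp_apply]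
    rw [Submodule.linearProjOfIsCompl_apply_left hcompl ⟨x, hx⟩]
    rfl
  have heW : ∀ x ∈ W, e x = 0 := fun x hx => by
    simp only [he, LinearMap.comp_apply]
    rw [Submodule.linearProjOfIsCompl_apply_right hcompl ⟨x, hx⟩, map_zero]
  have hmem : ∀ x, e x ∈ U := fun x => (U.projectionOnto W hcompl x).2
  refine ⟨e, LinearMap.ext fun x => ?_, hmem, heU v hvU, fun x hx => heW x (hQW hx)⟩
  obtain ⟨y, hy, w, hw, rfl⟩ := Submodule.mem_sup.1 (hcompl.sup_eq_top.ge (Submodule.mem_top (x := x)))
  rw [Module.End.mul_apply, Module.End.mul_apply, map_add, map_add, map_add, heU _ (hUinv y hy),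
    heW _ (hWinv w hw), heU y hy, heW w hw, add_zero, add_zero]

end block

end CfsgLib.SF23.Cub
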