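import Cfsg.Agent.Lib.SF23.CubicLin

/-!
The dimension of a module with one operator normalised by an operator of order four, and weights.

Blueprint: `blueprint/S1919.md`, section 4.
-/

set_option autoImplicit false
set_option linter.unusedSectionVars false

namespace CfsgLib.SF23.Cub

open Module Polynomial

universe u v w

variable {k : Type u} [Field k] {M : Type v} [AddCommGroup M] [Module k M]

/-- Powers of the shifted operator annihilating a vector at two points. -/
theorem mem_range_of_ne (A : Module.End k M) {μ ν : k} (h : μ ≠ ν) (N : ℕ) {x : M}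
    (hx : ((A - ν • 1) ^ N) x = 0) : x ∈ LinearMap.range ((A - μ • 1) ^ N) := by
  obtain ⟨u, w, e⟩ := (Polynomial.isCoprime_X_sub_C_of_isUnit_sub (R := k)
    (sub_ne_zero.2 h).isUnit).pow (m := N) (n := N)
  have e' := congrArg (fun P => (Polynomial.aeval A P) x) e
  simp only [map_add, map_mul, map_pow, map_sub, aeval_X, aeval_C, Algebra.algebraMap_eq_smul_one, map_one,
    LinearMap.add_apply, Module.End.mul_apply, Module.End.one_apply, hx, map_zero, add_zero] at e'
  refine ⟨(Polynomial.aeval A u) x, ?_⟩
  conv_rhs => rw [← e']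
  have hc : Commute (Polynomial.aeval A u) ((A - μ • 1) ^ N) := by
    have := (Commute.all u ((X - C μ) ^ N)).map (Polynomial.aeval A)
    simpa [Algebra.algebraMap_eq_smul_one] using this
  exact (congrArg (fun T : Module.End k M => T x) hc.eq).symm

theorem eq_zero_of_two (A : Module.End k M) {μ ν : k} (h : μ ≠ ν) (N : ℕ) {x : M}
    (hμ : ((A - μ • 1) ^ N) x = 0) (hν : ((A - ν • 1) ^ N) x = 0) : x = 0 := by
  obtain ⟨u, w, e⟩ := (Polynomial.isCoprime_X_sub_C_of_isUnit_sub (R := k)
    (sub_ne_zero.2 h).isUnit).pow (m := N) (n := N)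
  have e' := congrArg (fun P => (Polynomial.aeval A P) x) e
  simp only [map_add, map_mul, map_pow, map_sub, aeval_X, aeval_C, Algebra.algebraMap_eq_smul_one, map_one,
    LinearMap.add_apply, Module.End.mul_apply, Module.End.one_apply, hμ, hν, map_zero, add_zero] at e'
  exact e'.symm

theorem exists_eigvec_four [IsAlgClosed k] (h2 : (2 : k) ≠ 0) {T : Module.End k M} {B K : Submodule k M}
    {c : k} (hc : c ≠ 0) (hB : Inv T B) (hT : ∀ x ∈ B, (T ^ 4) x = c • x)
    {x : M} (hxB : x ∈ B) (hxK : x ∉ K) : ∃ v ∈ B, v ∉ K ∧ ∃ s : k, s ≠ 0 ∧ T v = s • v := by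
  obtain ⟨v₁, h1B, h1K, s₁, hs₁, e1⟩ := exists_eigvec_of_sq h2 (T := T ^ 2) hc (hB.pow 2)
    (fun y hy => by rw [← Module.End.mul_apply, ← pow_add]; exact hT y hy) hxB hxK
  let B' : Submodule k M := B ⊓ LinearMap.ker (T ^ 2 - s₁ • 1)
  have hmem : ∀ y, y ∈ B' ↔ y ∈ B ∧ (T ^ 2) y = s₁ • y := fun y => by
    simp [B', LinearMap.mem_ker, sub_eq_zero]
  obtain ⟨v, hvB, hvK, s, hs, e⟩ := exists_eigvec_of_sq h2 (T := T) (B := B') hs₁ (fun y hy => by
      obtain ⟨hy1, hy2⟩ := (hmem y).1 hy
      refine (hmem _).2 ⟨hB y hy1, ?_⟩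
      rw [← Module.End.mul_apply, ← pow_succ, pow_succ', Module.End.mul_apply, hy2, map_smul])
    (fun y hy => by rw [← Module.End.mul_apply, ← pow_two]; exact ((hmem y).1 hy).2)
    ((hmem v₁).2 ⟨h1B, e1⟩) h1K
  exact ⟨v, ((hmem v).1 hvB).1, hvK, s, hs, e⟩

/-- An operator on a module without invariant splitting is nilpotent or bijective. -/
theorem injective_of_not_nilpotent [FiniteDimensional k M] {A T f : Module.End k M} (hA : Commute A f)
    (hT : Commute T f)
    (hind : ∀ P R : Submodule k M, IsCompl P R → Inv A P → Inv A R → Inv T P → Inv T R → P = ⊥ ∨ R = ⊥)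
    (hf : ∀ n, f ^ n ≠ 0) : Function.Injective f := by
  obtain ⟨n, hn⟩ := Filter.eventually_atTop.1 f.eventually_isCompl_ker_pow_range_pow
  have h := hn (n + 1) (Nat.le_succ n)
  rcases hind _ _ h (inv_ker (hA.pow_right _)) (inv_range (hA.pow_right _)) (inv_ker (hT.pow_right _))
    (inv_range (hT.pow_right _)) with e | e
  · rw [← LinearMap.ker_eq_bot, eq_bot_iff]
    intro x hx
    rw [← e, LinearMap.mem_ker, pow_succ, Module.End.mul_apply, LinearMap.mem_ker.1 hx, map_zero]
  · exact absurd (LinearMap.range_eq_bot.1 e) (hf _)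

section bound

variable [IsAlgClosed k] [FiniteDimensional k M] [Nontrivial M]

/-- A module without splitting invariant under `A` and an element `τ` of order four modulo scalars
normalising `A` is small. -/
theorem finrank_le (h2 : (2 : k) ≠ 0) {A : Module.End k M} (τ : (Module.End k M)ˣ) {c c' c4 : k} {j j' : ℕ}
    (hAτ : (↑τ⁻¹ : Module.End k M) * A * τ = c • A ^ j)
    (hτA : (τ : Module.End k M) * A * (↑τ⁻¹ : Module.End k M) = c' • A ^ j')
    (hc4 : c4 ≠ 0) (hτ4 : (τ : Module.End k M) ^ 4 = c4 • 1)
    (hind : ∀ P R : Submodule k M, IsCompl P R → Inv A P → Inv A R → Inv (τ : Module.End k M) P →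
      Inv (τ : Module.End k M) R → P = ⊥ ∨ R = ⊥)
    {L : ℕ} (hnil : ∀ (μ : k) (N : ℕ) (x : M), ((A - μ • 1) ^ N) x = 0 → ((A - μ • 1) ^ L) x = 0) :
    finrank k M ≤ 4 * L ∧
      ((∀ μ ν : k, A.HasEigenvalue μ → A.HasEigenvalue ν → μ = ν) → finrank k M ≤ L) := by
  classical
  set T : Module.End k M := (τ : Module.End k M) with hTdef
  set T' : Module.End k M := (↑τ⁻¹ : Module.End k M) with hT'def
  have hTT' : T * T' = 1 := τ.mul_inv
  have hT'T : T' * T = 1 := τ.inv_mul
  have hTinj : ∀ (i : ℕ) x, (T ^ i) x = 0 → x = 0 := fun i x hx => by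
    have h := congrArg (T' ^ i) hx
    rwa [map_zero, ← Module.End.mul_apply, ← (show Commute T' T from hT'T.trans hTT'.symm).mul_pow, hT'T,
      one_pow, Module.End.one_apply] at h
  obtain ⟨μ, hμ⟩ := Module.End.exists_eigenvalue A
  obtain ⟨n₀, hn₀⟩ := Filter.eventually_atTop.1 (A - μ • 1 : Module.End k M).eventually_isCompl_ker_pow_range_pow
  set N := max n₀ 1 with hN
  set a : Module.End k M := A - μ • 1 with ha
  set φ : k → k := fun ν => c * ν ^ j with hφ
  -- `τ` moves blocks
  have hmove : ∀ (i : ℕ) (ν : k) (x : M), ((A - ν • 1) ^ N) x = 0 →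
      ((A - (φ^[i] ν) • 1) ^ N) ((T ^ i) x) = 0 := by
    intro i
    induction i with
    | zero => exact fun ν x hx => hx
    | succ i ih =>
      intro ν x hx
      have h := ih ν x hx
      rw [pow_succ' T, Module.End.mul_apply, Function.iterate_succ_apply']
      set y := (T ^ i) x
      set ν' := φ^[i] ν
      obtain ⟨g, hg⟩ : ∃ g : Module.End k M, T' * (A - φ ν' • 1) * T = g * (A - ν' • 1) ∧
          Commute g (A - ν' • 1) := by
        refine ⟨c • ∑ l ∈ Finset.range j, A ^ l * (ν' • (1 : Module.End k M)) ^ (j - 1 - l), ?_, ?_⟩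
        · have hcm : Commute A (ν' • (1 : Module.End k M)) := (Commute.one_right A).smul_right ν'
          rw [smul_mul_assoc, hcm.geom_sum₂_mul, mul_sub, sub_mul, hAτ, mul_smul_comm, mul_one,
            smul_mul_assoc, hT'T, smul_sub, _root_.smul_pow, one_pow, smul_smul]
        · refine Commute.smul_left (Commute.sum_left _ _ _ fun l _ => ?_) c
          refine Commute.sub_right ?_ ?_
          · exact ((Commute.refl A).pow_left l).mul_left (((Commute.one_left A).smul_left ν').pow_left _)
          · exact (Commute.one_right _).smul_right ν'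
      have e : T' * (A - φ ν' • 1) ^ N * T = g ^ N * (A - ν' • 1) ^ N := by
        rw [← hg.2.mul_pow, ← hg.1, Units.conj_pow' τ]
      have e2 := congrArg (fun F : Module.End k M => T (F y)) e
      simp only [Module.End.mul_apply, h, map_zero] at e2
      rwa [← Module.End.mul_apply T T', hTT', Module.End.one_apply] at e2
  obtain ⟨x₁, hx₁⟩ := hμ.exists_hasEigenvector
  have hx₁a : (a ^ N) x₁ = 0 := by
    rw [show N = (N - 1) + 1 by omega, pow_succ, Module.End.mul_apply]
    rw [ha, LinearMap.sub_apply, LinearMap.smul_apply, Module.End.one_apply, hx₁.apply_eq_smul, sub_self,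
      map_zero]
  have hphi4 : φ^[4] μ = μ := by
    by_contra hne
    have h := hmove 4 μ x₁ hx₁a
    rw [hτ4, LinearMap.smul_apply, Module.End.one_apply, map_smul, smul_eq_zero] at h
    exact hx₁.2 (eq_zero_of_two A hne N (h.resolve_left hc4) hx₁a)
  -- the least exponent on the block
  have hex : ∃ l, ∀ x ∈ LinearMap.ker (a ^ N), (a ^ l) x = 0 := ⟨L, fun x hx => hnil μ N x hx⟩
  set L' := Nat.find hex with hL'
  have hL'L : L' ≤ L := Nat.find_le fun x hx => hnil μ N x hx
  have hL'spec : ∀ x ∈ LinearMap.ker (a ^ N), (a ^ L') x = 0 := Nat.find_spec hex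
  have hL'0 : 0 < L' := by
    refine Nat.pos_of_ne_zero fun e => hx₁.2 ?_
    have := hL'spec x₁ hx₁a
    rwa [e, pow_zero, Module.End.one_apply] at this
  obtain ⟨x, hxB, hxK⟩ : ∃ x ∈ LinearMap.ker (a ^ N), x ∉ LinearMap.ker (a ^ (L' - 1)) := by
    have := Nat.find_min hex (show L' - 1 < L' by omega)
    push Not at this
    exact this
  -- the eigenvector
  obtain ⟨v, hvB, hvK, hv⟩ : ∃ v ∈ LinearMap.ker (a ^ N), v ∉ LinearMap.ker (a ^ (L' - 1)) ∧
      ((φ μ = μ ∧ ∃ s : k, s ≠ 0 ∧ T v = s • v) ∨
        (φ μ ≠ μ ∧ φ^[2] μ = μ ∧ ∃ s : k, s ≠ 0 ∧ (T ^ 2) v = s • v) ∨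
        (φ μ ≠ μ ∧ φ^[2] μ ≠ μ)) := by
    by_cases h1 : φ μ = μ
    · obtain ⟨v, h, h', s, hs, e⟩ := exists_eigvec_four h2 (T := T) (B := LinearMap.ker (a ^ N)) hc4
        (fun y hy => by
          have h' := hmove 1 μ y hy
          rwa [Function.iterate_one, h1, pow_one] at h')
        (fun y _ => by rw [hτ4, LinearMap.smul_apply, Module.End.one_apply]) hxB hxK
      exact ⟨v, h, h', Or.inl ⟨h1, s, hs, e⟩⟩
    by_cases h22 : φ^[2] μ = μ
    · obtain ⟨v, h, h', s, hs, e⟩ := exists_eigvec_of_sq h2 (T := T ^ 2) (B := LinearMap.ker (a ^ N)) hc4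
        (fun y hy => by
          have h' := hmove 2 μ y hy
          rwa [h22] at h')
        (fun y _ => by
          rw [← Module.End.mul_apply, ← pow_add, hτ4, LinearMap.smul_apply, Module.End.one_apply]) hxB hxK
      exact ⟨v, h, h', Or.inr (Or.inl ⟨h1, h22, s, hs, e⟩)⟩
    exact ⟨x, hxB, hxK, Or.inr (Or.inr ⟨h1, h22⟩)⟩
  have hphi3 : φ μ ≠ μ → φ^[3] μ ≠ μ := fun h1 h3 => h1 <| by
    rw [show (4 : ℕ) = 1 + 3 by norm_num, Function.iterate_add_apply, h3, Function.iterate_one] at hphi4
    exact hphi4
  obtain ⟨e, hea, heU, hev, heQ⟩ := exists_block_proj a (hn₀ N (le_max_left _ _)) hL'spec hvB (Or.inr hvK)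
  have heA : Commute e A := by
    have : A = a + μ • 1 := by rw [ha, sub_add_cancel]
    rw [this]
    exact hea.add_right ((Commute.one_right e).smul_right μ)
  set U := Submodule.span k (Set.range fun i : Fin L' => (a ^ (i : ℕ)) v) with hU
  have hUrank : finrank k U ≤ L' := (finrank_range_le_card _).trans_eq (Fintype.card_fin L')
  set term : ℕ → Module.End k M := fun i => T ^ i * e * T' ^ i with hterm
  set f : Module.End k M := ∑ i ∈ Finset.range 4, term i with hf
  have hT'4 : T' ^ 4 = c4⁻¹ • 1 := by
    have h := congrArg (fun F => c4⁻¹ • (F * T' ^ 4)) hτ4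
    simp only [smul_mul_assoc, one_mul, smul_smul, inv_mul_cancel₀ hc4, one_smul] at h
    rw [← h, ← (show Commute T T' from hTT'.trans hT'T.symm).mul_pow, hTT', one_pow]
  have hterm4 : term 4 = term 0 := by
    simp only [hterm, hτ4, hT'4, pow_zero, one_mul, mul_one, smul_mul_assoc, mul_smul_comm, smul_smul,
      mul_inv_cancel₀ hc4, one_smul, inv_mul_cancel₀ hc4]
  have hshift : ∀ i, T * term i * T' = term (i + 1) := fun i => by
    simp only [hterm, pow_succ' T, pow_succ T', mul_assoc]
  have hfT : Commute T f := by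
    have h : T * f * T' = f := by
      rw [hf, Finset.mul_sum, Finset.sum_mul, Finset.sum_congr rfl fun i _ => hshift i]
      have h1 := Finset.sum_range_succ' term 4
      rw [Finset.sum_range_succ term 4, hterm4] at h1
      exact (add_right_cancel h1).symm
    calc T * f = T * f * T' * T := by rw [mul_assoc (T * f) T' T, hT'T, mul_one]
      _ = f * T := by rw [h]
  have hconj : ∀ X : Module.End k M, Commute X A → Commute (T * X * T') A := by
    intro X hX
    have h : Commute X (T' * A * T) := by rw [hAτ]; exact (hX.pow_right j).smul_right c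
    calc T * X * T' * A = T * (X * (T' * A * T)) * T' := by
          simp only [mul_assoc, hTT', mul_one]
      _ = T * ((T' * A * T) * X) * T' := by rw [h.eq]
      _ = A * (T * X * T') := by simp only [mul_assoc, ← mul_assoc T T', hTT', one_mul]
  have hfA : Commute A f := by
    refine Commute.sum_right _ _ _ fun i hi => Commute.symm ?_
    clear hi
    induction i with
    | zero => simpa [hterm] using heA
    | succ i ih => rw [← hshift i]; exact hconj _ ih
  have hkill : ∀ (i : ℕ), φ^[i] μ ≠ μ → e ((T ^ i) v) = 0 := fun i hi =>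
    heQ _ (mem_range_of_ne A (Ne.symm hi) N (hmove i μ v hvB))
  have hfix : ∀ (i : ℕ) (s : k), (T ^ i) v = s • v → (T' ^ i) v = s⁻¹ • v → s ≠ 0 → term i v = v := by
    intro i s h h' hs
    simp only [hterm, Module.End.mul_apply, h', map_smul, hev, h, smul_smul, inv_mul_cancel₀ hs, one_smul]
  have hinvv : ∀ (i : ℕ) (s : k), (T ^ i) v = s • v → s ≠ 0 → (T' ^ i) v = s⁻¹ • v := by
    intro i s h hs
    have h' := congrArg (T' ^ i) h
    rw [← Module.End.mul_apply, ← (show Commute T' T from hT'T.trans hTT'.symm).mul_pow, hT'T, one_pow,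
      Module.End.one_apply, map_smul] at h'
    conv_rhs => rw [h', smul_smul, inv_mul_cancel₀ hs, one_smul]
  have hzero : ∀ i, i ≤ 4 → φ^[4 - i] μ ≠ μ → term i v = 0 := by
    intro i hi hne
    have h : (T' ^ i) v = c4⁻¹ • (T ^ (4 - i)) v := by
      have h4 : (T' ^ i) ((T' ^ (4 - i)) ((T ^ (4 - i)) v)) = c4⁻¹ • (T ^ (4 - i)) v := by
        rw [← Module.End.mul_apply, ← pow_add, Nat.add_sub_cancel' hi, hT'4, LinearMap.smul_apply,
          Module.End.one_apply]
      rwa [← Module.End.mul_apply (T' ^ (4 - i)),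
        ← (show Commute T' T from hT'T.trans hTT'.symm).mul_pow, hT'T, one_pow, Module.End.one_apply] at h4
    simp only [hterm, Module.End.mul_apply, h, map_smul, hkill _ hne, map_zero, smul_zero]
  have ht0 : term 0 v = v := by simp [hterm, hev]
  obtain ⟨cf, hcf, hfv⟩ : ∃ cf : k, cf ≠ 0 ∧ f v = cf • v := by
    rw [hf]
    simp only [Finset.sum_range_succ, Finset.sum_range_zero, zero_add, LinearMap.add_apply, ht0]
    rcases hv with ⟨h1, s, hs, es⟩ | ⟨h1, h22, s, hs, es⟩ | ⟨h1, h22⟩
    · have hpow : ∀ i : ℕ, term i v = v := fun i => by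
        have hi : (T ^ i) v = s ^ i • v := by
          induction i with
          | zero => simp
          | succ i ih => rw [pow_succ', Module.End.mul_apply, ih, map_smul, es, smul_smul, ← pow_succ]
        exact hfix i _ hi (hinvv i _ hi (pow_ne_zero _ hs)) (pow_ne_zero _ hs)
      refine ⟨2 * 2, mul_ne_zero h2 h2, ?_⟩
      rw [hpow, hpow, hpow, show (2 * 2 : k) = 1 + 1 + 1 + 1 by norm_num, add_smul, add_smul, add_smul,
        one_smul]
    · refine ⟨2, h2, ?_⟩
      rw [hfix 2 s es (hinvv 2 s es hs) hs, hzero 1 (by norm_num) (hphi3 h1),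
        hzero 3 (by norm_num) (by rwa [show 4 - 3 = 1 from rfl, Function.iterate_one]),
        show (2 : k) = 1 + 1 by norm_num, add_smul, one_smul]
      abel
    · refine ⟨1, one_ne_zero, ?_⟩
      rw [hzero 1 (by norm_num) (hphi3 h1), hzero 2 (by norm_num) h22,
        hzero 3 (by norm_num) (by rwa [show 4 - 3 = 1 from rfl, Function.iterate_one]), one_smul]
      abel
  have hv0 : v ≠ 0 := fun e => hvK (e ▸ Submodule.zero_mem _)
  have hnn : ∀ l, f ^ l ≠ 0 := by
    intro l hl
    have hpow : (f ^ l) v = cf ^ l • v := by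
      clear hl
      induction l with
      | zero => simp
      | succ l ih => rw [pow_succ', Module.End.mul_apply, ih, map_smul, hfv, smul_smul, ← pow_succ]
    rw [hl, LinearMap.zero_apply] at hpow
    exact (smul_ne_zero (pow_ne_zero _ hcf) hv0) hpow.symm
  have hsurj : LinearMap.range f = ⊤ := LinearMap.range_eq_top.2
    (LinearMap.surjective_of_injective (injective_of_not_nilpotent hfA hfT hind hnn))
  refine ⟨?_, fun hone => ?_⟩
  · let Φ : (Fin 4 → U) →ₗ[k] M := ∑ i : Fin 4, (T ^ (i : ℕ)) ∘ₗ U.subtype ∘ₗ LinearMap.proj i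
    have hle : LinearMap.range f ≤ LinearMap.range Φ := by
      rintro _ ⟨y, rfl⟩
      refine ⟨fun i => ⟨e ((T' ^ (i : ℕ)) y), heU _⟩, ?_⟩
      simp only [Φ, LinearMap.sum_apply, LinearMap.comp_apply, LinearMap.proj_apply, hf]
      rw [Finset.sum_range fun i => term i y]
      rfl
    have h := Submodule.finrank_mono hle
    rw [hsurj, finrank_top] at h
    refine h.trans ((LinearMap.finrank_range_le Φ).trans ?_)
    rw [Module.finrank_pi_fintype, Finset.sum_const, Finset.card_univ, Fintype.card_fin, smul_eq_mul]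
    omega
  · have hfix1 : φ μ = μ := by
      refine hone _ _ ?_ hμ
      by_contra hne
      have hinj : Function.Injective (A - φ μ • 1 : Module.End k M) := by
        rw [← LinearMap.ker_eq_bot]
        by_contra hk
        obtain ⟨y, hy, hy0⟩ := (Submodule.ne_bot_iff _).1 hk
        exact hne (Module.End.hasEigenvalue_of_hasEigenvector (x := y) ⟨Module.End.mem_eigenspace_iff.2
          (sub_eq_zero.1 (by simpa using hy)), hy0⟩)
      have h := hmove 1 μ x₁ hx₁a
      rw [Function.iterate_one, Module.End.pow_apply] at h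
      exact hx₁.2 (hTinj 1 x₁ (hinj.iterate N (h.trans (Function.iterate_fixed (map_zero _) N).symm)))
    obtain ⟨-, s, hs, es⟩ : φ μ = μ ∧ ∃ s : k, s ≠ 0 ∧ T v = s • v := by
      rcases hv with h | ⟨h1, -⟩ | ⟨h1, -⟩
      · exact h
      · exact absurd hfix1 h1
      · exact absurd hfix1 h1
    have hUa : Inv a U := by
      intro y hy
      induction hy using Submodule.span_induction with
      | mem y hy =>
        obtain ⟨i, rfl⟩ := hy
        rw [← Module.End.mul_apply, ← pow_succ']
        by_cases hi : (i : ℕ) + 1 < L'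
        · exact Submodule.subset_span ⟨⟨_, hi⟩, rfl⟩
        · rw [show (i : ℕ) + 1 = L' by have := i.2; omega, hL'spec v hvB]
          exact U.zero_mem
      | zero => rw [map_zero]; exact U.zero_mem
      | add y z _ _ hy hz => rw [map_add]; exact U.add_mem hy hz
      | smul d y _ hy => rw [map_smul]; exact U.smul_mem d hy
    have hUA : Inv A U := fun y hy => by
      have h : A y = a y + μ • y := by simp [ha]
      rw [h]
      exact U.add_mem (hUa y hy) (U.smul_mem μ hy)
    have hUT : Inv T U := by
      intro y hy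
      induction hy using Submodule.span_induction with
      | mem y hy =>
        obtain ⟨⟨i, hi⟩, rfl⟩ := hy
        induction i with
        | zero =>
          show T ((a ^ 0) v) ∈ U
          rw [pow_zero, Module.End.one_apply, es]
          exact U.smul_mem s (Submodule.subset_span ⟨⟨0, hi⟩, by simp⟩)
        | succ i ih =>
          have h1 := ih (by omega)
          set y := (a ^ i) v
          have hTA : T (A y) = c' • (A ^ j') (T y) := by
            have h := LinearMap.congr_fun hτA (T y)
            rwa [Module.End.mul_apply, Module.End.mul_apply, ← Module.End.mul_apply T' T, hT'T,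
              Module.End.one_apply, LinearMap.smul_apply] at h
          show T ((a ^ (i + 1)) v) ∈ U
          rw [pow_succ', Module.End.mul_apply, show a y = A y - μ • y by simp [ha], map_sub, map_smul, hTA]
          exact U.sub_mem (U.smul_mem _ (hUA.pow j' _ h1)) (U.smul_mem _ h1)
      | zero => rw [map_zero]; exact U.zero_mem
      | add y z _ _ hy hz => rw [map_add]; exact U.add_mem hy hz
      | smul d y _ hy => rw [map_smul]; exact U.smul_mem d hy
    have hle : LinearMap.range f ≤ U := by
      rintro _ ⟨y, rfl⟩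
      rw [hf, LinearMap.sum_apply]
      exact U.sum_mem fun i _ => hUT.pow i _ (heU _)
    have h := Submodule.finrank_mono hle
    rw [hsurj, finrank_top] at h
    omega

/-- In characteristic `r` the blocks of `A` are short when a power of `A` is cubic. -/
theorem nil_bound {r : ℕ} [Fact r.Prime] [CharP k r] {A : Module.End k M} {A' : Module.End k M}
    (hA : A' * A = 1) {e n : ℕ} (hn : (n : k) ≠ 0) {c : k}
    (hc : (A ^ (n * r ^ e) - c • 1) ^ 3 = 0) (μ : k) (N : ℕ) (x : M) (hx : ((A - μ • 1) ^ N) x = 0) :
    ((A - μ • 1) ^ (3 * r ^ e)) x = 0 := by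
  set a := A - μ • 1 with ha
  by_cases hμ : μ = 0
  · subst hμ
    rw [ha, zero_smul, sub_zero] at hx
    have hinv : ∀ (l : ℕ) y, (A ^ l) y = 0 → y = 0 := by
      intro l
      induction l with
      | zero => exact fun y hy => hy
      | succ l ih =>
        intro y hy
        rw [pow_succ', Module.End.mul_apply] at hy
        refine ih y ?_
        have h := congrArg A' hy
        rwa [← Module.End.mul_apply, hA, Module.End.one_apply, map_zero] at h
    rw [hinv N x hx, map_zero]
  set g : Module.End k M := ∑ l ∈ Finset.range n, A ^ l * (μ • (1 : Module.End k M)) ^ (n - 1 - l) with hg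
  have hcg : Commute g a := by
    rw [ha]
    refine Commute.sub_right (Commute.sum_left _ _ _ fun l _ => ?_) ((Commute.one_right g).smul_right μ)
    exact ((Commute.refl A).pow_left l).mul_left (((Commute.one_left A).smul_left μ).pow_left _)
  have hga : g * a = A ^ n - μ ^ n • 1 := by
    rw [hg, ha, ((Commute.one_right A).smul_right μ).geom_sum₂_mul, _root_.smul_pow, one_pow]
  -- `g` has trivial kernel on the block
  have hginj : ∀ (l : ℕ) y, (a ^ l) y = 0 → g y = 0 → y = 0 := by
    intro l
    induction l with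
    | zero => exact fun y hy _ => hy
    | succ l ih =>
      intro y hy hgy
      have h1 : a y = 0 := by
        refine ih _ (by rwa [← Module.End.mul_apply, ← pow_succ]) ?_
        rw [← Module.End.mul_apply, hcg.eq, Module.End.mul_apply, hgy, map_zero]
      have hAy : ∀ i : ℕ, (A ^ i) y = μ ^ i • y := by
        intro i
        induction i with
        | zero => simp
        | succ i ihi =>
          have hA1 : A y = μ • y := by simpa [ha, sub_eq_zero] using h1
          rw [pow_succ', Module.End.mul_apply, ihi, map_smul, hA1, smul_smul, ← pow_succ]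
      have hval : g y = ((n : k) * μ ^ (n - 1)) • y := by
        rw [hg, LinearMap.sum_apply]
        have : ∀ l ∈ Finset.range n,
            (A ^ l * (μ • (1 : Module.End k M)) ^ (n - 1 - l)) y = μ ^ (n - 1) • y := by
          intro l hl
          rw [_root_.smul_pow, one_pow, mul_smul_comm, mul_one, LinearMap.smul_apply, hAy, smul_smul, ← pow_add,
            Nat.sub_add_cancel (by have := Finset.mem_range.1 hl; omega)]
        rw [Finset.sum_congr rfl this, Finset.sum_const, Finset.card_range, mul_smul, Nat.cast_smul_eq_nsmul]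
      rw [hgy] at hval
      exact (smul_eq_zero.1 hval.symm).resolve_left (mul_ne_zero hn (pow_ne_zero _ hμ))
  by_cases hx0 : x = 0
  · rw [hx0, map_zero]
  -- the eigenvalue of the power
  have hμc : μ ^ (n * r ^ e) = c := by
    by_contra hne
    obtain ⟨l, hl⟩ : ∃ l, (a ^ (l + 1)) x = 0 ∧ (a ^ l) x ≠ 0 := by
      classical
      have hex : ∃ l, (a ^ l) x = 0 := ⟨N, hx⟩
      have h0 : 0 < Nat.find hex := Nat.pos_of_ne_zero fun h => hx0 (by
        simpa [h] using Nat.find_spec hex)
      exact ⟨Nat.find hex - 1, by rw [Nat.sub_add_cancel h0]; exact Nat.find_spec hex,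
        Nat.find_min hex (by omega)⟩
    set y := (a ^ l) x
    have hA1 : A y = μ • y := by
      have := hl.1
      rw [pow_succ', Module.End.mul_apply] at this
      simpa [ha, sub_eq_zero] using this
    have hAy : ∀ i : ℕ, (A ^ i) y = μ ^ i • y := by
      intro i
      induction i with
      | zero => simp
      | succ i ihi => rw [pow_succ', Module.End.mul_apply, ihi, map_smul, hA1, smul_smul, ← pow_succ]
    have hy : ∀ i : ℕ, ((A ^ (n * r ^ e) - c • 1) ^ i) y = (μ ^ (n * r ^ e) - c) ^ i • y := by
      intro i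
      induction i with
      | zero => simp
      | succ i ihi =>
        rw [pow_succ', Module.End.mul_apply, ihi, map_smul, LinearMap.sub_apply, hAy, LinearMap.smul_apply,
          Module.End.one_apply, ← sub_smul, smul_smul, ← pow_succ]
    have := hy 3
    rw [hc, LinearMap.zero_apply, eq_comm, smul_eq_zero] at this
    exact this.elim (pow_ne_zero _ (sub_ne_zero.2 hne)) hl.2
  haveI : Nontrivial (Module.End k M) := ⟨1, 0, fun h => hx0 (LinearMap.congr_fun h x)⟩
  haveI : CharP (Module.End k M) r :=
    charP_of_injective_algebraMap (algebraMap k (Module.End k M)).injective r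
  have hpow : g ^ (3 * r ^ e) * a ^ (3 * r ^ e) = 0 := by
    rw [← hcg.mul_pow, hga, mul_comm 3 (r ^ e), pow_mul,
      sub_pow_char_pow_of_commute _ _ ((Commute.one_right _).smul_right _), ← pow_mul, _root_.smul_pow, one_pow,
      ← pow_mul, hμc]
    exact hc
  have hgl : ∀ (i : ℕ) y, (a ^ N) y = 0 → (g ^ i) y = 0 → y = 0 := by
    intro i
    induction i with
    | zero => exact fun y _ hy => hy
    | succ i ih =>
      intro y hy hgy
      rw [pow_succ, Module.End.mul_apply] at hgy
      refine hginj N y hy (ih (g y) ?_ hgy)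
      rw [← Module.End.mul_apply, ← (hcg.pow_right N).eq, Module.End.mul_apply, hy, map_zero]
  refine hgl (3 * r ^ e) _ ?_ ?_
  · rw [← Module.End.mul_apply, ← pow_add, add_comm, pow_add, Module.End.mul_apply, hx, map_zero]
  · rw [← Module.End.mul_apply, hpow, LinearMap.zero_apply]

end bound

/-! ### Weights -/

/-- Common eigenvectors of distinct weights are independent. -/
theorem card_le_finrank [FiniteDimensional k M] {E : Type w} [Group E] (ρ : E →* Module.End k M)
    {ι : Type*} [Fintype ι] (v : ι → M) (ψ : ι → E → k) (hv : ∀ i, v i ≠ 0)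
    (he : ∀ i x, ρ x (v i) = ψ i x • v i) (hψ : Function.Injective ψ) :
    Fintype.card ι ≤ finrank k M := by
  have hhom : ∀ i, ∃ χ : E →* k, ∀ x, χ x = ψ i x := fun i =>
    ⟨{ toFun := ψ i
       map_one' := smul_left_injective k (hv i) (by
         show ψ i 1 • v i = (1 : k) • v i
         rw [← he, map_one, Module.End.one_apply, one_smul])
       map_mul' := fun x y => smul_left_injective k (hv i) (by
         show ψ i (x * y) • v i = (ψ i x * ψ i y) • v i
         rw [← he, map_mul, Module.End.mul_apply, he, map_smul, he, smul_smul, mul_comm]) },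
      fun x => rfl⟩
  choose χ hχ using hhom
  have hinj : Function.Injective χ := fun i i' h => hψ (funext fun x => by rw [← hχ, ← hχ, h])
  have hli := (linearIndependent_monoidHom E k).comp χ hinj
  refine LinearIndependent.fintype_card_le_finrank (R := k) (b := v) (Fintype.linearIndependent_iff.2
    fun d hd i => ?_)
  by_contra hdi
  obtain ⟨φ, hφ⟩ := Module.Projective.exists_dual_ne_zero k (smul_ne_zero hdi (hv i))
  refine hφ ?_
  have h := Fintype.linearIndependent_iff.1 hli (fun l => φ (d l • v l)) (funext fun x => ?_) i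
  · exact h
  · have h' := congrArg (fun y => φ (ρ x y)) hd
    simp only [map_sum, map_smul, map_zero, he, smul_eq_mul] at h'
    simp only [Finset.sum_apply, Pi.smul_apply, smul_eq_mul, Function.comp_apply, Pi.zero_apply, map_smul, hχ]
    rw [← h']
    exact Finset.sum_congr rfl fun l _ => by ring

end CfsgLib.SF23.Cub
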