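import Cfsg.Agent.Lib.SF23.Quasi
import Cfsg.Agent.Lib.SF23.Cubic

/-!
Cubic actions of covers of Suzuki groups are trivial.
-/

set_option autoImplicit false

namespace CfsgLib.SF23

open Cfsg Subgroup

universe u

theorem cubicTrivial : CubicTrivial.{u} := fun hL _ _ _ _ _ _ π hπ hperf hker _ _ hV σ _ hz1 hzr _ h5 hcub =>
  cubic_trivial π hπ hL hperf hker hV σ hz1 hzr h5 hcub

end CfsgLib.SF23
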