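import Cfsg.Agent.Lib.SF23.Proper

/-!
Every component is linked; families of components closed under pieces; one orbit of components at a point.
-/

set_option autoImplicit false
set_option linter.unusedSectionVars false
set_option linter.style.haveILetI false

namespace CfsgLib.SF23

open Cfsg Subgroup CfsgLib.Signalizer CfsgLib.SolvSF
open scoped commutatorElement

universe u
variable {G : Type u} [Group G] [Finite G] {A : Subgroup G} {θ : G → Subgroup G}

/-- A point whose value has a component. -/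
def HasComp (θ : G → Subgroup G) (g : G) : Prop := ∃ L : Subgroup (Bar (θ g)), IsComponent L

/-- A family of components closed under the operators and under passing to pieces. -/
structure PClosed (h : Ctx 3 A θ) (Φ : ∀ g : G, Subgroup (Bar (θ g)) → Prop) : Prop where
  comp : ∀ g L, Φ g L → IsComponent L
  inv : ∀ (g : G) (hg : Pt A g) (a : A) L, Φ g L → Φ g (mp (ac h hg a) L)
  closed : ∀ (g y : G) (hg : Pt A g) (hy : Pt A y) L, Φ g L → Vis (ac h hg (el hy)) L →
    pc (pre (θ g) (piece (ac h hg (el hy)) L (bar_rad _))) ≤ pc (pre (θ y) (compSup (Φ y)))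

/-- The lifted product of a family. -/
def mF (θ : G → Subgroup G) (Φ : ∀ g : G, Subgroup (Bar (θ g)) → Prop) (g : G) : Subgroup G :=
  pc (pre (θ g) (compSup (Φ g)))

/-- Their join. -/
def eF (A : Subgroup G) (θ : G → Subgroup G) (Φ : ∀ g : G, Subgroup (Bar (θ g)) → Prop) : Subgroup G :=
  ⨆ g : {g : G // Pt A g}, mF θ Φ g

theorem img_bot (X : Subgroup G) : img X ⊥ = ⊥ := by
  refine le_bot_iff.mp fun w hw => ?_
  obtain ⟨q, hq, hq1, rfl⟩ := mem_img_iff.mp hw
  rw [Subgroup.mem_bot] at hq1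
  exact Subgroup.mem_bot.mpr ((toBar_eq_one_iff hq).mpr (by rw [hq1]; exact one_mem _))

section Data

variable (h : Ctx 3 A θ) (hcub : CubicTrivial.{u})
include h hcub

theorem theta_normalizes_mX {g : G} (hg : Pt A g) : θ g ≤ normalizer (mX h g : Set G) :=
  (psF_eq_theta h hcub hg).ge.trans (psF_normalizes_mX h hcub hg)

/-- The largest zero subgroup is trivial. -/
theorem fZero_eq_bot : fZero h = ⊥ := by
  by_contra hne
  exact h.not_normalized (fZero_mem h) hne fun a ha => (psF_eq_theta h hcub ha).ge.trans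
    (sup_le ((mX_cent_fZero h hcub ha).trans (Subgroup.centralizer_le_normalizer _))
      ((uF_le_yCl h ha).trans (fZero_spec h).2.1))

/-- Every component is linked. -/
theorem all_linked {g : G} (hg : Pt A g) {K : Subgroup (Bar (θ g))} (hK : IsComponent K) : Linked h g K := by
  by_contra hn
  have hR := bar_rad (θ g)
  have h3 := bar_not_dvd (theta_not_dvd h.hθ hg)
  set U := (uF h g).subgroupOf (θ g)
  have hUs : Group.IsSolvable (img (θ g) (uF h g)) := by
    haveI := uF_solvable h hg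
    haveI : Group.IsSolvable U := Group.isSolvable_of_isSolvable_injective
      (f := (Subgroup.subgroupOfEquivOfLe (uF_le h g)).toMonoidHom) (MulEquiv.injective _)
    exact Group.isSolvable_of_surjective (f := (QuotientGroup.mk' _).subgroupMap U)
      (MonoidHom.subgroupMap_surjective _ _)
  have hn' : img (θ g) (uF h g) ≤ normalizer (compSup (Linked h g) : Set (Bar (θ g))) := by
    intro w hw
    obtain ⟨q, hq, hqU, rfl⟩ := mem_img_iff.mp hw
    rw [← img_pc_pre (compSup_perfect fun M (hM : Linked h g M) => hM.1)]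
    refine Comp.mem_normalizer_of_maps fun v hv => ?_
    obtain ⟨x, hx, hxM, rfl⟩ := mem_img_iff.mp hv
    rw [← MulAut.conj_apply, ← toBar_conj hq hx]
    exact mem_img _ ((Subgroup.mem_normalizer_iff.mp (uF_normalizes_mX h hcub hg hqU) x).mp hxM)
  have hle : K ≤ compSup (Linked h g) := by
    refine perfect_le_of_sup hUs hn' (CfsgLib.isComponent_commutator_self hK) fun k _ => ?_
    obtain ⟨⟨x, hx⟩, rfl⟩ := QuotientGroup.mk'_surjective _ k
    obtain ⟨m, hm, v, hv, e⟩ := CfsgLib.mem_sup_of_le_normalizer (uF_normalizes_mX h hcub hg)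
      (show x ∈ mX h g ⊔ uF h g from (psF_eq_theta h hcub hg).ge hx)
    have hmθ := mX_le h g hm
    have hvθ := uF_le h g hv
    have e1 : (⟨x, hx⟩ : ↥(θ g)) = ⟨m, hmθ⟩ * ⟨v, hvθ⟩ := Subtype.ext e.symm
    rw [e1, map_mul]
    exact Subgroup.mul_mem_sup (toBar_pc_pre hmθ hm) (mem_img hvθ hv)
  refine isComponent_ne_bot hK (le_bot_iff.mp fun k hk => Subgroup.mem_bot.mpr ?_)
  rw [← prj_self hR hK hk]
  exact ((mem_compSup_iff hR h3 fun M (hM : Linked h g M) => hM.1).mp (hle hk)).2 K hK hn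

theorem img_mX {g : G} (hg : Pt A g) : img (θ g) (mX h g) = layer (Bar (θ g)) :=
  (img_pc_pre (compSup_perfect fun M (hM : Linked h g M) => hM.1)).trans
    (le_antisymm (compSup_le_layer fun M hM => hM.1) (sSup_le fun _ hK => le_compSup (all_linked h hcub hg hK)))

theorem toBar_mX {g : G} (hg : Pt A g) {m : G} (hm : m ∈ mX h g) :
    toBar (θ g) (mX_le h g hm) ∈ layer (Bar (θ g)) := compSup_le_layer (fun _ hM => hM.1) (toBar_pc_pre _ hm)

theorem mX_of_no_comp {g : G} (hg : Pt A g) (hn : ¬ HasComp θ g) : mX h g = ⊥ := by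
  have hl : compSup (Linked h g) = ⊥ := le_bot_iff.mp (iSup_le fun L => absurd ⟨L.1, L.2.1⟩ hn)
  have hle : mX h g ≤ ⊥ ⊔ rv θ g := fun x hx => by
    refine Subgroup.mem_sup_right ((toBar_eq_one_iff (mX_le h g hx)).mp (Subgroup.mem_bot.mp ?_))
    rw [← hl]
    exact toBar_pc_pre _ hx
  exact le_bot_iff.mp (perfect_le_of_sup (radS_solvable (θ g)) (fun r _ => Comp.mem_normalizer_of_maps fun v hv => by
    rw [Subgroup.mem_bot] at hv ⊢
    rw [hv]; group) (mX_perfect h g) hle)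

theorem mX_isMem {g : G} (hg : Pt A g) : IsMem 3 A θ (mX h g) :=
  (theta_isMem h.hθ hg).sub (mX_le h g) (mX_inv h hcub hg)

/-- A perfect subgroup of a linked product fixed by a point lies in the product of the point. -/
theorem perfect_fix_le {b a : G} (hb : Pt A b) (ha : Pt A a) {S : Subgroup G} (hS : ⁅S, S⁆ = S) (h1 : S ≤ mX h b)
    (h2 : S ≤ centralizer ({a} : Set G)) : S ≤ mX h a :=
  perfect_le_mX h hcub ha hS ((le_inf h1 h2).trans (mX_fixed h hcub hb ha))

/-- The lift of a piece. -/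
theorem lift_piece {g : G} (hg : Pt A g) (b : A) (L : Subgroup (Bar (θ g))) :
    pc (pre (θ g) (piece (ac h hg b) L (bar_rad _))) ≤ mX h g ∧
      pc (pre (θ g) (piece (ac h hg b) L (bar_rad _))) ≤ centralizer ({(b : G)} : Set G) := by
  have h1 : pc (pre (θ g) (piece (ac h hg b) L (bar_rad _))) ≤ mX h g :=
    pc_mono (pre_mono ((piece_le_layer (bar_rad _) (bar_not_dvd (theta_not_dvd h.hθ hg)) _ L).trans
      (sSup_le fun _ hK => le_compSup (all_linked h hcub hg hK))))
  exact ⟨h1, cent_of_bar_fix (theta_inv h.hθ hg) (pc_pre_le _) (pc_perfect _) (h1.trans (mX_cent_rad h hcub hg)) b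
    fun s hs hsS => (toBar_pc_pre hs hsS).2.1⟩

theorem lift_piece_le {g y : G} (hg : Pt A g) (hy : Pt A y) (L : Subgroup (Bar (θ g))) :
    pc (pre (θ g) (piece (ac h hg (el hy)) L (bar_rad _))) ≤ mX h y :=
  perfect_fix_le h hcub hg hy (pc_perfect _) (lift_piece h hcub hg (el hy) L).1 (lift_piece h hcub hg (el hy) L).2

/-- A subgroup covering a perfect subgroup of a linked product modulo the radical contains it. -/
theorem le_of_img {g : G} (hg : Pt A g) {P W : Subgroup G} (hW : W ≤ mX h g) (hP : P ≤ mX h g)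
    (hp : ⁅P, P⁆ = P) (hle : img (θ g) P ≤ img (θ g) W) : P ≤ W := by
  refine perfect_le_of_sup (radS_solvable (θ g)) (fun r hr => Comp.mem_normalizer_of_maps fun v hv => ?_) hp
    fun v hv => ?_
  · rw [Subgroup.mem_centralizer_iff.mp (mX_cent_rad h hcub hg (hW hv)) r hr, mul_inv_cancel_right]
    exact hv
  · have hvX := mX_le h g (hP hv)
    obtain ⟨w, hw, hwW, e⟩ := mem_img_iff.mp (hle (mem_img hvX hv))
    rw [show v = w * (w⁻¹ * v) by group]
    refine Subgroup.mul_mem_sup hwW ?_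
    rw [← toBar_eq_one_iff (mul_mem (inv_mem hw) hvX), toBar_mul (inv_mem hw) hvX, toBar_inv hw, e, inv_mul_cancel]

theorem exists_hasComp : ∃ g, Pt A g ∧ HasComp θ g := by
  obtain ⟨g, hg, L, hL⟩ := exists_linked h hcub
  exact ⟨g, hg, L, hL.1⟩

theorem mX_eq_iSup_plane {B : Subgroup G} (hB : B ≤ A) (hB3 : 3 < Nat.card B) {g : G} (hg : Pt A g) :
    mX h g ≤ ⨆ b : {b : G // Pt A b ∧ b ∈ B}, mX h b := by
  set V := ⨆ b : {b : G // Pt A b ∧ b ∈ B}, mX h b
  have hle : compSup (Linked h g) ≤ img (θ g) (mX h g ⊓ V) := iSup_le fun ⟨L, hL⟩ =>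
    gen_pieces (bar_rad _) (bar_not_dvd (theta_not_dvd h.hθ hg)) (ac h hg) (act_cube h.hA) (act_comm h.hA) hL.1
      (P := B.subgroupOf A) (by rwa [Nat.card_congr (Subgroup.subgroupOfEquivOfLe hB).toEquiv])
      fun b hb hb1 hv => by
        have hbp : Pt A (b : G) := ⟨b.2, fun e => hb1 (Subtype.ext e)⟩
        refine (img_pc_pre (piece_perfect (bar_rad _) (bar_not_dvd (theta_not_dvd h.hθ hg)) (ac_cube h hg b)
          hL.1 hv)).ge.trans (img_mono (le_inf (lift_piece h hcub hg b L).1 ?_))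
        exact (lift_piece_le h hcub hg hbp L).trans
          (le_iSup (fun b : {b : G // Pt A b ∧ b ∈ B} => mX h b) ⟨b, hbp, Subgroup.mem_subgroupOf.mp hb⟩)
  exact (mX_le_of_img h hcub hg inf_le_left hle).trans inf_le_right

/-- No non-trivial member is normalised by every linked product. -/
theorem no_member {N : Subgroup G} (hN : IsMem 3 A θ N) (hN1 : N ≠ ⊥)
    (hn : ∀ a, Pt A a → mX h a ≤ normalizer (N : Set G)) : False := by
  obtain ⟨M, hM, hmax⟩ := h.maxOf N hN hN1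
  set E := ⨆ g : {g : G // Pt A g}, mX h g with hEdef
  have hE : IsMem 3 A θ E := hM.sub (iSup_le fun g => hmax _ (mX_isMem h hcub g.2) (hn g g.2)) fun x hx => by
    refine Subgroup.mem_normalizer_iff_map_conj_eq.mpr ?_
    rw [hEdef, Subgroup.map_iSup]
    exact iSup_congr fun g => Subgroup.mem_normalizer_iff_map_conj_eq.mp (mX_inv h hcub g.2 hx)
  have hE1 : E ≠ ⊥ := fun e => by
    obtain ⟨g, hg, L, hL⟩ := exists_hasComp h hcub
    refine isComponent_ne_bot hL (le_bot_iff.mp ?_)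
    have h1 := (CfsgLib.le_layer hL).trans (img_mX h hcub hg).ge
    rwa [le_bot_iff.mp ((le_iSup (fun g : {g : G // Pt A g} => mX h g) ⟨g, hg⟩).trans e.le), img_bot] at h1
  refine h.not_normalized hE hE1 fun g hg => ?_
  refine le_of_planes_at h hg (theta_not_dvd h.hθ hg) (theta_inv h.hθ hg) (theta_le_cent h.hθ hg)
    fun B hB hB3 hgB y hy => ?_
  obtain ⟨hyg, hyB⟩ := Subgroup.mem_inf.mp hy
  have hEV : E = ⨆ b : {b : G // Pt A b ∧ b ∈ B}, mX h b :=
    le_antisymm (iSup_le fun g => mX_eq_iSup_plane h hcub hB hB3 g.2)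
      (iSup_le fun b => le_iSup (fun g : {g : G // Pt A g} => mX h g) ⟨b, b.2.1⟩)
  rw [hEV]
  refine Subgroup.mem_normalizer_iff_map_conj_eq.mpr ?_
  rw [Subgroup.map_iSup]
  refine iSup_congr fun b => Subgroup.mem_normalizer_iff_map_conj_eq.mp
    (theta_normalizes_mX h hcub b.2.1 (balance h.hθ hg b.2.1 (Subgroup.mem_inf.mpr ⟨hyg, ?_⟩)))
  exact Subgroup.centralizer_le (Set.singleton_subset_iff.mpr b.2.2) hyB

section Family

variable {Φ : ∀ g : G, Subgroup (Bar (θ g)) → Prop} (hΦ : PClosed h Φ)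
include hΦ

theorem mF_le_mX {g : G} (hg : Pt A g) : mF θ Φ g ≤ mX h g :=
  pc_mono (pre_mono (iSup_le fun L => le_compSup (all_linked h hcub hg (hΦ.comp g L L.2))))

theorem mF_inv {g : G} (hg : Pt A g) : A ≤ normalizer (mF θ Φ g : Set G) :=
  le_normalizer_pc fun a ha => mem_normalizer_pre' (ac h hg ⟨a, ha⟩) (ac_toBar h hg ⟨a, ha⟩)
    (mp_compSup fun K hK => hΦ.inv g hg ⟨a, ha⟩ K hK)

theorem mX_normalizes_mF {g : G} (hg : Pt A g) : mX h g ≤ normalizer (mF θ Φ g : Set G) :=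
  le_normalizer_pc fun x hx => mem_normalizer_pre' (MulAut.conj (toBar (θ g) (mX_le h g hx))) (conj_toBar _)
    (mp_compSup fun L hL => by
      rwa [mp_conj_eq_iff.mpr (layer_le_normalizer (bar_rad _) (hΦ.comp g L hL) (toBar_mX h hcub hg hx))])

theorem family_piece_le {g : G} (hg : Pt A g) (b : A) {L : Subgroup (Bar (θ g))} (hL : Φ g L) :
    piece (ac h hg b) L (bar_rad _) ≤ compSup (Φ g) := fun w hw =>
  (mem_compSup_iff (bar_rad _) (bar_not_dvd (theta_not_dvd h.hθ hg)) (hΦ.comp g)).mpr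
    ⟨hw.1, fun M hM hMn => hw.2.2 M hM (fun e => hMn (e ▸ hL)) (fun e => hMn (e ▸ hΦ.inv g hg b L hL))
      (fun e => hMn (e ▸ hΦ.inv g hg b _ (hΦ.inv g hg b L hL)))⟩

theorem eF_inv : A ≤ normalizer (eF A θ Φ : Set G) := fun x hx => by
  refine Subgroup.mem_normalizer_iff_map_conj_eq.mpr ?_
  rw [eF, Subgroup.map_iSup]
  exact iSup_congr fun g => Subgroup.mem_normalizer_iff_map_conj_eq.mp (mF_inv h hcub hΦ g.2 hx)

theorem eF_eq_plane {B : Subgroup G} (hB : B ≤ A) (hB3 : 3 < Nat.card B) :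
    eF A θ Φ = ⨆ b : {b : G // Pt A b ∧ b ∈ B}, mF θ Φ b := by
  refine le_antisymm (iSup_le ?_) (iSup_le fun b => le_iSup (fun g : {g : G // Pt A g} => mF θ Φ g) ⟨b, b.2.1⟩)
  rintro ⟨g, hg⟩
  set V := ⨆ b : {b : G // Pt A b ∧ b ∈ B}, mF θ Φ b
  have hM := mF_le_mX h hcub hΦ hg
  refine (le_of_img h hcub hg (inf_le_left.trans hM : mF θ Φ g ⊓ V ≤ _) hM (pc_perfect _) ?_).trans inf_le_right
  refine le_trans (img_pc_pre (compSup_perfect (hΦ.comp g))).le (iSup_le ?_)
  rintro ⟨L, hL⟩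
  exact gen_pieces (bar_rad _) (bar_not_dvd (theta_not_dvd h.hθ hg)) (ac h hg) (act_cube h.hA) (act_comm h.hA)
    (hΦ.comp g L hL) (P := B.subgroupOf A) (by rwa [Nat.card_congr (Subgroup.subgroupOfEquivOfLe hB).toEquiv])
    fun b hb hb1 hv => by
      have hbp : Pt A (b : G) := ⟨b.2, fun e => hb1 (Subtype.ext e)⟩
      refine (img_pc_pre (piece_perfect (bar_rad _) (bar_not_dvd (theta_not_dvd h.hθ hg)) (ac_cube h hg b)
        (hΦ.comp g L hL) hv)).ge.trans (img_mono (le_inf (pc_mono (pre_mono (family_piece_le h hcub hΦ hg b hL))) ?_))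
      exact (hΦ.closed g b hg hbp L hL hv).trans
        (le_iSup (fun b : {b : G // Pt A b ∧ b ∈ B} => mF θ Φ b) ⟨b, hbp, Subgroup.mem_subgroupOf.mp hb⟩)

theorem mX_normalizes_eF {b : G} (hb : Pt A b) : mX h b ≤ normalizer (eF A θ Φ : Set G) := by
  refine (mX_le_of_img h hcub hb (inf_le_left : mX h b ⊓ normalizer (eF A θ Φ : Set G) ≤ _) ?_).trans inf_le_right
  obtain ⟨C, hCA, hC3, hbC⟩ := exists_plane_avoiding h hb
  refine iSup_le ?_
  rintro ⟨L, hL⟩
  refine gen_pieces (bar_rad _) (bar_not_dvd (theta_not_dvd h.hθ hb)) (ac h hb) (act_cube h.hA) (act_comm h.hA) hL.1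
    (P := C.subgroupOf A) (by rwa [Nat.card_congr (Subgroup.subgroupOfEquivOfLe hCA).toEquiv]) fun a ha ha1 hv => ?_
  have hap : Pt A (a : G) := ⟨a.2, fun e => ha1 (Subtype.ext e)⟩
  obtain ⟨hSb, hSa⟩ := lift_piece h hcub hb a L
  refine (img_pc_pre (piece_perfect (bar_rad _) (bar_not_dvd (theta_not_dvd h.hθ hb)) (ac_cube h hb a)
    hL.1 hv)).ge.trans (img_mono (le_inf hSb fun s hs => ?_))
  have hne : b ∉ zpowers (a : G) := fun e => hbC (Subgroup.zpowers_le.mpr (Subgroup.mem_subgroupOf.mp ha) e)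
  rw [eF_eq_plane h hcub hΦ (sup_le (Subgroup.zpowers_le.mpr hb.1) (Subgroup.zpowers_le.mpr hap.1))
    (plane_card h hb hap hne)]
  refine Subgroup.mem_normalizer_iff_map_conj_eq.mpr ?_
  rw [Subgroup.map_iSup]
  refine iSup_congr fun x => Subgroup.mem_normalizer_iff_map_conj_eq.mp (mX_normalizes_mF h hcub hΦ x.2.1 ?_)
  refine perfect_fix_le h hcub hb x.2.1 (pc_perfect _) hSb (fun v hv => ?_) hs
  exact Subgroup.centralizer_le (Set.singleton_subset_iff.mpr x.2.2)
    (mem_cent_of_pair (theta_le_cent h.hθ hb (mX_le h b (hSb hv))) (hSa hv))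

/-- Nothing non-trivial in a value centralises the join of a non-empty family. -/
theorem crit_family (hne : ∃ g, Pt A g ∧ ∃ L, Φ g L) {a : G} (ha : Pt A a) :
    θ a ⊓ centralizer (eF A θ Φ : Set G) = ⊥ := by
  by_contra hne'
  have hE1 : eF A θ Φ ≠ ⊥ := fun e => by
    obtain ⟨g, hg, L, hL⟩ := hne
    refine isComponent_ne_bot (hΦ.comp g L hL) (le_bot_iff.mp ?_)
    have h1 : L ≤ img (θ g) (mF θ Φ g) := (le_compSup hL).trans (img_pc_pre (compSup_perfect (hΦ.comp g))).ge
    rwa [le_bot_iff.mp ((le_iSup (fun g : {g : G // Pt A g} => mF θ Φ g) ⟨g, hg⟩).trans e.le), img_bot] at h1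
  set Z := centralizer (eF A θ Φ : Set G) with hZ
  have hZA : A ≤ normalizer (Z : Set G) := (eF_inv h hcub hΦ).trans (normalizer_le_normalizer_cent _)
  have hρ : IsSignalizerFunctor 3 A (fun g => θ g ⊓ Z) :=
    ⟨fun g hg h1 => inf_le_left.trans (theta_le_cent h.hθ ⟨hg, h1⟩),
      fun g hg h1 hd => theta_not_dvd h.hθ ⟨hg, h1⟩ (hd.trans (Subgroup.card_dvd_of_le inf_le_left)),
      fun g hg h1 => inv_of_normalizer (inf_normalizes (theta_inv h.hθ ⟨hg, h1⟩) hZA),
      fun g hg h1 y hy h2 => le_inf ((inf_le_inf_right _ inf_le_left).trans (balance h.hθ ⟨hg, h1⟩ ⟨hy, h2⟩))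
        (inf_le_left.trans inf_le_right)⟩
  obtain ⟨X, hX, hXle⟩ := h.sub _ hρ (fun g _ => inf_le_left) (by
    by_contra hall
    push Not at hall
    refine hE1 (le_bot_iff.mp (iSup_le ?_))
    rintro ⟨g, hg⟩
    have hc : mF θ Φ g ≤ centralizer (mF θ Φ g : Set G) :=
      (((mF_le_mX h hcub hΦ hg).trans (mX_le h g)).trans ((hall g hg).ge.trans inf_le_right)).trans
        (Subgroup.centralizer_le (le_iSup (fun g : {g : G // Pt A g} => mF θ Φ g) ⟨g, hg⟩))
    have := Subgroup.commutator_eq_bot_iff_le_centralizer.mpr hc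
    rw [mF, pc_perfect] at this
    exact this.le)
  have hXZ : X ≤ Z := le_of_fix h.hA le_rfl (lt_card h.hA3) hX.not_dvd hX.inv fun g hg h1 =>
    (hX.fix g ⟨hg, h1⟩).trans inf_le_right
  have hX' : IsMem 3 A θ X := ⟨hX.not_dvd, hX.inv, fun g hg => (hX.fix g hg).trans inf_le_left⟩
  have hX1 : X ≠ ⊥ := fun e => hne' (le_bot_iff.mp ((hXle a ha).trans e.le))
  obtain ⟨M, hM, hmax⟩ := h.maxOf X hX' hX1
  have hEM : eF A θ Φ ≤ M := iSup_le fun g =>
    hmax _ ((theta_isMem h.hθ g.2).sub ((mF_le_mX h hcub hΦ g.2).trans (mX_le h g)) (mF_inv h hcub hΦ g.2))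
      (((le_iSup (fun g : {g : G // Pt A g} => mF θ Φ g) g).trans (Subgroup.le_centralizer_iff.mp hXZ)).trans
        (Subgroup.centralizer_le_normalizer _))
  exact no_member h hcub (hM.sub hEM (eF_inv h hcub hΦ)) hE1 fun b hb => mX_normalizes_eF h hcub hΦ hb

end Family

/-- Nothing non-trivial in a value centralises all linked products. -/
theorem crit {a : G} (ha : Pt A a) {x : G} (hx : x ∈ θ a)
    (hc : ∀ g, Pt A g → ∀ m ∈ mX h g, x * m = m * x) : x = 1 := by
  let Φ : ∀ g : G, Subgroup (Bar (θ g)) → Prop := fun g L => IsComponent L ∧ Pt A g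
  have hM : ∀ g, Pt A g → mF θ Φ g = mX h g := fun g hg => by
    have : compSup (Φ g) = compSup (Linked h g) := le_antisymm
      (iSup_le fun L => le_compSup (all_linked h hcub hg L.2.1))
      (iSup_le fun L => le_compSup (show Φ g L.1 from ⟨L.2.1, hg⟩))
    rw [mF, this, mX]
  have hΦ : PClosed h Φ := ⟨fun g L hL => hL.1, fun g hg a L hL => ⟨mp_comp hL.1, hg⟩,
    fun g y hg hy L _ _ => (lift_piece_le h hcub hg hy L).trans (hM y hy).ge⟩
  obtain ⟨g, hg, L, hL⟩ := exists_hasComp h hcub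
  have h0 := crit_family h hcub hΦ ⟨g, hg, L, hL, hg⟩ ha
  refine Subgroup.mem_bot.mp (h0.le (Subgroup.mem_inf.mpr ⟨hx, ?_⟩))
  have hle : eF A θ Φ ≤ centralizer ({x} : Set G) := iSup_le fun g m hm =>
    Subgroup.mem_centralizer_singleton_iff.mpr (hc g g.2 m ((hM g g.2).le hm)).symm
  exact Subgroup.mem_centralizer_iff.mpr fun m hm => Subgroup.mem_centralizer_singleton_iff.mp (hle hm)

/-- A component touched by a lifted piece is visible and its piece lies in the lift. -/
theorem piece_sub {g y : G} (hg : Pt A g) (hy : Pt A y) {L : Subgroup (Bar (θ g))}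
    {M : Subgroup (Bar (θ y))} (hM : IsComponent M) {s : G} (hs : s ∈ θ y)
    (hsS : s ∈ pc (pre (θ g) (piece (ac h hg (el hy)) L (bar_rad _)))) (hne : prj M (toBar (θ y) hs) ≠ 1) :
    Vis (ac h hy (el hg)) M ∧ pc (pre (θ y) (piece (ac h hy (el hg)) M (bar_rad _))) ≤
      pc (pre (θ g) (piece (ac h hg (el hy)) L (bar_rad _))) := by
  set β := ac h hy (el hg) with hβ
  have hR := bar_rad (θ y)
  have h3 := bar_not_dvd (theta_not_dvd h.hθ hy)
  obtain ⟨hSg, hSy'⟩ := lift_piece h hcub hg (el hy) L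
  set S := pc (pre (θ g) (piece (ac h hg (el hy)) L (bar_rad _))) with hSdef
  have hSy : S ≤ mX h y := lift_piece_le h hcub hg hy L
  have hSc : S ≤ centralizer ({g} : Set G) := (hSg.trans (mX_le h g)).trans (theta_le_cent h.hθ hg)
  have hSl : img (θ y) S ≤ layer (Bar (θ y)) := (img_mono hSy).trans (img_mX h hcub hy).le
  have hSf : img (θ y) S ≤ fix1 β := fun w hw => by
    obtain ⟨q, hq, hqS, rfl⟩ := mem_img_iff.mp hw
    exact toBar_fix (theta_inv h.hθ hy) (a := el hg) hq (hSc hqS)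
  have hv : Vis β M := by
    by_contra hv
    exact hne (prj_invisible hR h3 hM hv hSl hSf (img_perfect (hSy.trans (mX_le h y)) (pc_perfect _)) (mem_img hs hsS))
  obtain ⟨hTy, hTc⟩ := lift_piece h hcub hy (el hg) M
  set T := pc (pre (θ y) (piece β M (bar_rad _))) with hTdef
  have hTg : T ≤ mX h g := lift_piece_le h hcub hy hg M
  have hTS : T ≤ normalizer (S : Set G) := by
    refine le_normalizer_pc fun t ht => mem_normalizer_pre (mX_le h g (hTg ht)) ?_
    exact piece_normalized (bar_rad _) (toBar_mX h hcub hg (hTg ht))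
      (toBar_fix (theta_inv h.hθ hg) (a := el hy) _ (theta_le_cent h.hθ hy (mX_le h y (hTy ht))))
  have hST : S ≤ normalizer (T : Set G) := by
    refine le_normalizer_pc fun t ht => mem_normalizer_pre (mX_le h y (hSy ht)) ?_
    exact piece_normalized (bar_rad _) (toBar_mX h hcub hy (hSy ht))
      (toBar_fix (theta_inv h.hθ hy) (a := el hg) _ (hSc ht))
  have hPp := piece_perfect hR h3 (ac_cube h hy (el hg)) hM hv
  obtain ⟨w, hw, hwne⟩ := piece_noncomm hR h3 (ac_cube h hy (el hg)) hM (hSl (mem_img hs hsS))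
    (hSf (mem_img hs hsS)) hne
  obtain ⟨t, ht, htT, rfl⟩ := mem_img_iff.mp ((img_pc_pre hPp).ge hw)
  have hcS : ⁅s, t⁆ ∈ S := by
    rw [show ⁅s, t⁆ = s * (t * s⁻¹ * t⁻¹) by rw [commutatorElement_def]; group]
    exact mul_mem hsS ((Subgroup.mem_normalizer_iff.mp (hTS htT) _).mp (inv_mem hsS))
  have hcT : ⁅s, t⁆ ∈ T := mul_mem ((Subgroup.mem_normalizer_iff.mp (hST hsS) t).mp htT) (inv_mem htT)
  refine ⟨hv, (simple_fill hPp (suz_simple (piece_suzuki hR h3 (ac_cube h hy (el hg)) hM hv)) (N := T ⊓ S) inf_le_left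
    (inf_normalizes Subgroup.le_normalizer hTS) (mX_le h y (hSy hcS)) (Subgroup.mem_inf.mpr ⟨hcT, hcS⟩) ?_).trans
      inf_le_right⟩
  rw [show toBar (θ y) (mX_le h y (hSy hcS)) = ⁅toBar (θ y) hs, toBar (θ y) ht⁆ from toBar_commutator hs ht, Ne,
    commutatorElement_eq_one_iff_commute]
  exact hwne

/-- A fixed element centralising a component is trivial. -/
theorem dfix_cent_comp {d : G} (hd : d ∈ dfix h) {g : G} (hg : Pt A g) (hdg : d ∈ θ g)
    {L : Subgroup (Bar (θ g))} (hL : IsComponent L) (hc : ∀ l ∈ L, toBar (θ g) hdg * l = l * toBar (θ g) hdg) :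
    d = 1 := by
  have hdA := dfix_le_cent h hd
  let Φ : ∀ g : G, Subgroup (Bar (θ g)) → Prop := fun g L => IsComponent L ∧ Pt A g ∧
    ∀ hdg : d ∈ θ g, ∀ l ∈ L, toBar (θ g) hdg * l = l * toBar (θ g) hdg
  have hfix : ∀ (g : G) (hg : Pt A g) (a : A) (hdg : d ∈ θ g), ac h hg a (toBar (θ g) hdg) = toBar (θ g) hdg :=
    fun g hg a hdg => toBar_fix (theta_inv h.hθ hg) (a := a) hdg (cent_A_le h a.2 hdA)
  have hcent : ∀ g, Pt A g → ∀ m ∈ mF θ Φ g, d * m = m * d := by
    intro g hg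
    have hdθ := dfix_le_theta h hg hd
    have hle : compSup (Φ g) ≤ centralizer ({toBar (θ g) hdθ} : Set (Bar (θ g))) := iSup_le fun M v hv =>
      Subgroup.mem_centralizer_singleton_iff.mpr (M.2.2.2 hdθ v hv).symm
    refine perfect_cent_of_mod (P := mF θ Φ g) (N := rv θ g) (pc_perfect _) ?_ (self_normalizes_radS _ hdθ) fun m hm => ?_
    · exact (pc_mono (pre_mono (iSup_le fun M => le_compSup (all_linked h hcub hg M.2.1)))).trans
        (mX_cent_rad h hcub hg)
    · have hmθ : m ∈ θ g := pc_pre_le _ hm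
      have e := Subgroup.mem_centralizer_singleton_iff.mp (hle (toBar_pc_pre hmθ hm))
      rw [rv, ← toBar_eq_one_iff (mul_mem (inv_mem hmθ) (mul_mem (mul_mem hdθ hmθ) (inv_mem hdθ))),
        toBar_mul (inv_mem hmθ) (mul_mem (mul_mem hdθ hmθ) (inv_mem hdθ)), toBar_inv hmθ, toBar_conj hdθ hmθ,
        MulAut.conj_apply, ← e, mul_inv_cancel_right, inv_mul_cancel]
  have hΦ : PClosed h Φ := by
    refine ⟨fun g L hL => hL.1, fun g hg a L hL => ⟨mp_comp hL.1, hg, ?_⟩, fun g y hg hy L hL hv => ?_⟩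
    · rintro hdg _ ⟨l, hl, rfl⟩
      show toBar (θ g) hdg * ac h hg a l = ac h hg a l * toBar (θ g) hdg
      conv_lhs => rw [← hfix g hg a hdg]
      conv_rhs => rw [← hfix g hg a hdg]
      rw [← map_mul, ← map_mul, hL.2.2 hdg l hl]
    · have hR := bar_rad (θ y)
      have h3 := bar_not_dvd (theta_not_dvd h.hθ hy)
      set S := pc (pre (θ g) (piece (ac h hg (el hy)) L (bar_rad _))) with hSdef
      have hSy : S ≤ mX h y := lift_piece_le h hcub hg hy L
      have hΦinv : ∀ (a : A) M, Φ g M → Φ g (mp (ac h hg a) M) := fun a M hM => ⟨mp_comp hM.1, hg, by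
        rintro hdg _ ⟨l, hl, rfl⟩
        show toBar (θ g) hdg * ac h hg a l = ac h hg a l * toBar (θ g) hdg
        conv_lhs => rw [← hfix g hg a hdg]
        conv_rhs => rw [← hfix g hg a hdg]
        rw [← map_mul, ← map_mul, hM.2.2 hdg l hl]⟩
      have hSF : S ≤ mF θ Φ g := pc_mono (pre_mono fun w hw =>
        (mem_compSup_iff (bar_rad _) (bar_not_dvd (theta_not_dvd h.hθ hg)) (fun M (hM : Φ g M) => hM.1)).mpr
          ⟨hw.1, fun M hM hMn => hw.2.2 M hM (fun e => hMn (e ▸ hL)) (fun e => hMn (e ▸ hΦinv _ L hL))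
            (fun e => hMn (e ▸ hΦinv _ _ (hΦinv _ L hL)))⟩)
      refine le_pc_pre (hSy.trans (mX_le h y)) (pc_perfect _) fun s hs hsS => ?_
      refine (mem_compSup_iff hR h3 (fun M (hM : Φ y M) => hM.1)).mpr ⟨toBar_mX h hcub hy (hSy hsS), fun M hM hMn => ?_⟩
      by_contra hne
      obtain ⟨hvM, hTS⟩ := piece_sub h hcub hg hy hM hs hsS hne
      refine hMn ⟨hM, hy, fun hdy l hl => cent_comp hR h3 (ac_cube h hy (el hg)) hM (hfix y hy (el hg) hdy)
        (fun w hwl hwf hsupp => ?_) l hl⟩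
      obtain ⟨t, ht, htT, rfl⟩ := mem_img_iff.mp
        ((img_pc_pre (piece_perfect hR h3 (ac_cube h hy (el hg)) hM hvM)).ge ⟨hwl, hwf, hsupp⟩)
      rw [← toBar_mul hdy ht, ← toBar_mul ht hdy]
      exact congrArg (QuotientGroup.mk' _) (Subtype.ext (hcent g hg t (hSF (hTS htT))))
  have hne : ∃ g, Pt A g ∧ ∃ L, Φ g L := ⟨g, hg, L, hL, hg, fun hdg' => hc⟩
  refine Subgroup.mem_bot.mp ((crit_family h hcub hΦ hne hg).le (Subgroup.mem_inf.mpr ⟨hdg, ?_⟩))
  have hle : eF A θ Φ ≤ centralizer ({d} : Set G) := iSup_le fun g m hm =>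
    Subgroup.mem_centralizer_singleton_iff.mpr (hcent g g.2 m hm).symm
  exact Subgroup.mem_centralizer_iff.mpr fun m hm => Subgroup.mem_centralizer_singleton_iff.mp (hle hm)

/-- The components at a point form one orbit. -/
theorem single_orbit {g : G} (hg : Pt A g) {K L : Subgroup (Bar (θ g))} (hK : IsComponent K) (hL : IsComponent L) :
    ∃ a : A, mp (ac h hg a) K = L := by
  by_contra hall
  push Not at hall
  have hR := bar_rad (θ g)
  have h3 := bar_not_dvd (theta_not_dvd h.hθ hg)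
  obtain ⟨z, hz, hz5, hzf⟩ := exists_five_fixed hR h3 hK (ac h hg) (act_cube h.hA) (act_comm h.hA)
  obtain ⟨w, hw, hwF, hwp, hwo⟩ := exists_fixed_orbit hR h3 hK (ac h hg) hz hzf
  obtain ⟨x, hx, hxM, ex⟩ := mem_img_iff.mp ((img_mX h hcub hg).ge hw)
  obtain ⟨d, hdθ, -, hdA, ed⟩ := lift_fixed h.hA le_rfl (theta_inv h.hθ hg) (theta_not_dvd h.hθ hg) (mX_le h g)
    (mX_inv h hcub hg) hxM (fun b _ => by
      rw [show toBar (θ g) (mX_le h g hxM) = w from ex]
      exact hwF b)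
  have hd : d ∈ dfix h := (dfix_eq h hg).le (Subgroup.mem_inf.mpr ⟨hdθ, hdA⟩)
  have hdw : toBar (θ g) hdθ = w := ed.trans ex
  have h1 := dfix_cent_comp h hcub hd hg hdθ hL fun l hl => by
    rw [hdw]
    have h1 := layer_mul_comm_prj hR hL hw hl
    rw [hwo L hL hall] at h1
    simp only [one_mul, inv_one, mul_one] at h1
    exact mul_inv_eq_iff_eq_mul.mp h1
  have h2 := hwp 1
  rw [map_one, mp_one, MulAut.one_apply, ← hdw, show toBar (θ g) hdθ = 1 from (toBar_eq_one_iff hdθ).mpr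
    (by rw [h1]; exact one_mem _), prj_one hR hK] at h2
  rw [← h2, orderOf_one] at hz5
  norm_num at hz5

end Data

end CfsgLib.SF23
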