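import Cfsg.Agent.Lib.SF23.Suz
import Cfsg.Agent.Lib.Suzuki.Maximal

/-!
Generation of a Suzuki group by two commuting classes of involutions, inner automorphisms of the smallest
Suzuki group, and inversion of an element of order five.
-/

set_option autoImplicit false
set_option linter.unusedSectionVars false
set_option linter.style.haveILetI false

namespace CfsgLib.SF23

open Cfsg Subgroup

universe u

namespace SzM

open CfsgLib.Suzuki

variable {F : Type} [Field F] [Fintype F] {m : ℕ} (hF : Fintype.card F = 2 ^ (2 * m + 1)) (hm : 1 ≤ m)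
include hF hm

theorem gen_involutions {W : Subgroup ↥(Cfsg.Sz F m)} {b : F} (hb : b ≠ 0) (hZ : Z hF ≤ W)
    (hw : wS hF * uS hF 0 b * wS hF ∈ W) : W = ⊤ := by
  haveI : Fact (Nat.Prime 2) := ⟨Nat.prime_two⟩
  by_contra hne
  set q := 2 ^ (2 * m + 1) with hq
  have hq8 : 8 ≤ q := by
    calc 8 = 2 ^ 3 := by norm_num
      _ ≤ q := Nat.pow_le_pow_right (by norm_num) (by omega)
  have hqW : q ∣ Nat.card W := by
    rw [hq, ← card_Z hF]
    exact Subgroup.card_dvd_of_le hZ
  have hsq : ∀ c : F, uS hF 0 c * uS hF 0 c = 1 := fun c => mul_eq_one_iff_eq_inv.mpr (by rw [uS_inv]; simp)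
  rcases trichotomy hF hm W with ⟨p, hp, hfix⟩ | ⟨y, hy, hle⟩ | ⟨k, g, hk, hdiv, hW⟩
  · obtain ⟨P, hP⟩ := fix_le_sylow_normalizer hF hm hp hfix
    obtain ⟨g, hg⟩ := MulAction.exists_smul_eq ↥(Cfsg.Sz F m) (Usyl hF hm) P
    have hPU : ∀ x, x ∈ W → x * x = 1 → g⁻¹ * x * g ∈ Z hF := by
      intro x hx hx2
      have hxP : x ∈ (P : Subgroup ↥(Cfsg.Sz F m)) := by
        have hxn := hP hx
        have hpg : IsPGroup 2 (zpowers x) := fun a => ⟨1, by
          obtain ⟨a, j, rfl⟩ := a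
          apply Subtype.ext
          show (x ^ j) ^ (2 ^ 1) = 1
          rw [pow_one, sq, ← (Commute.refl x).mul_zpow, hx2, one_zpow]⟩
        exact (hpg.inf_normalizer_sylow P).le (Subgroup.mem_inf.mpr ⟨mem_zpowers x, hxn⟩) |>.2
      rw [← hg, Sylow.coe_subgroup_smul, coe_Usyl] at hxP
      obtain ⟨u, hu, e⟩ := hxP
      have e' : g * u * g⁻¹ = x := e
      have e'' : g⁻¹ * x * g = u := by rw [← e']; group
      rw [e'']
      refine mem_Z_of_sq hF hu ?_
      rw [← e'']
      calc g⁻¹ * x * g * (g⁻¹ * x * g) = g⁻¹ * (x * x) * g := by group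
        _ = 1 := by rw [hx2]; group
    obtain ⟨c, hc⟩ := hPU _ (hZ ⟨1, rfl⟩) (hsq 1)
    obtain ⟨d, hd⟩ := hPU _ hw (by
      calc wS hF * uS hF 0 b * wS hF * (wS hF * uS hF 0 b * wS hF)
          = wS hF * uS hF 0 b * (wS hF * wS hF) * uS hF 0 b * wS hF := by group
        _ = wS hF * (uS hF 0 b * uS hF 0 b) * wS hF := by rw [wS_mul_self, mul_one]; group
        _ = 1 := by rw [hsq, mul_one, wS_mul_self])
    have hcomm : wS hF * uS hF 0 b * wS hF ∈ centralizer ({uS hF 0 1} : Set ↥(Cfsg.Sz F m)) := by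
      refine mem_centralizer_singleton_iff.mpr ?_
      have e : uS hF 0 c * uS hF 0 d = uS hF 0 d * uS hF 0 c := by rw [uS_mul, uS_mul, add_comm c d]
      rw [← hc, ← hd] at e
      have e' := congrArg (fun v => g * v * g⁻¹) e
      simp only [mul_assoc, mul_inv_cancel_left, mul_inv_cancel, mul_one] at e'
      simpa [mul_assoc] using e'.symm
    rw [centralizer_z hF hm one_ne_zero] at hcomm
    obtain ⟨a', b', e⟩ := hcomm
    have h1 := congrArg (fun v : ↥(Cfsg.Sz F m) => v • suzukiPointInfinity F) e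
    simp only [mul_smul, smul_wS_inf, smul_uS_zero, smul_uS_inf] at h1
    have h2 := congrArg (fun v => wS hF • v) h1
    simp only [← mul_smul, wS_mul_self, one_smul, smul_wS_inf] at h2
    rw [← pt_zero (m := m)] at h2
    exact hb (pt_injective h2).2
  · obtain ⟨k, hk, -, hA⟩ := torus_of_ss hF hm hy
    obtain ⟨-, -, hk2, -⟩ := torusOrder_props hF hm hk
    have h1 := hqW.trans (Subgroup.card_dvd_of_le hle)
    rw [tori_card_normalizer hF hm hk hA] at h1
    have h2 : q ∣ torC m k :=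
      (Nat.Coprime.pow_left _ ((Nat.prime_two.coprime_iff_not_dvd).mpr hk2)).dvd_of_dvd_mul_right h1
    rcases torC_cases m k with e | e <;> rw [e] at h2 <;> have := Nat.le_of_dvd (by norm_num) h2 <;> omega
  · have hkm := subfield_lt hF hm hne hdiv hW
    rw [hW, Subgroup.card_map_of_injective (MulAut.conj g).injective, card_subGp hF hm hk hdiv] at hqW
    set q0 := 2 ^ (2 * k + 1) with hq0
    have hodd : Nat.Coprime q ((q0 ^ 2 + 1) * (q0 - 1)) := by
      refine Nat.Coprime.pow_left _ ((Nat.prime_two.coprime_iff_not_dvd).mpr ?_)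
      have h2 : 2 ∣ q0 := hq0 ▸ dvd_pow_self 2 (by omega)
      intro h
      rcases (Nat.prime_two.dvd_mul).mp h with h | h
      · have := dvd_pow h2 (show (2 : ℕ) ≠ 0 by norm_num)
        omega
      · have : 1 ≤ q0 := Nat.one_le_two_pow
        omega
    rw [mul_assoc] at hqW
    have h2 := hodd.dvd_of_dvd_mul_right hqW
    rw [hq, hq0, ← pow_mul] at h2
    have h3 := Nat.pow_dvd_pow_iff_le_right (by norm_num : 1 < 2) |>.mp h2
    obtain ⟨d, hd⟩ := hdiv
    rcases d with - | - | - | d <;> first | omega | nlinarith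

end SzM

variable {L : Type u} [Group L] [Finite L]

/-- Two involutions classes generate. -/
theorem suz_gen (hL : Cfsg.Lie.IsoSuzuki L) {s z : L} (hs : orderOf s = 2) (hz : orderOf z = 5) {W : Subgroup L}
    (h1 : ∀ e, e * e = 1 → e * s = s * e → e ∈ W) (h2 : z * s * z⁻¹ ∈ W) : W = ⊤ := by
  obtain ⟨F, i1, i2, m, hF, hm, ⟨e₀⟩⟩ := exists_model hL
  obtain ⟨g, b, hb, hg1, hg2⟩ := SzM.exists_frame hF hm (s := e₀ s) (z := e₀ z)
    (by rw [MulEquiv.orderOf_eq, hs]) (by rw [MulEquiv.orderOf_eq, hz])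
  set f : L ≃* ↥(Cfsg.Sz F m) := e₀.trans (MulAut.conj g)
  refine map_injective (f := f.toMonoidHom) f.injective ?_
  rw [map_top_of_surjective _ f.surjective]
  refine SzM.gen_involutions hF hm hb (fun x hx => ?_) ⟨_, h2, ?_⟩
  · obtain ⟨x, rfl⟩ := f.surjective x
    refine ⟨x, h1 x ?_ ?_, rfl⟩
    · refine f.injective ?_
      obtain ⟨c, hc⟩ := hx
      rw [map_mul, map_one, hc]
      exact mul_eq_one_iff_eq_inv.mpr (by rw [Suzuki.uS_inv]; simp)
    · refine f.injective ?_
      obtain ⟨c, hc⟩ := hx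
      rw [map_mul, map_mul, hc, show f s = Suzuki.uS hF 0 1 from hg1, Suzuki.uS_mul, Suzuki.uS_mul, add_comm c 1]
  · show f (z * s * z⁻¹) = _
    rw [← hg2]
    show g * e₀ (z * s * z⁻¹) * g⁻¹ = _
    rw [map_mul, map_mul, map_inv]

/-- Automorphisms of the smallest Suzuki group of order prime to three are inner. -/
theorem suz_eight_inner (hL : Cfsg.Lie.IsoSuzuki L) (hc : Nat.card L = 29120) {φ : MulAut L}
    (hφ : ¬ 3 ∣ orderOf φ) : ∃ k : L, ∀ x, φ x = k * x * k⁻¹ := by
  obtain ⟨F, i1, i2, m, hF, hm, ⟨e⟩⟩ := exists_model hL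
  have hm1 : m = 1 := by
    rw [Nat.card_congr e.toEquiv, Suzuki.card_Sz hF hm] at hc
    by_contra hne
    have h32 : 32 ≤ 2 ^ (2 * m + 1) := by
      calc 32 = 2 ^ 5 := by norm_num
        _ ≤ _ := Nat.pow_le_pow_right (by norm_num) (by omega)
    have : 32 ^ 2 * (32 ^ 2 + 1) * (32 - 1) ≤ 29120 := by
      rw [← hc]
      gcongr
    omega
  subst hm1
  set M := ↥(Cfsg.Sz F 1)
  haveI : Finite (MulAut M) := SzM.finite_aut hF hm
  set ψ := MulAut.congr e φ with hψ
  set I : Subgroup (MulAut M) := (MulAut.conj : M →* MulAut M).range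
  have hI : I.index = 3 := by
    have h1 := I.card_mul_index
    rw [SzM.card_aut hF hm,
      ← Nat.card_congr (MonoidHom.ofInjective (SzM.conj_injective hF hm)).toEquiv] at h1
    exact Nat.eq_of_mul_eq_mul_left Nat.card_pos h1
  haveI : I.Normal := ⟨by
    rintro _ ⟨x, rfl⟩ a
    refine ⟨a x, MulEquiv.ext fun y => ?_⟩
    show a x * y * (a x)⁻¹ = a (x * a⁻¹ y * x⁻¹)
    rw [map_mul, map_mul, map_inv, MulAut.apply_inv_self]⟩
  have h1 : orderOf (QuotientGroup.mk' I ψ) ∣ 3 := by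
    have := orderOf_dvd_natCard (QuotientGroup.mk' I ψ)
    rwa [← Subgroup.index_eq_card, hI] at this
  have h2 : orderOf (QuotientGroup.mk' I ψ) ∣ orderOf φ := by
    rw [← MulEquiv.orderOf_eq (MulAut.congr e) φ]
    exact orderOf_map_dvd _ _
  have h3 : orderOf (QuotientGroup.mk' I ψ) = 1 := by
    rcases (Nat.dvd_prime Nat.prime_three).mp h1 with h | h
    · exact h
    · exact absurd (h ▸ h2) hφ
  obtain ⟨k, hk⟩ := (QuotientGroup.eq_one_iff ψ).mp (orderOf_eq_one_iff.mp h3)
  refine ⟨e.symm k, fun x => e.injective ?_⟩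
  have := DFunLike.congr_fun hk (e x)
  simp only [MulAut.conj_apply, hψ, MulAut.congr_apply, MulEquiv.trans_apply, MulEquiv.symm_apply_apply] at this
  rw [← this, map_mul, map_mul, map_inv, MulEquiv.apply_symm_apply]

/-- An involution normalising a torus without centralising it inverts its element of order five. -/
theorem suz_invert (hL : Cfsg.Lie.IsoSuzuki L) {z σ : L} (hz : orderOf z = 5) (hσ : σ * σ = 1)
    (hn : σ ∈ normalizer (centralizer ({z} : Set L) : Set L)) (hne : σ * z ≠ z * σ) : σ * z * σ⁻¹ = z⁻¹ := by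
  obtain ⟨hcyc, hTI, -⟩ := suz_torus hL hz
  haveI := hcyc
  let _ : CommGroup (centralizer ({z} : Set L)) := IsCyclic.commGroup
  have hzc : z ∈ centralizer ({z} : Set L) := mem_centralizer_singleton_iff.mpr rfl
  have hwc : σ * z * σ⁻¹ ∈ centralizer ({z} : Set L) := (mem_normalizer_iff.mp hn z).mp hzc
  have hinv : σ⁻¹ = σ := inv_eq_of_mul_eq_one_right hσ
  set w := σ * z * σ⁻¹ with hw
  have hcomm : w * z = z * w := congrArg Subtype.val
    (mul_comm (⟨w, hwc⟩ : centralizer ({z} : Set L)) ⟨z, hzc⟩)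
  by_contra hne'
  have h1 : w * z ≠ 1 := fun h => hne' (eq_inv_of_mul_eq_one_left h)
  have hfix : σ * (w * z) = (w * z) * σ := by
    rw [hw, hinv] at hcomm ⊢
    calc σ * (σ * z * σ * z) = (σ * σ) * (z * σ * z) := by group
      _ = z * σ * z * (σ * σ) := by rw [hσ, one_mul, mul_one]
      _ = z * (σ * z * σ) * σ := by group
      _ = σ * z * σ * z * σ := by rw [hcomm]
  have h2 := hTI (w * z) (mul_mem hwc hzc) h1
  have hmem : σ ∈ centralizer ({w * z} : Set L) := mem_centralizer_singleton_iff.mpr hfix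
  rw [h2] at hmem
  exact hne (mem_centralizer_singleton_iff.mp hmem)

end CfsgLib.SF23
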