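import Cfsg.Agent.Lib.SF23.Full
import Cfsg.Agent.Lib.SF23.SuzExtra

/-!
The values with components are the linked products, with trivial radical and a common fixed group.
-/

set_option autoImplicit false
set_option linter.unusedSectionVars false
set_option linter.style.haveILetI false

namespace CfsgLib.SF23

open Cfsg Subgroup CfsgLib.Signalizer CfsgLib.SolvSF
open scoped commutatorElement

universe u

/-- Visibility passes to the components moved by a commuting operator. -/
theorem vis_mp {H : Type u} [Group H] [Finite H] {β e : MulAut H} (hc : ∀ x, β (e x) = e (β x)) {K : Subgroup H}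
    (hv : Vis β K) : Vis β (mp e K) := by
  have hcm : mp β (mp e K) = mp e (mp β K) := by
    rw [← mp_mul, ← mp_mul, show β * e = e * β from MulEquiv.ext hc]
  rcases hv with hm | hns
  · exact Or.inl fun h => hm (mp_injective e (hcm ▸ h))
  · refine Or.inr fun hs => hns ?_
    haveI := hs
    refine Group.isSolvable_of_isSolvable_injective
      (f := ({ toFun := fun w => ⟨e w, mem_mp w.2.1, by
                  show β (e w) = e w
                  rw [hc, show β (w : H) = w from w.2.2]⟩,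
               map_one' := Subtype.ext (map_one e),
               map_mul' := fun p q => Subtype.ext (map_mul e _ _) } : ↥(K ⊓ fix1 β) →* ↥(mp e K ⊓ fix1 β))) ?_
    exact fun p q e' => Subtype.ext (e.injective (congrArg Subtype.val e'))

variable {G : Type u} [Group G] [Finite G] {A : Subgroup G} {θ : G → Subgroup G}

section Data

variable (h : Ctx 3 A θ) (hcub : CubicTrivial.{u})
include h hcub

theorem dfix_bar_one {g : G} (hg : Pt A g) (hG : HasComp θ g) {d : G} (hd : d ∈ dfix h) (hdg : d ∈ θ g)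
    (h1 : toBar (θ g) hdg = 1) : d = 1 := by
  obtain ⟨L, hL⟩ := hG
  exact dfix_cent_comp h hcub hd hg hdg hL fun l _ => by rw [h1, one_mul, mul_one]

theorem vis_all {g : G} (hg : Pt A g) {b : A} {K L : Subgroup (Bar (θ g))} (hK : IsComponent K) (hL : IsComponent L)
    (hv : Vis (ac h hg b) K) : Vis (ac h hg b) L := by
  obtain ⟨a, rfl⟩ := single_orbit h hcub hg hK hL
  exact vis_mp (fun x => actBar_bar_comm h hg b a x) hv

/-- A visible point sees back. -/
theorem vis_symm {g y : G} (hg : Pt A g) (hy : Pt A y) {L : Subgroup (Bar (θ g))} (hL : IsComponent L)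
    (hv : Vis (ac h hg (el hy)) L) : HasComp θ y ∧ ∀ M, IsComponent M → Vis (ac h hy (el hg)) M := by
  have hR := bar_rad (θ g)
  have h3 := bar_not_dvd (theta_not_dvd h.hθ hg)
  have hPp := piece_perfect hR h3 (ac_cube h hg (el hy)) hL hv
  set S := pc (pre (θ g) (piece (ac h hg (el hy)) L (bar_rad _))) with hSdef
  have hSy : S ≤ mX h y := lift_piece_le h hcub hg hy L
  obtain ⟨s, hsS, hne⟩ : ∃ s, ∃ hs : s ∈ S, toBar (θ y) (mX_le h y (hSy hs)) ≠ 1 := by
    by_contra hall
    push Not at hall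
    have hs : Group.IsSolvable S :=
      solvable_of_le (fun s hs => (toBar_eq_one_iff _).mp (hall s hs)) (radS_solvable (θ y))
    haveI := suz_simple (piece_suzuki hR h3 (ac_cube h hg (el hy)) hL hv)
    have h1 := perfect_le_ker' (show ⁅(⊤ : Subgroup S), ⊤⁆ = ⊤ from by
      apply Subgroup.map_injective S.subtype_injective
      rw [Subgroup.map_commutator, ← MonoidHom.range_eq_map, Subgroup.range_subtype]
      exact pc_perfect _) (MonoidHom.id S) (by rw [Subgroup.map_id]; exact
        Group.isSolvable_of_isSolvable_injective (f := (⊤ : Subgroup S).subtype) (Subgroup.subtype_injective _))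
    refine (Subgroup.nontrivial_iff_ne_bot _).mp (inferInstance : Nontrivial ↥(piece (ac h hg (el hy)) L hR)) ?_
    rw [← img_pc_pre hPp, show pc (pre (θ g) (piece (ac h hg (el hy)) L hR)) = S from rfl]
    refine le_bot_iff.mp fun w hw => ?_
    obtain ⟨q, hq, hqS, rfl⟩ := mem_img_iff.mp hw
    have h2 : (⟨q, hqS⟩ : S) = 1 := MonoidHom.mem_ker.mp (h1 (Subgroup.mem_top _))
    exact Subgroup.mem_bot.mpr ((toBar_eq_one_iff hq).mpr (by
      rw [show q = 1 from congrArg Subtype.val h2]; exact one_mem _))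
  obtain ⟨M, hM, hMne⟩ : ∃ M, IsComponent M ∧ prj M (toBar (θ y) (mX_le h y (hSy hsS))) ≠ 1 := by
    by_contra hall
    push Not at hall
    exact hne (layer_ext (bar_rad _) (toBar_mX h hcub hy (hSy hsS)) (one_mem _) fun M hM => by
      rw [hall M hM, prj_one (bar_rad _) hM])
  exact ⟨⟨M, hM⟩, fun M' hM' => vis_all h hcub hy hM hM' (piece_sub h hcub hg hy hM _ hsS hMne).1⟩

/-- Fixed elements of a product seen from a point lie in the lifted product there. -/
theorem visible_cover {g y : G} (hg : Pt A g) (hy : Pt A y) (hv : ∀ M, IsComponent M → Vis (ac h hg (el hy)) M)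
    {x : G} (hx : x ∈ mX h g) (hxy : x ∈ centralizer ({y} : Set G)) :
    toBar (θ g) (mX_le h g hx) ∈ img (θ g) (mX h g ⊓ mX h y) := by
  have hR := bar_rad (θ g)
  have h3 := bar_not_dvd (theta_not_dvd h.hθ hg)
  obtain ⟨t, ht, htl, -, htp⟩ := fix_layer_split hR h3 (ac_cube h hg (el hy)) _ rfl (toBar_mX h hcub hg hx)
    (toBar_fix (theta_inv h.hθ hg) (a := el hy) _ hxy)
  have e : toBar (θ g) (mX_le h g hx) = t :=
    layer_ext hR (toBar_mX h hcub hg hx) htl fun M hM => ((htp M hM).1 (hv M hM)).symm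
  rw [e]
  refine (iSup_le fun M => ?_ : _ ≤ img (θ g) (mX h g ⊓ mX h y)) ht
  obtain ⟨M, hM, hMv, -⟩ := M
  exact (img_pc_pre (piece_perfect hR h3 (ac_cube h hg (el hy)) hM hMv)).ge.trans
    (img_mono (le_inf (lift_piece h hcub hg (el hy) M).1 (lift_piece_le h hcub hg hy M)))

theorem fixA_le {g y : G} (hg : Pt A g) (hy : Pt A y) {L : Subgroup (Bar (θ g))} (hL : IsComponent L)
    (hv : Vis (ac h hg (el hy)) L) : mX h g ⊓ centralizer (A : Set G) ≤ mX h y ⊓ centralizer (A : Set G) := by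
  intro x hx
  obtain ⟨hxM, hxA⟩ := Subgroup.mem_inf.mp hx
  obtain ⟨w, hw, hwW, ew⟩ := mem_img_iff.mp (visible_cover h hcub hg hy (fun M hM => vis_all h hcub hg hL hM hv) hxM
    (cent_A_le h hy.1 hxA))
  obtain ⟨c, hc, hcW, hcA, ec⟩ := lift_fixed h.hA le_rfl (theta_inv h.hθ hg) (theta_not_dvd h.hθ hg)
    (inf_le_left.trans (mX_le h g)) (inf_normalizes (mX_inv h hcub hg) (mX_inv h hcub hy)) hwW (fun b _ => by
      rw [show toBar (θ g) (((inf_le_left : mX h g ⊓ mX h y ≤ _).trans (mX_le h g)) hwW) = _ from ew]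
      exact toBar_fix (theta_inv h.hθ hg) (a := b) _ (cent_A_le h b.2 hxA))
  have hxg := mX_le h g hxM
  have h1 := dfix_bar_one h hcub hg ⟨L, hL⟩ (d := c⁻¹ * x)
    ((dfix_eq h hg).le (Subgroup.mem_inf.mpr ⟨mul_mem (inv_mem hc) hxg, mul_mem (inv_mem hcA) hxA⟩))
    (mul_mem (inv_mem hc) hxg) (by
      rw [toBar_mul (inv_mem hc) hxg, toBar_inv hc, ec.trans ew, inv_mul_cancel])
  rw [inv_mul_eq_one] at h1
  exact Subgroup.mem_inf.mpr ⟨h1 ▸ hcW.2, hxA⟩

/-- The fixed groups of the products at the points with components agree. -/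
theorem fixA_eq {g y : G} (hg : Pt A g) (hy : Pt A y) (hgG : HasComp θ g) (hyG : HasComp θ y) :
    mX h g ⊓ centralizer (A : Set G) = mX h y ⊓ centralizer (A : Set G) := by
  obtain ⟨L, hL⟩ := hgG
  obtain ⟨M, hM⟩ := hyG
  obtain ⟨D, hDc, hDv⟩ := exists_visible_plane (bar_rad _) (bar_not_dvd (theta_not_dvd h.hθ hg)) (act_cube h.hA)
    (act_comm h.hA) (ac h hg) hL
  obtain ⟨D', hDc', hDv'⟩ := exists_visible_plane (bar_rad _) (bar_not_dvd (theta_not_dvd h.hθ hy)) (act_cube h.hA)
    (act_comm h.hA) (ac h hy) hM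
  have hAc : Nat.card A = 27 := by rw [h.hA3]; norm_num
  obtain ⟨x, hxD, hxD', hx1⟩ : ∃ x, x ∈ D ∧ x ∈ D' ∧ x ≠ 1 := by
    by_contra hall
    push Not at hall
    have hinj : Function.Injective (fun p : D × D' => (p.1 : A) * p.2) := by
      rintro ⟨a, b⟩ ⟨c, d⟩ e
      have e' : (c : A)⁻¹ * a = (d : A) * (b : A)⁻¹ := by
        rw [inv_mul_eq_iff_eq_mul, ← mul_assoc, ← (show (a : A) * b = c * d from e), mul_inv_cancel_right]
      have h1 : (c : A)⁻¹ * a = 1 :=
        hall _ (mul_mem (inv_mem c.2) a.2) (e' ▸ mul_mem d.2 (inv_mem b.2))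
      rw [h1, eq_comm, mul_inv_eq_one] at e'
      exact Prod.ext (Subtype.ext (inv_mul_eq_one.mp h1).symm) (Subtype.ext e'.symm)
    have h1 := Nat.card_le_card_of_injective _ hinj
    rw [Nat.card_prod, hAc] at h1
    have h2 : 9 ≤ Nat.card D := by omega
    have h3 : 9 ≤ Nat.card D' := by omega
    have := Nat.mul_le_mul h2 h3
    omega
  have hx : Pt A (x : G) := ⟨x.2, fun e => hx1 (Subtype.ext e)⟩
  obtain ⟨⟨N, hN⟩, hback⟩ := vis_symm h hcub hg hx hL (hDv x hxD)
  obtain ⟨-, hback'⟩ := vis_symm h hcub hy hx hM (hDv' x hxD')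
  exact le_antisymm
    ((fixA_le h hcub hg hx hL (hDv x hxD)).trans (fixA_le h hcub hx hy hN (hback' N hN)))
    ((fixA_le h hcub hy hx hM (hDv' x hxD')).trans (fixA_le h hcub hx hg hN (hback N hN)))

/-- An element of the fixed subgroup of a value permuting the components fixes each of them. -/
theorem fixed_normalizes {a : G} (ha : Pt A a) {W : Subgroup G} (hW : W ≤ θ a)
    (hWA : A ≤ normalizer (W : Set G)) {L : Subgroup (Bar (θ a))} (hL : IsComponent L) {w : G} (hw : w ∈ θ a)
    (hwW : w ∈ W) : toBar (θ a) hw ∈ normalizer (L : Set (Bar (θ a))) := by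
  refine normalizes_of_orbit (bar_rad _) (bar_not_dvd (theta_not_dvd h.hθ ha)) (ac h ha)
    (fun b => ⟨1, by rw [pow_one]; exact act_cube h.hA b⟩) (V := img (θ a) W) (fun b v hv => ?_) (fun v _ => ?_)
    (mem_img hw hwW)
  · obtain ⟨q, hq, hqW, rfl⟩ := mem_img_iff.mp hv
    rw [actBar_toBar]
    exact mem_img _ ((Subgroup.mem_normalizer_iff.mp (hWA b.2) q).mp hqW)
  · obtain ⟨b, hb⟩ := single_orbit h hcub ha hL (mp_comp (e := MulAut.conj v) hL)
    exact ⟨b, hb.symm⟩

set_option maxHeartbeats 800000 in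
/-- The radical of a value with components is trivial. -/
theorem rv_eq_bot {g : G} (hg : Pt A g) (hG : HasComp θ g) : rv θ g = ⊥ := by
  refine le_bot_iff.mp (le_of_planes_at h hg
    (fun hd => theta_not_dvd h.hθ hg (hd.trans (Subgroup.card_dvd_of_le (radS_le _))))
    (le_normalizer_radS (theta_inv h.hθ hg)) ((radS_le _).trans (theta_le_cent h.hθ hg))
    fun P hPA hP3 hgP ζ hζ => ?_)
  obtain ⟨hζR, hζP⟩ := Subgroup.mem_inf.mp hζ
  have hcM : ∀ m ∈ mX h g, ζ * m = m * ζ := fun m hm =>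
    Subgroup.mem_centralizer_iff.mp (mX_cent_rad h hcub hg hm) ζ hζR
  refine Subgroup.mem_bot.mpr (crit h hcub hg (radS_le _ hζR) fun g' hg' m hm => ?_)
  suffices hle : mX h g' ≤ centralizer ({ζ} : Set G) from (Subgroup.mem_centralizer_singleton_iff.mp (hle hm)).symm
  refine (mX_eq_iSup_plane h hcub hPA hP3 hg').trans (iSup_le ?_)
  rintro ⟨a, ha, haP⟩
  by_cases haG : HasComp θ a
  swap
  · rw [mX_of_no_comp h hcub ha haG]
    exact bot_le
  have hζa : ζ ∈ θ a := balance h.hθ hg ha (Subgroup.mem_inf.mpr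
    ⟨radS_le _ hζR, Subgroup.centralizer_le (Set.singleton_subset_iff.mpr haP) hζP⟩)
  have hR := bar_rad (θ a)
  have h3 := bar_not_dvd (theta_not_dvd h.hθ ha)
  set β := ac h ha (el hg) with hβdef
  set zb := toBar (θ a) hζa with hzb
  have hβz : β zb = zb := toBar_fix (theta_inv h.hθ ha) (a := el hg) hζa (theta_le_cent h.hθ hg (radS_le _ hζR))
  suffices hz1 : zb = 1 from fun m hm => Subgroup.mem_centralizer_singleton_iff.mpr
    (Subgroup.mem_centralizer_iff.mp (mX_cent_rad h hcub ha hm) ζ ((toBar_eq_one_iff hζa).mp hz1)).symm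
  refine eq_one_of_centralizes hR fun L hL l hl => Eq.symm ?_
  by_cases hv : Vis β L
  · refine cent_comp hR h3 (ac_cube h ha (el hg)) hL hβz (fun w hwl hwf hsupp => ?_) l hl
    obtain ⟨t, ht, htT, rfl⟩ := mem_img_iff.mp
      ((img_pc_pre (piece_perfect hR h3 (ac_cube h ha (el hg)) hL hv)).ge ⟨hwl, hwf, hsupp⟩)
    rw [hzb, ← toBar_mul hζa ht, ← toBar_mul ht hζa]
    exact congrArg (QuotientGroup.mk' _) (Subtype.ext (hcM t (lift_piece_le h hcub ha hg L htT)))
  obtain ⟨hfx, k, hk, hkne⟩ := not_vis hR h3 hL hv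
  set W := rv θ g ⊓ centralizer (P : Set G)
  have hWA : A ≤ normalizer (W : Set G) := inf_normalizes (le_normalizer_radS (theta_inv h.hθ hg))
    ((show A ≤ centralizer (P : Set G) from fun x hx => Subgroup.mem_centralizer_iff.mpr fun p hp =>
      ea_comm h.hA (hPA hp) hx).trans Subgroup.le_normalizer)
  have hWa : W ≤ θ a := fun w hw => balance h.hθ hg ha (Subgroup.mem_inf.mpr
    ⟨radS_le _ hw.1, Subgroup.centralizer_le (Set.singleton_subset_iff.mpr haP) hw.2⟩)
  have hzn := fixed_normalizes h hcub ha hWa hWA hL hζa hζ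
  let φ : MulAut L := L.normalizerMonoidHom ⟨zb, hzn⟩
  have hψ3 : res β L hfx ^ 3 = 1 := MulEquiv.ext fun y => Subtype.ext (by
    show β (β (β (y : Bar (θ a)))) = y
    exact cube_orbit (ac_cube h ha (el hg)) _)
  have hψ1 : res β L hfx ≠ 1 := fun e => hkne (congrArg Subtype.val (DFunLike.congr_fun e (⟨k, hk⟩ : L)))
  have hφ : φ = 1 := by
    refine suz_rigid (component_suzuki hR h3 hL) (orderOf_eq_prime (hp := ⟨Nat.prime_three⟩) hψ3 hψ1) ?_
      (fun hd => h3 ((hd.trans (orderOf_map_dvd L.normalizerMonoidHom _)).trans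
        (by rw [Subgroup.orderOf_mk]; exact orderOf_dvd_natCard _))) fun x hx => Subtype.ext ?_
    · refine MulEquiv.ext fun y => Subtype.ext ?_
      show zb * β (y : Bar (θ a)) * zb⁻¹ = β (zb * y * zb⁻¹)
      rw [map_mul, map_mul, map_inv, hβz]
    have hxf : β (x : Bar (θ a)) = x := congrArg Subtype.val hx
    have hxn : el hg ∉ kerPts (ac h ha) L := fun e => hkne (e k hk)
    have hxS : ∀ b, mp (ac h ha b) L = L → ac h ha b (x : Bar (θ a)) = x := by
      intro b hb
      obtain ⟨i, hi⟩ := stab_gen hR h3 (act_cube h.hA) (act_comm h.hA) (ac h ha) hL hfx hxn hb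
      have h1 := hi x x.2
      have hpow : ∀ i : ℕ, ac h ha (el hg ^ i) (x : Bar (θ a)) = x := fun i => by
        induction i with
        | zero => rw [pow_zero, map_one, MulAut.one_apply]
        | succ i ih => rw [pow_succ, map_mul, MulAut.mul_apply, show ac h ha (el hg) (x : Bar (θ a)) = x from hxf, ih]
      rwa [map_mul, MulAut.mul_apply, hpow i] at h1
    obtain ⟨w, hw, hwF, hwp, -⟩ := exists_fixed_orbit hR h3 hL (ac h ha) x.2 hxS
    obtain ⟨y, hy, hyM, ey⟩ := mem_img_iff.mp ((img_mX h hcub ha).ge hw)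
    obtain ⟨d, hdθ, hdM, hdA, ed⟩ := lift_fixed h.hA le_rfl (theta_inv h.hθ ha) (theta_not_dvd h.hθ ha) (mX_le h a)
      (mX_inv h hcub ha) hyM (fun b _ => by
        rw [show toBar (θ a) (mX_le h a hyM) = w from ey]
        exact hwF b)
    have hdg : d ∈ mX h g := ((fixA_eq h hcub ha hg haG hG).le (Subgroup.mem_inf.mpr ⟨hdM, hdA⟩)).1
    have hzw : MulAut.conj zb w = w := by
      rw [MulAut.conj_apply, ← show toBar (θ a) hdθ = w from ed.trans ey, hzb, ← toBar_mul hζa hdθ,
        show toBar (θ a) (mul_mem hζa hdθ) = toBar (θ a) (mul_mem hdθ hζa) from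
          congrArg (QuotientGroup.mk' _) (Subtype.ext (hcM d hdg)),
        toBar_mul hdθ hζa, mul_inv_cancel_right]
    have h1 := prj_map hR (MulAut.conj zb) hL hw
    have h2 := hwp 1
    rw [map_one, mp_one, MulAut.one_apply] at h2
    rw [hzw, mp_conj_eq_iff.mpr hzn, h2, MulAut.conj_apply] at h1
    exact h1.symm
  have h1 := congrArg Subtype.val (DFunLike.congr_fun hφ (⟨l, hl⟩ : L))
  exact mul_inv_eq_iff_eq_mul.mp h1

theorem bar_inj {g : G} (hg : Pt A g) (hG : HasComp θ g) {a b : G} (ha : a ∈ θ g) (hb : b ∈ θ g)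
    (e : toBar (θ g) ha = toBar (θ g) hb) : a = b := by
  have h1 := (toBar_eq_one_iff (mul_mem (inv_mem ha) hb)).mp (by
    rw [toBar_mul (inv_mem ha) hb, toBar_inv ha, e, inv_mul_cancel])
  rw [show radS (θ g) = ⊥ from rv_eq_bot h hcub hg hG, Subgroup.mem_bot, inv_mul_eq_one] at h1
  exact h1

/-- A value seen invisibly from a point with components lands in its product. -/
theorem fix_invisible {y g : G} (hy : Pt A y) (hg : Pt A g) {L : Subgroup (Bar (θ y))} (hL : IsComponent L)
    (hv : ¬ Vis (ac h hy (el hg)) L) : θ g ⊓ centralizer ({y} : Set G) ≤ mX h y := by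
  classical
  intro x hx
  have hxy : x ∈ θ y := balance h.hθ hg hy hx
  have hR := bar_rad (θ y)
  have h3 := bar_not_dvd (theta_not_dvd h.hθ hy)
  set xb := toBar (θ y) hxy with hxb
  have hkey : ∀ M, IsComponent M → ∃ k ∈ M, ∀ m ∈ M, xb * m * xb⁻¹ = k * m * k⁻¹ := by
    intro M hM
    obtain ⟨hfx, k₀, hk₀, hkne⟩ := not_vis hR h3 hM fun hvM => hv (vis_all h hcub hy hM hL hvM)
    have hψ3 : res (ac h hy (el hg)) M hfx ^ 3 = 1 := MulEquiv.ext fun w => Subtype.ext (by
      show ac h hy (el hg) (ac h hy (el hg) (ac h hy (el hg) (w : Bar (θ y)))) = w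
      exact cube_orbit (ac_cube h hy (el hg)) _)
    have hψ1 : res (ac h hy (el hg)) M hfx ≠ 1 := fun e =>
      hkne (congrArg Subtype.val (DFunLike.congr_fun e (⟨k₀, hk₀⟩ : M)))
    have hcard : Nat.card M = 29120 := by
      rcases suz_fixed (component_suzuki hR h3 hM) (orderOf_eq_prime (hp := ⟨Nat.prime_three⟩) hψ3 hψ1) with
        ⟨-, hc, -, -⟩ | hC
      · exact hc
      · refine absurd (Or.inr fun hs => CfsgLib.isQuasisimple_not_isSolvable (quasisimple_of_suz hC) ?_)
          (show ¬ Vis (ac h hy (el hg)) M from fun hvM => hv (vis_all h hcub hy hM hL hvM))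
        haveI := hs
        let f : (MonoidHom.eqLocus (res (ac h hy (el hg)) M hfx).toMonoidHom (MonoidHom.id M)) →*
            ↥(M ⊓ fix1 (ac h hy (el hg))) :=
          { toFun := fun w => ⟨w, w.1.2, congrArg Subtype.val (w.2 : res (ac h hy (el hg)) M hfx w.1 = w.1)⟩
            map_one' := rfl
            map_mul' := fun _ _ => rfl }
        exact Group.isSolvable_of_isSolvable_injective (f := f)
          fun p q e => Subtype.ext (Subtype.ext (congrArg (fun w : ↥(M ⊓ fix1 (ac h hy (el hg))) => (w : Bar (θ y))) e))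
    have hn := fixed_normalizes h hcub hy (W := θ g ⊓ centralizer ({y} : Set G)) (balance h.hθ hg hy)
      (inf_normalizes (theta_inv h.hθ hg) (centralizer_singleton_normalizes h.hA hy.1)) hM hxy hx
    obtain ⟨k, hk⟩ := suz_eight_inner (component_suzuki hR h3 hM) hcard
      (φ := M.normalizerMonoidHom ⟨xb, hn⟩) (fun hd => h3 ((hd.trans (orderOf_map_dvd M.normalizerMonoidHom _)).trans
        (by rw [Subgroup.orderOf_mk]; exact orderOf_dvd_natCard _)))
    exact ⟨k, k.2, fun m hm => congrArg Subtype.val (hk ⟨m, hm⟩)⟩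
  choose k hk hkc using hkey
  obtain ⟨w, hw, hwp⟩ := exists_prj hR (fun M => if hM : IsComponent M then k M hM else 1)
    fun M hM => by rw [dif_pos hM]; exact hk M hM
  have e : w⁻¹ * xb = 1 := eq_one_of_centralizes hR fun M hM m hm => by
    have h1 := layer_mul_comm_prj hR hM hw hm
    rw [hwp M hM, dif_pos hM, ← hkc M hM m hm] at h1
    calc m * (w⁻¹ * xb) = w⁻¹ * (w * m * w⁻¹) * xb := by group
      _ = w⁻¹ * (xb * m * xb⁻¹) * xb := by rw [h1]
      _ = w⁻¹ * xb * m := by group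
  obtain ⟨v, hv', hvM, ev⟩ := mem_img_iff.mp ((img_mX h hcub hy).ge hw)
  rw [bar_inj h hcub hy ⟨L, hL⟩ hxy hv' (by rw [ev, ← hxb, inv_mul_eq_one.mp e])]
  exact hvM

/-- The values with components are the linked products. -/
theorem theta_eq_mX {g : G} (hg : Pt A g) (hG : HasComp θ g) : θ g = mX h g := by
  classical
  by_contra hne
  let ψ : G → Subgroup G := fun x => if HasComp θ x then mX h x else θ x
  have hle : ∀ x, ψ x ≤ θ x := fun x => by
    by_cases hx : HasComp θ x
    · simp only [ψ, if_pos hx]; exact mX_le h x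
    · simp only [ψ, if_neg hx]; exact le_rfl
  have hψ : IsSignalizerFunctor 3 A ψ := by
    refine ⟨fun a ha h1 => (hle a).trans (theta_le_cent h.hθ ⟨ha, h1⟩),
      fun a ha h1 hd => theta_not_dvd h.hθ ⟨ha, h1⟩ (hd.trans (Subgroup.card_dvd_of_le (hle a))),
      fun a ha h1 => inv_of_normalizer ?_, fun a ha h1 y hy h2 => ?_⟩
    · by_cases hx : HasComp θ a
      · simp only [ψ, if_pos hx]; exact mX_inv h hcub ⟨ha, h1⟩
      · simp only [ψ, if_neg hx]; exact theta_inv h.hθ ⟨ha, h1⟩
    have hap : Pt A a := ⟨ha, h1⟩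
    have hyp : Pt A y := ⟨hy, h2⟩
    intro x hx
    obtain ⟨hxa, hxy⟩ := Subgroup.mem_inf.mp hx
    by_cases hyG : HasComp θ y
    swap
    · simp only [ψ, if_neg hyG]
      exact balance h.hθ hap hyp (Subgroup.mem_inf.mpr ⟨hle a hxa, hxy⟩)
    simp only [ψ, if_pos hyG]
    obtain ⟨L, hL⟩ := hyG
    by_cases hv : Vis (ac h hyp (el hap)) L
    swap
    · exact fix_invisible h hcub hyp hap hL hv (Subgroup.mem_inf.mpr ⟨hle a hxa, hxy⟩)
    obtain ⟨haG, hback⟩ := vis_symm h hcub hyp hap hL hv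
    simp only [ψ, if_pos haG] at hxa
    obtain ⟨w, hw, hwW, ew⟩ := mem_img_iff.mp (visible_cover h hcub hap hyp hback hxa hxy)
    rw [bar_inj h hcub hap haG (mX_le h a hxa) hw ew.symm]
    exact hwW.2
  obtain ⟨X, hX, hXle⟩ := h.sub ψ hψ (fun x _ => hle x) ⟨g, hg, by
    simp only [ψ, if_pos hG]
    exact Ne.symm hne⟩
  have hX' : IsMem 3 A θ X := ⟨hX.not_dvd, hX.inv, fun a ha => (hX.fix a ha).trans (hle a)⟩
  have hmle : ∀ a, Pt A a → mX h a ≤ X := fun a ha => by
    refine le_trans ?_ (hXle a ha)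
    by_cases hx : HasComp θ a
    · simp only [ψ, if_pos hx]; exact le_rfl
    · simp only [ψ, if_neg hx]; exact mX_le h a
  refine no_member h hcub hX' (fun e => ?_) fun a ha => (hmle a ha).trans Subgroup.le_normalizer
  obtain ⟨L, hL⟩ := hG
  refine isComponent_ne_bot hL (le_bot_iff.mp ?_)
  have h1 := (CfsgLib.le_layer hL).trans (img_mX h hcub hg).ge
  rwa [le_bot_iff.mp ((hmle g hg).trans e.le), img_bot] at h1

end Data

end CfsgLib.SF23
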