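import Cfsg.Agent.Lib.SF23.Linked
import Cfsg.Agent.Lib.SF23.CaseI

/-!
Closure of the linked products under passing to another point, and the subfunctor they give together with the
soluble functor.
-/

set_option autoImplicit false
set_option linter.unusedSectionVars false
set_option linter.style.haveILetI false

namespace CfsgLib.SF23

open Cfsg Subgroup CfsgLib.Signalizer CfsgLib.SolvSF
open scoped commutatorElement Pointwise

universe u

/-- An element of the fixed layer normalises every piece. -/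
theorem piece_normalized {H : Type u} [Group H] [Finite H] {β : MulAut H} {K : Subgroup H}
    (hR : solvableRadical H = ⊥) {q : H} (hq : q ∈ layer H) (hqf : β q = q) :
    q ∈ normalizer (piece β K hR : Set H) :=
  Comp.mem_normalizer_of_maps fun w hw =>
    ⟨mul_mem (mul_mem hq hw.1) (inv_mem hq),
      by
        show β (q * w * q⁻¹) = q * w * q⁻¹
        rw [map_mul, map_mul, map_inv, hqf, show β w = w from hw.2.1],
      fun M hM h0 h1 h2 => by
        rw [prj_mul hR hM (mul_mem hq hw.1) (inv_mem hq), prj_mul hR hM hq hw.1, prj_inv hR hM hq,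
          hw.2.2 M hM h0 h1 h2, mul_one, mul_inv_cancel]⟩

variable {G : Type u} [Group G] [Finite G] {A : Subgroup G} {θ : G → Subgroup G}

/-- The candidate for a proper subfunctor. -/
noncomputable def psF (h : Ctx 3 A θ) (g : G) : Subgroup G := mX h g ⊔ uF h g

section Data

variable (h : Ctx 3 A θ)
include h

theorem theta_eq_of_mem {x y : G} (hx : Pt A x) (hy : Pt A y) (hyx : y ∈ zpowers x) :
    θ x = θ y ∧ centralizer ({x} : Set G) = centralizer ({y} : Set G) := by
  obtain ⟨i, hi⟩ := hyx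
  have h3 : x ^ 3 = 1 := h.hA.2 x hx.1
  have hxy : x ∈ zpowers y := by
    have h1 : zpowers y = zpowers x := by
      haveI : Fact (Nat.Prime 3) := ⟨Nat.prime_three⟩
      refine Subgroup.eq_of_le_of_card_ge (Subgroup.zpowers_le.mpr ⟨i, hi⟩) (le_of_eq ?_)
      rw [Nat.card_zpowers, Nat.card_zpowers, orderOf_eq_prime h3 hx.2,
        orderOf_eq_prime (h.hA.2 y hy.1) hy.2]
    rw [h1]
    exact mem_zpowers x
  have hc : ∀ a b : G, b ∈ zpowers a → centralizer ({a} : Set G) ≤ centralizer ({b} : Set G) := by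
    rintro a b ⟨j, rfl⟩ v hv
    refine Subgroup.mem_centralizer_singleton_iff.mpr ?_
    exact ((Commute.zpow_left (show Commute a v from (Subgroup.mem_centralizer_singleton_iff.mp hv).symm) j).eq).symm
  have hcc := le_antisymm (hc x y ⟨i, hi⟩) (hc y x hxy)
  refine ⟨le_antisymm ?_ ?_, hcc⟩
  · exact (le_inf le_rfl ((theta_le_cent h.hθ hx).trans hcc.le)).trans (balance h.hθ hx hy)
  · exact (le_inf le_rfl ((theta_le_cent h.hθ hy).trans hcc.ge)).trans (balance h.hθ hy hx)

theorem mX_congr {x y : G} (hθ : θ y = θ x) (hc : centralizer ({y} : Set G) = centralizer ({x} : Set G)) :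
    mX h y = mX h x := by
  have key : ∀ (X X' : Subgroup G), X = X' → ∀ Q : G → G → Prop,
      pc (pre X (compSup fun L => IsComponent L ∧ ∃ d, Pt A d ∧ ∃ (p : G) (hp : p ∈ X),
        Q d p ∧ prj L (toBar X hp) ≠ 1)) =
      pc (pre X' (compSup fun L => IsComponent L ∧ ∃ d, Pt A d ∧ ∃ (p : G) (hp : p ∈ X'),
        Q d p ∧ prj L (toBar X' hp) ≠ 1)) := by
    rintro X _ rfl Q
    rfl
  have h1 := key _ _ hθ fun d p => p ∈ pc (mst h d ⊓ centralizer ({x} : Set G))
  have h2 : mX h y = pc (pre (θ y) (compSup fun L => IsComponent L ∧ ∃ d, Pt A d ∧ ∃ (p : G) (hp : p ∈ θ y),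
        p ∈ pc (mst h d ⊓ centralizer ({x} : Set G)) ∧ prj L (toBar (θ y) hp) ≠ 1)) := by
    rw [← hc]
    rfl
  exact h2.trans h1

variable (hcub : CubicTrivial.{u})
include hcub

theorem linked_piece_le {x : G} (hx : Pt A x) (b : A) {L : Subgroup (Bar (θ x))} (hL : Linked h x L) :
    piece (ac h hx b) L (bar_rad _) ≤ compSup (Linked h x) := fun w hw =>
  (mem_compSup_iff (bar_rad _) (bar_not_dvd (theta_not_dvd h.hθ hx)) (fun M hM => hM.1)).mpr
    ⟨hw.1, fun M hM hMn => hw.2.2 M hM (fun e => hMn (e ▸ hL)) (fun e => hMn (e ▸ linked_ac h hcub hx b hL))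
      (fun e => hMn (e ▸ linked_ac h hcub hx b (linked_ac h hcub hx b hL)))⟩

theorem mst_touched {e : G} (he : Pt A e) : ∀ (X : Subgroup G), X = θ e → ∀ (hinv : A ≤ normalizer (X : Set G))
    (b : A) (L : Subgroup (Bar X)), IsComponent L → ∀ (p : G) (hp : p ∈ X), p ∈ mst h e →
      prj L (toBar X hp) ≠ 1 → pc (pre X (piece (actBar X hinv b) L (bar_rad X))) ≤ mst h e := by
  rintro X rfl hinv b L hL p hp hpm hne
  have hm : Marked h e L := by
    by_contra hn
    exact hne (((mem_compSup_iff (bar_rad _) (bar_not_dvd (theta_not_dvd h.hθ he)) fun M hM => hM.1).mp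
      (toBar_pc_pre hp hpm)).2 L hL hn)
  exact pc_mono (pre_mono (marked_piece_le h hcub he b hm))

set_option maxHeartbeats 800000 in
/-- The visible piece of a linked component lies in the linked product of the point. -/
theorem closure_mX {x y : G} (hx : Pt A x) (hy : Pt A y) {L : Subgroup (Bar (θ x))} (hL : Linked h x L)
    (hv : Vis (ac h hx (el hy)) L) : pc (pre (θ x) (piece (ac h hx (el hy)) L (bar_rad _))) ≤ mX h y := by
  by_cases hyx : y ∈ zpowers x
  · obtain ⟨hθ, hc⟩ := theta_eq_of_mem h hx hy hyx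
    rw [mX_congr h hθ.symm hc.symm]
    exact pc_mono (pre_mono (linked_piece_le h hcub hx (el hy) hL))
  have hR := bar_rad (θ x)
  have h3 := bar_not_dvd (theta_not_dvd h.hθ hx)
  set β := ac h hx (el hy) with hβdef
  set S := pc (pre (θ x) (piece β L hR)) with hSdef
  have hPle : piece β L hR ≤ compSup (Linked h x) := linked_piece_le h hcub hx (el hy) hL
  have hcl : piece β L hR ≤ cl (θ x) := hPle.trans (iSup_le fun M => linked_le_cl h hcub hx M.2)
  obtain ⟨hSy, hSl⟩ := piece_transfer h hx hy hL.1 hv hcl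
  have hSx : S ≤ θ x := pc_pre_le _
  obtain ⟨P, hP⟩ : ∃ P, P = zpowers (el hx) ⊔ zpowers (el hy) := ⟨_, rfl⟩
  have hP3 : 3 < Nat.card P := by
    have h1 : zpowers (el hx) < P := by
      rw [hP]
      refine lt_of_le_of_ne le_sup_left fun e => hyx ?_
      obtain ⟨i, hi⟩ := e.ge (Subgroup.mem_sup_right (mem_zpowers (el hy)))
      exact ⟨i, by simpa using congrArg Subtype.val hi⟩
    have h2 : Nat.card (zpowers (el hx)) = 3 := by
      rw [Nat.card_zpowers, orderOf_eq_prime (hp := ⟨Nat.prime_three⟩) (act_cube h.hA _)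
        (fun e => hx.2 (congrArg Subtype.val e))]
    have h4 := Set.Finite.card_lt_card (Set.toFinite _) (SetLike.coe_ssubset_coe.mpr h1)
    exact h2 ▸ h4
  obtain ⟨e, he, heP, p, hp, hpp, hne⟩ := spread h hcub hx hL (P := P)
    (hP ▸ Subgroup.mem_sup_left (mem_zpowers _)) hP3
  -- the piece is fixed by the new point
  have hSe : S ≤ centralizer ({(e : G)} : Set G) := by
    let F : Subgroup A :=
      { carrier := {a | S ≤ centralizer ({(a : G)} : Set G)}
        one_mem' := fun v _ => Subgroup.mem_centralizer_singleton_iff.mpr (by simp)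
        mul_mem' := fun {a c} ha hc v hv => Subgroup.mem_centralizer_singleton_iff.mpr (by
          have h1 : Commute v (a : G) := Subgroup.mem_centralizer_singleton_iff.mp (ha hv)
          have h2 : Commute v (c : G) := Subgroup.mem_centralizer_singleton_iff.mp (hc hv)
          exact (h1.mul_right h2).eq)
        inv_mem' := fun {a} ha v hv => Subgroup.mem_centralizer_singleton_iff.mpr (by
          have h1 : Commute v (a : G) := Subgroup.mem_centralizer_singleton_iff.mp (ha hv)
          exact h1.inv_right.eq) }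
    have hle : P ≤ F := by
      rw [hP]
      exact sup_le (Subgroup.zpowers_le.mpr (hSx.trans (theta_le_cent h.hθ hx)))
        (Subgroup.zpowers_le.mpr (hSy.trans (theta_le_cent h.hθ hy)))
    exact hle heP
  have hSθe : S ≤ θ (e : G) := (le_inf hSx hSe).trans (balance h.hθ hx he)
  have hSp : S ≤ pgr h (e : G) y := by
    refine le_pc (le_inf ?_ (hSy.trans (theta_le_cent h.hθ hy))) (pc_perfect _)
    by_cases hex : (e : G) ∈ zpowers x
    · obtain ⟨hθ, -⟩ := theta_eq_of_mem h hx he hex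
      exact mst_touched h hcub he (θ x) hθ (theta_inv h.hθ hx) (el hy) L hL.1 p hp (pgr_le_mst h _ x hpp) hne
    -- the image lies in the layer
    have hSle : ∀ (s : G) (hs : s ∈ θ (e : G)), s ∈ S → toBar (θ (e : G)) hs ∈ layer (Bar (θ (e : G))) := by
      intro s hs hsS
      refine (mem_pre hs).mp (((pieces_cover h hx (el he) hSx (pc_perfect _) (pc_pre_cent hcl) fun s hs hsS =>
        ⟨(toBar_pc_pre hs hsS).1, toBar_fix (theta_inv h.hθ hx) (a := el he) hs (hSe hsS)⟩).trans
          (iSup_le ?_)) hsS)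
      rintro ⟨M, hM, hMv, hMcl, hrest⟩
      intro w hwM
      obtain ⟨hwθ, hwl⟩ := piece_transfer h hx he hM hMv hMcl
      exact (mem_pre (hwθ hwM)).mpr (hwl w (hwθ hwM) hwM)
    -- the element of the marked product normalises the piece
    have hpy : β (toBar (θ x) hp) = toBar (θ x) hp := by
      have hfix : ∀ a ∈ zpowers (el hx) ⊔ zpowers e, a ∈ kerPts (ac h hx) (zpowers (toBar (θ x) hp)) := by
        refine fun a ha => (sup_le ?_ ?_ : zpowers (el hx) ⊔ zpowers e ≤ _) ha
        · refine Subgroup.zpowers_le.mpr fun k _ => ?_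
          obtain ⟨⟨k, hk⟩, rfl⟩ := QuotientGroup.mk'_surjective _ k
          exact toBar_fix (theta_inv h.hθ hx) (a := el hx) hk (theta_le_cent h.hθ hx hk)
        · refine Subgroup.zpowers_le.mpr ?_
          rintro _ ⟨j, rfl⟩
          show ac h hx e ((toBar (θ x) hp) ^ j) = (toBar (θ x) hp) ^ j
          rw [map_zpow]
          congr 1
          exact toBar_fix (theta_inv h.hθ hx) (a := e) hp
            (theta_le_cent h.hθ he (mst_le h _ (pgr_le_mst h _ x hpp)))
      refine hfix (el hy) ?_ _ (mem_zpowers _)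
      haveI : (zpowers (el hx)).Normal := ⟨fun n hn g => by
        rw [act_comm h.hA g n, mul_inv_cancel_right]; exact hn⟩
      rw [hP, Subgroup.mem_sup_of_normal_left] at heP
      obtain ⟨a, ha, c, ⟨j, rfl⟩, hac⟩ := heP
      beta_reduce at hac
      have hcj : el hy ^ j ∈ zpowers (el hx) ⊔ zpowers e := by
        rw [show el hy ^ j = a⁻¹ * e by rw [← hac, inv_mul_cancel_left]]
        exact mul_mem (Subgroup.mem_sup_left (inv_mem ha)) (Subgroup.mem_sup_right (mem_zpowers e))
      have h3y : orderOf (el hy) = 3 := orderOf_eq_prime (hp := ⟨Nat.prime_three⟩) (act_cube h.hA _)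
        (fun e => hy.2 (congrArg Subtype.val e))
      have hj : el hy ^ j ≠ 1 := fun e1 => hex (by
        rw [e1, mul_one] at hac
        obtain ⟨i, hi⟩ := ha
        exact ⟨i, by rw [← hac, ← hi]; simp⟩)
      have heq : zpowers (el hy ^ j) = zpowers (el hy) :=
        Subgroup.eq_of_le_of_card_ge (Subgroup.zpowers_le.mpr ⟨j, rfl⟩) (le_of_eq (by
          rw [Nat.card_zpowers, Nat.card_zpowers, h3y,
            orderOf_eq_prime (hp := ⟨Nat.prime_three⟩) (act_cube h.hA _) hj]))
      exact (Subgroup.zpowers_le.mpr hcj) (heq.ge (mem_zpowers _))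
    have hpl := pgr_layer h hcub he hx hp hpp
    obtain ⟨w, hw, hwne⟩ := piece_noncomm hR h3 (ac_cube h hx (el hy)) hL.1 hpl hpy hne
    have hPp := piece_perfect hR h3 (ac_cube h hx (el hy)) hL.1 hv
    obtain ⟨s, hs, hsS, rfl⟩ := mem_img_iff.mp ((img_pc_pre hPp).ge hw)
    have hpn := le_normalizer_pc (U := normalizer (pre (θ x) (piece β L hR) : Set G)) le_rfl
      (mem_normalizer_pre hp (piece_normalized hR hpl hpy))
    have hcS : ⁅p, s⁆ ∈ S := mul_mem ((Subgroup.mem_normalizer_iff.mp hpn s).mp hsS) (inv_mem hsS)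
    have hRe := bar_rad (θ (e : G))
    have hpe : p ∈ θ (e : G) := mst_le h _ (pgr_le_mst h _ x hpp)
    refine le_pc_pre hSθe (pc_perfect _) fun v hvθ hvS =>
      (mem_compSup_iff hRe (bar_not_dvd (theta_not_dvd h.hθ he)) fun M hM => hM.1).mpr
        ⟨hSle v hvθ hvS, fun M hM hMn => ?_⟩
    have hn : S ≤ normalizer ((S ⊓ offK (θ (e : G)) M hM : Subgroup G) : Set G) := fun g hg =>
      Comp.mem_normalizer_of_maps fun v hv => by
        obtain ⟨hvS, hvX, hvl, ev⟩ := hv
        have hgl := hSle g (hSθe hg) hg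
        refine Subgroup.mem_inf.mpr
          ⟨mul_mem (mul_mem hg hvS) (inv_mem hg), mul_mem (mul_mem (hSθe hg) hvX) (inv_mem (hSθe hg)), ?_⟩
        rw [toBar_conj (hSθe hg) hvX, MulAut.conj_apply]
        refine ⟨mul_mem (mul_mem hgl hvl) (inv_mem hgl), ?_⟩
        rw [prj_mul hRe hM (mul_mem hgl hvl) (inv_mem hgl), prj_mul hRe hM hgl hvl, prj_inv hRe hM hgl, ev,
          mul_one, mul_inv_cancel]
    have hpm := toBar_pc_pre hpe (pgr_le_mst h _ x hpp)
    have hp1 := ((mem_compSup_iff hRe (bar_not_dvd (theta_not_dvd h.hθ he)) fun M hM => hM.1).mp hpm).2 M hM hMn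
    have hcN : ⁅p, s⁆ ∈ S ⊓ offK (θ (e : G)) M hM := by
      refine Subgroup.mem_inf.mpr ⟨hcS, hSθe hcS, hSle _ _ hcS, ?_⟩
      rw [show toBar (θ (e : G)) (hSθe hcS) = ⁅toBar (θ (e : G)) hpe, toBar (θ (e : G)) (hSθe hsS)⁆ from
        toBar_commutator hpe (hSθe hsS), prj_commutator hRe (bar_not_dvd (theta_not_dvd h.hθ he)) hM
        (compSup_le_layer (fun N hN => hN.1) hpm) (hSle s _ hsS), hp1, commutatorElement_one_left]
    have hne' : toBar (θ x) (hSx hcS) ≠ 1 := by
      rw [show toBar (θ x) (hSx hcS) = ⁅toBar (θ x) hp, toBar (θ x) hs⁆ from toBar_commutator hp hs, Ne,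
        commutatorElement_eq_one_iff_commute]
      exact hwne
    obtain ⟨_, _, ev⟩ := (simple_fill hPp (suz_simple (piece_suzuki hR h3 (ac_cube h hx (el hy)) hL.1 hv))
      inf_le_left hn (hSx hcS) hcN hne' hvS).2
    exact ev
  refine le_pc_pre hSy (pc_perfect _) fun s hs hsS =>
    (mem_compSup_iff (bar_rad _) (bar_not_dvd (theta_not_dvd h.hθ hy)) fun M hM => hM.1).mpr
      ⟨hSl s hs hsS, fun M hM hMn => ?_⟩
  by_contra hne'
  exact hMn ⟨hM, e, he, s, hs, hSp hsS, hne'⟩

theorem psF_le {g : G} : psF h g ≤ θ g := sup_le (mX_le h g) (uF_le h g)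

theorem psF_inv {g : G} (hg : Pt A g) : A ≤ normalizer (psF h g : Set G) :=
  normalizes_sup' (mX_inv h hcub hg) (join_inv h (theta_inv h.hθ hg))

/-- The fixed points of a linked product. -/
theorem mX_fixed {g y : G} (hg : Pt A g) (hy : Pt A y) : mX h g ⊓ centralizer ({y} : Set G) ≤ psF h y := by
  intro m hm
  obtain ⟨hmM, hmy⟩ := Subgroup.mem_inf.mp hm
  set β := ac h hg (el hy) with hβdef
  have hR := bar_rad (θ g)
  have h3 := bar_not_dvd (theta_not_dvd h.hθ hg)
  have hmg := mX_le h g hmM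
  have hwc : toBar (θ g) hmg ∈ compSup (Linked h g) := toBar_pc_pre hmg hmM
  have hwl := compSup_le_layer (fun M hM => hM.1) hwc
  have hwf : β (toBar (θ g) hmg) = toBar (θ g) hmg := toBar_fix (theta_inv h.hθ hg) (a := el hy) hmg hmy
  obtain ⟨t, ht, htl, htf, htp⟩ := fix_layer_split hR h3 (ac_cube h hg (el hy)) _ rfl hwl hwf
  have hlink : ∀ M, IsComponent M → prj M (toBar (θ g) hmg) ≠ 1 → Linked h g M := fun M hM hne => by
    by_contra hn
    exact hne (((mem_compSup_iff hR h3 fun M hM => hM.1).mp hwc).2 M hM hn)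
  have ht' : t ∈ img (θ g) (mX h y ⊓ (θ g ⊓ centralizer ({y} : Set G))) := by
    refine (iSup_le fun M => ?_ : _ ≤ img (θ g) (mX h y ⊓ (θ g ⊓ centralizer ({y} : Set G)))) ht
    obtain ⟨M, hM, hMv, hne⟩ := M
    refine (img_pc_pre (piece_perfect hR h3 (ac_cube h hg (el hy)) hM hMv)).ge.trans (img_mono ?_)
    have h1 := closure_mX h hcub hg hy (hlink M hM hne) hMv
    exact le_inf h1 (le_inf (pc_pre_le _) (h1.trans ((mX_le h y).trans (theta_le_cent h.hθ hy))))
  obtain ⟨w, hw, hwW, ew⟩ := mem_img_iff.mp ht'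
  obtain ⟨hwM, -, hwy⟩ := hwW
  have hu : w⁻¹ * m ∈ uF h g := by
    refine mem_join_of_bar h (theta_isMem h.hθ hg) (qfive_le_theta h hg) (mul_mem (inv_mem hw) hmg) ?_
    rw [toBar_mul (inv_mem hw) hmg, toBar_inv hw, ew]
    refine ⟨mul_mem (inv_mem htl) hwl, fun K hK => ?_⟩
    rw [prj_mul hR hK (inv_mem htl) hwl, prj_inv hR hK htl]
    by_cases hv : Vis β K
    · rw [(htp K hK).1 hv, inv_mul_cancel]
      exact one_mem _
    · rw [(htp K hK).2 hv, inv_one, one_mul]
      obtain ⟨hfx, -⟩ := not_vis hR h3 hK hv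
      obtain ⟨f, hf, hfl, hfe, ho⟩ := tv_spec h (theta_isMem h.hθ hg) (qfive_le_theta h hg) hK
      obtain ⟨q, hq, hqQ, rfl⟩ := mem_img_iff.mp hf
      have hff : β (toBar (θ g) hq) = toBar (θ g) hq :=
        toBar_fix (theta_inv h.hθ hg) (a := el hy) hq (cent_A_le h hy.1 (qfive_le_cent h hqQ))
      have hfixp : ∀ {v : Bar (θ g)}, v ∈ layer (Bar (θ g)) → β v = v → β (prj K v) = prj K v := fun hv' ev => by
        have h1 := prj_map hR β hK hv'
        rw [hfx, ev] at h1
        exact h1.symm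
      exact invisible_nor hR h3 hK hv (tv_mem h (theta_isMem h.hθ hg) (qfive_le_theta h hg) hK) ho
        (hfe ▸ hfixp hfl hff) (Subgroup.mem_inf.mpr ⟨prj_mem K _, hfixp hwl hwf⟩)
  rw [show m = w * (w⁻¹ * m) by group]
  exact Subgroup.mul_mem_sup hwM ((yCl_fix h hy).le (Subgroup.mem_inf.mpr
    ⟨uF_le_yCl h hg hu, mul_mem (inv_mem hwy) hmy⟩))

/-- The linked products and the soluble functor form a signalizer functor. -/
theorem psF_functor : IsSignalizerFunctor 3 A (psF h) := by
  refine ⟨fun a ha h1 => (psF_le h hcub).trans (theta_le_cent h.hθ ⟨ha, h1⟩),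
    fun a ha h1 hd => theta_not_dvd h.hθ ⟨ha, h1⟩ (hd.trans (Subgroup.card_dvd_of_le (psF_le h hcub))),
    fun a ha h1 => inv_of_normalizer (psF_inv h hcub ⟨ha, h1⟩), fun g hg1 hg2 y hy1 hy2 => ?_⟩
  have hg : Pt A g := ⟨hg1, hg2⟩
  have hy : Pt A y := ⟨hy1, hy2⟩
  intro x hx
  obtain ⟨hxp, hxy⟩ := Subgroup.mem_inf.mp hx
  have hUn := uF_normalizes_mX h hcub hg
  have hx' : x ∈ (mX h g : Set G) * (uF h g : Set G) := by
    rw [← Subgroup.coe_mul_of_right_le_normalizer_left (mX h g) (uF h g) hUn]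
    exact hxp
  obtain ⟨m, hm, u, hu, hxe⟩ := Set.mem_mul.mp hx'
  subst hxe
  set N := mX h g ⊓ uF h g with hN
  have hzl : zpowers y ≤ A := Subgroup.zpowers_le.mpr hy.1
  have hUA : A ≤ normalizer (uF h g : Set G) := join_inv h (theta_inv h.hθ hg)
  obtain ⟨u', hu', huu⟩ := coprime_fixed_quotient (N := N) (hzl.trans hUA)
    (ea_coprime (ea_le h.hA hzl)
      (fun hdd => theta_not_dvd h.hθ hg (hdd.trans (Subgroup.card_dvd_of_le (uF_le h g)))))
    (Or.inr (uF_solvable h hg)) inf_le_right (inf_normalizes hUn Subgroup.le_normalizer)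
    (hzl.trans (inf_normalizes (mX_inv h hcub hg) hUA)) hu (fun c hc => by
      have hcm : c * m * c⁻¹ ∈ mX h g := (Subgroup.mem_normalizer_iff.mp (mX_inv h hcub hg (hzl hc)) m).mp hm
      have hcu : c * u * c⁻¹ ∈ uF h g := (Subgroup.mem_normalizer_iff.mp (hUA (hzl hc)) u).mp hu
      have hcc : Commute c (m * u) := by
        obtain ⟨j, rfl⟩ := hc
        exact Commute.zpow_left (show Commute y (m * u) from (Subgroup.mem_centralizer_singleton_iff.mp hxy).symm) j
      have e : c * u * c⁻¹ * u⁻¹ = (c * m * c⁻¹)⁻¹ * m := by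
        have h2 : c * (m * u) * c⁻¹ = m * u := by rw [hcc.eq, mul_inv_cancel_right]
        calc c * u * c⁻¹ * u⁻¹ = (c * m * c⁻¹)⁻¹ * (c * (m * u) * c⁻¹) * u⁻¹ := by group
          _ = (c * m * c⁻¹)⁻¹ * m := by rw [h2]; group
      exact Subgroup.mem_inf.mpr ⟨e ▸ mul_mem (inv_mem hcm) hm, mul_mem hcu (inv_mem hu)⟩)
  have hu'y : u' ∈ centralizer ({y} : Set G) :=
    Subgroup.centralizer_le (Set.singleton_subset_iff.mpr (mem_zpowers y)) hu'.2
  rw [show m * u = (m * (u * (u⁻¹ * u')⁻¹ * u⁻¹)) * u' by group]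
  refine mul_mem (mX_fixed h hcub hg hy (Subgroup.mem_inf.mpr ⟨?_, ?_⟩)) ?_
  · exact mul_mem hm ((Subgroup.mem_normalizer_iff.mp (hUn hu) _).mp (inv_mem huu.1))
  · rw [show m * (u * (u⁻¹ * u')⁻¹ * u⁻¹) = (m * u) * u'⁻¹ by group]
    exact mul_mem hxy (inv_mem hu'y)
  · exact Subgroup.mem_sup_right ((yCl_fix h hy).le (Subgroup.mem_inf.mpr ⟨uF_le_yCl h hg hu'.1, hu'y⟩))

/-- The linked products centralise the largest zero subgroup. -/
theorem mX_cent_fZero {x : G} (hx : Pt A x) : mX h x ≤ centralizer (fZero h : Set G) := by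
  obtain ⟨hFy, -, hFA, -, hFz⟩ := fZero_spec h
  refine Subgroup.le_centralizer_iff.mp (le_of_planes h
    (fun hdd => (fZero_mem h).not_dvd (hdd)) hFA fun B hB hB3 f hf => ?_)
  obtain ⟨hfF, hfB⟩ := Subgroup.mem_inf.mp hf
  refine Subgroup.mem_centralizer_iff.mpr fun m hm => ?_
  set W := mX h x ⊓ centralizer ({f} : Set G) with hW
  have hR := bar_rad (θ x)
  have h3 := bar_not_dvd (theta_not_dvd h.hθ hx)
  have hle : compSup (Linked h x) ≤ img (θ x) W := iSup_le fun ⟨L, hL⟩ =>
    gen_pieces hR h3 (ac h hx) (act_cube h.hA) (act_comm h.hA) hL.1 (P := B.subgroupOf A)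
      (by rwa [Nat.card_congr (Subgroup.subgroupOfEquivOfLe hB).toEquiv]) fun b hb hb1 hv => by
        have hy : Pt A (b : G) := ⟨b.2, fun e => hb1 (Subtype.ext e)⟩
        refine (img_pc_pre (piece_perfect hR h3 (ac_cube h hx b) hL.1 hv)).ge.trans (img_mono (le_inf ?_ ?_))
        · exact pc_mono (pre_mono (linked_piece_le h hcub hx b hL))
        · intro v hv'
          refine Subgroup.mem_centralizer_singleton_iff.mpr ?_
          refine (Subgroup.mem_centralizer_iff.mp
            (mX_cent_rad h hcub hy (closure_mX h hcub hx hy hL hv hv')) f ?_).symm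
          exact hFz _ hy (Subgroup.mem_inf.mpr ⟨hfF,
            Subgroup.centralizer_le (Set.singleton_subset_iff.mpr (Subgroup.mem_subgroupOf.mp hb)) hfB⟩)
  have hall : mX h x ≤ W := by
    refine perfect_le_of_sup (radS_solvable (θ x)) (fun r hr => Comp.mem_normalizer_of_maps fun v hv => ?_)
      (mX_perfect h x) fun v hv => ?_
    · rw [Subgroup.mem_centralizer_iff.mp (mX_cent_rad h hcub hx hv.1) r hr, mul_inv_cancel_right]
      exact hv
    · have hvX := mX_le h x hv
      obtain ⟨w, hw, hwW, e⟩ := mem_img_iff.mp (hle (toBar_pc_pre hvX hv))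
      rw [show v = w * (w⁻¹ * v) by group]
      refine Subgroup.mul_mem_sup hwW ?_
      rw [← toBar_eq_one_iff (mul_mem (inv_mem hw) hvX), toBar_mul (inv_mem hw) hvX, toBar_inv hw, e, inv_mul_cancel]
  exact Subgroup.mem_centralizer_singleton_iff.mp (hall hm).2

theorem marked_linked {g : G} (hg : Pt A g) {L : Subgroup (Bar (θ g))} (hL : Marked h g L) : Linked h g L := by
  obtain ⟨hLc, r, K, mg, k, hk, hkK, hnt⟩ := hL
  obtain ⟨-, -, z, hz, -, hzΓ, -, hz1⟩ := mark_clean h hcub mg hg hkK (theta_le_cent h.hθ hg hk) hk hLc hnt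
  refine ⟨hLc, g, hg, z, hz, ?_, ?_⟩
  · exact le_pc (le_inf le_rfl ((mst_le h g).trans (theta_le_cent h.hθ hg))) (mst_perfect h g)
      (pc_mono (pre_mono (le_compSup (⟨hLc, r, K, mg, k, hk, hkK, hnt⟩ : Marked h g L))) hzΓ)
  · rwa [prj_self (bar_rad _) hLc (toBar_pc_pre hz hzΓ)]

/-- Some component is linked. -/
theorem exists_linked : ∃ g, Pt A g ∧ ∃ L, Linked h g L := by
  obtain ⟨hFy, hYF, hFA, -, hFz⟩ := fZero_spec h
  have hne : ¬ yCl h ⊓ centralizer (fZero h : Set G) ≤ fZero h := fun hle => caseI h hle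
  have hYC : yCl h ≤ normalizer ((yCl h ⊓ centralizer (fZero h : Set G) : Subgroup G) : Set G) :=
    inf_normalizes Subgroup.le_normalizer fun g hg => Comp.mem_normalizer_of_maps fun v hv =>
      centralizer_conj (hYF hg) hv
  have hCA : A ≤ normalizer ((yCl h ⊓ centralizer (fZero h : Set G) : Subgroup G) : Set G) :=
    inf_normalizes (yCl_mem h).inv fun g hg => Comp.mem_normalizer_of_maps fun v hv =>
      centralizer_conj (hFA hg) hv
  obtain ⟨r, K, mg, -, hK⟩ := exists_markGrp h inf_le_left hYC hCA inf_le_right hne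
  obtain ⟨g, hg, hKg⟩ : ∃ g, Pt A g ∧ ¬ K ⊓ centralizer ({g} : Set G) ≤ rv θ g := by
    by_contra hall
    push Not at hall
    exact hK hall
  obtain ⟨k, hk, hkn⟩ := SetLike.not_le_iff_exists.mp hKg
  have hkθ : k ∈ θ g := (yCl_mem h).fix g hg (Subgroup.mem_inf.mpr ⟨mg.le hk.1, hk.2⟩)
  refine ⟨g, hg, ?_⟩
  by_contra hall
  push Not at hall
  refine hkn ((toBar_eq_one_iff hkθ).mp (eq_one_of_centralizes (bar_rad _) fun L hL l hl => ?_))
  by_contra hne'
  refine hall L (marked_linked h hcub hg ⟨hL, r, K, mg, k, hkθ, hk.1, l, hl, fun e => hne' ?_⟩)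
  rw [MulAut.conj_apply, mul_inv_eq_iff_eq_mul] at e
  exact e.symm

end Data

end CfsgLib.SF23
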