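import Cfsg.Agent.Lib.SF23.Pc

/-!
Generation by visible pieces, decomposition of fixed elements of the layer, and generation by planes.
-/

set_option autoImplicit false
set_option linter.unusedSectionVars false
set_option linter.style.haveILetI false

namespace CfsgLib.SF23

open Cfsg Subgroup CfsgLib.Signalizer CfsgLib.SolvSF
open scoped commutatorElement

universe u
variable {H : Type u} [Group H] [Finite H]

section Trivial

variable (hR : solvableRadical H = ⊥) (h3 : ¬ 3 ∣ Nat.card H)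
include hR h3

/-- The diagonal element of a moved component. -/
theorem diag_spec {β : MulAut H} (hβ : β ^ 3 = 1) {K : Subgroup H} (hK : IsComponent K) (hm : mp β K ≠ K)
    {t : H} (ht : t ∈ K) :
    t * β t * β (β t) ∈ piece β K hR ∧ prj K (t * β t * β (β t)) = t ∧
      prj (mp β K) (t * β t * β (β t)) = β t ∧ prj (mp β (mp β K)) (t * β t * β (β t)) = β (β t) ∧
      ∀ L, IsComponent L → L ≠ K → L ≠ mp β K → L ≠ mp β (mp β K) → prj L (t * β t * β (β t)) = 1 := by
  have h1c : IsComponent (mp β K) := mp_comp hK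
  have h2c : IsComponent (mp β (mp β K)) := mp_comp h1c
  have h20 : mp β (mp β K) ≠ K := fun e => hm (by
    calc mp β K = mp β (mp β (mp β K)) := by rw [e]
      _ = K := by rw [← mp_mul, ← mp_mul, ← pow_two, ← pow_succ, hβ, mp_one])
  have h12 : mp β (mp β K) ≠ mp β K := fun e => hm (mp_injective β e)
  have m0 : t ∈ layer H := CfsgLib.le_layer hK ht
  have m1 := mp_layer β m0
  have m2 := mp_layer β m1
  have hout : ∀ L, IsComponent L → L ≠ K → L ≠ mp β K → L ≠ mp β (mp β K) →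
      prj L (t * β t * β (β t)) = 1 := fun L hL n0 n1 n2 => by
    rw [prj_mul hR hL (mul_mem m0 m1) m2, prj_mul hR hL m0 m1, prj_other hR hL hK n0 ht,
      prj_other hR hL h1c n1 (mem_mp ht), prj_other hR hL h2c n2 (mem_mp (mem_mp ht))]
    simp
  refine ⟨⟨mul_mem (mul_mem m0 m1) m2, ?_, hout⟩, ?_, ?_, ?_, hout⟩
  · rw [map_mul, map_mul, cube_orbit hβ]
    have c1 : β t * β (β t) * t = β t * (t * β (β t)) := by
      rw [mul_assoc, comp_commute hR h2c hK h20 (mem_mp (mem_mp ht)) ht]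
    rw [c1, ← mul_assoc, comp_commute hR h1c hK hm (mem_mp ht) ht]
  · rw [prj_mul hR hK (mul_mem m0 m1) m2, prj_mul hR hK m0 m1, prj_self hR hK ht,
      prj_other hR hK h1c (Ne.symm hm) (mem_mp ht), prj_other hR hK h2c h20.symm (mem_mp (mem_mp ht))]
    simp
  · rw [prj_mul hR h1c (mul_mem m0 m1) m2, prj_mul hR h1c m0 m1, prj_self hR h1c (mem_mp ht),
      prj_other hR h1c hK hm ht, prj_other hR h1c h2c h12.symm (mem_mp (mem_mp ht))]
    simp
  · rw [prj_mul hR h2c (mul_mem m0 m1) m2, prj_mul hR h2c m0 m1, prj_self hR h2c (mem_mp (mem_mp ht)),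
      prj_other hR h2c hK h20 ht, prj_other hR h2c h1c h12 (mem_mp ht)]
    simp

theorem prj_commutator {K : Subgroup H} (hK : IsComponent K) {a b : H} (ha : a ∈ layer H) (hb : b ∈ layer H) :
    prj K ⁅a, b⁆ = ⁅prj K a, prj K b⁆ := by
  rw [commutatorElement_def, prj_mul hR hK (mul_mem (mul_mem ha hb) (inv_mem ha)) (inv_mem hb),
    prj_mul hR hK (mul_mem ha hb) (inv_mem ha), prj_mul hR hK ha hb, prj_inv hR hK ha, prj_inv hR hK hb,
    commutatorElement_def]

/-- Commutators supported on one component. -/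
theorem comm_eq_of_support {K : Subgroup H} (hK : IsComponent K) {a b : H} (ha : a ∈ layer H) (hb : b ∈ layer H)
    (hsupp : ∀ L, IsComponent L → L ≠ K → prj L a = 1 ∨ prj L b = 1) : ⁅a, b⁆ = ⁅prj K a, prj K b⁆ := by
  have ha' := CfsgLib.le_layer hK (prj_mem K a)
  have hb' := CfsgLib.le_layer hK (prj_mem K b)
  refine layer_ext hR (mul_mem (mul_mem (mul_mem ha hb) (inv_mem ha)) (inv_mem hb))
    (mul_mem (mul_mem (mul_mem ha' hb') (inv_mem ha')) (inv_mem hb')) fun L hL => ?_
  rw [prj_commutator hR h3 hL ha hb, prj_commutator hR h3 hL ha' hb']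
  rcases eq_or_ne L K with rfl | hne
  · rw [prj_self hR hL (prj_mem _ a), prj_self hR hL (prj_mem _ b)]
  · rw [prj_other hR hL hK hne (prj_mem K a), prj_other hR hL hK hne (prj_mem K b)]
    rcases hsupp L hL hne with e | e <;> rw [e] <;> simp

variable {B : Type u} [Group B] [Finite B]

/-- The visible pieces at the points of a plane generate the component. -/
theorem gen_pieces (α : B →* MulAut H) (hB : ∀ b : B, b ^ 3 = 1) (hBc : ∀ a b : B, a * b = b * a)
    {K : Subgroup H} (hK : IsComponent K) {P : Subgroup B} (hP : 3 < Nat.card P) {W : Subgroup H}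
    (hW : ∀ b ∈ P, b ≠ 1 → Vis (α b) K → piece (α b) K hR ≤ W) : K ≤ W := by
  have hcube : ∀ b, α b ^ 3 = 1 := fun b => by rw [← map_pow, hB, map_one]
  by_cases htriv : ∃ b ∈ P, b ≠ 1 ∧ mp (α b) K = K ∧ ∀ k ∈ K, α b k = k
  · obtain ⟨b, hb, hb1, he, hfix⟩ := htriv
    have hv : Vis (α b) K := by
      by_contra hv
      obtain ⟨-, k, hk, hne⟩ := not_vis hR h3 hK hv
      exact hne (hfix k hk)
    refine le_trans (fun k hk => ?_) (hW b hb hb1 hv)
    rw [piece_fixed_eq hR h3 hK he]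
    exact ⟨hk, hfix k hk⟩
  push Not at htriv
  have hpow : ∀ x : B, ∀ i : ℤ, x ^ i = 1 ∨ x ^ i = x ∨ x ^ i = x * x := by
    intro x i
    have hx : x ^ (3 : ℤ) = 1 := by rw [show (3 : ℤ) = ((3 : ℕ) : ℤ) from rfl, zpow_natCast, hB]
    have e : x ^ i = x ^ (i % 3) := by
      conv_lhs => rw [← Int.emod_add_mul_ediv i 3]
      rw [zpow_add, zpow_mul, hx, one_zpow, mul_one]
    rcases (by omega : i % 3 = 0 ∨ i % 3 = 1 ∨ i % 3 = 2) with h | h | h <;> rw [e, h]
    · exact Or.inl (zpow_zero x)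
    · exact Or.inr (Or.inl (zpow_one x))
    · exact Or.inr (Or.inr (zpow_two x))
  by_cases hfree : ∀ c ∈ P, mp (α c) K = K → c = 1
  · -- all points move the component
    obtain ⟨⟨x, hx⟩, hx'⟩ : ∃ x : P, x ≠ 1 := by
      haveI : Nontrivial P := Finite.one_lt_card_iff_nontrivial.mp (by omega)
      exact exists_ne 1
    have hx1 : x ≠ 1 := fun e => hx' (Subtype.ext e)
    obtain ⟨y, hy, hyx⟩ : ∃ y ∈ P, y ∉ zpowers x := by
      by_contra hne
      push Not at hne
      have h1 : Nat.card P ≤ Nat.card (zpowers x) := Subgroup.card_le_of_le hne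
      rw [Nat.card_zpowers] at h1
      have h2 := Nat.le_of_dvd (by norm_num) (orderOf_dvd_of_pow_eq_one (hB x))
      omega
    have hy1 : y ≠ 1 := fun e => hyx (e ▸ one_mem _)
    have hmx : mp (α x) K ≠ K := fun e => hx1 (hfree x hx e)
    have hmy : mp (α y) K ≠ K := fun e => hy1 (hfree y hy e)
    have hdist : ∀ u ∈ P, ∀ v ∈ P, mp (α u) K = mp (α v) K → u = v := by
      intro u hu v hv e
      have h1 : mp (α (v⁻¹ * u)) K = K := by
        rw [map_mul, mp_mul, e, ← mp_mul, ← map_mul, inv_mul_cancel, map_one, mp_one]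
      exact (inv_mul_eq_one.mp (hfree _ (mul_mem (inv_mem hv) hu) h1)).symm
    have hne : ∀ u ∈ zpowers x, u ≠ 1 → ∀ v ∈ zpowers y, v ≠ 1 → mp (α u) K ≠ mp (α v) K := by
      intro u hu hu1 v hv hv1 e
      have huv := hdist u (Subgroup.zpowers_le.mpr hx hu) v (Subgroup.zpowers_le.mpr hy hv) e
      subst huv
      obtain ⟨j, rfl⟩ := Subgroup.mem_zpowers_iff.mp hv
      rcases hpow y j with h | h | h
      · exact hv1 h
      · exact hyx (h ▸ hu)
      · refine hyx ?_
        have h4 : (y ^ j) * (y ^ j) = y := by rw [h, mul_assoc, ← mul_assoc y y y, ← pow_two, ← pow_succ, hB, mul_one]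
        exact h4 ▸ mul_mem hu hu
    have key : ∀ t ∈ K, ∀ s ∈ K, ⁅t, s⁆ ∈ W := by
      intro t ht s hs
      obtain ⟨hd, hd0, -, -, hdo⟩ := diag_spec hR h3 (hcube x) hK hmx ht
      obtain ⟨hd', hd0', -, -, hdo'⟩ := diag_spec hR h3 (hcube y) hK hmy hs
      have e := comm_eq_of_support hR h3 hK hd.1 hd'.1 (fun L hL hLK => by
        by_cases h1 : L = mp (α x) K ∨ L = mp (α x) (mp (α x) K)
        · refine Or.inr (hdo' L hL hLK (fun e => ?_) fun e => ?_) <;>
          · rw [← mp_mul, ← map_mul] at h1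
            try rw [← mp_mul, ← map_mul] at e
            have hxx : x * x ≠ 1 := fun e2 => hx1 (by
              calc x = x * (x * x) := by rw [e2, mul_one]
                _ = 1 := by rw [← pow_two, ← pow_succ', hB])
            have hyy : y * y ≠ 1 := fun e2 => hy1 (by
              calc y = y * (y * y) := by rw [e2, mul_one]
                _ = 1 := by rw [← pow_two, ← pow_succ', hB])
            rcases h1 with h1 | h1
            all_goals
              first
              | exact hne _ (mem_zpowers x) hx1 _ (mem_zpowers y) hy1 (h1.symm.trans e)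
              | exact hne _ (mem_zpowers x) hx1 _ (mul_mem (mem_zpowers y) (mem_zpowers y)) hyy (h1.symm.trans e)
              | exact hne _ (mul_mem (mem_zpowers x) (mem_zpowers x)) hxx _ (mem_zpowers y) hy1 (h1.symm.trans e)
              | exact hne _ (mul_mem (mem_zpowers x) (mem_zpowers x)) hxx _ (mul_mem (mem_zpowers y) (mem_zpowers y))
                  hyy (h1.symm.trans e)
        · push Not at h1
          exact Or.inl (hdo L hL hLK h1.1 h1.2))
      rw [hd0, hd0'] at e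
      rw [← e, commutatorElement_def]
      have m1 := hW x hx hx1 (Or.inl hmx) hd
      have m2 := hW y hy hy1 (Or.inl hmy) hd'
      exact mul_mem (mul_mem (mul_mem m1 m2) (inv_mem m1)) (inv_mem m2)
    rw [← CfsgLib.isComponent_commutator_self hK]
    exact Subgroup.commutator_le.mpr key
  push Not at hfree
  obtain ⟨x, hx, hxK, hx1⟩ := hfree
  obtain ⟨k₀, hk₀, hk₀ne⟩ := htriv x hx hx1 hxK
  -- some point moves the component
  obtain ⟨b, hb, hbK⟩ : ∃ b ∈ P, mp (α b) K ≠ K := by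
    by_contra hne
    push Not at hne
    let r := resHom α K P hne
    have hel : Cfsg.IsElementaryAbelian 3 r.range := by
      refine ⟨⟨⟨?_⟩⟩, ?_⟩
      · rintro ⟨_, a, rfl⟩ ⟨_, c, rfl⟩
        apply Subtype.ext
        show r a * r c = r c * r a
        rw [← map_mul, ← map_mul, show a * c = c * a from Subtype.ext (hBc a c)]
      · rintro _ ⟨a, rfl⟩
        rw [← map_pow, show a ^ 3 = 1 from Subtype.ext (hB a), map_one]
    obtain ⟨hle, -⟩ := suz_three_group (component_suzuki hR h3 hK) r.range hel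
    have hinj : Function.Injective r.rangeRestrict := fun a c e => by
      by_contra hac
      have h1 : r (c⁻¹ * a) = 1 := by
        rw [map_mul, map_inv, show r a = r c from congrArg Subtype.val e, inv_mul_cancel]
      obtain ⟨k, hk, hkne⟩ := htriv _ (c⁻¹ * a).2 (fun e1 => hac (inv_mul_eq_one.mp (Subtype.ext e1)).symm)
        (hne _ (c⁻¹ * a).2)
      exact hkne (congrArg (fun f : MulAut K => (f ⟨k, hk⟩ : H)) h1)
    have := Nat.card_le_card_of_injective _ hinj
    omega
  have hb1 : b ≠ 1 := fun e => hbK (by rw [e, map_one, mp_one])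
  have hbx : b * x ≠ 1 := fun e => hbK (by
    calc mp (α b) K = mp (α b) (mp (α x) K) := by rw [hxK]
      _ = K := by rw [← mp_mul, ← map_mul, e, map_one, mp_one])
  have e1 : mp (α (b * x)) K = mp (α b) K := by rw [map_mul, mp_mul, hxK]
  have e2 : mp (α (b * x)) (mp (α (b * x)) K) = mp (α b) (mp (α b) K) := by
    rw [e1, map_mul, mp_mul, ← mp_mul (α x) (α b), ← map_mul, hBc x b, map_mul, mp_mul (α b) (α x), hxK]
  have hbxK : mp (α (b * x)) K ≠ K := by rw [e1]; exact hbK
  have happ : ∀ t, α (b * x) t = α b (α x t) := fun t => by rw [map_mul, MulAut.mul_apply]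
  have hcomm : ∀ t, α x (α b t) = α b (α x t) := fun t => by
    rw [← MulAut.mul_apply, ← map_mul, hBc x b, map_mul, MulAut.mul_apply]
  have hxK' : ∀ t ∈ K, α x t ∈ K := fun t ht => hxK.le (mem_mp ht)
  have hx3 : ∀ t, α x (α x (α x t)) = t := fun t => cube_orbit (hcube x) t
  haveI := component_simple hR hK
  -- full projections on pairs
  have pair : ∀ L, IsComponent L → (∀ t ∈ K, ∃ t' ∈ K,
      prj L (t * α b t * α b (α b t)) = prj L (t' * α (b * x) t' * α (b * x) (α (b * x) t')) ∧ (α x t ≠ t → t' ≠ t)) →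
      ∀ s ∈ K, ∃ w ∈ W, w ∈ layer H ∧ prj K w = s ∧ prj L w = 1 ∧
        ∀ M, IsComponent M → M ≠ K → M ≠ mp (α b) K → M ≠ mp (α b) (mp (α b) K) → prj M w = 1 := by
    intro L hL hpair
    let N : Subgroup K :=
      { carrier := {s | ∃ w ∈ W, w ∈ layer H ∧ prj K w = (s : H) ∧ prj L w = 1 ∧
          ∀ M, IsComponent M → M ≠ K → M ≠ mp (α b) K → M ≠ mp (α b) (mp (α b) K) → prj M w = 1}
        one_mem' := ⟨1, one_mem _, one_mem _, by rw [prj_one hR hK]; rfl, prj_one hR hL,
          fun M hM _ _ _ => prj_one hR hM⟩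
        mul_mem' := fun {s s'} ⟨w, hw, hwl, hwK, hwL, hwo⟩ ⟨w', hw', hwl', hwK', hwL', hwo'⟩ =>
          ⟨w * w', mul_mem hw hw', mul_mem hwl hwl', by rw [prj_mul hR hK hwl hwl', hwK, hwK']; rfl,
            by rw [prj_mul hR hL hwl hwl', hwL, hwL', one_mul],
            fun M hM n0 n1 n2 => by rw [prj_mul hR hM hwl hwl', hwo M hM n0 n1 n2, hwo' M hM n0 n1 n2, one_mul]⟩
        inv_mem' := fun {s} ⟨w, hw, hwl, hwK, hwL, hwo⟩ =>
          ⟨w⁻¹, inv_mem hw, inv_mem hwl, by rw [prj_inv hR hK hwl, hwK]; rfl,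
            by rw [prj_inv hR hL hwl, hwL, inv_one],
            fun M hM n0 n1 n2 => by rw [prj_inv hR hM hwl, hwo M hM n0 n1 n2, inv_one]⟩ }
    haveI : N.Normal := ⟨fun s ⟨w, hw, hwl, hwK, hwL, hwo⟩ r => by
      obtain ⟨hd, hd0, -, -, -⟩ := diag_spec hR h3 (hcube b) hK hbK r.2
      set d := (r : H) * α b r * α b (α b r) with hddef
      refine ⟨d * w * d⁻¹, mul_mem (mul_mem (hW b hb hb1 (Or.inl hbK) hd) hw) (inv_mem (hW b hb hb1 (Or.inl hbK) hd)),
        mul_mem (mul_mem hd.1 hwl) (inv_mem hd.1), ?_, ?_, fun M hM n0 n1 n2 => ?_⟩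
      · rw [prj_mul hR hK (mul_mem hd.1 hwl) (inv_mem hd.1), prj_mul hR hK hd.1 hwl, prj_inv hR hK hd.1, hd0, hwK]
        rfl
      · rw [prj_mul hR hL (mul_mem hd.1 hwl) (inv_mem hd.1), prj_mul hR hL hd.1 hwl, prj_inv hR hL hd.1, hwL]
        simp
      · rw [prj_mul hR hM (mul_mem hd.1 hwl) (inv_mem hd.1), prj_mul hR hM hd.1 hwl, prj_inv hR hM hd.1,
          hwo M hM n0 n1 n2]
        simp⟩
    rcases (inferInstance : N.Normal).eq_bot_or_eq_top with hN | hN
    · exfalso
      obtain ⟨t', ht', he, hne⟩ := hpair k₀ hk₀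
      obtain ⟨hd, hd0, -, -, hdo⟩ := diag_spec hR h3 (hcube b) hK hbK hk₀
      obtain ⟨hd', hd0', -, -, hdo'⟩ := diag_spec hR h3 (hcube (b * x)) hK hbxK ht'
      set d := k₀ * α b k₀ * α b (α b k₀)
      set d' := t' * α (b * x) t' * α (b * x) (α (b * x) t')
      have hmem : (⟨k₀ * t'⁻¹, mul_mem hk₀ (inv_mem ht')⟩ : K) ∈ N := by
        refine ⟨d * d'⁻¹, mul_mem (hW b hb hb1 (Or.inl hbK) hd)
          (inv_mem (hW _ (mul_mem hb hx) hbx (Or.inl hbxK) hd')), mul_mem hd.1 (inv_mem hd'.1), ?_, ?_,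
          fun M hM n0 n1 n2 => ?_⟩
        · rw [prj_mul hR hK hd.1 (inv_mem hd'.1), prj_inv hR hK hd'.1, hd0, hd0']
        · rw [prj_mul hR hL hd.1 (inv_mem hd'.1), prj_inv hR hL hd'.1, he, mul_inv_cancel]
        · rw [prj_mul hR hM hd.1 (inv_mem hd'.1), prj_inv hR hM hd'.1, hdo M hM n0 n1 n2,
            hdo' M hM n0 (by rwa [e1]) (by rwa [e2]), inv_one, one_mul]
      rw [hN, Subgroup.mem_bot] at hmem
      exact hne hk₀ne (mul_inv_eq_one.mp (congrArg Subtype.val hmem)).symm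
    · intro s hs
      exact (hN.ge (Subgroup.mem_top (⟨s, hs⟩ : K)) : _)
  have key : ∀ t ∈ K, ∀ s ∈ K, ⁅t, s⁆ ∈ W := by
    intro t ht s hs
    obtain ⟨w, hw, hwl, hwK, hwL, hwo⟩ := pair _ (mp_comp hK) (fun t ht => by
      refine ⟨α x (α x t), hxK' _ (hxK' _ ht), ?_, fun hne e => hne ?_⟩
      · obtain ⟨-, -, hd1, -, -⟩ := diag_spec hR h3 (hcube b) hK hbK ht
        obtain ⟨-, -, hd1', -, -⟩ := diag_spec hR h3 (hcube (b * x)) hK hbxK (hxK' _ (hxK' _ ht))
        rw [e1] at hd1'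
        rw [hd1, hd1', happ, hx3]
      · have := congrArg (α x) e
        rwa [hx3, eq_comm] at this) t ht
    obtain ⟨w', hw', hwl', hwK', hwL', hwo'⟩ := pair _ (mp_comp (mp_comp hK)) (fun t ht => by
      refine ⟨α x t, hxK' _ ht, ?_, fun hne e => hne e⟩
      obtain ⟨-, -, -, hd2, -⟩ := diag_spec hR h3 (hcube b) hK hbK ht
      obtain ⟨-, -, -, hd2', -⟩ := diag_spec hR h3 (hcube (b * x)) hK hbxK (hxK' _ ht)
      rw [e2] at hd2'
      rw [hd2, hd2', happ, happ, hcomm, hx3]) s hs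
    have e := comm_eq_of_support hR h3 hK hwl hwl' (fun M hM hMK => by
      by_cases h1 : M = mp (α b) K
      · exact Or.inl (h1 ▸ hwL)
      · by_cases h2 : M = mp (α b) (mp (α b) K)
        · exact Or.inr (h2 ▸ hwL')
        · exact Or.inl (hwo M hM hMK h1 h2))
    rw [hwK, hwK'] at e
    rw [← e, commutatorElement_def]
    exact mul_mem (mul_mem (mul_mem hw hw') (inv_mem hw)) (inv_mem hw')
  rw [← CfsgLib.isComponent_commutator_self hK]
  exact Subgroup.commutator_le.mpr key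

/-- A fixed element of the layer is a product of an element of its visible pieces and one with invisible
support. -/
theorem fix_layer_split {β : MulAut H} (hβ : β ^ 3 = 1) (n : ℕ) :
    ∀ {w : H}, Nat.card {L : Subgroup H // IsComponent L ∧ Vis β L ∧ prj L w ≠ 1} = n → w ∈ layer H → β w = w →
      ∃ t ∈ ⨆ L : {L : Subgroup H // IsComponent L ∧ Vis β L ∧ prj L w ≠ 1}, piece β (L : Subgroup H) hR,
        t ∈ layer H ∧ β t = t ∧ ∀ L, IsComponent L → (Vis β L → prj L t = prj L w) ∧ (¬ Vis β L → prj L t = 1) := by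
  classical
  induction n using Nat.strong_induction_on with
  | _ n ih =>
  intro w hn hw hf
  by_cases hne : ∃ L, IsComponent L ∧ Vis β L ∧ prj L w ≠ 1
  swap
  · push Not at hne
    exact ⟨1, one_mem _, one_mem _, map_one β, fun L hL => ⟨fun hv => by rw [prj_one hR hL, hne L hL hv],
      fun _ => prj_one hR hL⟩⟩
  obtain ⟨K, hK, hv, hKw⟩ := hne
  -- visibility is constant on the orbit
  have hvis : ∀ L, Vis β L → Vis β (mp β L) := by
    intro L hL
    by_cases e : mp β L = L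
    · rwa [e]
    · exact Or.inl fun e' => e (mp_injective β e')
  let v : Subgroup H → H := fun L => if L = K ∨ L = mp β K ∨ L = mp β (mp β K) then prj L w else 1
  obtain ⟨u, hu, hup⟩ := exists_prj hR v fun L hL => by
    simp only [v]
    split
    · exact prj_mem L w
    · exact one_mem _
  have h3K : mp β (mp β (mp β K)) = K := by rw [← mp_mul, ← mp_mul, ← pow_two, ← pow_succ, hβ, mp_one]
  have hwmap : ∀ L, IsComponent L → prj (mp β L) w = β (prj L w) := fun L hL => by
    have := prj_map hR β hL hw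
    rwa [hf] at this
  have huf : β u = u := layer_ext hR (mp_layer β hu) hu fun L hL => by
    obtain ⟨L', rfl⟩ : ∃ L', mp β L' = L := ⟨mp β⁻¹ L, mp_inv_cancel β L⟩
    have hL' : IsComponent L' := by
      have := mp_comp (e := β⁻¹) hL
      rwa [← mp_mul, inv_mul_cancel, mp_one] at this
    rw [prj_map hR β hL' hu, hup L' hL', hup _ hL]
    simp only [v]
    by_cases h : L' = K ∨ L' = mp β K ∨ L' = mp β (mp β K)
    · rw [if_pos h, if_pos, hwmap L' hL']
      rcases h with rfl | rfl | rfl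
      · exact Or.inr (Or.inl rfl)
      · exact Or.inr (Or.inr rfl)
      · exact Or.inl h3K
    · rw [if_neg h, if_neg, map_one]
      rintro (h1 | h1 | h1)
      · exact h (Or.inr (Or.inr (mp_injective β (h1.trans h3K.symm))))
      · exact h (Or.inl (mp_injective β h1))
      · exact h (Or.inr (Or.inl (mp_injective β h1)))
  have hupiece : u ∈ piece β K hR := ⟨hu, huf, fun L hL n0 n1 n2 => by
    rw [hup L hL]
    exact if_neg (by rintro (h | h | h) <;> contradiction)⟩
  have hwu : ∀ L, IsComponent L → prj L (u⁻¹ * w) = (v L)⁻¹ * prj L w := fun L hL => by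
    rw [prj_mul hR hL (inv_mem hu) hw, prj_inv hR hL hu, hup L hL]
  have hvv : ∀ L, IsComponent L → Vis β L → prj L (u⁻¹ * w) ≠ 1 → prj L w ≠ 1 := by
    intro L hL _ h e
    rw [hwu L hL] at h
    refine h ?_
    simp only [v]
    split <;> simp [e]
  have hsub : {L : Subgroup H | IsComponent L ∧ Vis β L ∧ prj L (u⁻¹ * w) ≠ 1} ⊂
      {L : Subgroup H | IsComponent L ∧ Vis β L ∧ prj L w ≠ 1} := by
    refine ⟨fun L hL => ⟨hL.1, hL.2.1, hvv L hL.1 hL.2.1 hL.2.2⟩, fun h => ?_⟩
    obtain ⟨-, -, h2⟩ := h ⟨hK, hv, hKw⟩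
    refine h2 ?_
    rw [hwu K hK]
    simp [v]
  have hlt : Nat.card {L : Subgroup H // IsComponent L ∧ Vis β L ∧ prj L (u⁻¹ * w) ≠ 1} < n := by
    have h := Set.ncard_lt_ncard hsub (Set.toFinite _)
    rw [← Nat.card_coe_set_eq, ← Nat.card_coe_set_eq] at h
    exact lt_of_lt_of_eq h hn
  obtain ⟨t, ht, htl, htf, htp⟩ := ih _ hlt rfl
    (mul_mem (inv_mem hu) hw) (by rw [map_mul, map_inv, huf, hf])
  have hle : (⨆ L : {L : Subgroup H // IsComponent L ∧ Vis β L ∧ prj L (u⁻¹ * w) ≠ 1}, piece β (L : Subgroup H) hR) ≤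
      ⨆ L : {L : Subgroup H // IsComponent L ∧ Vis β L ∧ prj L w ≠ 1}, piece β (L : Subgroup H) hR := by
    refine iSup_le fun L => ?_
    obtain ⟨L, hL1, hL2, hL3⟩ := L
    exact le_iSup_of_le (⟨L, hL1, hL2, hvv L hL1 hL2 hL3⟩ :
      {L : Subgroup H // IsComponent L ∧ Vis β L ∧ prj L w ≠ 1}) le_rfl
  refine ⟨u * t, mul_mem (Subgroup.mem_iSup_of_mem
    (⟨K, hK, hv, hKw⟩ : {L : Subgroup H // IsComponent L ∧ Vis β L ∧ prj L w ≠ 1}) hupiece) (hle ht), mul_mem hu htl,
    by rw [map_mul, huf, htf], fun L hL => ⟨fun hL' => ?_, fun hL' => ?_⟩⟩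
  · rw [prj_mul hR hL hu htl, (htp L hL).1 hL', hwu L hL, hup L hL, mul_inv_cancel_left]
  · rw [prj_mul hR hL hu htl, (htp L hL).2 hL', hup L hL, mul_one]
    refine if_neg ?_
    rintro (rfl | rfl | rfl)
    exacts [hL' hv, hL' (hvis _ hv), hL' (hvis _ (hvis _ hv))]

end Trivial

variable {G : Type u} [Group G] [Finite G] {A : Subgroup G} {θ : G → Subgroup G}

/-- A large subgroup of `A` avoiding a given point. -/
theorem exists_plane_avoiding (h : Ctx 3 A θ) {g : G} (hg : Pt A g) :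
    ∃ C : Subgroup G, C ≤ A ∧ 3 < Nat.card C ∧ g ∉ C := by
  have hg' : (⟨g, hg.1⟩ : A) ∉ (⊥ : Subgroup A) := fun e =>
    hg.2 (congrArg Subtype.val (Subgroup.mem_bot.mp e))
  obtain ⟨D, -, hgD, hD⟩ := exists_avoid (act_cube h.hA) (act_comm h.hA) hg'
  refine ⟨D.map A.subtype, Subgroup.map_subtype_le D, ?_, fun ⟨d, hd, e⟩ => hgD ((Subtype.ext e : d = ⟨g, hg.1⟩) ▸ hd)⟩
  rw [Subgroup.card_map_of_injective A.subtype_injective]
  rw [h.hA3] at hD
  omega

/-- Two points generate a plane. -/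
theorem plane_card (h : Ctx 3 A θ) {g d : G} (hg : Pt A g) (hd : Pt A d) (hne : g ∉ zpowers d) :
    3 < Nat.card ↥(zpowers g ⊔ zpowers d) := by
  have hog : ∀ x, Pt A x → Nat.card (zpowers x) = 3 := fun x hx => by
    rw [Nat.card_zpowers]
    exact orderOf_eq_prime_of_ea h.hA hx.1 hx.2
  rcases (hog d hd ▸ Subgroup.card_le_of_le (le_sup_right : zpowers d ≤ zpowers g ⊔ zpowers d)).lt_or_eq with h' | h'
  · exact h'
  · exact absurd ((Subgroup.eq_of_le_of_card_ge (le_sup_right : zpowers d ≤ zpowers g ⊔ zpowers d)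
      (by rw [hog d hd, h'])).ge (Subgroup.mem_sup_left (mem_zpowers g))) hne

/-- Generation by the centralizers of planes through a point. -/
theorem le_of_planes_at (h : Ctx 3 A θ) {g : G} (hg : Pt A g) {X Y : Subgroup G} (hX : ¬ 3 ∣ Nat.card X)
    (hXA : A ≤ normalizer (X : Set G)) (hXg : X ≤ centralizer ({g} : Set G))
    (hle : ∀ B : Subgroup G, B ≤ A → 3 < Nat.card B → g ∈ B → X ⊓ centralizer (B : Set G) ≤ Y) : X ≤ Y := by
  obtain ⟨C, hCA, hC3, hgC⟩ := exists_plane_avoiding h hg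
  refine le_of_fix h.hA hCA hC3 hX hXA fun d hd hd1 => ?_
  refine le_trans ?_ (hle (zpowers g ⊔ zpowers d) (sup_le (Subgroup.zpowers_le.mpr hg.1)
    (Subgroup.zpowers_le.mpr (hCA hd))) (plane_card h hg ⟨hCA hd, hd1⟩ fun hgd => hgC (Subgroup.zpowers_le.mpr hd hgd))
    (Subgroup.mem_sup_left (mem_zpowers g)))
  refine le_inf inf_le_left ?_
  rw [Subgroup.le_centralizer_iff]
  refine sup_le (Subgroup.zpowers_le.mpr fun x hx => ?_) (Subgroup.zpowers_le.mpr fun x hx => ?_)
  · exact Subgroup.mem_centralizer_singleton_iff.mp (hXg hx.1)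
  · exact Subgroup.mem_centralizer_singleton_iff.mp hx.2

/-- Generation by the centralizers of planes. -/
theorem le_of_planes (h : Ctx 3 A θ) {X Y : Subgroup G} (hX : ¬ 3 ∣ Nat.card X)
    (hXA : A ≤ normalizer (X : Set G))
    (hle : ∀ B : Subgroup G, B ≤ A → 3 < Nat.card B → X ⊓ centralizer (B : Set G) ≤ Y) : X ≤ Y := by
  refine le_of_fix h.hA le_rfl (lt_card h.hA3) hX hXA fun a ha ha1 => ?_
  exact le_of_planes_at h ⟨ha, ha1⟩ (fun hd => hX (hd.trans (Subgroup.card_dvd_of_le inf_le_left)))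
    (inf_normalizes hXA (centralizer_singleton_normalizes h.hA ha)) inf_le_right
    fun B hB hB3 _ => (inf_le_inf_right _ inf_le_left).trans (hle B hB hB3)

end CfsgLib.SF23
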