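import Cfsg.Agent.Lib.SF23.Marks
import Cfsg.Agent.Lib.SF23.SuzExtra

/-!
The frame of an involution and an element of order five of a Suzuki group.
-/

set_option autoImplicit false
set_option linter.unusedSectionVars false
set_option linter.style.haveILetI false

namespace CfsgLib.SF23

open Cfsg Subgroup

universe u
variable {L : Type u} [Group L] [Finite L]

/-- The torus of a frame. -/
def fTor (s z : L) : Subgroup L :=
  normalizer (centralizer ({s} : Set L) : Set L) ⊓ normalizer (centralizer ({z * s * z⁻¹} : Set L) : Set L)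

theorem fTor_swap (s z : L) : fTor (z * s * z⁻¹) z⁻¹ = fTor s z := by
  rw [fTor, fTor, show z⁻¹ * (z * s * z⁻¹) * z⁻¹⁻¹ = s by group, inf_comm]

variable (hL : Cfsg.Lie.IsoSuzuki L) {s z : L} (hs : orderOf s = 2) (hz : orderOf z = 5)
include hL hs hz

theorem fr_two : IsPGroup 2 (centralizer ({s} : Set L)) := (suz_borel hL hs hz rfl rfl rfl rfl).1

theorem fr_sup : centralizer ({s} : Set L) ⊔ centralizer ({z * s * z⁻¹} : Set L) = ⊤ :=
  (suz_borel hL hs hz rfl rfl rfl rfl).2.1

theorem fr_central {e : L} (he : e * e = 1) (hes : e * s = s * e) {u : L} (hu : u * s = s * u) : e * u = u * e := by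
  obtain ⟨-, -, -, -, -, -, -, -, -, hinE, -, -⟩ := suz_borel hL hs hz rfl rfl rfl rfl
  obtain ⟨c, hc, rfl⟩ := hinE e (Subgroup.mem_centralizer_singleton_iff.mpr hes) he
  exact (congrArg Subtype.val (Subgroup.mem_center_iff.mp hc ⟨u, Subgroup.mem_centralizer_singleton_iff.mpr hu⟩)).symm

theorem fr_conj {e : L} (he : e * e = 1) (hes : e * s = s * e) (he1 : e ≠ 1) :
    ∃ t ∈ fTor s z, t * s * t⁻¹ = e := by
  obtain ⟨-, -, -, -, -, -, -, -, hconj, hinE, -, -⟩ := suz_borel hL hs hz rfl rfl rfl rfl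
  exact hconj e (hinE e (Subgroup.mem_centralizer_singleton_iff.mpr hes) he) he1

theorem fr_cent_eq {e : L} (he : e * e = 1) (hes : e * s = s * e) (he1 : e ≠ 1) :
    centralizer ({e} : Set L) = centralizer ({s} : Set L) := by
  obtain ⟨t, ht, rfl⟩ := fr_conj hL hs hz he hes he1
  ext u
  have hn := Subgroup.mem_normalizer_iff''.mp (Subgroup.mem_inf.mp ht).1 u
  rw [hn, Subgroup.mem_centralizer_singleton_iff, Subgroup.mem_centralizer_singleton_iff]
  constructor
  · intro h
    calc t⁻¹ * u * t * s = t⁻¹ * (u * (t * s * t⁻¹)) * t := by group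
      _ = t⁻¹ * (t * s * t⁻¹ * u) * t := by rw [h]
      _ = s * (t⁻¹ * u * t) := by group
  · intro h
    calc u * (t * s * t⁻¹) = t * (t⁻¹ * u * t * s) * t⁻¹ := by group
      _ = t * (s * (t⁻¹ * u * t)) * t⁻¹ := by rw [h]
      _ = t * s * t⁻¹ * u := by group

theorem fr_odd : Odd (Nat.card (fTor s z)) := (suz_borel hL hs hz rfl rfl rfl rfl).2.2.2.1

theorem fr_comm {a b : L} (ha : a ∈ fTor s z) (hb : b ∈ fTor s z) : a * b = b * a := by
  haveI : IsCyclic ↥(fTor s z) := (suz_borel hL hs hz rfl rfl rfl rfl).2.2.1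
  let _ : CommGroup ↥(fTor s z) := IsCyclic.commGroup
  exact congrArg Subtype.val (mul_comm (⟨a, ha⟩ : ↥(fTor s z)) ⟨b, hb⟩)

theorem fr_tor_cent {t : L} (ht : t ∈ fTor s z) (hts : t * s = s * t) : t = 1 := by
  obtain ⟨k, hk⟩ := fr_two hL hs hz ⟨t, Subgroup.mem_centralizer_singleton_iff.mpr hts⟩
  have h1 : orderOf t ∣ 2 ^ k :=
    orderOf_dvd_of_pow_eq_one (show t ^ 2 ^ k = 1 from congrArg Subtype.val hk)
  have h2 : orderOf t ∣ Nat.card (fTor s z) := by
    have := orderOf_dvd_natCard (⟨t, ht⟩ : ↥(fTor s z))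
    rwa [Subgroup.orderOf_mk] at this
  exact orderOf_eq_one_iff.mp
    (Nat.eq_one_of_dvd_coprimes ((Nat.coprime_two_left.mpr (fr_odd hL hs hz)).pow_left k) h1 h2)

theorem fr_tor_ne : fTor s z ≠ ⊥ := fun e => by
  obtain ⟨-, -, -, -, -, -, hcl, -, -, -, -, -⟩ := suz_borel hL hs hz rfl rfl rfl rfl
  have hb : centralizer ({s} : Set L) = ⊥ := by
    rw [← hcl]
    refine Subgroup.closure_eq_bot_iff.mpr ?_
    rintro x ⟨u, -, t, ht, rfl⟩
    obtain rfl : t = 1 := Subgroup.mem_bot.mp (e.le ht)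
    simp
  have h1 : s ∈ centralizer ({s} : Set L) := Subgroup.mem_centralizer_singleton_iff.mpr rfl
  rw [hb, Subgroup.mem_bot] at h1
  rw [h1, orderOf_one] at hs
  norm_num at hs

theorem fr_four : ∃ e, e * e = 1 ∧ e * s = s * e ∧ e ≠ 1 ∧ e ≠ s := by
  obtain ⟨⟨t, ht⟩, ht1⟩ : ∃ t : ↥(fTor s z), t ≠ 1 := by
    haveI := (Subgroup.nontrivial_iff_ne_bot _).mpr (fr_tor_ne hL hs hz)
    exact exists_ne 1
  have hs2 : s * s = 1 := by rw [← pow_two, ← hs, pow_orderOf_eq_one]
  refine ⟨t * s * t⁻¹, ?_, ?_, fun e => ?_, fun e => ht1 (Subtype.ext ?_)⟩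
  · calc t * s * t⁻¹ * (t * s * t⁻¹) = t * (s * s) * t⁻¹ := by group
      _ = 1 := by rw [hs2, mul_one, mul_inv_cancel]
  · exact Subgroup.mem_centralizer_singleton_iff.mp ((Subgroup.mem_normalizer_iff.mp (Subgroup.mem_inf.mp ht).1 s).mp
      (Subgroup.mem_centralizer_singleton_iff.mpr rfl))
  · rw [mul_inv_eq_one, mul_eq_left] at e
    rw [e, orderOf_one] at hs
    norm_num at hs
  · exact fr_tor_cent hL hs hz ht (mul_inv_eq_iff_eq_mul.mp e)

theorem fr_z_notin : z ∉ normalizer (centralizer ({s} : Set L) : Set L) := fun hn => by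
  have hs2 : s * s = 1 := by rw [← pow_two, ← hs, pow_orderOf_eq_one]
  have h1 : z * s * z⁻¹ ∈ centralizer ({s} : Set L) :=
    (Subgroup.mem_normalizer_iff.mp hn s).mp (Subgroup.mem_centralizer_singleton_iff.mpr rfl)
  have he : z * s * z⁻¹ * (z * s * z⁻¹) = 1 := by
    calc z * s * z⁻¹ * (z * s * z⁻¹) = z * (s * s) * z⁻¹ := by group
      _ = 1 := by rw [hs2, mul_one, mul_inv_cancel]
  have hne : z * s * z⁻¹ ≠ 1 := fun e => by
    rw [mul_inv_eq_one, mul_eq_left] at e
    rw [e, orderOf_one] at hs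
    norm_num at hs
  have heq := fr_cent_eq hL hs hz he (Subgroup.mem_centralizer_singleton_iff.mp h1) hne
  have htop := fr_sup hL hs hz
  rw [heq, sup_idem] at htop
  obtain ⟨k, hk⟩ := fr_two hL hs hz ⟨z, htop ▸ Subgroup.mem_top z⟩
  have h2 : orderOf z ∣ 2 ^ k := orderOf_dvd_of_pow_eq_one (show z ^ 2 ^ k = 1 from congrArg Subtype.val hk)
  rw [hz] at h2
  have := (Nat.prime_dvd_prime_iff_eq Nat.prime_five Nat.prime_two).mp (Nat.prime_five.dvd_of_dvd_pow h2)
  norm_num at this

/-- An automorphism fixing the two two-groups and the central involutions is trivial. -/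
theorem fr_rigid {φ : MulAut L} (h1 : φ s = s) (h2 : φ (z * s * z⁻¹) = z * s * z⁻¹)
    (hE : ∀ e, e * e = 1 → e * s = s * e → φ e = e) : φ = 1 := by
  obtain ⟨-, -, -, -, -, -, -, hexp, -, -, -, hrig⟩ := suz_borel hL hs hz rfl rfl rfl rfl
  have key : ∀ a : L, φ a = a → (centralizer ({a} : Set L)).map φ.toMonoidHom = centralizer ({a} : Set L) :=
    fun a ha => by rw [map_cent, ha]
  refine hrig φ (key s h1) (key _ h2) fun e he => hE e (hexp e he) ?_
  obtain ⟨c, -, rfl⟩ := he
  exact Subgroup.mem_centralizer_singleton_iff.mp c.2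

section Small

variable (hc : Nat.card (centralizer ({z} : Set L)) = 5)
include hc

theorem fr_five {a : L} (ha : a ∈ centralizer ({z} : Set L)) (h2 : a * a = 1) : a = 1 := torus_odd hL hz ha h2

theorem fr_inv_small (hsn : s ∈ normalizer (centralizer ({z} : Set L) : Set L)) (hsz : s * z * s⁻¹ = z⁻¹) {e : L}
    (hen : e ∈ normalizer (centralizer ({z} : Set L) : Set L)) (he : e * e = 1) (hes : e * s = s * e) :
    e = 1 ∨ e = s := by
  have hs2 : s * s = 1 := by rw [← pow_two, ← hs, pow_orderOf_eq_one]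
  by_cases hez : e * z = z * e
  · exact Or.inl (fr_five hL hs hz hc (Subgroup.mem_centralizer_singleton_iff.mpr hez) he)
  right
  have h1 := suz_invert hL hz he hen hez
  have h2 : e * s * z * (e * s)⁻¹ = z := by
    calc e * s * z * (e * s)⁻¹ = e * (s * z * s⁻¹) * e⁻¹ := by group
      _ = (e * z * e⁻¹)⁻¹ := by rw [hsz]; group
      _ = z := by rw [h1, inv_inv]
  have h3 := fr_five hL hs hz hc (a := e * s) (Subgroup.mem_centralizer_singleton_iff.mpr (mul_inv_eq_iff_eq_mul.mp h2))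
    (by calc e * s * (e * s) = e * (s * e) * s := by group
          _ = e * (e * s) * s := by rw [hes]
          _ = (e * e) * (s * s) := by group
          _ = 1 := by rw [he, hs2, one_mul])
  rw [mul_eq_one_iff_eq_inv] at h3
  rw [h3, inv_eq_of_mul_eq_one_right hs2]

theorem fr_tor_small {t : L} (ht : t ∈ fTor s z) (htn : t ∈ normalizer (centralizer ({z} : Set L) : Set L)) :
    t = 1 := by
  haveI : Fact (Nat.Prime 5) := ⟨Nat.prime_five⟩
  by_contra ht1
  have hodd : Odd (orderOf t) := by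
    have h2 := orderOf_dvd_natCard (⟨t, ht⟩ : ↥(fTor s z))
    rw [Subgroup.orderOf_mk] at h2
    exact (fr_odd hL hs hz).of_dvd_nat h2
  obtain ⟨i, hi⟩ := exists_pow_eq_self_of_coprime (x := t) (n := 4)
    ((Nat.coprime_two_left.mpr hodd).pow_left 2)
  have htz : t ∈ centralizer ({z} : Set L) := hi ▸ pow_mem (pow_four_mem hL hz htn) i
  haveI : Fact (Nat.card ↥(centralizer ({z} : Set L))).Prime := ⟨by rw [hc]; norm_num⟩
  have hle : centralizer ({z} : Set L) ≤ fTor s z := by
    rcases ((fTor s z).subgroupOf (centralizer ({z} : Set L))).eq_bot_or_eq_top_of_prime_card with e | e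
    · refine absurd ?_ ht1
      have h1 : (⟨t, htz⟩ : ↥(centralizer ({z} : Set L))) ∈ (fTor s z).subgroupOf (centralizer ({z} : Set L)) := ht
      rw [e, Subgroup.mem_bot] at h1
      exact congrArg Subtype.val h1
    · exact Subgroup.subgroupOf_eq_top.mp e
  exact fr_z_notin hL hs hz (hle (Subgroup.mem_centralizer_singleton_iff.mpr rfl)).1

end Small

end CfsgLib.SF23
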