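import Cfsg.Agent.Lib.SF23.FullEq
import Cfsg.Agent.Lib.SF23.SuzFrame

/-!
Coordinates in the values with components, frames, and the abelian groups they give.
-/

set_option autoImplicit false
set_option linter.unusedSectionVars false
set_option linter.style.haveILetI false

namespace CfsgLib.SF23

open Cfsg Subgroup CfsgLib.Signalizer CfsgLib.SolvSF
open scoped commutatorElement

universe u

theorem vis_equiv {H M : Type u} [Group H] [Finite H] [Group M] [Finite M] (f : H ≃* M) {β : MulAut H}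
    {β' : MulAut M} (hc : ∀ x, β' (f x) = f (β x)) {K : Subgroup H} (hv : Vis β K) :
    Vis β' (K.map f.toMonoidHom) := by
  have hcm : mp β' (K.map f.toMonoidHom) = (mp β K).map f.toMonoidHom := by
    rw [mp, mp, Subgroup.map_map, Subgroup.map_map]
    congr 1
    exact MonoidHom.ext hc
  rcases hv with hm | hns
  · exact Or.inl fun h => hm (Subgroup.map_injective f.injective (hcm ▸ h))
  · refine Or.inr fun hs => hns ?_
    haveI := hs
    refine Group.isSolvable_of_isSolvable_injective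
      (f := ({ toFun := fun w => ⟨f w, ⟨w, w.2.1, rfl⟩, by
                  show β' (f w) = f w
                  rw [hc, show β (w : H) = w from w.2.2]⟩,
               map_one' := Subtype.ext (map_one f),
               map_mul' := fun p q => Subtype.ext (map_mul f _ _) } :
        ↥(K ⊓ fix1 β) →* ↥(K.map f.toMonoidHom ⊓ fix1 β'))) ?_
    exact fun p q e' => Subtype.ext (f.injective (congrArg Subtype.val e'))

/-- An element of order five and an involution inverting it. -/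
theorem suz_pair {L : Type u} [Group L] [Finite L] (hL : Lie.IsoSuzuki L) :
    ∃ z σ : L, orderOf z = 5 ∧ σ * σ = 1 ∧ σ ≠ 1 ∧ σ * z * σ = z⁻¹ := by
  haveI : Fact (Nat.Prime 5) := ⟨Nat.prime_five⟩
  obtain ⟨z, hz⟩ := exists_prime_orderOf_dvd_card' 5 (suz_five_dvd hL)
  obtain ⟨-, -, -, -, t, ht, ht4, hfix⟩ := suz_torus hL hz
  have hσ : t ^ 2 * t ^ 2 = 1 := by rw [← pow_add, show 2 + 2 = 4 from rfl, ← ht4, pow_orderOf_eq_one]
  have hσ1 : t ^ 2 ≠ 1 := fun e => by
    have := Nat.le_of_dvd (by norm_num) (orderOf_dvd_of_pow_eq_one e)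
    omega
  have hne : t ^ 2 * z ≠ z * t ^ 2 := fun e => hσ1
    (hfix _ (mem_centralizer_singleton_iff.mpr e) ((Commute.refl t).pow_right 2).eq)
  refine ⟨z, t ^ 2, hz, hσ, hσ1, ?_⟩
  have := suz_invert hL hz hσ (pow_mem ht 2) hne
  rwa [inv_eq_of_mul_eq_one_right hσ] at this

/-- An element of order five and an inverting involution fixed by the stabiliser of a component. -/
theorem exists_inverted {H : Type u} [Group H] [Finite H] (hR : solvableRadical H = ⊥) (h3 : ¬ 3 ∣ Nat.card H)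
    {B : Type u} [Group B] [Finite B] (hB : ∀ b : B, b ^ 3 = 1) (hBc : ∀ a b : B, a * b = b * a)
    (α : B →* MulAut H) {K : Subgroup H} (hK : IsComponent K) :
    ∃ z σ : H, z ∈ K ∧ σ ∈ K ∧ orderOf z = 5 ∧ σ * σ = 1 ∧ σ ≠ 1 ∧ σ * z * σ = z⁻¹ ∧
      ∀ b, mp (α b) K = K → α b z = z ∧ α b σ = σ := by
  have hL := component_suzuki hR h3 hK
  have fin : ∀ (z σ : K), orderOf z = 5 → σ * σ = 1 → σ ≠ 1 → σ * z * σ = z⁻¹ →
      (∀ b, mp (α b) K = K → α b (z : H) = z ∧ α b (σ : H) = σ) →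
      ∃ z σ : H, z ∈ K ∧ σ ∈ K ∧ orderOf z = 5 ∧ σ * σ = 1 ∧ σ ≠ 1 ∧ σ * z * σ = z⁻¹ ∧
        ∀ b, mp (α b) K = K → α b z = z ∧ α b σ = σ := fun z σ h1 h2 h3' h4 h5 =>
    ⟨z, σ, z.2, σ.2, by rw [Subgroup.orderOf_coe, h1], congrArg Subtype.val h2,
      fun e => h3' (Subtype.ext e), congrArg Subtype.val h4, h5⟩
  by_cases htriv : ∀ b, mp (α b) K = K → b ∈ kerPts α K
  · obtain ⟨z, σ, h1, h2, h3', h4⟩ := suz_pair hL
    exact fin z σ h1 h2 h3' h4 fun b hb => ⟨htriv b hb z z.2, htriv b hb σ σ.2⟩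
  push Not at htriv
  obtain ⟨a, ha, han⟩ := htriv
  set ψ := res (α a) K ha with hψdef
  have hψ3 : ψ ^ 3 = 1 := MulEquiv.ext fun y => Subtype.ext (by
    show α a (α a (α a (y : H))) = y
    exact cube_orbit (by rw [← map_pow, hB, map_one]) _)
  have hψ1 : ψ ≠ 1 := fun e => han fun k hk => congrArg Subtype.val (DFunLike.congr_fun e (⟨k, hk⟩ : K))
  have hfix : ∀ x : K, ψ x = x → ∀ b, mp (α b) K = K → α b (x : H) = x := by
    intro x hx b hb
    obtain ⟨i, hi⟩ := stab_gen hR h3 hB hBc α hK ha han hb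
    have h1 := hi x x.2
    have hpow : ∀ i : ℕ, α (a ^ i) (x : H) = x := fun i => by
      induction i with
      | zero => rw [pow_zero, map_one, MulAut.one_apply]
      | succ i ih => rw [pow_succ, map_mul, MulAut.mul_apply, show α a (x : H) = x from congrArg Subtype.val hx, ih]
    rwa [map_mul, MulAut.mul_apply, hpow i] at h1
  set C := MonoidHom.eqLocus ψ.toMonoidHom (MonoidHom.id K) with hC
  have hCfix : ∀ x ∈ C, ∀ b, mp (α b) K = K → α b (x : H) = x := fun x hx => hfix x hx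
  rcases suz_fixed hL (orderOf_eq_prime (hp := ⟨Nat.prime_three⟩) hψ3 hψ1) with ⟨hs, -, hc, h5⟩ | hCs
  · haveI : Fact (Nat.Prime 5) := ⟨Nat.prime_five⟩
    haveI : Fact (Nat.Prime 2) := ⟨Nat.prime_two⟩
    obtain ⟨z, hz⟩ := exists_prime_orderOf_dvd_card' (G := C) 5 (hc ▸ by norm_num)
    obtain ⟨σ, hσ⟩ := exists_prime_orderOf_dvd_card' (G := C) 2 (hc ▸ by norm_num)
    have hz' : orderOf (z : K) = 5 := by rw [Subgroup.orderOf_coe, hz]
    have hσ2 : (σ : K) * σ = 1 := by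
      rw [← pow_two, ← hσ, ← Subgroup.orderOf_coe, pow_orderOf_eq_one]
    have hσ1 : (σ : K) ≠ 1 := fun e => by
      rw [← Subgroup.orderOf_coe, e, orderOf_one] at hσ
      norm_num at hσ
    have hne : (σ : K) * z ≠ z * σ := fun e => hσ1 (torus_odd hL hz' (mem_centralizer_singleton_iff.mpr e) hσ2)
    have h1 := suz_invert hL hz' hσ2 (suz_solvable_le hL hz' hs z.2 σ.2) hne
    rw [inv_eq_of_mul_eq_one_right hσ2] at h1
    exact fin z σ hz' hσ2 hσ1 h1 fun b hb => ⟨hCfix _ z.2 b hb, hCfix _ σ.2 b hb⟩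
  · obtain ⟨z, σ, h1, h2, h3', h4⟩ := suz_pair hCs
    exact fin z σ (by rw [Subgroup.orderOf_coe, h1]) (congrArg Subtype.val h2) (fun e => h3' (Subtype.ext e))
      (congrArg Subtype.val h4) fun b hb => ⟨hCfix _ z.2 b hb, hCfix _ σ.2 b hb⟩

variable {G : Type u} [Group G] [Finite G] {A : Subgroup G} {θ : G → Subgroup G}

/-- A point with components. -/
structure GP (A : Subgroup G) (θ : G → Subgroup G) (g : G) : Prop where
  pt : Pt A g
  comp : HasComp θ g

/-- The action on a value. -/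
abbrev al (h : Ctx 3 A θ) {g : G} (hg : Pt A g) : A →* MulAut ↥(θ g) := actOn (θ g) (theta_inv h.hθ hg)

/-- A frame: a fixed involution inverting a fixed element of order five. -/
structure Frame (h : Ctx 3 A θ) (s z : G) : Prop where
  s_mem : s ∈ dfix h
  z_mem : z ∈ dfix h
  s_sq : s * s = 1
  z_five : z ^ 5 = 1
  s_ne : s ≠ 1
  z_ne : z ≠ 1
  inv : s * z * s = z⁻¹

/-- The centralizer of the involution in a value. -/
def uS (θ : G → Subgroup G) (s g : G) : Subgroup G := θ g ⊓ centralizer ({s} : Set G)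

/-- Its closure. -/
def gam (A : Subgroup G) (θ : G → Subgroup G) (s : G) : Subgroup G := ⨆ a : {a : G // a ∈ A ∧ a ≠ 1}, uS θ s a

/-- The torus of a frame in a value. -/
def tg (θ : G → Subgroup G) (s z g : G) : Subgroup G :=
  θ g ⊓ normalizer (uS θ s g : Set G) ⊓ normalizer (uS θ (z * s * z⁻¹) g : Set G)

/-- The torus functor. -/
def tau (A : Subgroup G) (θ : G → Subgroup G) (s z g : G) : Subgroup G :=
  θ g ⊓ normalizer (gam A θ s : Set G) ⊓ normalizer (gam A θ (z * s * z⁻¹) : Set G)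

/-- Its closure. -/
def gamT (A : Subgroup G) (θ : G → Subgroup G) (s z : G) : Subgroup G :=
  ⨆ a : {a : G // a ∈ A ∧ a ≠ 1}, tau A θ s z a

/-- The group generated by the conjugates of the involution under the torus closure. -/
def mZ (A : Subgroup G) (θ : G → Subgroup G) (s z : G) : Subgroup G :=
  closure {x | ∃ t ∈ gamT A θ s z, x = t * s * t⁻¹}

theorem Frame.swap {h : Ctx 3 A θ} {s z : G} (F : Frame h s z) : Frame h (z * s * z⁻¹) z⁻¹ where
  s_mem := mul_mem (mul_mem F.z_mem F.s_mem) (inv_mem F.z_mem)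
  z_mem := inv_mem F.z_mem
  s_sq := by
    calc z * s * z⁻¹ * (z * s * z⁻¹) = z * (s * s) * z⁻¹ := by group
      _ = 1 := by rw [F.s_sq, mul_one, mul_inv_cancel]
  z_five := by rw [inv_pow, F.z_five, inv_one]
  s_ne e := F.s_ne (by rwa [mul_inv_eq_one, mul_eq_left] at e)
  z_ne e := F.z_ne (inv_eq_one.mp e)
  inv := by
    have e : s * z⁻¹ * s = z := by
      calc s * z⁻¹ * s = s * (s * z * s) * s := by rw [F.inv]
        _ = (s * s) * z * (s * s) := by group
        _ = z := by rw [F.s_sq, one_mul, mul_one]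
    calc z * s * z⁻¹ * z⁻¹ * (z * s * z⁻¹) = z * (s * z⁻¹ * s) * z⁻¹ := by group
      _ = z⁻¹⁻¹ := by rw [e, inv_inv, mul_inv_cancel_right]

section Data

variable (h : Ctx 3 A θ) (hcub : CubicTrivial.{u})
include h hcub

theorem rad_theta {g : G} (hg : GP A θ g) : solvableRadical ↥(θ g) = ⊥ := by
  have h1 : radS (θ g) = ⊥ := rv_eq_bot h hcub hg.pt hg.comp
  exact (Subgroup.map_eq_bot_iff_of_injective _ (θ g).subtype_injective).mp h1

theorem three_theta {g : G} (hg : GP A θ g) : ¬ 3 ∣ Nat.card ↥(θ g) := theta_not_dvd h.hθ hg.pt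

/-- The value is its soluble quotient. -/
noncomputable def barEquiv {g : G} (hg : GP A θ g) : ↥(θ g) ≃* Bar (θ g) :=
  MulEquiv.ofBijective (QuotientGroup.mk' _)
    ⟨fun a b e => Subtype.ext (bar_inj h hcub hg.pt hg.comp a.2 b.2 e), QuotientGroup.mk'_surjective _⟩

theorem barEquiv_comm {g : G} (hg : GP A θ g) (a : A) (x : ↥(θ g)) :
    ac h hg.pt a (barEquiv h hcub hg x) = barEquiv h hcub hg (al h hg.pt a x) :=
  quotAut_mk _ (al h hg.pt a) x

theorem mem_lay {g : G} (hg : GP A θ g) (x : ↥(θ g)) : x ∈ layer ↥(θ g) := by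
  have hx : (x : G) ∈ mX h g := (theta_eq_mX h hcub hg.pt hg.comp).le x.2
  have h1 : barEquiv h hcub hg x ∈ layer (Bar (θ g)) := toBar_mX h hcub hg.pt hx
  rw [← CfsgLib.map_layer_equiv (barEquiv h hcub hg)] at h1
  exact (Subgroup.mem_map_iff_mem (barEquiv h hcub hg).injective).mp h1

theorem orbit_theta {g : G} (hg : GP A θ g) {K L : Subgroup ↥(θ g)} (hK : IsComponent K) (hL : IsComponent L) :
    ∃ a : A, mp (al h hg.pt a) K = L := by
  set f := barEquiv h hcub hg
  obtain ⟨a, ha⟩ := single_orbit h hcub hg.pt (CfsgLib.isComponent_map_equiv f hK) (CfsgLib.isComponent_map_equiv f hL)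
  refine ⟨a, Subgroup.map_injective f.injective (Eq.trans ?_ ha)⟩
  rw [mp, mp, Subgroup.map_map, Subgroup.map_map]
  congr 1

theorem invis_theta {g b : G} (hg : GP A θ g) (hb : Pt A b) (hn : ¬ HasComp θ b) {K : Subgroup ↥(θ g)}
    (hK : IsComponent K) : ¬ Vis (al h hg.pt (el hb)) K := fun hv =>
  hn (vis_symm h hcub hg.pt hb (CfsgLib.isComponent_map_equiv (barEquiv h hcub hg) hK)
    (vis_equiv (barEquiv h hcub hg) (barEquiv_comm h hcub hg (el hb)) hv)).1

theorem exists_gp_plane {B : Subgroup G} (hB : B ≤ A) (hB3 : 3 < Nat.card B) : ∃ b, b ∈ B ∧ GP A θ b := by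
  by_contra hall
  push Not at hall
  obtain ⟨g, hg, L, hL⟩ := exists_hasComp h hcub
  refine isComponent_ne_bot hL (le_bot_iff.mp ?_)
  have h1 : mX h g = ⊥ := le_bot_iff.mp ((mX_eq_iSup_plane h hcub hB hB3 hg).trans (iSup_le fun b =>
    (mX_of_no_comp h hcub b.2.1 fun hG => hall b b.2.2 ⟨b.2.1, hG⟩).le))
  have h2 := (CfsgLib.le_layer hL).trans (img_mX h hcub hg).ge
  rwa [h1, img_bot] at h2

theorem theta_solvable {a : G} (ha : Pt A a) (hn : ¬ HasComp θ a) : Group.IsSolvable ↥(θ a) := by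
  have e : θ a = uF h a := by
    rw [← psF_eq_theta h hcub ha, psF, mX_of_no_comp h hcub ha hn, bot_sup_eq]
  rw [e]
  exact uF_solvable h ha

/-- A coordinate. -/
noncomputable def crd {g : G} (hg : GP A θ g) {K : Subgroup ↥(θ g)} (hK : IsComponent K) : ↥(θ g) →* ↥K where
  toFun x := ⟨prj K x, prj_mem K x⟩
  map_one' := Subtype.ext (prj_one (rad_theta h hcub hg) hK)
  map_mul' x y := Subtype.ext (prj_mul (rad_theta h hcub hg) hK (mem_lay h hcub hg x) (mem_lay h hcub hg y))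

theorem crd_val {g : G} (hg : GP A θ g) {K : Subgroup ↥(θ g)} (hK : IsComponent K) (x : ↥(θ g)) :
    (crd h hcub hg hK x : ↥(θ g)) = prj K x := rfl

theorem crd_ext {g : G} (hg : GP A θ g) {x y : ↥(θ g)}
    (e : ∀ (K : Subgroup ↥(θ g)) (hK : IsComponent K), crd h hcub hg hK x = crd h hcub hg hK y) : x = y :=
  layer_ext (rad_theta h hcub hg) (mem_lay h hcub hg x) (mem_lay h hcub hg y) fun K hK =>
    congrArg Subtype.val (e K hK)

theorem crd_self {g : G} (hg : GP A θ g) {K : Subgroup ↥(θ g)} (hK : IsComponent K) (k : K) :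
    crd h hcub hg hK k = k := Subtype.ext (prj_self (rad_theta h hcub hg) hK k.2)

theorem crd_other {g : G} (hg : GP A θ g) {K L : Subgroup ↥(θ g)} (hK : IsComponent K) (hL : IsComponent L)
    (hne : K ≠ L) (k : L) : crd h hcub hg hK k = 1 :=
  Subtype.ext (prj_other (rad_theta h hcub hg) hK hL hne k.2)

theorem crd_suz {g : G} (hg : GP A θ g) {K : Subgroup ↥(θ g)} (hK : IsComponent K) : Lie.IsoSuzuki ↥K :=
  component_suzuki (rad_theta h hcub hg) (three_theta h hcub hg) hK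

theorem crd_al {g : G} (hg : GP A θ g) (a : A) {K : Subgroup ↥(θ g)} (hK : IsComponent K) (x : ↥(θ g)) :
    (crd h hcub hg (mp_comp (e := al h hg.pt a) hK) (al h hg.pt a x) : ↥(θ g)) = al h hg.pt a (crd h hcub hg hK x) :=
  prj_map (rad_theta h hcub hg) (al h hg.pt a) hK (mem_lay h hcub hg x)

theorem crd_comm {g : G} (hg : GP A θ g) {x y : ↥(θ g)}
    (e : ∀ (K : Subgroup ↥(θ g)) (hK : IsComponent K),
      crd h hcub hg hK x * crd h hcub hg hK y = crd h hcub hg hK y * crd h hcub hg hK x) : x * y = y * x :=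
  crd_ext h hcub hg fun K hK => by rw [map_mul, map_mul, e K hK]

theorem dfix_crd_ne {g : G} (hg : GP A θ g) {d : G} (hd : d ∈ dfix h) (hd1 : d ≠ 1) {K : Subgroup ↥(θ g)}
    (hK : IsComponent K) : crd h hcub hg hK ⟨d, dfix_le_theta h hg.pt hd⟩ ≠ 1 := by
  intro e
  refine hd1 (congrArg Subtype.val (crd_ext h hcub hg (x := ⟨d, dfix_le_theta h hg.pt hd⟩) (y := 1) fun L hL => ?_))
  obtain ⟨a, rfl⟩ := orbit_theta h hcub hg hK hL
  have h1 := crd_al h hcub hg a hK ⟨d, dfix_le_theta h hg.pt hd⟩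
  rw [e, show al h hg.pt a ⟨d, dfix_le_theta h hg.pt hd⟩ = ⟨d, dfix_le_theta h hg.pt hd⟩ from
    Subtype.ext (by
      rw [actOn_val]
      exact conj_of_commute (Subgroup.mem_centralizer_iff.mp (dfix_le_cent h hd) a a.2))] at h1
  rw [map_one]
  refine Subtype.ext (h1.trans ?_)
  rw [OneMemClass.coe_one, map_one]
  rfl

theorem exists_frame : ∃ s z, Frame h s z := by
  obtain ⟨g, hg, hG⟩ := exists_hasComp h hcub
  have hg' : GP A θ g := ⟨hg, hG⟩
  obtain ⟨L, hL⟩ := hG
  have hR := rad_theta h hcub hg'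
  have h3 := three_theta h hcub hg'
  set f := barEquiv h hcub hg'
  have hK : IsComponent (L.map f.symm.toMonoidHom) := CfsgLib.isComponent_map_equiv f.symm hL
  set K := L.map f.symm.toMonoidHom
  obtain ⟨z, σ, hz, hσ, hz5, hσ2, hσ1, hinv, hfix⟩ :=
    exists_inverted hR h3 (act_cube h.hA) (act_comm h.hA) (al h hg) hK
  obtain ⟨wz, -, hwzF, hwzp, hwzo⟩ := exists_fixed_orbit hR h3 hK (al h hg) hz fun b hb => (hfix b hb).1
  obtain ⟨ws, -, hwsF, hwsp, hwso⟩ := exists_fixed_orbit hR h3 hK (al h hg) hσ fun b hb => (hfix b hb).2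
  have hd : ∀ {w : ↥(θ g)}, w ∈ fixedSub (al h hg) → (w : G) ∈ dfix h := fun {w} hw =>
    (dfix_eq h hg).le (Subgroup.mem_inf.mpr ⟨w.2, mem_fixedSub_actOn.mp hw⟩)
  have hval : ∀ (M : Subgroup ↥(θ g)) (hM : IsComponent M),
      (∃ b, (crd h hcub hg' hM wz : ↥(θ g)) = al h hg b z ∧ (crd h hcub hg' hM ws : ↥(θ g)) = al h hg b σ) ∨
        (crd h hcub hg' hM wz = 1 ∧ crd h hcub hg' hM ws = 1) := fun M hM => by
    by_cases hb : ∃ b, mp (al h hg b) K = M
    · obtain ⟨b, rfl⟩ := hb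
      exact Or.inl ⟨b, hwzp b, hwsp b⟩
    · push Not at hb
      exact Or.inr ⟨Subtype.ext (hwzo M hM hb), Subtype.ext (hwso M hM hb)⟩
  have e1 : ws * ws = 1 := crd_ext h hcub hg' fun M hM => by
    rw [map_mul, map_one]
    rcases hval M hM with ⟨b, -, e⟩ | ⟨-, e⟩
    · exact Subtype.ext (by rw [Subgroup.coe_mul, e, ← map_mul, hσ2, map_one]; rfl)
    · rw [e, one_mul]
  have e2 : wz ^ 5 = 1 := crd_ext h hcub hg' fun M hM => by
    rw [map_pow, map_one]
    rcases hval M hM with ⟨b, e, -⟩ | ⟨e, -⟩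
    · exact Subtype.ext (by rw [Subgroup.coe_pow, e, ← map_pow, ← hz5, pow_orderOf_eq_one, map_one]; rfl)
    · rw [e, one_pow]
  have e3 : ws * wz * ws = wz⁻¹ := crd_ext h hcub hg' fun M hM => by
    rw [map_mul, map_mul, map_inv]
    rcases hval M hM with ⟨b, ez, es⟩ | ⟨ez, es⟩
    · exact Subtype.ext (by rw [Subgroup.coe_mul, Subgroup.coe_mul, Subgroup.coe_inv, ez, es, ← map_mul, ← map_mul,
        hinv, map_inv])
    · rw [ez, es, one_mul, one_mul, inv_one]
  refine ⟨(ws : G), (wz : G), hd hwsF, hd hwzF, congrArg Subtype.val e1, congrArg Subtype.val e2, fun e => ?_,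
    fun e => ?_, congrArg Subtype.val e3⟩
  · have h1 := hwsp 1
    rw [map_one, mp_one, show ws = 1 from Subtype.ext e, prj_one hR hK, MulAut.one_apply] at h1
    exact hσ1 h1.symm
  · have h1 := hwzp 1
    rw [map_one, mp_one, show wz = 1 from Subtype.ext e, prj_one hR hK, MulAut.one_apply] at h1
    rw [← h1, orderOf_one] at hz5
    norm_num at hz5

variable {s z : G} (F : Frame h s z)
include F

/-- The coordinate of the involution. -/
noncomputable def sC {g : G} (hg : GP A θ g) {K : Subgroup ↥(θ g)} (hK : IsComponent K) : ↥K :=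
  crd h hcub hg hK ⟨s, dfix_le_theta h hg.pt F.s_mem⟩

/-- The coordinate of the element of order five. -/
noncomputable def zC {g : G} (hg : GP A θ g) {K : Subgroup ↥(θ g)} (hK : IsComponent K) : ↥K :=
  crd h hcub hg hK ⟨z, dfix_le_theta h hg.pt F.z_mem⟩

theorem sC_order {g : G} (hg : GP A θ g) {K : Subgroup ↥(θ g)} (hK : IsComponent K) :
    orderOf (sC h hcub F hg hK) = 2 := by
  haveI : Fact (Nat.Prime 2) := ⟨Nat.prime_two⟩
  refine orderOf_eq_prime ?_ (dfix_crd_ne h hcub hg F.s_mem F.s_ne hK)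
  unfold sC
  rw [← map_pow, show (⟨s, dfix_le_theta h hg.pt F.s_mem⟩ : ↥(θ g)) ^ 2 = 1 from
    Subtype.ext (by rw [Subgroup.coe_pow, pow_two]; exact F.s_sq), map_one]

theorem zC_order {g : G} (hg : GP A θ g) {K : Subgroup ↥(θ g)} (hK : IsComponent K) :
    orderOf (zC h hcub F hg hK) = 5 := by
  haveI : Fact (Nat.Prime 5) := ⟨Nat.prime_five⟩
  refine orderOf_eq_prime ?_ (dfix_crd_ne h hcub hg F.z_mem F.z_ne hK)
  unfold zC
  rw [← map_pow, show (⟨z, dfix_le_theta h hg.pt F.z_mem⟩ : ↥(θ g)) ^ 5 = 1 from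
    Subtype.ext (by rw [Subgroup.coe_pow]; exact F.z_five), map_one]

theorem crd_swap {g : G} (hg : GP A θ g) {K : Subgroup ↥(θ g)} (hK : IsComponent K) :
    crd h hcub hg hK ⟨z * s * z⁻¹, dfix_le_theta h hg.pt F.swap.s_mem⟩ =
      zC h hcub F hg hK * sC h hcub F hg hK * (zC h hcub F hg hK)⁻¹ := by
  unfold sC zC
  rw [← map_inv, ← map_mul, ← map_mul]
  rfl

theorem mem_uS_iff {g : G} (hg : GP A θ g) (x : ↥(θ g)) : (x : G) ∈ uS θ s g ↔
    ∀ (K : Subgroup ↥(θ g)) (hK : IsComponent K),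
      crd h hcub hg hK x * sC h hcub F hg hK = sC h hcub F hg hK * crd h hcub hg hK x := by
  constructor
  · intro hx K hK
    unfold sC
    rw [← map_mul, ← map_mul]
    exact congrArg _ (Subtype.ext (Subgroup.mem_centralizer_singleton_iff.mp (Subgroup.mem_inf.mp hx).2))
  · intro e
    exact Subgroup.mem_inf.mpr ⟨x.2, Subgroup.mem_centralizer_singleton_iff.mpr
      (congrArg Subtype.val (crd_comm h hcub hg (x := x) (y := ⟨s, dfix_le_theta h hg.pt F.s_mem⟩) e))⟩

theorem s_uS {g : G} (hg : Pt A g) : s ∈ uS θ s g :=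
  Subgroup.mem_inf.mpr ⟨dfix_le_theta h hg F.s_mem, Subgroup.mem_centralizer_singleton_iff.mpr rfl⟩

theorem uS_solvable {a : G} (ha : Pt A a) : Group.IsSolvable ↥(uS θ s a) := by
  by_cases hG : HasComp θ a
  swap
  · exact solvable_of_le inf_le_left (theta_solvable h hcub ha hG)
  have hg : GP A θ a := ⟨ha, hG⟩
  have hp : IsPGroup 2 ↥(uS θ s a) := fun x => by
    refine ⟨Nat.card ↥(θ a), Subtype.ext ?_⟩
    have hx : (⟨x, (Subgroup.mem_inf.mp x.2).1⟩ : ↥(θ a)) ^ 2 ^ Nat.card ↥(θ a) = 1 :=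
      crd_ext h hcub hg fun K hK => by
        rw [map_pow, map_one]
        set y := crd h hcub hg hK ⟨x, (Subgroup.mem_inf.mp x.2).1⟩
        have hy : y ∈ centralizer ({sC h hcub F hg hK} : Set ↥K) :=
          Subgroup.mem_centralizer_singleton_iff.mpr ((mem_uS_iff h hcub F hg _).mp x.2 K hK)
        obtain ⟨k, hk⟩ := fr_two (crd_suz h hcub hg hK) (sC_order h hcub F hg hK) (zC_order h hcub F hg hK) ⟨y, hy⟩
        haveI : Fact (Nat.Prime 2) := ⟨Nat.prime_two⟩
        obtain ⟨j, -, hj⟩ := (Nat.dvd_prime_pow Nat.prime_two).mp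
          (orderOf_dvd_of_pow_eq_one (show y ^ 2 ^ k = 1 from congrArg Subtype.val hk))
        have hjle : j ≤ Nat.card ↥(θ a) := by
          have h1 : orderOf y ≤ Nat.card ↥(θ a) :=
            (_root_.orderOf_le_card).trans (Subgroup.card_le_card_group K)
          rw [hj] at h1
          exact (Nat.lt_two_pow_self).le.trans h1
        exact orderOf_dvd_iff_pow_eq_one.mp (hj ▸ pow_dvd_pow 2 hjle)
    show (x : G) ^ 2 ^ Nat.card ↥(θ a) = 1
    simpa using congrArg Subtype.val hx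
  haveI : Fact (Nat.Prime 2) := ⟨Nat.prime_two⟩
  haveI := hp.isNilpotent
  infer_instance

theorem cent_A_normalizes {x : G} (hx : x ∈ centralizer (A : Set G)) :
    A ≤ normalizer (centralizer ({x} : Set G) : Set G) := fun a ha =>
  Subgroup.le_normalizer (Subgroup.mem_centralizer_singleton_iff.mpr (Subgroup.mem_centralizer_iff.mp hx a ha))

theorem uS_functor : IsSolvableSignalizerFunctor 3 A (uS θ s) :=
  ⟨⟨fun a ha h1 => inf_le_left.trans (theta_le_cent h.hθ ⟨ha, h1⟩),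
    fun a ha h1 hd => theta_not_dvd h.hθ ⟨ha, h1⟩ (hd.trans (Subgroup.card_dvd_of_le inf_le_left)),
    fun a ha h1 => inv_of_normalizer (inf_normalizes (theta_inv h.hθ ⟨ha, h1⟩)
      (cent_A_normalizes h hcub F (dfix_le_cent h F.s_mem))),
    fun a ha h1 y hy h2 => le_inf ((inf_le_inf_right _ inf_le_left).trans (balance h.hθ ⟨ha, h1⟩ ⟨hy, h2⟩))
      (inf_le_left.trans inf_le_right)⟩, fun a ha h1 => uS_solvable h hcub F ⟨ha, h1⟩⟩

theorem gam_spec : SolvSF.Mem 3 A (uS θ s) (gam A θ s) ∧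
    ∀ a, Pt A a → gam A θ s ⊓ centralizer ({a} : Set G) = uS θ s a := by
  obtain ⟨h1, h2⟩ := closure_spec h.hA h.hA3.ge (uS_functor h hcub F)
  exact ⟨h1, fun a ha => h2 a ha.1 ha.2⟩

theorem gam_inv : A ≤ normalizer (gam A θ s : Set G) := mem_normalizes (gam_spec h hcub F).1

theorem gam_cent : gam A θ s ≤ centralizer ({s} : Set G) := iSup_le fun _ => inf_le_right

theorem gam_plane {B : Subgroup G} (hB : B ≤ A) (hB3 : 3 < Nat.card B) :
    gam A θ s = ⨆ b : {b : G // Pt A b ∧ b ∈ B}, uS θ s b :=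
  le_antisymm (le_of_fix h.hA hB hB3 (gam_spec h hcub F).1.2.1 (gam_inv h hcub F) fun b hb hb1 =>
    ((gam_spec h hcub F).2 b ⟨hB hb, hb1⟩).le.trans
      (le_iSup (fun b : {b : G // Pt A b ∧ b ∈ B} => uS θ s b) ⟨b, ⟨hB hb, hb1⟩, hb⟩))
    (iSup_le fun b => le_iSup (fun a : {a : G // a ∈ A ∧ a ≠ 1} => uS θ s a) ⟨b, b.2.1⟩)

theorem tg_crd {g : G} (hg : GP A θ g) (x : ↥(θ g)) : (x : G) ∈ tg θ s z g ↔
    ∀ (K : Subgroup ↥(θ g)) (hK : IsComponent K),
      crd h hcub hg hK x ∈ fTor (sC h hcub F hg hK) (zC h hcub F hg hK) := by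
  have key : ∀ {s' z' : G} (F' : Frame h s' z'), (x : G) ∈ normalizer (uS θ s' g : Set G) ↔
      ∀ (K : Subgroup ↥(θ g)) (hK : IsComponent K), crd h hcub hg hK x ∈
        normalizer (centralizer ({sC h hcub F' hg hK} : Set ↥K) : Set ↥K) := by
    intro s' z' F'
    constructor
    · intro hx K hK
      refine Subgroup.mem_normalizer_fintype fun k hk => ?_
      have hku : ((k : ↥(θ g)) : G) ∈ uS θ s' g := (mem_uS_iff h hcub F' hg _).mpr fun L hL => by
        by_cases e : L = K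
        · subst e
          rw [crd_self h hcub hg hL]
          exact Subgroup.mem_centralizer_singleton_iff.mp hk
        · rw [crd_other h hcub hg hL hK e, one_mul, mul_one]
      have h1 := (mem_uS_iff h hcub F' hg (x * k * x⁻¹)).mp ((Subgroup.mem_normalizer_iff.mp hx _).mp hku) K hK
      rw [map_mul, map_mul, map_inv, crd_self h hcub hg hK] at h1
      exact Subgroup.mem_centralizer_singleton_iff.mpr h1
    · intro e
      refine Subgroup.mem_normalizer_fintype fun w hw => ?_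
      have hwθ : w ∈ θ g := (Subgroup.mem_inf.mp hw).1
      refine (mem_uS_iff h hcub F' hg (x * ⟨w, hwθ⟩ * x⁻¹)).mpr fun K hK => ?_
      rw [map_mul, map_mul, map_inv]
      exact Subgroup.mem_centralizer_singleton_iff.mp ((Subgroup.mem_normalizer_iff.mp (e K hK) _).mp
        (Subgroup.mem_centralizer_singleton_iff.mpr ((mem_uS_iff h hcub F' hg ⟨w, hwθ⟩).mp hw K hK)))
  have key' := key F.swap
  simp only [tg, Subgroup.mem_inf, key F, key', fTor]
  constructor
  · intro e K hK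
    exact ⟨e.1.2 K hK, by rw [← crd_swap h hcub F hg hK]; exact e.2 K hK⟩
  · intro e
    exact ⟨⟨x.2, fun K hK => (e K hK).1⟩, fun K hK => by
      have := (e K hK).2
      rwa [← crd_swap h hcub F hg hK] at this⟩

/-- Coordinates seen from a point without components. -/
theorem empty_coord {g b : G} (hg : GP A θ g) (hb : Pt A b) (hn : ¬ HasComp θ b) {K : Subgroup ↥(θ g)}
    (hK : IsComponent K) : Nat.card (centralizer ({zC h hcub F hg hK} : Set ↥K)) = 5 ∧
    ∀ {w : G} (hw : w ∈ θ g), w ∈ centralizer ({b} : Set G) → crd h hcub hg hK ⟨w, hw⟩ ∈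
      normalizer (centralizer ({zC h hcub F hg hK} : Set ↥K) : Set ↥K) := by
  have hR := rad_theta h hcub hg
  have h3 := three_theta h hcub hg
  set β := al h hg.pt (el hb)
  have hv := invis_theta h hcub hg hb hn hK
  obtain ⟨hfx, -⟩ := not_vis hR h3 hK hv
  have hfix : ∀ {w : G} (hw : w ∈ θ g), w ∈ centralizer ({b} : Set G) →
      β (crd h hcub hg hK ⟨w, hw⟩ : ↥(θ g)) = (crd h hcub hg hK ⟨w, hw⟩ : ↥(θ g)) := fun {w} hw hwb => by
    have h1 := prj_map hR β hK (mem_lay h hcub hg ⟨w, hw⟩)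
    rw [hfx, show β ⟨w, hw⟩ = ⟨w, hw⟩ from Subtype.ext (by
      rw [actOn_val]
      exact conj_of_commute (Subgroup.mem_centralizer_singleton_iff.mp hwb).symm)] at h1
    exact h1.symm
  set zk := zC h hcub F hg hK with hzk
  have ho : orderOf (zk : ↥(θ g)) = 5 := by rw [Subgroup.orderOf_coe]; exact zC_order h hcub F hg hK
  have hzf : β (zk : ↥(θ g)) = zk :=
    hfix (dfix_le_theta h hg.pt F.z_mem) (cent_A_le h hb.1 (dfix_le_cent h F.z_mem))
  obtain ⟨htor, -⟩ := invisible_data hR h3 (by rw [← map_pow, act_cube h.hA, map_one]) hK hv zk.2 ho hzf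
  refine ⟨?_, fun {w} hw hwb => (mem_nor_iff zk.2 (crd h hcub hg hK ⟨w, hw⟩).2).mp
      (invisible_nor hR h3 hK hv zk.2 ho hzf (Subgroup.mem_inf.mpr ⟨(crd h hcub hg hK ⟨w, hw⟩).2, hfix hw hwb⟩))⟩
  have he : (centralizer ({zk} : Set ↥K)).map K.subtype = tor K (zk : ↥(θ g)) := by
    ext y
    constructor
    · rintro ⟨w, hw, rfl⟩
      exact (mem_tor_iff zk.2 w.2).mpr hw
    · exact fun hy => ⟨⟨y, hy.1⟩, (mem_tor_iff zk.2 hy.1).mp hy, rfl⟩
  rw [← Subgroup.card_map_of_injective K.subtype_injective, he, htor, Nat.card_zpowers, ho]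

/-- Torus elements fixed by an invisible point are trivial. -/
theorem tg_empty {g b : G} (hg : GP A θ g) (hb : Pt A b) (hn : ¬ HasComp θ b) {x : G} (hx : x ∈ tg θ s z g)
    (hxb : x ∈ centralizer ({b} : Set G)) : x = 1 := by
  have hxθ : x ∈ θ g := hx.1.1
  refine congrArg Subtype.val (crd_ext h hcub hg (x := ⟨x, hxθ⟩) (y := 1) fun K hK => ?_)
  obtain ⟨hc, hnor⟩ := empty_coord h hcub F hg hb hn hK
  rw [map_one]
  exact fr_tor_small (crd_suz h hcub hg hK) (sC_order h hcub F hg hK) (zC_order h hcub F hg hK) hc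
    ((tg_crd h hcub F hg ⟨x, hxθ⟩).mp hx K hK) (hnor hxθ hxb)

theorem tg_normalizes {g : G} (hg : GP A θ g) : tg θ s z g ≤ normalizer (gam A θ s : Set G) := by
  have hinv : ∀ {d : G}, d ∈ dfix h → A ≤ normalizer (uS θ d g : Set G) := fun {d} hd =>
    inf_normalizes (theta_inv h.hθ hg.pt) (cent_A_normalizes h hcub F (dfix_le_cent h hd))
  refine le_of_planes_at h hg.pt (fun hd => theta_not_dvd h.hθ hg.pt
    (hd.trans (Subgroup.card_dvd_of_le (inf_le_left.trans inf_le_left))))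
    (inf_normalizes (inf_normalizes (theta_inv h.hθ hg.pt) ((hinv F.s_mem).trans Subgroup.le_normalizer))
      ((hinv F.swap.s_mem).trans Subgroup.le_normalizer))
    ((inf_le_left.trans inf_le_left).trans (theta_le_cent h.hθ hg.pt)) fun B hB hB3 _ x hx => ?_
  obtain ⟨hxt, hxB⟩ := Subgroup.mem_inf.mp hx
  have hxθ : x ∈ θ g := hxt.1.1
  have hes : x * s * x⁻¹ ∈ uS θ s g := (Subgroup.mem_normalizer_iff.mp hxt.1.2 s).mp (s_uS h hcub F hg.pt)
  rw [gam_plane h hcub F hB hB3]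
  refine Subgroup.mem_normalizer_iff_map_conj_eq.mpr ?_
  rw [Subgroup.map_iSup]
  refine iSup_congr fun ⟨b, hb, hbB⟩ => Subgroup.mem_normalizer_iff_map_conj_eq.mp ?_
  have hxb := Subgroup.centralizer_le (Set.singleton_subset_iff.mpr hbB) hxB
  by_cases hG : HasComp θ b
  swap
  · rw [tg_empty h hcub F hg hb hG hxt hxb]
    exact one_mem _
  have hb' : GP A θ b := ⟨hb, hG⟩
  have hxθb : x ∈ θ b := balance h.hθ hg.pt hb (Subgroup.mem_inf.mpr ⟨hxθ, hxb⟩)
  refine Subgroup.mem_normalizer_fintype fun w hw => ?_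
  have hwθ : w ∈ θ b := (Subgroup.mem_inf.mp hw).1
  refine (mem_uS_iff h hcub F hb' (⟨x, hxθb⟩ * ⟨w, hwθ⟩ * ⟨x, hxθb⟩⁻¹)).mpr fun K hK => ?_
  rw [map_mul, map_mul, map_inv]
  set xk := crd h hcub hb' hK ⟨x, hxθb⟩
  set wk := crd h hcub hb' hK ⟨w, hwθ⟩
  set sk := sC h hcub F hb' hK with hsk
  have hek : crd h hcub hb' hK ⟨x * s * x⁻¹, mul_mem (mul_mem hxθb (dfix_le_theta h hb F.s_mem)) (inv_mem hxθb)⟩ =
      xk * sk * xk⁻¹ := by
    rw [hsk]
    unfold sC
    rw [← map_inv, ← map_mul, ← map_mul]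
    rfl
  have hsk2 : sk * sk = 1 := by rw [← pow_two, ← sC_order h hcub F hb' hK, pow_orderOf_eq_one]
  have h1 : (xk * sk * xk⁻¹) * (xk * sk * xk⁻¹) = 1 := by
    calc (xk * sk * xk⁻¹) * (xk * sk * xk⁻¹) = xk * (sk * sk) * xk⁻¹ := by group
      _ = 1 := by rw [hsk2, mul_one, mul_inv_cancel]
  have h2 : (xk * sk * xk⁻¹) * sk = sk * (xk * sk * xk⁻¹) := by
    rw [← hek, hsk]
    unfold sC
    rw [← map_mul, ← map_mul]
    exact congrArg _ (Subtype.ext (Subgroup.mem_centralizer_singleton_iff.mp (Subgroup.mem_inf.mp hes).2))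
  have h3 : xk * sk * xk⁻¹ ≠ 1 := fun e => by
    rw [mul_inv_eq_one, mul_eq_left] at e
    have := sC_order h hcub F hb' hK
    rw [← hsk, e, orderOf_one] at this
    norm_num at this
  have heq := fr_cent_eq (crd_suz h hcub hb' hK) (sC_order h hcub F hb' hK) (zC_order h hcub F hb' hK) h1 h2 h3
  have hwc : xk * wk * xk⁻¹ ∈ centralizer ({xk * sk * xk⁻¹} : Set ↥K) := by
    refine Subgroup.mem_centralizer_singleton_iff.mpr ?_
    have hws : wk * sk = sk * wk := (mem_uS_iff h hcub F hb' ⟨w, hwθ⟩).mp hw K hK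
    calc xk * wk * xk⁻¹ * (xk * sk * xk⁻¹) = xk * (wk * sk) * xk⁻¹ := by group
      _ = xk * (sk * wk) * xk⁻¹ := by rw [hws]
      _ = xk * sk * xk⁻¹ * (xk * wk * xk⁻¹) := by group
  rw [heq] at hwc
  exact Subgroup.mem_centralizer_singleton_iff.mp hwc

theorem tau_eq {g : G} (hg : GP A θ g) : tau A θ s z g = tg θ s z g := by
  refine le_antisymm ?_ (le_inf (le_inf (inf_le_left.trans inf_le_left) (tg_normalizes h hcub F hg)) ?_)
  · intro x hx
    obtain ⟨⟨hxθ, hx1⟩, hx2⟩ := hx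
    have key : ∀ {s' z' : G}, Frame h s' z' → x ∈ normalizer (gam A θ s' : Set G) →
        x ∈ normalizer (uS θ s' g : Set G) := fun F' hn => Subgroup.mem_normalizer_fintype fun w hw => by
      rw [SetLike.mem_coe, ← (gam_spec h hcub F').2 g hg.pt] at hw ⊢
      refine Subgroup.mem_inf.mpr ⟨(Subgroup.mem_normalizer_iff.mp hn w).mp hw.1, ?_⟩
      have hxg := theta_le_cent h.hθ hg.pt hxθ
      exact mul_mem (mul_mem hxg hw.2) (inv_mem hxg)
    exact ⟨⟨hxθ, key F hx1⟩, key F.swap hx2⟩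
  · refine le_trans (le_of_eq ?_) (tg_normalizes h hcub F.swap hg)
    rw [tg, tg, show z⁻¹ * (z * s * z⁻¹) * z⁻¹⁻¹ = s by group, inf_right_comm]

theorem tau_comm {g : G} (hg : GP A θ g) {x y : G} (hx : x ∈ tau A θ s z g) (hy : y ∈ tau A θ s z g) :
    x * y = y * x := by
  have hxθ : x ∈ θ g := hx.1.1
  have hyθ : y ∈ θ g := hy.1.1
  rw [tau_eq h hcub F hg] at hx hy
  exact congrArg Subtype.val (crd_comm h hcub hg (x := ⟨x, hxθ⟩) (y := ⟨y, hyθ⟩) fun K hK =>
    fr_comm (crd_suz h hcub hg hK) (sC_order h hcub F hg hK) (zC_order h hcub F hg hK)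
      ((tg_crd h hcub F hg ⟨x, hxθ⟩).mp hx K hK) ((tg_crd h hcub F hg ⟨y, hyθ⟩).mp hy K hK))

theorem tau_inv {a : G} (ha : Pt A a) : A ≤ normalizer (tau A θ s z a : Set G) :=
  inf_normalizes (inf_normalizes (theta_inv h.hθ ha) ((gam_inv h hcub F).trans Subgroup.le_normalizer))
    ((gam_inv h hcub F.swap).trans Subgroup.le_normalizer)

theorem tau_functor : IsSolvableSignalizerFunctor 3 A (tau A θ s z) := by
  refine ⟨⟨fun a ha h1 => (inf_le_left.trans inf_le_left).trans (theta_le_cent h.hθ ⟨ha, h1⟩),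
    fun a ha h1 hd => theta_not_dvd h.hθ ⟨ha, h1⟩
      (hd.trans (Subgroup.card_dvd_of_le (inf_le_left.trans inf_le_left))),
    fun a ha h1 => inv_of_normalizer (tau_inv h hcub F ⟨ha, h1⟩),
    fun a ha h1 y hy h2 => le_inf (le_inf ((inf_le_inf_right _ (inf_le_left.trans inf_le_left)).trans
      (balance h.hθ ⟨ha, h1⟩ ⟨hy, h2⟩)) (inf_le_left.trans (inf_le_left.trans inf_le_right)))
      (inf_le_left.trans inf_le_right)⟩, fun a ha h1 => ?_⟩
  by_cases hG : HasComp θ a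
  · exact Group.isSolvable_of_comm fun x y => Subtype.ext (tau_comm h hcub F ⟨⟨ha, h1⟩, hG⟩ x.2 y.2)
  · exact solvable_of_le (inf_le_left.trans inf_le_left) (theta_solvable h hcub ⟨ha, h1⟩ hG)

theorem tau_empty {a : G} (ha : Pt A a) (hn : ¬ HasComp θ a) : tau A θ s z a = ⊥ := by
  refine le_bot_iff.mp (le_of_planes_at h ha
    (fun hd => theta_not_dvd h.hθ ha (hd.trans (Subgroup.card_dvd_of_le (inf_le_left.trans inf_le_left))))
    (tau_inv h hcub F ha) ((inf_le_left.trans inf_le_left).trans (theta_le_cent h.hθ ha))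
    fun B hB hB3 haB x hx => ?_)
  obtain ⟨hxt, hxB⟩ := Subgroup.mem_inf.mp hx
  obtain ⟨b, hbB, hb⟩ := exists_gp_plane h hcub hB hB3
  have hxb := (tau_functor h hcub F).1.2.2.2 a ha.1 ha.2 b hb.pt.1 hb.pt.2
    (Subgroup.mem_inf.mpr ⟨hxt, Subgroup.centralizer_le (Set.singleton_subset_iff.mpr hbB) hxB⟩)
  rw [tau_eq h hcub F hb] at hxb
  exact Subgroup.mem_bot.mpr (tg_empty h hcub F hb ha hn hxb
    (Subgroup.centralizer_le (Set.singleton_subset_iff.mpr haB) hxB))

theorem gamT_spec : SolvSF.Mem 3 A (tau A θ s z) (gamT A θ s z) ∧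
    ∀ a, Pt A a → gamT A θ s z ⊓ centralizer ({a} : Set G) = tau A θ s z a := by
  obtain ⟨h1, h2⟩ := closure_spec h.hA h.hA3.ge (tau_functor h hcub F)
  exact ⟨h1, fun a ha => h2 a ha.1 ha.2⟩

theorem gamT_inv : A ≤ normalizer (gamT A θ s z : Set G) := mem_normalizes (gamT_spec h hcub F).1

theorem gamT_comm {x y : G} (hx : x ∈ gamT A θ s z) (hy : y ∈ gamT A θ s z) : x * y = y * x := by
  have hsp := gamT_spec h hcub F
  have hpl : ∀ B B' : Subgroup G, B ≤ A → 3 < Nat.card B → B' ≤ A → 3 < Nat.card B' →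
      gamT A θ s z ⊓ centralizer (B : Set G) ≤
        centralizer ((gamT A θ s z ⊓ centralizer (B' : Set G) : Subgroup G) : Set G) := by
    intro B B' hB hB3 hB' hB3'
    have hAc : Nat.card A = 27 := by rw [h.hA3]; norm_num
    obtain ⟨c, hc, hcB, hcB'⟩ : ∃ c, Pt A c ∧ c ∈ B ∧ c ∈ B' := by
      by_contra hall
      have hinj : Function.Injective (fun p : B × B' => (⟨(p.1 : G) * p.2, mul_mem (hB p.1.2) (hB' p.2.2)⟩ : A)) := by
        rintro ⟨a, b⟩ ⟨a', b'⟩ e
        have e1 : (a : G) * b = a' * b' := congrArg Subtype.val e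
        have e' : (a' : G)⁻¹ * a = (b' : G) * (b : G)⁻¹ := by
          rw [inv_mul_eq_iff_eq_mul, ← mul_assoc, ← e1, mul_inv_cancel_right]
        have h1 : (a' : G)⁻¹ * a = 1 := by
          by_contra hne
          exact hall ⟨_, ⟨hB (mul_mem (inv_mem a'.2) a.2), hne⟩, mul_mem (inv_mem a'.2) a.2,
            e' ▸ mul_mem b'.2 (inv_mem b.2)⟩
        rw [h1, eq_comm, mul_inv_eq_one] at e'
        exact Prod.ext (Subtype.ext (inv_mul_eq_one.mp h1).symm) (Subtype.ext e'.symm)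
      have h1 := Nat.card_le_card_of_injective _ hinj
      rw [Nat.card_prod, hAc] at h1
      have hcd : ∀ C : Subgroup G, C ≤ A → 3 < Nat.card C → 9 ≤ Nat.card C := fun C hC hC3 => by
        obtain ⟨k, -, hk⟩ := (Nat.dvd_prime_pow Nat.prime_three).mp (h.hA3 ▸ Subgroup.card_dvd_of_le hC)
        rw [hk] at hC3 ⊢
        rcases k with - | - | k
        · norm_num at hC3
        · norm_num at hC3
        · calc 9 = 3 ^ 2 := by norm_num
            _ ≤ _ := Nat.pow_le_pow_right (by norm_num) (by omega)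
      have := Nat.mul_le_mul (hcd B hB hB3) (hcd B' hB' hB3')
      omega
    intro v hv
    refine Subgroup.mem_centralizer_iff.mpr fun w hw => ?_
    have hv' := (hsp.2 c hc).le (Subgroup.mem_inf.mpr
      ⟨hv.1, Subgroup.centralizer_le (Set.singleton_subset_iff.mpr hcB) hv.2⟩)
    have hw' := (hsp.2 c hc).le (Subgroup.mem_inf.mpr
      ⟨hw.1, Subgroup.centralizer_le (Set.singleton_subset_iff.mpr hcB') hw.2⟩)
    by_cases hG : HasComp θ c
    · exact tau_comm h hcub F ⟨hc, hG⟩ hw' hv'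
    · rw [tau_empty h hcub F hc hG, Subgroup.mem_bot] at hv'
      rw [hv', one_mul, mul_one]
  have hle : gamT A θ s z ≤ centralizer (gamT A θ s z : Set G) :=
    le_of_planes h hsp.1.2.1 (gamT_inv h hcub F) fun B hB hB3 => Subgroup.le_centralizer_iff.mp
      (le_of_planes h hsp.1.2.1 (gamT_inv h hcub F) fun B' hB' hB3' =>
        Subgroup.le_centralizer_iff.mp (hpl B B' hB hB3 hB' hB3'))
  exact (Subgroup.mem_centralizer_iff.mp (hle hx) y hy).symm

theorem tg_le_gamT {g : G} (hg : GP A θ g) : tg θ s z g ≤ gamT A θ s z :=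
  (tau_eq h hcub F hg).ge.trans (le_iSup (fun a : {a : G // a ∈ A ∧ a ≠ 1} => tau A θ s z a) ⟨g, hg.pt⟩)

theorem gamT_normalizes : gamT A θ s z ≤ normalizer (gam A θ s : Set G) :=
  iSup_le fun _ => inf_le_left.trans inf_le_right

theorem conj_mem_gam {t : G} (ht : t ∈ gamT A θ s z) : t * s * t⁻¹ ∈ gam A θ s := by
  obtain ⟨g, hg, -⟩ := exists_hasComp h hcub
  exact (Subgroup.mem_normalizer_iff.mp (gamT_normalizes h hcub F ht) s).mp
    (((gam_spec h hcub F).2 g hg).ge.trans inf_le_left (s_uS h hcub F hg))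

theorem mZ_le : mZ A θ s z ≤ gam A θ s ⊓ centralizer (gam A θ s : Set G) := by
  refine (Subgroup.closure_le _).mpr ?_
  rintro _ ⟨t, ht, rfl⟩
  refine Subgroup.mem_inf.mpr ⟨conj_mem_gam h hcub F ht, Subgroup.mem_centralizer_iff.mpr fun w hw => ?_⟩
  have hw' := (Subgroup.mem_normalizer_iff''.mp (gamT_normalizes h hcub F ht) w).mp hw
  have e := Subgroup.mem_centralizer_singleton_iff.mp (gam_cent h hcub F hw')
  calc w * (t * s * t⁻¹) = t * ((t⁻¹ * w * t) * s) * t⁻¹ := by group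
    _ = t * (s * (t⁻¹ * w * t)) * t⁻¹ := by rw [e]
    _ = t * s * t⁻¹ * w := by group

theorem mZ_comm {a b : G} (ha : a ∈ mZ A θ s z) (hb : b ∈ mZ A θ s z) : a * b = b * a :=
  (Subgroup.mem_centralizer_iff.mp (mZ_le h hcub F ha).2 b (mZ_le h hcub F hb).1).symm

theorem mZ_sq {a : G} (ha : a ∈ mZ A θ s z) : a * a = 1 := by
  refine Subgroup.closure_induction (p := fun x _ => x * x = 1) ?_ (one_mul 1) ?_ ?_ ha
  · rintro _ ⟨t, -, rfl⟩
    calc t * s * t⁻¹ * (t * s * t⁻¹) = t * (s * s) * t⁻¹ := by group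
      _ = 1 := by rw [F.s_sq, mul_one, mul_inv_cancel]
  · intro x y hx hy ex ey
    have e := mZ_comm h hcub F hx hy
    calc x * y * (x * y) = x * (y * x) * y := by group
      _ = (x * x) * (y * y) := by rw [← e]; group
      _ = 1 := by rw [ex, ey, one_mul]
  · intro x _ ex
    rw [← mul_inv_rev, ex, inv_one]

theorem gamT_normalizes_mZ : gamT A θ s z ≤ normalizer (mZ A θ s z : Set G) := fun t ht =>
  Comp.mem_normalizer_of_maps fun v hv => by
    refine Subgroup.closure_induction (p := fun v _ => t * v * t⁻¹ ∈ mZ A θ s z) ?_ ?_ ?_ ?_ hv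
    · rintro _ ⟨w, hw, rfl⟩
      rw [show t * (w * s * w⁻¹) * t⁻¹ = (t * w) * s * (t * w)⁻¹ by group]
      exact Subgroup.subset_closure ⟨_, mul_mem ht hw, rfl⟩
    · simp [one_mem]
    · intro a b _ _ ha hb
      rw [show t * (a * b) * t⁻¹ = (t * a * t⁻¹) * (t * b * t⁻¹) by group]
      exact mul_mem ha hb
    · intro a _ ha
      rw [show t * a⁻¹ * t⁻¹ = (t * a * t⁻¹)⁻¹ by group]
      exact inv_mem ha

theorem mZ_inv : A ≤ normalizer (mZ A θ s z : Set G) := fun a ha =>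
  Comp.mem_normalizer_of_maps fun v hv => by
    refine Subgroup.closure_induction (p := fun v _ => a * v * a⁻¹ ∈ mZ A θ s z) ?_ ?_ ?_ ?_ hv
    · rintro _ ⟨w, hw, rfl⟩
      refine Subgroup.subset_closure ⟨a * w * a⁻¹, (Subgroup.mem_normalizer_iff.mp (gamT_inv h hcub F ha) w).mp hw, ?_⟩
      have e : a * s = s * a := Subgroup.mem_centralizer_iff.mp (dfix_le_cent h F.s_mem) a ha
      calc a * (w * s * w⁻¹) * a⁻¹ = a * w * (a⁻¹ * (a * s)) * w⁻¹ * a⁻¹ := by group
        _ = a * w * (a⁻¹ * (s * a)) * w⁻¹ * a⁻¹ := by rw [e]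
        _ = a * w * a⁻¹ * s * (a * w * a⁻¹)⁻¹ := by group
    · simp [one_mem]
    · intro p q _ _ hp hq
      rw [show a * (p * q) * a⁻¹ = (a * p * a⁻¹) * (a * q * a⁻¹) by group]
      exact mul_mem hp hq
    · intro p _ hp
      rw [show a * p⁻¹ * a⁻¹ = (a * p * a⁻¹)⁻¹ by group]
      exact inv_mem hp

theorem mZ_crd {g : G} (hg : GP A θ g) {m : G} (hm : m ∈ mZ A θ s z) (hmg : m ∈ centralizer ({g} : Set G)) :
    ∃ hmθ : m ∈ θ g, ∀ (K : Subgroup ↥(θ g)) (hK : IsComponent K),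
      crd h hcub hg hK ⟨m, hmθ⟩ * crd h hcub hg hK ⟨m, hmθ⟩ = 1 ∧
        crd h hcub hg hK ⟨m, hmθ⟩ * sC h hcub F hg hK = sC h hcub F hg hK * crd h hcub hg hK ⟨m, hmθ⟩ := by
  have hu := ((gam_spec h hcub F).2 g hg.pt).le (Subgroup.mem_inf.mpr ⟨(mZ_le h hcub F hm).1, hmg⟩)
  have hmθ : m ∈ θ g := (Subgroup.mem_inf.mp hu).1
  refine ⟨hmθ, fun K hK => ⟨?_, (mem_uS_iff h hcub F hg ⟨m, hmθ⟩).mp hu K hK⟩⟩
  rw [← map_mul, show (⟨m, hmθ⟩ : ↥(θ g)) * ⟨m, hmθ⟩ = 1 from Subtype.ext (mZ_sq h hcub F hm), map_one]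

theorem crd_mem_mZ {g : G} (hg : GP A θ g) {K : Subgroup ↥(θ g)} (hK : IsComponent K) {k : K} (hk : k * k = 1)
    (hks : k * sC h hcub F hg hK = sC h hcub F hg hK * k) : ((k : ↥(θ g)) : G) ∈ mZ A θ s z := by
  set sk := sC h hcub F hg hK with hsk
  have hS := crd_suz h hcub hg hK
  have hso := sC_order h hcub F hg hK
  have hzo := zC_order h hcub F hg hK
  have hsk2 : sk * sk = 1 := by rw [← pow_two, ← hso, pow_orderOf_eq_one]
  have key : ∀ k : K, k * k = 1 → k * sk = sk * k → sk * k ≠ 1 → ((k : ↥(θ g)) : G) ∈ mZ A θ s z := by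
    intro k hk hks hne
    obtain ⟨t, ht, et⟩ := fr_conj hS hso hzo (e := sk * k)
      (by calc sk * k * (sk * k) = sk * (k * sk) * k := by group
            _ = sk * (sk * k) * k := by rw [hks]
            _ = (sk * sk) * (k * k) := by group
            _ = 1 := by rw [hsk2, hk, one_mul])
      (by rw [mul_assoc, hks]) hne
    have htg : ((t : ↥(θ g)) : G) ∈ gamT A θ s z :=
      tg_le_gamT h hcub F hg ((tg_crd h hcub F hg t).mpr fun L hL => by
        by_cases e : L = K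
        · subst e
          rw [crd_self h hcub hg hL]
          exact ht
        · rw [crd_other h hcub hg hL hK e]
          exact one_mem _)
    have hs' : s ∈ mZ A θ s z := Subgroup.subset_closure ⟨1, one_mem _, by simp⟩
    have e : (k : ↥(θ g)) = ⟨s, dfix_le_theta h hg.pt F.s_mem⟩ *
        ((t : ↥(θ g)) * ⟨s, dfix_le_theta h hg.pt F.s_mem⟩ * (t : ↥(θ g))⁻¹) := crd_ext h hcub hg fun L hL => by
      rw [map_mul, map_mul, map_mul, map_inv]
      by_cases e : L = K
      · subst e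
        rw [crd_self h hcub hg hL, crd_self h hcub hg hL, show crd h hcub hg hL ⟨s, _⟩ = sk from rfl, et,
          ← mul_assoc, hsk2, one_mul]
      · rw [crd_other h hcub hg hL hK e, crd_other h hcub hg hL hK e, one_mul, inv_one, mul_one, ← map_mul,
          show (⟨s, dfix_le_theta h hg.pt F.s_mem⟩ : ↥(θ g)) * ⟨s, _⟩ = 1 from Subtype.ext F.s_sq, map_one]
    rw [e]
    exact mul_mem hs' (Subgroup.subset_closure ⟨_, htg, rfl⟩)
  by_cases hne : sk * k = 1
  · obtain ⟨e, he, hes, he1, hesk⟩ := fr_four hS hso hzo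
    have hes' : e * sk * (e * sk) = 1 := by
      calc e * sk * (e * sk) = e * (sk * e) * sk := by group
        _ = e * (e * sk) * sk := by rw [hes]
        _ = (e * e) * (sk * sk) := by group
        _ = 1 := by rw [he, hsk2, one_mul]
    have h1 := key e he hes fun e' => hesk (by
      rw [mul_eq_one_iff_eq_inv] at e'
      exact (inv_injective (e'.symm.trans (inv_eq_of_mul_eq_one_right hsk2).symm)))
    have h2 := key (e * sk) hes' (by rw [hes, mul_assoc, hes]) fun e' => he1 (by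
      rw [hes, ← mul_assoc, hsk2, one_mul] at e'
      exact e')
    have e3 : k = e * (e * sk) := by
      rw [← mul_assoc, he, one_mul, eq_inv_of_mul_eq_one_right hne, inv_eq_of_mul_eq_one_right hsk2]
    rw [e3]
    exact mul_mem h1 h2
  · exact key k hk hks hne

end Data

end CfsgLib.SF23
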