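import Cfsg.Agent.Lib.SF23.GlueRho

/-!
Values modulo the translates of a separating subgroup, and the elements they isolate.
-/

set_option autoImplicit false
set_option linter.unusedSectionVars false
set_option linter.style.haveILetI false

namespace CfsgLib.SF23

open Cfsg Subgroup CfsgLib.Signalizer CfsgLib.SolvSF

universe u

open Classical in
/-- An indicator. -/
noncomputable def ind (P : Prop) : ℤ := if P then 1 else 0

theorem ind_pos {P : Prop} (h : P) : ind P = 1 := if_pos h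

theorem ind_neg {P : Prop} (h : ¬ P) : ind P = 0 := if_neg h

theorem ind_eq_ite (P : Prop) [Decidable P] : ind P = if P then 1 else 0 := by
  by_cases h : P
  · rw [ind_pos h, if_pos h]
  · rw [ind_neg h, if_neg h]

theorem ind_congr {P Q : Prop} (h : P ↔ Q) : ind P = ind Q := by rw [propext h]

/-- The four lines through a point of a plane, counted against two parallels. -/
theorem line_count : ∀ v : ZMod 3 × ZMod 3,
    (if ∃ k : Fin 3, v = (k : ℕ) • ((0, 1) : ZMod 3 × ZMod 3) then (1 : ℤ) else 0) +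
    (if ∃ k : Fin 3, v = (k : ℕ) • ((1, 1) : ZMod 3 × ZMod 3) then (1 : ℤ) else 0) +
    (if ∃ k : Fin 3, v = (k : ℕ) • ((1, 2) : ZMod 3 × ZMod 3) then (1 : ℤ) else 0) -
    (if ∃ k : Fin 3, v + (0, 1) = (k : ℕ) • ((1, 0) : ZMod 3 × ZMod 3) then (1 : ℤ) else 0) -
    (if ∃ k : Fin 3, v + (0, 2) = (k : ℕ) • ((1, 0) : ZMod 3 × ZMod 3) then (1 : ℤ) else 0) =
      3 * (if v = 0 then 1 else 0) := by
  decide

theorem line_meet : ∀ k l : Fin 3, (k : ℕ) • ((1, 0) : ZMod 3 × ZMod 3) = (l : ℕ) • (0, 1) →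
    (k : ℕ) • ((1, 0) : ZMod 3 × ZMod 3) = 0 := by
  decide

section Plain

variable {G : Type u} [Group G]

/-- Congruence at a point. -/
def vl (N : Subgroup G) (y m a : G) : Prop := y⁻¹ * m * y * a ∈ N

/-- A translated copy. -/
def dl {L : Type u} [Group L] (x : G) (σ : L →* G) : L →* G := (MulAut.conj x).toMonoidHom.comp σ

theorem dl_apply {L : Type u} [Group L] (x : G) (σ : L →* G) (w : L) : dl x σ w = x * σ w * x⁻¹ := rfl

theorem dl_dl {L : Type u} [Group L] (a x : G) (σ : L →* G) (w : L) : a * dl x σ w * a⁻¹ = dl (a * x) σ w := by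
  rw [dl_apply, dl_apply]; group

/-- The isolating product. -/
def cx {L : Type u} [Group L] (g₂ : G) (σ₁ σ₂ σ₃ σ₄ : L →* G) (x : G) (w : L) : G :=
  dl x σ₂ w * dl x σ₃ w * dl x σ₄ w * dl (x * g₂) σ₁ w⁻¹ * dl (x * g₂ ^ 2) σ₁ w⁻¹

theorem cx_tr {L : Type u} [Group L] (g₂ : G) (σ₁ σ₂ σ₃ σ₄ : L →* G) (a x : G) (w : L) :
    a * cx g₂ σ₁ σ₂ σ₃ σ₄ x w * a⁻¹ = cx g₂ σ₁ σ₂ σ₃ σ₄ (a * x) w := by
  simp only [cx, dl_apply]; group

/-- The points of a plane. -/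
def pp (g₁ g₂ : G) (v : ZMod 3 × ZMod 3) : G := g₁ ^ v.1.val * g₂ ^ v.2.val

theorem pow_val_add {g : G} (h3 : g ^ 3 = 1) (a b : ZMod 3) : g ^ (a + b).val = g ^ a.val * g ^ b.val := by
  rw [ZMod.val_add, ← pow_add]
  exact (pow_eq_pow_mod _ h3).symm

theorem conj_zpow_comp (t m : G) (a b : ℤ) :
    t ^ a * (t ^ b * m * (t ^ b)⁻¹) * (t ^ a)⁻¹ = t ^ (a + b) * m * (t ^ (a + b))⁻¹ := by
  rw [zpow_add]; group

/-- A line through a point, as three points. -/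
theorem line_ind {g : G} (h3 : g ^ 3 = 1) (hg : g ≠ 1) (x y : G) :
    ind (y = x) + ind (y = x * g) + ind (y = x * g ^ 2) = ind (y⁻¹ * x ∈ zpowers g) := by
  have hg2 : g ^ 2 ≠ 1 := fun e => hg (by rw [pow_succ, e, one_mul] at h3; exact h3)
  by_cases e0 : y = x
  · subst e0
    rw [ind_pos rfl, ind_neg fun e => hg (mul_eq_left.mp e.symm), ind_neg fun e => hg2 (mul_eq_left.mp e.symm),
      ind_pos (by simp)]
    norm_num
  by_cases e1 : y = x * g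
  · subst e1
    rw [ind_neg e0, ind_pos rfl, ind_neg fun e => hg (by
        have e' := mul_left_cancel e
        rw [pow_two] at e'
        exact mul_eq_left.mp e'.symm), ind_pos (by simp)]
    norm_num
  by_cases e2 : y = x * g ^ 2
  · subst e2
    rw [ind_neg e0, ind_neg e1, ind_pos rfl, ind_pos (by
      rw [mul_inv_rev, inv_mul_cancel_right]
      exact inv_mem (pow_mem (mem_zpowers g) 2))]
    norm_num
  rw [ind_neg e0, ind_neg e1, ind_neg e2, ind_neg]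
  · norm_num
  intro hm
  have hm' : x⁻¹ * y ∈ zpowers g := by simpa using inv_mem hm
  have hf : IsOfFinOrder g := isOfFinOrder_iff_pow_eq_one.mpr ⟨3, by norm_num, h3⟩
  obtain ⟨n, hn⟩ := hf.mem_powers_iff_mem_zpowers.mpr hm'
  have hn' : g ^ (n % 3) = x⁻¹ * y := (pow_eq_pow_mod n h3).symm.trans hn
  have hy : y = x * g ^ (n % 3) := by rw [hn', mul_inv_cancel_left]
  have := Nat.mod_lt n (show 3 > 0 by norm_num)
  interval_cases hk : n % 3
  · exact e0 (by simpa using hy)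
  · exact e1 (by simpa using hy)
  · exact e2 hy

end Plain

variable {G : Type u} [Group G] [Finite G] {A : Subgroup G} {θ : G → Subgroup G}

section Data

variable (h : Ctx 3 A θ) (hcub : CubicTrivial.{u}) {s z : G} (F : Frame h s z)
include h hcub F

theorem mZ_conj {a m : G} (ha : a ∈ A) (hm : m ∈ mZ A θ s z) : a * m * a⁻¹ ∈ mZ A θ s z :=
  (Subgroup.mem_normalizer_iff.mp (mZ_inv h hcub F ha) m).mp hm

theorem mZ_conj' {a m : G} (ha : a ∈ A) (hm : m ∈ mZ A θ s z) : a⁻¹ * m * a ∈ mZ A θ s z :=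
  (Subgroup.mem_normalizer_iff''.mp (mZ_inv h hcub F ha) m).mp hm

theorem mZ_gamT {t m : G} (ht : t ∈ gamT A θ s z) (hm : m ∈ mZ A θ s z) : t * m * t⁻¹ ∈ mZ A θ s z :=
  (Subgroup.mem_normalizer_iff.mp (gamT_normalizes_mZ h hcub F ht) m).mp hm

theorem gamT_conj {a t : G} (ha : a ∈ A) (ht : t ∈ gamT A θ s z) : a * t * a⁻¹ ∈ gamT A θ s z :=
  (Subgroup.mem_normalizer_iff.mp (gamT_inv h hcub F ha) t).mp ht

theorem vl_mul {N : Subgroup G} {y m a m' b : G} (hy : y ∈ A) (hm : m' ∈ mZ A θ s z) (ha : a ∈ mZ A θ s z)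
    (h1 : vl N y m a) (h2 : vl N y m' b) : vl N y (m * m') (a * b) := by
  have e := mZ_comm h hcub F (mZ_conj' h hcub F hy hm) ha
  have h3 := mul_mem h1 h2
  rw [show y⁻¹ * m * y * a * (y⁻¹ * m' * y * b) = y⁻¹ * m * y * (a * (y⁻¹ * m' * y)) * b by group, ← e] at h3
  show y⁻¹ * (m * m') * y * (a * b) ∈ N
  rwa [show y⁻¹ * (m * m') * y * (a * b) = y⁻¹ * m * y * (y⁻¹ * m' * y * a) * b by group]

variable {N B R : Subgroup G} (D : Glue h s z N B R)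
include D

/-- Elements congruent to one at every point are trivial. -/
theorem mZ_sep {m : G} (hm : m ∈ mZ A θ s z) (hall : ∀ y ∈ R, y⁻¹ * m * y ∈ N) : m = 1 := by
  let W : Subgroup G := ⨅ a : A, tr (a : G) N
  have hW : ∀ {x : G}, x ∈ W ↔ ∀ a : A, x ∈ tr (a : G) N := fun {x} => Subgroup.mem_iInf
  have hmW : m ∈ W := hW.mpr fun a => by
    obtain ⟨r, hr, hra⟩ := D.cover a a.2
    rw [show (a : G) = r * (r⁻¹ * a) by group, ← tr_tr, tr_eq_iff.mpr hra]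
    exact mem_tr.mpr (hall r hr)
  have hWM : W ≤ mZ A θ s z := fun x hx => by
    have := hW.mp hx 1
    rw [OneMemClass.coe_one, tr_one] at this
    exact D.sep.le this
  have hWA : A ≤ normalizer (W : Set G) := fun b hb => Comp.mem_normalizer_of_maps fun x hx => hW.mpr fun a => by
    have := mem_tr.mp (hW.mp hx (⟨b, hb⟩⁻¹ * a))
    refine mem_tr.mpr ?_
    rw [Subgroup.coe_mul, Subgroup.coe_inv] at this
    rwa [show (a : G)⁻¹ * (b * x * b⁻¹) * a = (b⁻¹ * a)⁻¹ * x * (b⁻¹ * a) by group]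
  refine Subgroup.mem_bot.mp (le_of_fix h.hA (D.B_le.trans D.R_le) D.B_card
    (fun hd => (gam_spec h hcub F).1.2.1 (hd.trans (Subgroup.card_dvd_of_le
      ((hWM.trans (mZ_le h hcub F)).trans inf_le_left)))) hWA (fun b hb hb1 w hw => ?_) hmW)
  obtain ⟨hwW, hwb⟩ := Subgroup.mem_inf.mp hw
  obtain ⟨hg, hgn⟩ := glue_gp h hcub F D hb hb1
  obtain ⟨K, hK, hsp⟩ := exists_spec h hcub F D.sep hg
  obtain ⟨hwθ, -⟩ := mZ_crd h hcub F hg (hWM hwW) hwb
  refine Subgroup.mem_bot.mpr (congrArg Subtype.val (crd_ext h hcub hg (x := ⟨w, hwθ⟩) (y := 1) fun L hL => ?_))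
  rw [map_one]
  obtain ⟨a, rfl⟩ := orbit_theta h hcub hg hK hL
  have hsp' := (spec_tr h hcub F D.sep hg a hK).mpr hsp
  have hN' := sep_tr h hcub F D.sep a.2
  obtain ⟨k, hk, hkN, hke⟩ := coord_mod h hcub F hN' hg hL hsp' (hWM hwW) hwb
  rw [hke hwθ]
  exact spec_ker h hcub F hN' hg hL hsp' hk (by
    have := mul_mem (inv_mem (hW.mp hwW a)) hkN
    rwa [inv_mul_cancel_left] at this)

theorem vl_ext {m m' : G} (hm : m ∈ mZ A θ s z) (hm' : m' ∈ mZ A θ s z)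
    (e : ∀ y ∈ R, ∃ a ∈ mZ A θ s z, vl N y m a ∧ vl N y m' a) : m = m' := by
  have h1 : m * m' = 1 := mZ_sep h hcub F D (mul_mem hm hm') fun y hy => by
    obtain ⟨a, ha, e1, e2⟩ := e y hy
    have := cong_trans h hcub F ha e1 (cong_symm h hcub F (mZ_conj' h hcub F (D.R_le hy) hm') ha e2)
    rwa [show y⁻¹ * m * y * (y⁻¹ * m' * y) = y⁻¹ * (m * m') * y by group] at this
  rw [mul_eq_one_iff_eq_inv] at h1
  rw [h1, inv_eq_of_mul_eq_one_right (mZ_sq h hcub F hm')]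

variable {g₀ : G} (hg₀ : GP A θ g₀) {K₀ : Subgroup ↥(θ g₀)} (hK₀ : IsComponent K₀)
include hg₀ hK₀

omit D in
theorem fix_line {g w v : G} (hg : Pt A g) (hw : w ∈ zpowers g) (hv : v ∈ θ g) : w * v * w⁻¹ = v :=
  conj_of_commute (Subgroup.mem_centralizer_iff.mp (show v ∈ centralizer (zpowers g : Set G) by
    rw [Subgroup.zpowers_eq_closure, Subgroup.centralizer_closure]
    exact theta_le_cent h.hθ hg hv) w hw)

variable {g : G} (hg : Pt A g) {σ : ↥K₀ →* G} (hd : Dir h hcub F N R hg₀ hK₀ g σ)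
include hg hd

theorem dl_val {x y : G} (hx : x ∈ R) (hy : y ∈ R) {e : ↥K₀} (he : InE h hcub F hg₀ hK₀ e) :
    dl x σ e ∈ mZ A θ s z ∧
      vl N y (dl x σ e) (((e : ↥(θ g₀)) : G) ^ ind (y⁻¹ * x ∈ zpowers g)) := by
  obtain ⟨hm, hc⟩ := hd.congr e he
  refine ⟨mZ_conj h hcub F (D.R_le hx) hm, ?_⟩
  unfold vl
  rw [dl_apply, show y⁻¹ * (x * σ e * x⁻¹) * y = (y⁻¹ * x) * σ e * (y⁻¹ * x)⁻¹ by group]
  by_cases hw : y⁻¹ * x ∈ zpowers g
  · rw [ind_pos hw, zpow_one, fix_line h hcub F hg₀ hK₀ hg hw (hd.mem e)]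
    exact hc
  · rw [ind_neg hw, zpow_zero, mul_one]
    exact (hd.away _ (mul_mem (inv_mem hy) hx) hw).2 e he

theorem dl_gamT {x : G} (hx : x ∈ R) {t : ↥K₀} (ht : t ∈ fTor (sC h hcub F hg₀ hK₀) (zC h hcub F hg₀ hK₀)) :
    dl x σ t ∈ gamT A θ s z := gamT_conj h hcub F (D.R_le hx) (hd.torus t ht).1

theorem dl_tor {x y : G} (hx : x ∈ R) (hy : y ∈ R) {t : ↥K₀}
    (ht : t ∈ fTor (sC h hcub F hg₀ hK₀) (zC h hcub F hg₀ hK₀)) {m a : G} (hm : m ∈ mZ A θ s z)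
    (ha : vl N y m a) :
    vl N y (dl x σ t * m * (dl x σ t)⁻¹) ((((t : ↥(θ g₀)) : G) ^ ind (y⁻¹ * x ∈ zpowers g)) * a *
      (((t : ↥(θ g₀)) : G) ^ ind (y⁻¹ * x ∈ zpowers g))⁻¹) := by
  have ht0 := tor_mem_gamT h hcub F hg₀ hK₀ ht
  have hm0 := mZ_conj' h hcub F (D.R_le hy) hm
  unfold vl
  rw [dl_apply, show y⁻¹ * (x * σ t * x⁻¹ * m * (x * σ t * x⁻¹)⁻¹) * y =
    (y⁻¹ * x) * σ t * (y⁻¹ * x)⁻¹ * (y⁻¹ * m * y) * ((y⁻¹ * x) * σ t * (y⁻¹ * x)⁻¹)⁻¹ by group]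
  by_cases hw : y⁻¹ * x ∈ zpowers g
  · rw [ind_pos hw, zpow_one, fix_line h hcub F hg₀ hK₀ hg hw (hd.mem t)]
    refine cong_trans h hcub F (mZ_gamT h hcub F ht0 hm0) ((hd.torus t ht).2 _ hm0) ?_
    have h1 := (Subgroup.mem_normalizer_iff.mp (D.sep.norm ht0) _).mp ha
    rwa [show ((t : ↥(θ g₀)) : G) * (y⁻¹ * m * y * a) * ((t : ↥(θ g₀)) : G)⁻¹ =
      ((t : ↥(θ g₀)) : G) * (y⁻¹ * m * y) * ((t : ↥(θ g₀)) : G)⁻¹ *
        (((t : ↥(θ g₀)) : G) * a * ((t : ↥(θ g₀)) : G)⁻¹) by group] at h1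
  · rw [ind_neg hw, zpow_zero, one_mul, inv_one, mul_one]
    exact cong_trans h hcub F hm0 (hd.torus_away _ (mul_mem (inv_mem hy) hx) hw t ht _ hm0) ha

theorem dl_comm {x y : G} (hx : x ∈ R) (hy : y ∈ R) (hne : y⁻¹ * x ∉ zpowers g) (v w : ↥K₀) :
    dl x σ v * dl y σ w = dl y σ w * dl x σ v := by
  have e := (hd.away (x⁻¹ * y) (mul_mem (inv_mem hx) hy) fun e => hne (by simpa using inv_mem e)).1 v w
  simp only [dl_apply]
  calc x * σ v * x⁻¹ * (y * σ w * y⁻¹) = x * (σ v * (x⁻¹ * y * σ w * (x⁻¹ * y)⁻¹)) * x⁻¹ := by group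
    _ = x * (x⁻¹ * y * σ w * (x⁻¹ * y)⁻¹ * σ v) * x⁻¹ := by rw [e]
    _ = _ := by group

theorem dl_swap {x : G} (hx : x ∈ R) (w : ↥K₀) : z * s * dl x σ w * (z * s)⁻¹ =
    dl x σ (zC h hcub F hg₀ hK₀ * sC h hcub F hg₀ hK₀ * w * (zC h hcub F hg₀ hK₀ * sC h hcub F hg₀ hK₀)⁻¹) := by
  have e : x * (z * s) = z * s * x :=
    Subgroup.mem_centralizer_iff.mp (mul_mem (dfix_le_cent h F.z_mem) (dfix_le_cent h F.s_mem)) x (D.R_le hx)
  rw [dl_apply, dl_apply, ← hd.swap w,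
    show z * s * (x * σ w * x⁻¹) * (z * s)⁻¹ = (z * s * x) * σ w * (z * s * x)⁻¹ by group, ← e]
  group

end Data

end CfsgLib.SF23
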