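import Cfsg.Agent.Lib.SF23.GlueC

/-!
The isolated copies at different points commute.
-/

set_option autoImplicit false
set_option linter.unusedSectionVars false
set_option linter.style.haveILetI false

namespace CfsgLib.SF23

open Cfsg Subgroup CfsgLib.Signalizer CfsgLib.SolvSF

universe u

variable {G : Type u} [Group G] [Finite G] {A : Subgroup G} {θ : G → Subgroup G}

/-- Copies of the special component along the four lines of a plane. -/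
structure Cross (h : Ctx 3 A θ) (hcub : CubicTrivial.{u}) {s z : G} (F : Frame h s z) (N B R : Subgroup G) {g₁ : G}
    (hg₁ : GP A θ g₁) {K₁ : Subgroup ↥(θ g₁)} (hK₁ : IsComponent K₁) (g₂ : G)
    (σ₁ σ₂ σ₃ σ₄ : ↥K₁ →* G) : Prop where
  glue : Glue h s z N B R
  spec : Spec h hcub F N hg₁ hK₁
  mem₁ : g₁ ∈ B
  mem₂ : g₂ ∈ B
  indep : g₂ ∉ zpowers g₁
  d₁ : Dir h hcub F N R hg₁ hK₁ g₁ σ₁
  d₂ : Dir h hcub F N R hg₁ hK₁ g₂ σ₂
  d₃ : Dir h hcub F N R hg₁ hK₁ (g₁ * g₂) σ₃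
  d₄ : Dir h hcub F N R hg₁ hK₁ (g₁ * g₂ ^ 2) σ₄

section Plane

variable (h : Ctx 3 A θ) {g₁ g₂ : G} (h1 : g₁ ∈ A) (h2 : g₂ ∈ A) (hne : g₁ ≠ 1) (hind : g₂ ∉ zpowers g₁)
include h h1 h2 hne hind

theorem pp_add (v w : ZMod 3 × ZMod 3) : pp g₁ g₂ (v + w) = pp g₁ g₂ v * pp g₁ g₂ w := by
  have e : g₁ ^ w.1.val * g₂ ^ v.2.val = g₂ ^ v.2.val * g₁ ^ w.1.val := ea_comm h.hA (pow_mem h1 _) (pow_mem h2 _)
  simp only [pp, Prod.fst_add, Prod.snd_add, pow_val_add (h.hA.2 g₁ h1), pow_val_add (h.hA.2 g₂ h2)]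
  calc g₁ ^ v.1.val * g₁ ^ w.1.val * (g₂ ^ v.2.val * g₂ ^ w.2.val)
      = g₁ ^ v.1.val * (g₁ ^ w.1.val * g₂ ^ v.2.val) * g₂ ^ w.2.val := by group
    _ = g₁ ^ v.1.val * (g₂ ^ v.2.val * g₁ ^ w.1.val) * g₂ ^ w.2.val := by rw [e]
    _ = _ := by group

theorem pp_zero : pp g₁ g₂ 0 = 1 := by simp [pp]

theorem pp_nsmul (k : ℕ) (v : ZMod 3 × ZMod 3) : pp g₁ g₂ (k • v) = pp g₁ g₂ v ^ k := by
  induction k with
  | zero => rw [zero_nsmul, pp_zero h h1 h2 hne hind, pow_zero]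
  | succ k ih => rw [succ_nsmul, pp_add h h1 h2 hne hind, ih, pow_succ]

omit h2 in
theorem pp_eq_one {v : ZMod 3 × ZMod 3} (e : pp g₁ g₂ v = 1) (h2 : g₂ ∈ A) : v = 0 := by
  obtain ⟨i, j⟩ := v
  change g₁ ^ i.val * g₂ ^ j.val = 1 at e
  have hj : j = 0 := by
    by_contra hj
    have hm : g₂ ^ j.val ∈ zpowers g₁ := by
      rw [eq_inv_of_mul_eq_one_right e]
      exact inv_mem (pow_mem (mem_zpowers g₁) _)
    refine hind ?_
    have e2 : g₂ = (g₂ ^ j.val) ^ j.val := by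
      rw [← pow_mul, pow_eq_pow_mod _ (h.hA.2 g₂ h2), ← ZMod.val_mul,
        (show ∀ a : ZMod 3, a ≠ 0 → a * a = 1 by decide) j hj, ZMod.val_one, pow_one]
    rw [e2]
    exact pow_mem hm _
  subst hj
  rw [ZMod.val_zero, pow_zero, mul_one] at e
  have hi : i = 0 := by
    by_contra hi
    refine hne ?_
    have e2 : g₁ = (g₁ ^ i.val) ^ i.val := by
      rw [← pow_mul, pow_eq_pow_mod _ (h.hA.2 g₁ h1), ← ZMod.val_mul,
        (show ∀ a : ZMod 3, a ≠ 0 → a * a = 1 by decide) i hi, ZMod.val_one, pow_one]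
    rw [e2, e, one_pow]
  rw [hi]; rfl

theorem pp_inj {v w : ZMod 3 × ZMod 3} (e : pp g₁ g₂ v = pp g₁ g₂ w) : v = w := by
  have h' := pp_add h h1 h2 hne hind (v - w) w
  rw [sub_add_cancel, e, eq_comm, mul_eq_right] at h'
  exact sub_eq_zero.mp (pp_eq_one h h1 hne hind h' h2)

theorem pp_mem_line {v w : ZMod 3 × ZMod 3} :
    pp g₁ g₂ v ∈ zpowers (pp g₁ g₂ w) ↔ ∃ k : Fin 3, v = (k : ℕ) • w := by
  constructor
  · intro hm
    obtain ⟨n, hn⟩ := mem_powers_iff_mem_zpowers.mpr hm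
    refine ⟨⟨n % 3, Nat.mod_lt _ (by norm_num)⟩, pp_inj h h1 h2 hne hind ?_⟩
    rw [pp_nsmul h h1 h2 hne hind, ← hn]
    exact pow_eq_pow_mod n (h.hA.2 _ (mul_mem (pow_mem h1 _) (pow_mem h2 _)))
  · rintro ⟨k, rfl⟩
    rw [pp_nsmul h h1 h2 hne hind]
    exact pow_mem (mem_zpowers _) _

omit hne hind in
theorem pp_gens : pp g₁ g₂ (1, 0) = g₁ ∧ pp g₁ g₂ (0, 1) = g₂ ∧ pp g₁ g₂ (1, 1) = g₁ * g₂ ∧
    pp g₁ g₂ (1, 2) = g₁ * g₂ ^ 2 ∧ pp g₁ g₂ (0, 2) = g₂ ^ 2 := by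
  refine ⟨?_, ?_, ?_, ?_, ?_⟩
  · show g₁ ^ 1 * g₂ ^ 0 = g₁; simp
  · show g₁ ^ 0 * g₂ ^ 1 = g₂; simp
  · show g₁ ^ 1 * g₂ ^ 1 = g₁ * g₂; simp
  · show g₁ ^ 1 * g₂ ^ 2 = g₁ * g₂ ^ 2; simp
  · show g₁ ^ 0 * g₂ ^ 2 = g₂ ^ 2; simp

theorem lines_meet {v : G} (e1 : v ∈ zpowers g₁) (e2 : v ∈ zpowers g₂) : v = 1 := by
  obtain ⟨f1, f2, -, -, -⟩ := pp_gens h h1 h2
  obtain ⟨n, hn⟩ := mem_powers_iff_mem_zpowers.mpr e1
  obtain ⟨w, rfl⟩ : ∃ w, v = pp g₁ g₂ w := ⟨n • (1, 0), by rw [pp_nsmul h h1 h2 hne hind, f1]; exact hn.symm⟩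
  obtain ⟨k, hk⟩ := (pp_mem_line h h1 h2 hne hind (v := w) (w := (1, 0))).mp (by rw [f1]; exact e1)
  obtain ⟨l, hl⟩ := (pp_mem_line h h1 h2 hne hind (v := w) (w := (0, 1))).mp (by rw [f2]; exact e2)
  rw [hk, line_meet k l (hk.symm.trans hl), pp_zero h h1 h2 hne hind]

/-- The lines through a point, counted against two parallels. -/
theorem count_lines (v : G) :
    ind (v ∈ zpowers g₂) + ind (v ∈ zpowers (g₁ * g₂)) + ind (v ∈ zpowers (g₁ * g₂ ^ 2)) -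
      ind (v * g₂ ∈ zpowers g₁) - ind (v * g₂ ^ 2 ∈ zpowers g₁) = 3 * ind (v = 1) := by
  obtain ⟨f1, f2, f3, f4, f5⟩ := pp_gens h h1 h2
  have hline : ∀ {w u : G}, (∃ a, u = pp g₁ g₂ a) → w ∈ zpowers u → ∃ b, w = pp g₁ g₂ b := by
    rintro w _ ⟨a, rfl⟩ hw
    obtain ⟨n, hn⟩ := mem_powers_iff_mem_zpowers.mpr hw
    exact ⟨n • a, by rw [pp_nsmul h h1 h2 hne hind]; exact hn.symm⟩
  by_cases hv : ∃ w, v = pp g₁ g₂ w
  · obtain ⟨w, rfl⟩ := hv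
    have e0 : pp g₁ g₂ w = 1 ↔ w = 0 :=
      ⟨fun e => pp_eq_one h h1 hne hind e h2, fun e => by rw [e, pp_zero h h1 h2 hne hind]⟩
    have q2 := pp_mem_line h h1 h2 hne hind (v := w) (w := (0, 1))
    have q3 := pp_mem_line h h1 h2 hne hind (v := w) (w := (1, 1))
    have q4 := pp_mem_line h h1 h2 hne hind (v := w) (w := (1, 2))
    have q5 := pp_mem_line h h1 h2 hne hind (v := w + (0, 1)) (w := (1, 0))
    have q6 := pp_mem_line h h1 h2 hne hind (v := w + (0, 2)) (w := (1, 0))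
    rw [pp_add h h1 h2 hne hind, f1, f2] at q5
    rw [pp_add h h1 h2 hne hind, f1, f5] at q6
    rw [f2] at q2
    rw [f3] at q3
    rw [f4] at q4
    rw [ind_congr q2, ind_congr q3, ind_congr q4, ind_congr q5, ind_congr q6, ind_congr e0, ind_eq_ite,
      ind_eq_ite, ind_eq_ite, ind_eq_ite, ind_eq_ite, ind_eq_ite]
    exact line_count w
  · have hback : ∀ {u : G}, (∃ a, u = pp g₁ g₂ a) → v * u ∈ zpowers g₁ → False := by
      rintro _ ⟨a, rfl⟩ hm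
      obtain ⟨b, hb⟩ := hline ⟨_, f1.symm⟩ hm
      refine hv ⟨b - a, ?_⟩
      have := pp_add h h1 h2 hne hind (b - a) a
      rw [sub_add_cancel, ← hb] at this
      exact mul_right_cancel this
    rw [ind_neg fun e => hv (hline ⟨_, f2.symm⟩ e), ind_neg fun e => hv (hline ⟨_, f3.symm⟩ e),
      ind_neg fun e => hv (hline ⟨_, f4.symm⟩ e), ind_neg (hback ⟨_, f2.symm⟩), ind_neg (hback ⟨_, f5.symm⟩),
      ind_neg fun e => hv ⟨0, by rw [pp_zero h h1 h2 hne hind, e]⟩]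
    norm_num

end Plane

section Data

variable (h : Ctx 3 A θ) (hcub : CubicTrivial.{u}) {s z : G} (F : Frame h s z) {N B R : Subgroup G}
  {g₁ : G} {hg₁ : GP A θ g₁} {K₁ : Subgroup ↥(θ g₁)} {hK₁ : IsComponent K₁} {g₂ : G}
  {σ₁ σ₂ σ₃ σ₄ : ↥K₁ →* G}
  (X : Cross h hcub F N B R hg₁ hK₁ g₂ σ₁ σ₂ σ₃ σ₄)
include h hcub F X

local notation "cc" => cx g₂ σ₁ σ₂ σ₃ σ₄
local notation "s₀" => sC h hcub F hg₁ hK₁
local notation "z₀" => zC h hcub F hg₁ hK₁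
local notation "j₀" => zC h hcub F hg₁ hK₁ * sC h hcub F hg₁ hK₁

theorem cross_pts : (g₁ ∈ A ∧ g₂ ∈ A ∧ g₁ ∈ R ∧ g₂ ∈ R) ∧ Pt A g₁ ∧ Pt A g₂ ∧ Pt A (g₁ * g₂) ∧
    Pt A (g₁ * g₂ ^ 2) := by
  have r1 := X.glue.B_le X.mem₁
  have r2 := X.glue.B_le X.mem₂
  have a1 := X.glue.R_le r1
  have a2 := X.glue.R_le r2
  obtain ⟨-, -, f3, f4, -⟩ := pp_gens h (g₂ := g₂) a1 a2
  refine ⟨⟨a1, a2, r1, r2⟩, hg₁.pt, ⟨a2, fun e => X.indep (e ▸ one_mem _)⟩, ⟨mul_mem a1 a2, fun e => ?_⟩,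
    ⟨mul_mem a1 (pow_mem a2 2), fun e => ?_⟩⟩
  · exact absurd (pp_eq_one h a1 hg₁.pt.2 X.indep (f3.trans e) a2) (by decide)
  · exact absurd (pp_eq_one h a1 hg₁.pt.2 X.indep (f4.trans e) a2) (by decide)

theorem inE_mem {e : ↥K₁} (he : InE h hcub F hg₁ hK₁ e) : ((e : ↥(θ g₁)) : G) ∈ mZ A θ s z :=
  crd_mem_mZ h hcub F hg₁ hK₁ he.1 he.2

theorem inE_inv {e : ↥K₁} (he : InE h hcub F hg₁ hK₁ e) : InE h hcub F hg₁ hK₁ e⁻¹ := by
  rwa [inv_eq_of_mul_eq_one_right he.1]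

theorem count_at (x y : G) :
    ind (y⁻¹ * x ∈ zpowers g₂) + ind (y⁻¹ * x ∈ zpowers (g₁ * g₂)) + ind (y⁻¹ * x ∈ zpowers (g₁ * g₂ ^ 2)) -
      ind (y⁻¹ * (x * g₂) ∈ zpowers g₁) - ind (y⁻¹ * (x * g₂ ^ 2) ∈ zpowers g₁) = 3 * ind (y = x) := by
  obtain ⟨⟨a1, a2, -, -⟩, hp1, -, -, -⟩ := cross_pts h hcub F X
  rw [← mul_assoc, ← mul_assoc, count_lines h a1 a2 hp1.2 X.indep, ind_congr inv_mul_eq_one]

/-- The isolating product is supported at one point. -/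
theorem cx_val {x y : G} (hx : x ∈ R) (hy : y ∈ R) {e : ↥K₁} (he : InE h hcub F hg₁ hK₁ e) :
    cc x e ∈ mZ A θ s z ∧ vl N y (cc x e) (((e : ↥(θ g₁)) : G) ^ ind (y = x)) := by
  obtain ⟨⟨-, -, r1, r2⟩, hp1, hp2, hp3, hp4⟩ := cross_pts h hcub F X
  have D := X.glue
  have hy' := D.R_le hy
  have hx5 := mul_mem hx r2
  have hx6 := mul_mem hx (pow_mem r2 2)
  have hi := inE_inv h hcub F X he
  obtain ⟨m2, v2⟩ := dl_val h hcub F D hg₁ hK₁ hp2 X.d₂ hx hy he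
  obtain ⟨m3, v3⟩ := dl_val h hcub F D hg₁ hK₁ hp3 X.d₃ hx hy he
  obtain ⟨m4, v4⟩ := dl_val h hcub F D hg₁ hK₁ hp4 X.d₄ hx hy he
  obtain ⟨m5, v5⟩ := dl_val h hcub F D hg₁ hK₁ hp1 X.d₁ hx5 hy hi
  obtain ⟨m6, v6⟩ := dl_val h hcub F D hg₁ hK₁ hp1 X.d₁ hx6 hy hi
  have me := inE_mem h hcub F X he
  have mi := inE_mem h hcub F X hi
  refine ⟨mul_mem (mul_mem (mul_mem (mul_mem m2 m3) m4) m5) m6, ?_⟩
  have q2 := zpow_mem me (ind (y⁻¹ * x ∈ zpowers g₂))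
  have q3 := mul_mem q2 (zpow_mem me (ind (y⁻¹ * x ∈ zpowers (g₁ * g₂))))
  have q4 := mul_mem q3 (zpow_mem me (ind (y⁻¹ * x ∈ zpowers (g₁ * g₂ ^ 2))))
  have q5 := mul_mem q4 (zpow_mem mi (ind (y⁻¹ * (x * g₂) ∈ zpowers g₁)))
  have hv := vl_mul h hcub F hy' m6 q5 (vl_mul h hcub F hy' m5 q4 (vl_mul h hcub F hy' m4 q3
    (vl_mul h hcub F hy' m3 q2 v2 v3) v4) v5) v6
  simp only [Subgroup.coe_inv, inv_zpow', ← zpow_add] at hv
  rw [show ind (y⁻¹ * x ∈ zpowers g₂) + ind (y⁻¹ * x ∈ zpowers (g₁ * g₂)) +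
    ind (y⁻¹ * x ∈ zpowers (g₁ * g₂ ^ 2)) + -ind (y⁻¹ * (x * g₂) ∈ zpowers g₁) +
    -ind (y⁻¹ * (x * g₂ ^ 2) ∈ zpowers g₁) = 3 * ind (y = x) from count_at h hcub F X x y] at hv
  by_cases hxy : y = x
  · rw [ind_pos hxy] at hv ⊢
    have e3 : ((e : ↥(θ g₁)) : G) * ((e : ↥(θ g₁)) : G) = 1 := congrArg (fun w : ↥K₁ => ((w : ↥(θ g₁)) : G)) he.1
    rwa [mul_one, show (3 : ℤ) = 1 + 1 + 1 from rfl, zpow_add, zpow_add, zpow_one, e3, one_mul, ← zpow_one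
      ((e : ↥(θ g₁)) : G)] at hv
  · rw [ind_neg hxy] at hv ⊢
    rwa [mul_zero] at hv

theorem cx_gamT {x : G} (hx : x ∈ R) {t : ↥K₁} (ht : t ∈ fTor s₀ z₀) : cc x t ∈ gamT A θ s z := by
  obtain ⟨⟨-, -, -, r2⟩, hp1, hp2, hp3, hp4⟩ := cross_pts h hcub F X
  have D := X.glue
  exact mul_mem (mul_mem (mul_mem (mul_mem (dl_gamT h hcub F D hg₁ hK₁ hp2 X.d₂ hx ht)
    (dl_gamT h hcub F D hg₁ hK₁ hp3 X.d₃ hx ht)) (dl_gamT h hcub F D hg₁ hK₁ hp4 X.d₄ hx ht))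
    (dl_gamT h hcub F D hg₁ hK₁ hp1 X.d₁ (mul_mem hx r2) (inv_mem ht)))
    (dl_gamT h hcub F D hg₁ hK₁ hp1 X.d₁ (mul_mem hx (pow_mem r2 2)) (inv_mem ht))

theorem cx_tor {x y : G} (hx : x ∈ R) (hy : y ∈ R) {t : ↥K₁} (ht : t ∈ fTor s₀ z₀) {m a : G}
    (hm : m ∈ mZ A θ s z) (ha : vl N y m a) :
    vl N y (cc x t * m * (cc x t)⁻¹) ((((t : ↥(θ g₁)) : G) ^ (3 * ind (y = x))) * a *
      (((t : ↥(θ g₁)) : G) ^ (3 * ind (y = x)))⁻¹) := by
  obtain ⟨⟨-, -, -, r2⟩, hp1, hp2, hp3, hp4⟩ := cross_pts h hcub F X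
  have D := X.glue
  have ti := inv_mem ht
  have hx5 := mul_mem hx r2
  have hx6 := mul_mem hx (pow_mem r2 2)
  have v6 := dl_tor h hcub F D hg₁ hK₁ hp1 X.d₁ hx6 hy ti hm ha
  have m6 := mZ_gamT h hcub F (dl_gamT h hcub F D hg₁ hK₁ hp1 X.d₁ hx6 ti) hm
  have v5 := dl_tor h hcub F D hg₁ hK₁ hp1 X.d₁ hx5 hy ti m6 v6
  have m5 := mZ_gamT h hcub F (dl_gamT h hcub F D hg₁ hK₁ hp1 X.d₁ hx5 ti) m6
  have v4 := dl_tor h hcub F D hg₁ hK₁ hp4 X.d₄ hx hy ht m5 v5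
  have m4 := mZ_gamT h hcub F (dl_gamT h hcub F D hg₁ hK₁ hp4 X.d₄ hx ht) m5
  have v3 := dl_tor h hcub F D hg₁ hK₁ hp3 X.d₃ hx hy ht m4 v4
  have m3 := mZ_gamT h hcub F (dl_gamT h hcub F D hg₁ hK₁ hp3 X.d₃ hx ht) m4
  have v2 := dl_tor h hcub F D hg₁ hK₁ hp2 X.d₂ hx hy ht m3 v3
  simp only [Subgroup.coe_inv, inv_zpow', conj_zpow_comp] at v2
  rw [show cc x t * m * (cc x t)⁻¹ = dl x σ₂ t * (dl x σ₃ t * (dl x σ₄ t * (dl (x * g₂) σ₁ t⁻¹ *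
    (dl (x * g₂ ^ 2) σ₁ t⁻¹ * m * (dl (x * g₂ ^ 2) σ₁ t⁻¹)⁻¹) * (dl (x * g₂) σ₁ t⁻¹)⁻¹) * (dl x σ₄ t)⁻¹) *
    (dl x σ₃ t)⁻¹) * (dl x σ₂ t)⁻¹ by rw [cx]; group]
  have hc := count_at h hcub F X x y
  convert v2 using 4 <;> linarith

/-- The isolated torus fixes what is trivial at its point. -/
theorem cx_fix {x : G} (hx : x ∈ R) {t : ↥K₁} (ht : t ∈ fTor s₀ z₀) {m : G} (hm : m ∈ mZ A θ s z)
    (h0 : x⁻¹ * m * x ∈ N) : cc x t * m = m * cc x t := by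
  refine mul_inv_eq_iff_eq_mul.mp (vl_ext h hcub F X.glue (mZ_gamT h hcub F (cx_gamT h hcub F X hx ht) hm) hm
    fun y hy => ?_)
  by_cases hxy : y = x
  · have h1 : vl N y m 1 := by unfold vl; rw [hxy, mul_one]; exact h0
    have h2 := cx_tor h hcub F X hx hy ht hm h1
    rw [mul_one, mul_inv_cancel] at h2
    exact ⟨1, one_mem _, h2, h1⟩
  · have hm0 := mZ_conj' h hcub F (X.glue.R_le hy) hm
    have h1 : vl N y m (y⁻¹ * m * y) := by unfold vl; rw [mZ_sq h hcub F hm0]; exact one_mem _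
    have h2 := cx_tor h hcub F X hx hy ht hm h1
    rw [ind_neg hxy, mul_zero, zpow_zero, one_mul, inv_one, mul_one] at h2
    exact ⟨_, hm0, h2, h1⟩

theorem cx_mul {x : G} (hx : x ∈ R) {e e' : ↥K₁} (he : InE h hcub F hg₁ hK₁ e) (he' : InE h hcub F hg₁ hK₁ e') :
    cc x (e * e') = cc x e * cc x e' := by
  have hee := inE_mul h hcub F hg₁ hK₁ he he'
  refine vl_ext h hcub F X.glue (cx_val h hcub F X hx hx hee).1
    (mul_mem (cx_val h hcub F X hx hx he).1 (cx_val h hcub F X hx hx he').1) fun y hy => ?_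
  refine ⟨_, zpow_mem (inE_mem h hcub F X hee) _, (cx_val h hcub F X hx hy hee).2, ?_⟩
  have h2 := vl_mul h hcub F (X.glue.R_le hy) (cx_val h hcub F X hx hy he').1
    (zpow_mem (inE_mem h hcub F X he) _) (cx_val h hcub F X hx hy he).2 (cx_val h hcub F X hx hy he').2
  by_cases hxy : y = x
  · rw [ind_pos hxy] at h2 ⊢
    simpa using h2
  · rw [ind_neg hxy] at h2 ⊢
    simpa using h2

theorem inE_conj {t e : ↥K₁} (ht : t ∈ fTor s₀ z₀) (he : InE h hcub F hg₁ hK₁ e) :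
    InE h hcub F hg₁ hK₁ (t * e * t⁻¹) := by
  refine ⟨?_, Subgroup.mem_centralizer_singleton_iff.mp ((Subgroup.mem_normalizer_iff.mp
    (Subgroup.mem_inf.mp ht).1 _).mp (Subgroup.mem_centralizer_singleton_iff.mpr he.2))⟩
  calc t * e * t⁻¹ * (t * e * t⁻¹) = t * (e * e) * t⁻¹ := by group
    _ = 1 := by rw [he.1, mul_one, mul_inv_cancel]

/-- A group containing a line copy and normalised by the isolated torus contains the isolated involutions. -/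
theorem cx_span {g : G} (hg : Pt A g) {σ : ↥K₁ →* G} (hd : Dir h hcub F N R hg₁ hK₁ g σ) {x : G} (hx : x ∈ R)
    {W : Subgroup G} (h1 : ∀ e, InE h hcub F hg₁ hK₁ e → dl x σ e ∈ W) (h2 : ∀ t ∈ fTor s₀ z₀, cc x t ∈ W)
    {e : ↥K₁} (he : InE h hcub F hg₁ hK₁ e) : cc x e ∈ W := by
  have D := X.glue
  have hS := crd_suz h hcub hg₁ hK₁
  have ho := sC_order h hcub F hg₁ hK₁
  have hzo := zC_order h hcub F hg₁ hK₁
  have hs0 := sC_inE h hcub F hg₁ hK₁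
  have step : ∀ t ∈ fTor s₀ z₀, ∀ v, InE h hcub F hg₁ hK₁ v → cc x (v * (t ^ 3 * v * (t ^ 3)⁻¹)) ∈ W := by
    intro t ht v hv
    have hvt := inE_mul h hcub F hg₁ hK₁ hv (inE_conj h hcub F X (pow_mem ht 3) hv)
    have hC := cx_gamT h hcub F X hx ht
    have hm := (dl_val h hcub F D hg₁ hK₁ hg hd hx hx hv).1
    suffices e : cc x (v * (t ^ 3 * v * (t ^ 3)⁻¹)) = dl x σ v * (cc x t * dl x σ v * (cc x t)⁻¹) by
      rw [e]
      exact mul_mem (h1 v hv) (mul_mem (mul_mem (h2 t ht) (h1 v hv)) (inv_mem (h2 t ht)))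
    refine vl_ext h hcub F D (cx_val h hcub F X hx hx hvt).1 (mul_mem hm (mZ_gamT h hcub F hC hm)) fun y hy => ?_
    refine ⟨_, zpow_mem (inE_mem h hcub F X hvt) _, (cx_val h hcub F X hx hy hvt).2, ?_⟩
    obtain ⟨-, hv1⟩ := dl_val h hcub F D hg₁ hK₁ hg hd hx hy hv
    have hv2 := vl_mul h hcub F (D.R_le hy) (mZ_gamT h hcub F hC hm) (zpow_mem (inE_mem h hcub F X hv) _) hv1
      (cx_tor h hcub F X hx hy ht hm hv1)
    by_cases hxy : y = x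
    · rw [ind_pos hxy, ind_pos (by simp [hxy])] at hv2
      rw [ind_pos hxy, zpow_one]
      simpa [zpow_ofNat] using hv2
    · rw [ind_neg hxy, mul_zero, zpow_zero, one_mul, inv_one, mul_one, ← zpow_add] at hv2
      rw [ind_neg hxy, zpow_zero]
      have e3 : ((v : ↥(θ g₁)) : G) ^ (ind (y⁻¹ * x ∈ zpowers g) + ind (y⁻¹ * x ∈ zpowers g)) = 1 := by
        rw [zpow_add, ← (Commute.refl _).mul_zpow,
          show ((v : ↥(θ g₁)) : G) * ((v : ↥(θ g₁)) : G) = 1 from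
            congrArg (fun w : ↥K₁ => ((w : ↥(θ g₁)) : G)) hv.1, one_zpow]
      rwa [e3] at hv2
  have main : ∀ e, InE h hcub F hg₁ hK₁ e → e ≠ s₀ → cc x e ∈ W := by
    intro e he hne
    by_cases he1 : e = 1
    · rw [he1, show cc x 1 = 1 by simp [cx]]
      exact one_mem _
    have hse : s₀ * e ≠ 1 := fun e' => hne (by
      rw [eq_inv_of_mul_eq_one_right e', inv_eq_of_mul_eq_one_right hs0.1])
    obtain ⟨w, hw, ew⟩ := fr_conj hS ho hzo (inE_mul h hcub F hg₁ hK₁ hs0 he).1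
      (inE_mul h hcub F hg₁ hK₁ hs0 he).2 hse
    obtain ⟨i, hi⟩ := exists_pow_eq_self_of_coprime (x := w) (n := 3)
      ((Nat.prime_three.coprime_iff_not_dvd).mpr fun hd => three_theta h hcub hg₁
        (hd.trans ((orderOf_dvd_natCard w).trans (Subgroup.card_subgroup_dvd_card K₁))))
    have := step (w ^ i) (pow_mem hw i) s₀ hs0
    rwa [show (w ^ i) ^ 3 = w by rw [← pow_mul, mul_comm, pow_mul, hi], ew, ← mul_assoc, hs0.1, one_mul] at this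
  by_cases hes : e = s₀
  · obtain ⟨f, hf, hfs, hf1, hfne⟩ := fr_four hS ho hzo
    have hfE : InE h hcub F hg₁ hK₁ f := ⟨hf, hfs⟩
    have hfe := inE_mul h hcub F hg₁ hK₁ hfE hs0
    rw [hes, show s₀ = f * (f * s₀) by rw [← mul_assoc, hf, one_mul], cx_mul h hcub F X hx hfE hfe]
    exact mul_mem (main f hfE hfne) (main _ hfe fun e' => hf1 (mul_eq_right.mp e'))
  · exact main e he hes

omit X in
theorem swap_data : j₀ * j₀ = 1 ∧ j₀ * s₀ * j₀⁻¹ = z₀ * s₀ * z₀⁻¹ ∧ j₀ * (z₀ * s₀ * z₀⁻¹) * j₀⁻¹ = s₀ := by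
  have hinv : s₀ * z₀ * s₀ = z₀⁻¹ := by
    unfold sC zC
    rw [← map_mul, ← map_mul, ← map_inv]
    exact congrArg _ (Subtype.ext F.inv)
  have hj : j₀ * j₀ = 1 := by
    calc j₀ * j₀ = z₀ * (s₀ * z₀ * s₀) := by group
      _ = 1 := by rw [hinv, mul_inv_cancel]
  have e1 : j₀ * s₀ * j₀⁻¹ = z₀ * s₀ * z₀⁻¹ := by group
  refine ⟨hj, e1, ?_⟩
  rw [← e1, show j₀ * (j₀ * s₀ * j₀⁻¹) * j₀⁻¹ = (j₀ * j₀) * s₀ * (j₀ * j₀)⁻¹ by group, hj, one_mul, inv_one,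
    mul_one]

omit X in
theorem tor_swap {t : ↥K₁} (ht : t ∈ fTor s₀ z₀) : j₀ * t * j₀⁻¹ ∈ fTor s₀ z₀ := by
  obtain ⟨-, e1, e2⟩ := swap_data h hcub F (hg₁ := hg₁) (hK₁ := hK₁)
  obtain ⟨t1, t2⟩ := Subgroup.mem_inf.mp ht
  have k1 := (mem_norm_iff (MulAut.conj j₀)).mp t1
  have k2 := (mem_norm_iff (MulAut.conj j₀)).mp t2
  simp only [MulAut.conj_apply, e1, e2] at k1 k2
  exact Subgroup.mem_inf.mpr ⟨k2, k1⟩

omit X in
theorem swap_conj (v : ↥K₁) : j₀ * (j₀ * v * j₀⁻¹) * j₀⁻¹ = v := by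
  obtain ⟨hj, -, -⟩ := swap_data h hcub F (hg₁ := hg₁) (hK₁ := hK₁)
  rw [show j₀ * (j₀ * v * j₀⁻¹) * j₀⁻¹ = (j₀ * j₀) * v * (j₀ * j₀)⁻¹ by group, hj, one_mul, inv_one, mul_one]

theorem cx_swap {x : G} (hx : x ∈ R) (v : ↥K₁) : z * s * cc x v * (z * s)⁻¹ = cc x (j₀ * v * j₀⁻¹) := by
  obtain ⟨⟨-, -, -, r2⟩, hp1, hp2, hp3, hp4⟩ := cross_pts h hcub F X
  have D := X.glue
  rw [cx, cx, show (j₀ * v * j₀⁻¹)⁻¹ = j₀ * v⁻¹ * j₀⁻¹ by group,
    ← dl_swap h hcub F D hg₁ hK₁ hp2 X.d₂ hx v, ← dl_swap h hcub F D hg₁ hK₁ hp3 X.d₃ hx v,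
    ← dl_swap h hcub F D hg₁ hK₁ hp4 X.d₄ hx v, ← dl_swap h hcub F D hg₁ hK₁ hp1 X.d₁ (mul_mem hx r2) v⁻¹,
    ← dl_swap h hcub F D hg₁ hK₁ hp1 X.d₁ (mul_mem hx (pow_mem r2 2)) v⁻¹]
  group

/-- The involutions of the two frames. -/
def Gen (v : ↥K₁) : Prop := InE h hcub F hg₁ hK₁ v ∨ InE h hcub F hg₁ hK₁ (j₀ * v * j₀⁻¹)

theorem gen_top {W : Subgroup ↥K₁} (hW : ∀ v, Gen h hcub F (hg₁ := hg₁) (hK₁ := hK₁) v → v ∈ W) : W = ⊤ := by
  obtain ⟨-, e1, e2⟩ := swap_data h hcub F (hg₁ := hg₁) (hK₁ := hK₁)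
  refine suz_gen (crd_suz h hcub hg₁ hK₁) (sC_order h hcub F hg₁ hK₁) (zC_order h hcub F hg₁ hK₁)
    (fun e he hes => hW e (Or.inl ⟨he, hes⟩)) (hW _ (Or.inr ?_))
  rw [e2]
  exact sC_inE h hcub F hg₁ hK₁

/-- The isolated torus commutes with a line copy away from its point. -/
theorem tor_line {g : G} (hg : Pt A g) {σ : ↥K₁ →* G} (hd : Dir h hcub F N R hg₁ hK₁ g σ) {x y : G} (hx : x ∈ R)
    (hy : y ∈ R) (hne : y⁻¹ * x ∉ zpowers g) {t : ↥K₁} (ht : t ∈ fTor s₀ z₀) (v : ↥K₁) :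
    cc x t * dl y σ v = dl y σ v * cc x t := by
  have D := X.glue
  have key : ∀ {t : ↥K₁}, t ∈ fTor s₀ z₀ → ∀ {e}, InE h hcub F hg₁ hK₁ e →
      cc x t * dl y σ e = dl y σ e * cc x t := fun {t} ht {e} he => by
    obtain ⟨hm, hv⟩ := dl_val h hcub F D hg₁ hK₁ hg hd hy hx he
    rw [ind_neg fun e' => hne (by simpa using inv_mem e'), zpow_zero] at hv
    unfold vl at hv
    rw [mul_one] at hv
    exact cx_fix h hcub F X hx ht hm hv
  have htop := gen_top h hcub F X (W := (centralizer ({cc x t} : Set G)).comap (dl y σ)) fun w hw => by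
    refine Subgroup.mem_centralizer_singleton_iff.mpr ?_
    rcases hw with he | he
    · exact (key ht he).symm
    · have e := congrArg (fun q => z * s * q * (z * s)⁻¹) (key (tor_swap h hcub F ht) he)
      have hsplit : ∀ a b : G, z * s * (a * b) * (z * s)⁻¹ =
          z * s * a * (z * s)⁻¹ * (z * s * b * (z * s)⁻¹) := fun a b => by group
      simp only [hsplit, cx_swap h hcub F X hx, dl_swap h hcub F D hg₁ hK₁ hg hd hy,
        swap_conj h hcub F] at e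
      exact e.symm
  exact (Subgroup.mem_centralizer_singleton_iff.mp (htop.ge (Subgroup.mem_top v))).symm

/-- Isolated involutions of opposite frames at different points commute. -/
theorem cx_comm_cross {x y : G} (hx : x ∈ R) (hy : y ∈ R) (hxy : x ≠ y) {e e' : ↥K₁}
    (he : InE h hcub F hg₁ hK₁ e) (he' : InE h hcub F hg₁ hK₁ e') :
    cc x e * cc y (j₀ * e' * j₀⁻¹) = cc y (j₀ * e' * j₀⁻¹) * cc x e := by
  obtain ⟨⟨a1, a2, -, -⟩, hp1, hp2, -, -⟩ := cross_pts h hcub F X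
  have D := X.glue
  obtain ⟨g, σ, hg, hd, hne⟩ : ∃ (g : G) (σ : ↥K₁ →* G), Pt A g ∧ Dir h hcub F N R hg₁ hK₁ g σ ∧
      y⁻¹ * x ∉ zpowers g := by
    by_cases h1 : y⁻¹ * x ∈ zpowers g₁
    · exact ⟨g₂, σ₂, hp2, X.d₂, fun h2 =>
        hxy (inv_mul_eq_one.mp (lines_meet h a1 a2 hp1.2 X.indep h1 h2)).symm⟩
    · exact ⟨g₁, σ₁, hp1, X.d₁, h1⟩
  have hline : ∀ v, dl y σ v ∈ centralizer ({cc x e} : Set G) := fun v => by
    refine Subgroup.mem_centralizer_singleton_iff.mpr ?_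
    have := cx_span h hcub F X hg hd hx (W := centralizer ({dl y σ v} : Set G))
      (fun u _ => Subgroup.mem_centralizer_singleton_iff.mpr (dl_comm h hcub F D hg₁ hK₁ hg hd hx hy hne u v))
      (fun t ht => Subgroup.mem_centralizer_singleton_iff.mpr (tor_line h hcub F X hg hd hx hy hne ht v)) he
    exact (Subgroup.mem_centralizer_singleton_iff.mp this).symm
  have htor : ∀ t ∈ fTor s₀ z₀, cc y t ∈ centralizer ({cc x e} : Set G) := fun t ht => by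
    obtain ⟨hm, hv⟩ := cx_val h hcub F X hx hy he
    rw [ind_neg (Ne.symm hxy), zpow_zero] at hv
    unfold vl at hv
    rw [mul_one] at hv
    exact Subgroup.mem_centralizer_singleton_iff.mpr (cx_fix h hcub F X hy ht hm hv)
  have h' := cx_span h hcub F X hg hd hy
    (W := (centralizer ({cc x e} : Set G)).comap (MulAut.conj (z * s)).toMonoidHom)
    (fun u _ => Subgroup.mem_comap.mpr (by
      show z * s * dl y σ u * (z * s)⁻¹ ∈ _
      rw [dl_swap h hcub F D hg₁ hK₁ hg hd hy]; exact hline _))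
    (fun t ht => Subgroup.mem_comap.mpr (by
      show z * s * cc y t * (z * s)⁻¹ ∈ _
      rw [cx_swap h hcub F X hy]; exact htor _ (tor_swap h hcub F ht))) he'
  have h'' : z * s * cc y e' * (z * s)⁻¹ ∈ centralizer ({cc x e} : Set G) := h'
  rw [cx_swap h hcub F X hy] at h''
  exact (Subgroup.mem_centralizer_singleton_iff.mp h'').symm

theorem cx_comm {x y : G} (hx : x ∈ R) (hy : y ∈ R) (hxy : x ≠ y) {v w : ↥K₁}
    (hv : Gen h hcub F (hg₁ := hg₁) (hK₁ := hK₁) v) (hw : Gen h hcub F (hg₁ := hg₁) (hK₁ := hK₁) w) :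
    cc x v * cc y w = cc y w * cc x v := by
  rcases hv with hv | hv <;> rcases hw with hw | hw
  · exact mZ_comm h hcub F (cx_val h hcub F X hx hx hv).1 (cx_val h hcub F X hy hy hw).1
  · have := cx_comm_cross h hcub F X hx hy hxy hv hw
    rwa [swap_conj h hcub F] at this
  · have := cx_comm_cross h hcub F X hy hx (Ne.symm hxy) hw hv
    rw [swap_conj h hcub F] at this
    exact this.symm
  · have e := congrArg (fun q => z * s * q * (z * s)⁻¹)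
      (mZ_comm h hcub F (cx_val h hcub F X hx hx hv).1 (cx_val h hcub F X hy hy hw).1)
    have hsplit : ∀ a b : G, z * s * (a * b) * (z * s)⁻¹ =
        z * s * a * (z * s)⁻¹ * (z * s * b * (z * s)⁻¹) := fun a b => by group
    simp only [hsplit, cx_swap h hcub F X hx, cx_swap h hcub F X hy, swap_conj h hcub F] at e
    exact e

/-- The isolated copies along a line give the line copy. -/
theorem cx_line {g : G} (hg : Pt A g) (hgR : g ∈ R) {σ : ↥K₁ →* G} (hd : Dir h hcub F N R hg₁ hK₁ g σ) {x : G}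
    (hx : x ∈ R) {v : ↥K₁} (hv : Gen h hcub F (hg₁ := hg₁) (hK₁ := hK₁) v) :
    cc x v * cc (x * g) v * cc (x * g ^ 2) v = dl x σ v := by
  have D := X.glue
  have key : ∀ {e}, InE h hcub F hg₁ hK₁ e → cc x e * cc (x * g) e * cc (x * g ^ 2) e = dl x σ e := by
    intro e he
    have hx1 := mul_mem hx hgR
    have hx2 := mul_mem hx (pow_mem hgR 2)
    have me := inE_mem h hcub F X he
    refine vl_ext h hcub F D (mul_mem (mul_mem (cx_val h hcub F X hx hx he).1 (cx_val h hcub F X hx1 hx he).1)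
      (cx_val h hcub F X hx2 hx he).1) (dl_val h hcub F D hg₁ hK₁ hg hd hx hx he).1 fun y hy => ?_
    refine ⟨_, zpow_mem me _, ?_, (dl_val h hcub F D hg₁ hK₁ hg hd hx hy he).2⟩
    obtain ⟨m1, v1⟩ := cx_val h hcub F X hx1 hy he
    obtain ⟨m2, v2⟩ := cx_val h hcub F X hx2 hy he
    have hv0 := (cx_val h hcub F X hx hy he).2
    have := vl_mul h hcub F (D.R_le hy) m2 (mul_mem (zpow_mem me _) (zpow_mem me _))
      (vl_mul h hcub F (D.R_le hy) m1 (zpow_mem me _) hv0 v1) v2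
    rwa [← zpow_add, ← zpow_add, line_ind (h.hA.2 g hg.1) hg.2] at this
  rcases hv with he | he
  · exact key he
  · have e := congrArg (fun q => z * s * q * (z * s)⁻¹) (key he)
    have hsplit : ∀ a b : G, z * s * (a * b) * (z * s)⁻¹ =
        z * s * a * (z * s)⁻¹ * (z * s * b * (z * s)⁻¹) := fun a b => by group
    simp only [hsplit, cx_swap h hcub F X hx, cx_swap h hcub F X (mul_mem hx hgR),
      cx_swap h hcub F X (mul_mem hx (pow_mem hgR 2)), dl_swap h hcub F D hg₁ hK₁ hg hd hx,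
      swap_conj h hcub F] at e
    exact e

theorem cx_ne_one {x : G} (hx : x ∈ R) : cc x s₀ ≠ 1 := fun e => by
  obtain ⟨-, hv⟩ := cx_val h hcub F X hx hx (sC_inE h hcub F hg₁ hK₁)
  rw [e, ind_pos rfl, zpow_one] at hv
  unfold vl at hv
  rw [mul_one, inv_mul_cancel, one_mul] at hv
  exact X.spec hv

end Data

end CfsgLib.SF23
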