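import Cfsg.Agent.Lib.SF23.GlueCross
import Mathlib.GroupTheory.Transfer

/-!
The isolated copies are homomorphisms of the base component.
-/

set_option autoImplicit false
set_option linter.unusedSectionVars false
set_option linter.style.haveILetI false

namespace CfsgLib.SF23

open Cfsg Subgroup CfsgLib.Signalizer CfsgLib.SolvSF

universe u

theorem cube_of_five {M : Type u} [CommGroup M] {a p₁ p₂ q₁ q₂ r₁ r₂ : M} (e₁ : a * p₁ * p₂ = 1)
    (e₂ : a * q₁ * q₂ = 1) (e₃ : a * r₁ * r₂ = 1) (e₄ : p₁ * q₁ * r₂ = 1) (e₅ : p₂ * r₁ * q₂ = 1) :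
    a * a * a = 1 := by
  calc a * a * a = a * a * a * ((p₁ * q₁ * r₂) * (p₂ * r₁ * q₂)) := by rw [e₄, e₅, mul_one, mul_one]
    _ = (a * p₁ * p₂) * (a * q₁ * q₂) * (a * r₁ * r₂) := by ac_rfl
    _ = 1 := by rw [e₁, e₂, e₃, one_mul, one_mul]

theorem cube_of_five' {M : Type u} [Group M] {a p₁ p₂ q₁ q₂ r₁ r₂ : M} (S : Set M)
    (hS : ∀ v ∈ S, ∀ w ∈ S, v * w = w * v) (ha : a ∈ S) (hp₁ : p₁ ∈ S) (hp₂ : p₂ ∈ S) (hq₁ : q₁ ∈ S)
    (hq₂ : q₂ ∈ S) (hr₁ : r₁ ∈ S) (hr₂ : r₂ ∈ S) (e₁ : a * p₁ * p₂ = 1) (e₂ : a * q₁ * q₂ = 1)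
    (e₃ : a * r₁ * r₂ = 1) (e₄ : p₁ * q₁ * r₂ = 1) (e₅ : p₂ * r₁ * q₂ = 1) : a * a * a = 1 := by
  have hc : closure S ≤ centralizer (closure S : Set M) := (Subgroup.closure_le _).mpr fun p hp => by
    rw [Subgroup.centralizer_closure]
    exact Subgroup.mem_centralizer_iff.mpr fun q hq => hS q hq p hp
  letI : CommGroup ↥(closure S) := { (inferInstance : Group ↥(closure S)) with
    mul_comm := fun v w => Subtype.ext (Subgroup.mem_centralizer_iff.mp (hc w.2) v v.2) }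
  have mk : ∀ {v}, v ∈ S → v ∈ closure S := fun h => Subgroup.subset_closure h
  exact congrArg Subtype.val (cube_of_five (a := (⟨a, mk ha⟩ : ↥(closure S))) (p₁ := ⟨p₁, mk hp₁⟩)
    (p₂ := ⟨p₂, mk hp₂⟩) (q₁ := ⟨q₁, mk hq₁⟩) (q₂ := ⟨q₂, mk hq₂⟩) (r₁ := ⟨r₁, mk hr₁⟩) (r₂ := ⟨r₂, mk hr₂⟩)
    (Subtype.ext e₁) (Subtype.ext e₂) (Subtype.ext e₃) (Subtype.ext e₄) (Subtype.ext e₅))

theorem mul_three {M : Type u} [Group M] {a b c a' b' c' : M} (h1 : b * a' = a' * b) (h2 : c * a' = a' * c)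
    (h3 : c * b' = b' * c) : a * a' * (b * b') * (c * c') = a * b * c * (a' * b' * c') := by
  calc a * a' * (b * b') * (c * c') = a * (a' * b) * b' * c * c' := by group
    _ = a * b * a' * (b' * c) * c' := by rw [← h1]; group
    _ = a * b * (a' * c) * b' * c' := by rw [← h3]; group
    _ = _ := by rw [← h2]; group

variable {G : Type u} [Group G] [Finite G] {A : Subgroup G} {θ : G → Subgroup G}

section Data

variable (h : Ctx 3 A θ) (hcub : CubicTrivial.{u}) {s z : G} (F : Frame h s z) {N B R : Subgroup G}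
  {g₁ : G} {hg₁ : GP A θ g₁} {K₁ : Subgroup ↥(θ g₁)} {hK₁ : IsComponent K₁} {g₂ : G}
  {σ₁ σ₂ σ₃ σ₄ : ↥K₁ →* G}
  (X : Cross h hcub F N B R hg₁ hK₁ g₂ σ₁ σ₂ σ₃ σ₄)
include h hcub F X

local notation "cc" => cx g₂ σ₁ σ₂ σ₃ σ₄
local notation "genP" => Gen h hcub F (hg₁ := hg₁) (hK₁ := hK₁)

theorem cx_gen_sq {x : G} (hx : x ∈ R) {v : ↥K₁} (hv : genP v) : cc x v * cc x v = 1 := by
  rcases hv with he | he
  · exact mZ_sq h hcub F (cx_val h hcub F X hx hx he).1
  · have e := congrArg (fun q => z * s * q * (z * s)⁻¹) (mZ_sq h hcub F (cx_val h hcub F X hx hx he).1)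
    have hsplit : ∀ a b : G, z * s * (a * b) * (z * s)⁻¹ =
        z * s * a * (z * s)⁻¹ * (z * s * b * (z * s)⁻¹) := fun a b => by group
    simp only [hsplit, cx_swap h hcub F X hx, swap_conj h hcub F] at e
    simpa using e

theorem gen_sq {v : ↥K₁} (hv : genP v) : v * v = 1 := by
  rcases hv with he | he
  · exact he.1
  · have e := he.1
    set j := zC h hcub F hg₁ hK₁ * sC h hcub F hg₁ hK₁
    rw [show j * v * j⁻¹ * (j * v * j⁻¹) = j * (v * v) * j⁻¹ by group, mul_inv_eq_one, mul_eq_left] at e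
    exact e

set_option maxHeartbeats 800000 in
/-- The isolated copies extend to homomorphisms commuting at different points. -/
theorem exists_iota : ∃ ι : ↥R → (↥K₁ →* G), (∀ (x : ↥R) v, genP v → ι x v = cc (x : G) v) ∧
    ∀ x y : ↥R, x ≠ y → ∀ v w, ι x v * ι y w = ι y w * ι x v := by
  obtain ⟨⟨a1, a2, r1, r2⟩, hp1, hp2, hp3, hp4⟩ := cross_pts h hcub F X
  let S : Set ((↥R → G) × ↥K₁) := {p | ∃ v, genP v ∧ p = (fun y : ↥R => cc (y : G) v, v)}
  let J := closure S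
  let C : ↥R → Subgroup G := fun y => closure {m | ∃ v, genP v ∧ m = cc (y : G) v}
  have hC : ∀ x y : ↥R, x ≠ y → ∀ a ∈ C x, ∀ b ∈ C y, a * b = b * a := by
    intro x y hxy a ha b hb
    have : C x ≤ centralizer (C y : Set G) := (Subgroup.closure_le _).mpr fun m ⟨v, hv, em⟩ => by
      rw [Subgroup.centralizer_closure]
      refine Subgroup.mem_centralizer_iff.mpr fun m' ⟨w, hw, em'⟩ => ?_
      rw [em, em']
      exact (cx_comm h hcub F X x.2 y.2 (fun e => hxy (Subtype.ext e)) hv hw).symm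
    exact (Subgroup.mem_centralizer_iff.mp (this ha) b hb).symm
  have hmem : ∀ p ∈ J, ∀ y, p.1 y ∈ C y := fun p hp => by
    induction hp using Subgroup.closure_induction with
    | mem p hp =>
      obtain ⟨v, hv, rfl⟩ := hp
      exact fun y => Subgroup.subset_closure ⟨v, hv, rfl⟩
    | one => exact fun y => one_mem _
    | mul p q _ _ ihp ihq => exact fun y => mul_mem (ihp y) (ihq y)
    | inv p _ ih => exact fun y => inv_mem (ih y)
  have hline : ∀ (g : ↥R), Pt A (g : G) → ∀ (σ : ↥K₁ →* G), Dir h hcub F N R hg₁ hK₁ (g : G) σ →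
      ∀ p ∈ J, ∀ x : ↥R, p.1 x * p.1 (x * g) * p.1 (x * g ^ 2) = dl (x : G) σ p.2 := by
    intro g hg σ hd
    have h3 : (g : G) ^ 3 = 1 := h.hA.2 _ hg.1
    have hg2 : (g : G) ^ 2 ≠ 1 := fun e => hg.2 (by rw [pow_succ, e, one_mul] at h3; exact h3)
    have n1 : ∀ x : ↥R, x * g ≠ x := fun x e => hg.2 (congrArg Subtype.val (mul_eq_left.mp e))
    have n2 : ∀ x : ↥R, x * g ^ 2 ≠ x := fun x e => hg2 (by simpa using congrArg Subtype.val (mul_eq_left.mp e))
    have n3 : ∀ x : ↥R, x * g ^ 2 ≠ x * g := fun x e => hg.2 (by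
      have e' := congrArg Subtype.val (mul_left_cancel e)
      rw [SubmonoidClass.coe_pow, pow_two] at e'
      exact mul_eq_left.mp e')
    have hmul : ∀ p ∈ J, ∀ q ∈ J, ∀ x : ↥R,
        (p * q).1 x * (p * q).1 (x * g) * (p * q).1 (x * g ^ 2) =
          p.1 x * p.1 (x * g) * p.1 (x * g ^ 2) * (q.1 x * q.1 (x * g) * q.1 (x * g ^ 2)) := fun p hp q hq x =>
      mul_three (hC _ _ (n1 x) _ (hmem p hp _) _ (hmem q hq _)) (hC _ _ (n2 x) _ (hmem p hp _) _ (hmem q hq _))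
        (hC _ _ (n3 x) _ (hmem p hp _) _ (hmem q hq _))
    intro p hp
    induction hp using Subgroup.closure_induction with
    | mem p hp =>
      obtain ⟨v, hv, rfl⟩ := hp
      intro x
      simpa using cx_line h hcub F X hg g.2 hd x.2 hv
    | one => intro x; simp
    | mul p q hp hq ihp ihq => intro x; rw [hmul p hp q hq x, ihp x, ihq x, Prod.snd_mul, map_mul]
    | inv p hp ih =>
      intro x
      have e := hmul p⁻¹ (inv_mem hp) p hp x
      rw [inv_mul_cancel, ih x] at e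
      simp only [Prod.fst_one, Pi.one_apply, one_mul] at e
      rw [Prod.snd_inv, map_inv]
      exact eq_inv_of_mul_eq_one_left e.symm
  let α : ↥R := ⟨g₁, r1⟩
  let β : ↥R := ⟨g₂, r2⟩
  have hRc : ∀ v w : ↥R, Commute v w := fun v w =>
    Subtype.ext (ea_comm h.hA (X.glue.R_le v.2) (X.glue.R_le w.2))
  have hb4 : β ^ 4 = β := Subtype.ext (by
    rw [SubmonoidClass.coe_pow, pow_succ]
    show g₂ ^ 3 * g₂ = g₂
    rw [h.hA.2 g₂ a2, one_mul])
  have l1 := hline α hp1 σ₁ X.d₁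
  have l2 := hline β hp2 σ₂ X.d₂
  have l3 := hline (α * β) hp3 σ₃ X.d₃
  have l4 := hline (α * β ^ 2) (by simpa [α, β] using hp4) σ₄ (by simpa [α, β] using X.d₄)
  have hker : ∀ p ∈ J, p.2 = 1 → (∀ q ∈ J, p * q = q * p) ∧ p ^ 3 = 1 := by
    intro p hp hp2'
    have hcenx : ∀ x, ∀ m ∈ C x, p.1 x * m = m * p.1 x := by
      intro x m hm
      have e := l1 p hp x
      rw [hp2', map_one, mul_assoc, mul_eq_one_iff_eq_inv] at e
      have n1 : x ≠ x * α := fun e => hp1.2 (congrArg Subtype.val (mul_eq_left.mp e.symm))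
      have n2 : x ≠ x * α ^ 2 := fun e => hp1.2 (by
        have e' : g₁ ^ 2 = 1 := by simpa [α] using congrArg Subtype.val (mul_eq_left.mp e.symm)
        simpa [pow_succ, e', show g₁ * g₁ = 1 by rwa [← pow_two]] using h.hA.2 g₁ a1)
      rw [e]
      have c1 := hC _ _ n1 m hm _ (hmem p hp (x * α))
      have c2 := hC _ _ n2 m hm _ (hmem p hp (x * α ^ 2))
      exact ((Commute.mul_right c1 c2).inv_right.symm).eq
    have hcom : ∀ q ∈ J, p * q = q * p := fun q hq => Prod.ext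
      (funext fun x => hcenx x _ (hmem q hq x)) (by simp [hp2'])
    refine ⟨hcom, Prod.ext (funext fun x => ?_) (by simp [hp2'])⟩
    have hall : ∀ v ∈ Set.range p.1, ∀ w ∈ Set.range p.1, v * w = w * v := by
      rintro _ ⟨v, rfl⟩ _ ⟨w, rfl⟩
      by_cases e : v = w
      · rw [e]
      · exact hC v w e _ (hmem p hp v) _ (hmem p hp w)
    have e1 := l2 p hp x
    have e2 := l3 p hp x
    have e3 := l4 p hp x
    have e4 := l1 p hp (x * β)
    have e5 := l1 p hp (x * β ^ 2)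
    rw [hp2', map_one] at e1 e2 e3 e4 e5
    have i1 : x * β * α = x * (α * β) := by rw [mul_assoc, (hRc β α).eq]
    have i2 : x * β * α ^ 2 = x * (α * β ^ 2) ^ 2 := by
      rw [mul_assoc, (hRc α (β ^ 2)).mul_pow, ← pow_mul, show 2 * 2 = 4 from rfl, hb4, (hRc β (α ^ 2)).eq]
    have i3 : x * β ^ 2 * α = x * (α * β ^ 2) := by rw [mul_assoc, (hRc (β ^ 2) α).eq]
    have i4 : x * β ^ 2 * α ^ 2 = x * (α * β) ^ 2 := by
      rw [mul_assoc, (hRc α β).mul_pow, (hRc (β ^ 2) (α ^ 2)).eq]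
    rw [i1, i2] at e4
    rw [i3, i4] at e5
    have := cube_of_five' _ hall ⟨x, rfl⟩ ⟨_, rfl⟩ ⟨_, rfl⟩ ⟨_, rfl⟩ ⟨_, rfl⟩ ⟨_, rfl⟩ ⟨_, rfl⟩ e1 e2 e3 e4 e5
    simpa [pow_succ] using this
  let π : ↥J →* ↥K₁ := (MonoidHom.snd (↥R → G) ↥K₁).comp J.subtype
  have hπ : Function.Surjective π := fun v => by
    have htop := gen_top h hcub F X (W := π.range) fun w hw =>
      ⟨⟨_, Subgroup.subset_closure ⟨w, hw, rfl⟩⟩, rfl⟩
    exact htop.ge (Subgroup.mem_top v)
  have hZ : center ↥J = π.ker := by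
    ext p
    constructor
    · intro hp
      refine Subtype.ext (comp_center (rad_theta h hcub hg₁) hK₁ (π p).2 fun k hk => ?_)
      obtain ⟨q, hq⟩ := hπ ⟨k, hk⟩
      have e := congrArg (fun r => ((π r : ↥K₁) : ↥(θ g₁))) (Subgroup.mem_center_iff.mp hp q)
      simpa [map_mul, hq] using e
    · intro hp
      exact Subgroup.mem_center_iff.mpr fun q => Subtype.ext ((hker p p.2 hp).1 q q.2).symm
  have hind : (center ↥J).index = Nat.card ↥K₁ := by
    rw [hZ, Subgroup.index_ker, MonoidHom.range_eq_top.mpr hπ, Subgroup.card_top]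
  have hcube : ∀ p ∈ center ↥J, p ^ 3 = 1 := fun p hp =>
    Subtype.ext ((hker p p.2 (show p ∈ π.ker from hZ ▸ hp)).2)
  haveI : (center ↥J).FiniteIndex := inferInstance
  have hT : (MonoidHom.transferCenterPow ↥J).ker = ⊤ := by
    refine top_le_iff.mp ((Subgroup.closure_closure_coe_preimage (k := S)).ge.trans ((Subgroup.closure_le _).mpr ?_))
    intro p hp
    obtain ⟨v, hv, ep⟩ : ∃ v, genP v ∧ (p : (↥R → G) × ↥K₁) = (fun y : ↥R => cc (y : G) v, v) := hp
    have h2 : p * p = 1 := Subtype.ext (by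
      rw [Subgroup.coe_mul, ep, OneMemClass.coe_one]
      exact Prod.ext (funext fun y => cx_gen_sq h hcub F X y.2 hv) (gen_sq h hcub F X hv))
    set T := MonoidHom.transferCenterPow ↥J p
    have t2 : T ^ 2 = 1 := by rw [pow_two, ← map_mul, h2, map_one]
    have t3 : T ^ 3 = 1 := Subtype.ext (by rw [SubmonoidClass.coe_pow]; exact hcube _ T.2)
    show T = 1
    rwa [pow_succ, t2, one_mul] at t3
  have hinj : Function.Injective π := (injective_iff_map_eq_one π).mpr fun p hp => by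
    have h1 : p ^ (center ↥J).index = 1 :=
      congrArg Subtype.val (show MonoidHom.transferCenterPow ↥J p = 1 from hT.ge (Subgroup.mem_top p))
    have h3 := hcube p (hZ.ge hp)
    have hc : Nat.gcd (center ↥J).index 3 = 1 := Nat.Coprime.symm ((Nat.prime_three.coprime_iff_not_dvd).mpr
      fun hd => three_theta h hcub hg₁ (hd.trans (hind ▸ Subgroup.card_subgroup_dvd_card K₁)))
    have := (pow_gcd_eq_one (a := p) (m := (center ↥J).index) (n := 3)).mpr ⟨h1, h3⟩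
    rwa [hc, pow_one] at this
  let e := MulEquiv.ofBijective π ⟨hinj, hπ⟩
  let ι : ↥R → (↥K₁ →* G) := fun x =>
    (Pi.evalMonoidHom (fun _ : ↥R => G) x).comp ((MonoidHom.fst (↥R → G) ↥K₁).comp
      (J.subtype.comp e.symm.toMonoidHom))
  refine ⟨ι, fun x v hv => ?_, fun x y hxy v w => hC x y hxy _ (hmem _ (e.symm v).2 x) _ (hmem _ (e.symm w).2 y)⟩
  have he : e.symm v = ⟨_, Subgroup.subset_closure ⟨v, hv, rfl⟩⟩ :=
    e.symm_apply_eq.mpr rfl
  show ((e.symm v : ↥J) : (↥R → G) × ↥K₁).1 x = _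
  rw [he]

end Data

end CfsgLib.SF23
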