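import Cfsg.Agent.Lib.SF23.Basic
import Cfsg.Agent.Lib.OddOrder.FeitThompson

/-!
Reductions: the rank three induction, the restriction to an elementary subgroup, and the prime two.
-/

set_option autoImplicit false
set_option linter.unusedSectionVars false

namespace CfsgLib.SF23

open Cfsg Subgroup CfsgLib.Signalizer CfsgLib.SolvSF

universe u
variable {G : Type u} [Group G] [Finite G] {p : ℕ} [Fact p.Prime] {A : Subgroup G} {θ : G → Subgroup G}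

/-- Complete, in terms of members. -/
def Comp' (p : ℕ) (A : Subgroup G) (θ : G → Subgroup G) : Prop :=
  ∃ X, IsMem p A θ X ∧ ∀ a, Pt A a → θ a ≤ X

theorem complete_of_comp' (hθ : IsSignalizerFunctor p A θ) (h : Comp' p A θ) :
    IsCompleteSignalizerFunctor p A θ := by
  obtain ⟨X, hX, hle⟩ := h
  exact ⟨hθ, X, inv_of_normalizer hX.inv, hX.not_dvd, fun a ha h1 =>
    le_antisymm (hX.fix a ⟨ha, h1⟩) (le_inf (hle a ⟨ha, h1⟩) (hθ.1 a ha h1))⟩

theorem comp'_of_solvable (hA : IsElementaryAbelian p A) (hA3 : p ^ 3 ≤ Nat.card A)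
    (hθ : IsSignalizerFunctor p A θ) (hs : ∀ a, Pt A a → Group.IsSolvable ↥(θ a)) : Comp' p A θ := by
  obtain ⟨X, hX, hle⟩ := SolvSF.complete hA hA3 ⟨hθ, fun a ha h1 => hs a ⟨ha, h1⟩⟩
  exact ⟨X, ⟨hX.2.1, mem_normalizes hX, fun a ha => hX.2.2.2 a ha.1 ha.2⟩, fun a ha => hle a ha.1 ha.2⟩

set_option maxHeartbeats 800000 in
/-- Completeness by passing to the quotient by a member normalised by every value. -/
theorem comp'_of_normalizes (hA : IsElementaryAbelian p A) (hAc : Nat.card A = p ^ 3)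
    (hθ : IsSignalizerFunctor p A θ)
    (ih : ∀ {G' : Type u} [Group G'] [Finite G'] {A' : Subgroup G'} {θ' : G' → Subgroup G'},
      IsElementaryAbelian p A' → Nat.card A' = p ^ 3 → IsSignalizerFunctor p A' θ' →
      fsize A' θ' < fsize A θ → Comp' p A' θ')
    {N : Subgroup G} (hN : IsMem p A θ N) (hN1 : N ≠ ⊥)
    (hnorm : ∀ a, Pt A a → θ a ≤ normalizer (N : Set G)) : Comp' p A θ := by
  classical
  have hp := (Fact.out : p.Prime)
  have hA2 := lt_card hAc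
  set M := normalizer (N : Set G) with hM
  have hAM : A ≤ M := hN.inv
  set N' : Subgroup M := N.subgroupOf M with hN'
  haveI : N'.Normal := Subgroup.normal_in_normalizer
  let π : M →* M ⧸ N' := QuotientGroup.mk' N'
  have hker : ∀ x : M, π x = 1 ↔ (x : G) ∈ N := fun x => QuotientGroup.eq_one_iff x
  have hdisj : ∀ x ∈ A, x ∈ N → x = 1 := fun x hxA hxN =>
    Subgroup.disjoint_def.mp (Subgroup.disjoint_of_coprime_natCard (ea_coprime hA hN.not_dvd)) hxA hxN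
  have hπinj : ∀ a b : M, (a : G) ∈ A → (b : G) ∈ A → π a = π b → a = b := by
    intro a b ha hb e
    have h1 : π (a⁻¹ * b) = 1 := by rw [map_mul, map_inv, e, inv_mul_cancel]
    have h2 := hdisj _ (mul_mem (inv_mem ha) hb) (by simpa using (hker _).mp h1)
    exact Subtype.ext (inv_mul_eq_one.mp h2)
  let A' : Subgroup (M ⧸ N') := (A.subgroupOf M).map π
  let θ' : M ⧸ N' → Subgroup (M ⧸ N') := fun z =>
    ⨆ a : {a : M // (a : G) ∈ A ∧ (a : G) ≠ 1 ∧ π a = z}, ((θ ((a : M) : G)).subgroupOf M).map π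
  have hθ'eq : ∀ a : M, (a : G) ∈ A → (a : G) ≠ 1 → θ' (π a) = ((θ (a : G)).subgroupOf M).map π := by
    intro a ha ha1
    refine le_antisymm (iSup_le fun b => ?_) (le_iSup
      (fun b : {b : M // (b : G) ∈ A ∧ (b : G) ≠ 1 ∧ π b = π a} => ((θ ((b : M) : G)).subgroupOf M).map π)
      ⟨a, ha, ha1, rfl⟩)
    rw [hπinj b a b.2.1 ha b.2.2.2]
  have hlift : ∀ z, Pt A' z → ∃ a : M, (a : G) ∈ A ∧ (a : G) ≠ 1 ∧ π a = z := by
    rintro z ⟨⟨a, ha, rfl⟩, hz⟩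
    exact ⟨a, ha, fun e => hz (by rw [show a = 1 from Subtype.ext e, map_one]), rfl⟩
  have hA' : IsElementaryAbelian p A' := by
    refine ⟨⟨⟨?_⟩⟩, ?_⟩
    · rintro ⟨_, a, ha, rfl⟩ ⟨_, b, hb, rfl⟩
      apply Subtype.ext
      show π a * π b = π b * π a
      rw [← map_mul, ← map_mul, show a * b = b * a from Subtype.ext (ea_comm hA ha hb)]
    · rintro _ ⟨a, ha, rfl⟩
      rw [← map_pow, show a ^ p = 1 from Subtype.ext (by simpa using hA.2 _ ha), map_one]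
  have hA'c : Nat.card A' = p ^ 3 := by
    rw [← hAc]
    refine (Nat.card_eq_of_bijective (fun a : A => (⟨π ⟨a, hAM a.2⟩, ⟨⟨a, hAM a.2⟩, a.2, rfl⟩⟩ : A'))
      ⟨?_, ?_⟩).symm
    · intro a b e
      have h5 := hπinj ⟨a, hAM a.2⟩ ⟨b, hAM b.2⟩ a.2 b.2 (congrArg Subtype.val e)
      exact Subtype.ext (Subtype.mk.inj h5)
    · rintro ⟨_, a, ha, rfl⟩
      exact ⟨⟨a, ha⟩, rfl⟩
  have hθ' : IsSignalizerFunctor p A' θ' := by
    refine ⟨?_, ?_, ?_, ?_⟩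
    · intro z hz hz1
      obtain ⟨a, ha, ha1, rfl⟩ := hlift z ⟨hz, hz1⟩
      rw [hθ'eq a ha ha1]
      rintro _ ⟨y, hy, rfl⟩
      refine Subgroup.mem_centralizer_singleton_iff.mpr ?_
      rw [← map_mul, ← map_mul,
        show y * a = a * y from Subtype.ext (Subgroup.mem_centralizer_singleton_iff.mp (hθ.1 _ ha ha1 hy))]
    · intro z hz hz1
      obtain ⟨a, ha, ha1, rfl⟩ := hlift z ⟨hz, hz1⟩
      rw [hθ'eq a ha ha1]
      intro h
      refine hθ.2.1 _ ha ha1 ?_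
      rw [← Nat.card_congr (Subgroup.subgroupOfEquivOfLe (hnorm _ ⟨ha, ha1⟩)).toEquiv]
      exact h.trans (Subgroup.card_map_dvd _ _)
    · intro z hz hz1
      obtain ⟨a, ha, ha1, rfl⟩ := hlift z ⟨hz, hz1⟩
      rw [hθ'eq a ha ha1]
      rintro _ ⟨b, hb, rfl⟩ _ ⟨y, hy, rfl⟩
      refine ⟨b * y * b⁻¹, hθ.2.2.1 _ ha ha1 _ hb _ hy, ?_⟩
      rw [map_mul, map_mul, map_inv]
    · intro z hz hz1 w hw hw1
      obtain ⟨a, ha, ha1, rfl⟩ := hlift z ⟨hz, hz1⟩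
      obtain ⟨b, hb, hb1, rfl⟩ := hlift w ⟨hw, hw1⟩
      rw [hθ'eq a ha ha1, hθ'eq b hb hb1]
      rintro _ ⟨⟨y, hy, rfl⟩, hc⟩
      have hc' : Commute (π y) (π b) := Subgroup.mem_centralizer_singleton_iff.mp hc
      have hbA : Subgroup.zpowers (b : G) ≤ A := Subgroup.zpowers_le.mpr hb
      have hθA := theta_inv hθ (a := (a : G)) ⟨ha, ha1⟩
      obtain ⟨c, hc1, hyc⟩ := coprime_fixed_quotient (N := θ (a : G) ⊓ N) (hbA.trans hθA)
        (ea_coprime (ea_le hA hbA) (hθ.2.1 _ ha ha1)) (Or.inl (ea_solvable (ea_le hA hbA))) inf_le_left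
        (fun g hg => Comp.mem_normalizer_of_maps fun v hv => Subgroup.mem_inf.mpr
          ⟨mul_mem (mul_mem hg hv.1) (inv_mem hg), (mem_normalizer_iff.mp (hnorm _ ⟨ha, ha1⟩ hg) v).mp hv.2⟩)
        (hbA.trans (inf_normalizes hθA hAM)) hy
        (fun d hd => by
          refine Subgroup.mem_inf.mpr ⟨mul_mem (hθ.2.2.1 _ ha ha1 d (hbA hd) _ hy) (inv_mem hy), ?_⟩
          obtain ⟨i, rfl⟩ := Subgroup.mem_zpowers_iff.mp hd
          have h1 : π (b ^ i * y * (b ^ i)⁻¹ * y⁻¹) = 1 := by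
            rw [map_mul, map_mul, map_mul, map_inv, map_inv, map_zpow, ← (hc'.zpow_right i).eq]
            group
          simpa using (hker _).mp h1)
      have hcM : c ∈ M := hnorm _ ⟨ha, ha1⟩ hc1.1
      refine ⟨⟨c, hcM⟩, hθ.2.2.2 _ ha ha1 _ hb hb1 (Subgroup.mem_inf.mpr ⟨hc1.1,
        Subgroup.mem_centralizer_singleton_iff.mpr (hc1.2 _ (Subgroup.mem_zpowers _)).symm⟩), ?_⟩
      have h1 : π (y⁻¹ * ⟨c, hcM⟩) = 1 := (hker _).mpr hyc.2
      rw [map_mul, map_inv, inv_mul_eq_one] at h1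
      exact h1.symm
  -- it is smaller
  have hlt : fsize A' θ' < fsize A θ := by
    obtain ⟨a, ha, n, hn, hn1⟩ : ∃ a, Pt A a ∧ ∃ n, n ∈ θ a ⊓ N ∧ n ≠ 1 := by
      by_contra h
      push Not at h
      refine hN1 (le_bot_iff.mp (hN.le_of hA hAc fun a ha x hx => ?_))
      exact Subgroup.mem_bot.mpr (h a ha x (Subgroup.mem_inf.mpr ⟨hN.fix a ha hx, hx.1⟩))
    have hmem : ∀ z : (a : {a : G // Pt A a}) × ↥(θ a),
        π ⟨z.1, hAM z.1.2.1⟩ ∈ A' ∧ π ⟨z.1, hAM z.1.2.1⟩ ≠ 1 := fun z =>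
      ⟨⟨⟨z.1, hAM z.1.2.1⟩, z.1.2.1, rfl⟩, fun e => z.1.2.2 (hdisj _ z.1.2.1 ((hker _).mp e))⟩
    let f : ((a : {a : G // Pt A a}) × ↥(θ a)) → ((z : {z : M ⧸ N' // Pt A' z}) × ↥(θ' z)) := fun z =>
      ⟨⟨π ⟨z.1, hAM z.1.2.1⟩, hmem z⟩, ⟨π ⟨z.2, hnorm _ z.1.2 z.2.2⟩,
        (hθ'eq ⟨z.1, hAM z.1.2.1⟩ z.1.2.1 z.1.2.2).ge ⟨_, z.2.2, rfl⟩⟩⟩
    have hf : Function.Surjective f := by
      rintro ⟨⟨z, hz⟩, ⟨w, hw⟩⟩
      obtain ⟨b, hb, hb1, rfl⟩ := hlift z hz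
      rw [hθ'eq b hb hb1] at hw
      obtain ⟨y, hy, rfl⟩ := hw
      exact ⟨⟨⟨b, hb, hb1⟩, ⟨y, hy⟩⟩, rfl⟩
    refine lt_of_le_of_ne (Nat.card_le_card_of_surjective f hf) fun e => hn1 ?_
    have hb := (Nat.bijective_iff_surjective_and_card f).mpr ⟨hf, e.symm⟩
    have h2 : f ⟨⟨a, ha⟩, ⟨n, hn.1⟩⟩ = f ⟨⟨a, ha⟩, ⟨1, one_mem _⟩⟩ := by
      refine Sigma.ext rfl (heq_of_eq (Subtype.ext ?_))
      show π ⟨n, _⟩ = π ⟨1, _⟩
      rw [(hker ⟨n, hnorm a ha hn.1⟩).mpr hn.2]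
      exact ((hker _).mpr (one_mem N)).symm
    obtain ⟨-, e'⟩ := Sigma.mk.inj_iff.mp (hb.1 h2)
    exact congrArg Subtype.val (eq_of_heq e')
  obtain ⟨X', hX', hX'θ⟩ := ih hA' hA'c hθ' hlt
  refine ⟨(X'.comap π).map M.subtype, ⟨?_, ?_, ?_⟩, ?_⟩
  · rw [Subgroup.card_map_of_injective M.subtype_injective, card_comap_mk,
      Nat.card_congr (Subgroup.subgroupOfEquivOfLe (Subgroup.le_normalizer : N ≤ M)).toEquiv]
    exact fun h => (hp.dvd_mul.mp h).elim hN.not_dvd hX'.not_dvd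
  · refine inv_to_normalizer ?_
    rintro b hb _ ⟨x, hx, rfl⟩
    refine ⟨⟨b, hAM hb⟩ * x * ⟨b, hAM hb⟩⁻¹, ?_, rfl⟩
    show π _ ∈ X'
    rw [map_mul, map_mul, map_inv]
    exact inv_of_normalizer hX'.inv _ ⟨⟨b, hAM hb⟩, hb, rfl⟩ _ hx
  · rintro a ha _ ⟨⟨x, hx, rfl⟩, hxa⟩
    have hxa' := Subgroup.mem_centralizer_singleton_iff.mp hxa
    have hπa : π ⟨a, hAM ha.1⟩ ≠ 1 := fun e => ha.2 (hdisj _ ha.1 ((hker _).mp e))
    have h1 : π x ∈ X' ⊓ centralizer {π ⟨a, hAM ha.1⟩} := by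
      refine Subgroup.mem_inf.mpr ⟨hx, Subgroup.mem_centralizer_singleton_iff.mpr ?_⟩
      rw [← map_mul, ← map_mul, show x * ⟨a, hAM ha.1⟩ = ⟨a, hAM ha.1⟩ * x from Subtype.ext hxa']
    have h2 := hX'.fix _ ⟨⟨⟨a, hAM ha.1⟩, ha.1, rfl⟩, hπa⟩ h1
    rw [hθ'eq ⟨a, hAM ha.1⟩ ha.1 ha.2] at h2
    obtain ⟨y, hy, hyx⟩ := h2
    have h3 : π (y⁻¹ * x) = 1 := by rw [map_mul, map_inv, hyx, inv_mul_cancel]
    have h4 : (y : G)⁻¹ * x ∈ N ⊓ centralizer {a} := by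
      refine Subgroup.mem_inf.mpr ⟨by simpa using (hker _).mp h3, ?_⟩
      exact mul_mem (inv_mem (hθ.1 a ha.1 ha.2 hy)) hxa
    have h5 : (y : G) * ((y : G)⁻¹ * x) ∈ θ a := mul_mem (show (y : G) ∈ θ a from hy) (hN.fix a ha h4)
    simpa using h5
  · intro a ha y hy
    refine ⟨⟨y, hnorm a ha hy⟩, ?_, rfl⟩
    refine hX'θ _ ⟨⟨⟨a, hAM ha.1⟩, ha.1, rfl⟩, fun e => ha.2 (hdisj _ ha.1 ((hker _).mp e))⟩ ?_
    rw [hθ'eq ⟨a, hAM ha.1⟩ ha.1 ha.2]
    exact ⟨⟨y, hnorm a ha hy⟩, hy, rfl⟩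

/-- The statement proved by the other files. -/
def NoCtx (p : ℕ) : Prop :=
  ∀ {G : Type u} [Group G] [Finite G] {A : Subgroup G} {θ : G → Subgroup G}, Ctx p A θ → False

/-- The rank three case, by induction on the size. -/
theorem comp'_rank3 (hno : NoCtx.{u} p) (n : ℕ) :
    ∀ {G : Type u} [Group G] [Finite G] {A : Subgroup G} {θ : G → Subgroup G},
      IsElementaryAbelian p A → Nat.card A = p ^ 3 → IsSignalizerFunctor p A θ → fsize A θ = n →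
      Comp' p A θ := by
  induction n using Nat.strong_induction_on with
  | _ n IH =>
  intro G _ _ A θ hA hAc hθ hn
  subst hn
  by_contra hcon
  refine hno (A := A) (θ := θ) ⟨hA, hAc, hθ, ?_, hcon, ?_,
    fun ψ hψ hle hne => IH _ (fsize_lt hle hne) hA hAc hψ rfl⟩
  · by_contra h
    push Not at h
    exact hcon (comp'_of_solvable hA hAc.ge hθ h)
  intro N hN hN1
  let ψ : G → Subgroup G := fun a => θ a ⊓ normalizer (N : Set G)
  by_cases hall : ∀ a, Pt A a → θ a ≤ normalizer (N : Set G)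
  · exact absurd (comp'_of_normalizes hA hAc hθ (fun h1 h2 h3 h4 => IH _ h4 h1 h2 h3 rfl) hN hN1 hall) hcon
  push Not at hall
  obtain ⟨a₀, ha₀, hna⟩ := hall
  have hψ : IsSignalizerFunctor p A ψ := by
    refine ⟨fun a ha h1 => inf_le_left.trans (hθ.1 a ha h1),
      fun a ha h1 h => hθ.2.1 a ha h1 (h.trans (card_dvd_of_le inf_le_left)),
      fun a ha h1 => inv_of_normalizer (inf_normalizes (theta_inv hθ ⟨ha, h1⟩)
        fun g hg => Subgroup.le_normalizer (hN.inv hg)),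
      fun a ha h1 b hb hb1 => le_inf ((inf_le_inf_right _ inf_le_left).trans (hθ.2.2.2 a ha h1 b hb hb1))
        (inf_le_left.trans inf_le_right)⟩
  obtain ⟨X, hX, hXψ⟩ := IH _ (fsize_lt (fun a _ => inf_le_left)
    ⟨a₀, ha₀, fun e => hna (inf_eq_left.mp e)⟩) hA hAc hψ rfl
  refine ⟨X, ⟨hX.not_dvd, hX.inv, fun a ha => (hX.fix a ha).trans inf_le_left⟩, fun Y hY hYN =>
    hY.le_of hA hAc fun a ha => le_trans (le_inf (hY.fix a ha) (inf_le_left.trans hYN)) (hXψ a ha)⟩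

/-- Completeness from an elementary subgroup of order `p ^ 3`. -/
theorem complete_of_elementary (hAc : IsMulCommutative A) (hθ : IsSignalizerFunctor p A θ)
    {E : Subgroup G} (hEA : E ≤ A) (hE : IsElementaryAbelian p E) (hE3 : Nat.card E = p ^ 3)
    (h : Comp' p E θ) : IsCompleteSignalizerFunctor p A θ := by
  obtain ⟨X, hX, hle⟩ := h
  have hE2 := lt_card hE3
  have hXA : A ≤ normalizer (X : Set G) := by
    rw [← closure_eq hE hE2 hX hle, iSup]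
    refine le_normalizer_sSup ?_
    rintro U ⟨⟨a, ha⟩, rfl⟩
    exact inv_to_normalizer (hθ.2.2.1 a (hEA ha.1) ha.2)
  refine complete_of_comp' hθ ⟨X, ⟨hX.not_dvd, hXA, fun a ha => ?_⟩, fun a ha => ?_⟩
  · have hC : A ≤ normalizer ((centralizer ({a} : Set G) : Subgroup G) : Set G) := fun b hb =>
      Subgroup.le_normalizer (Subgroup.mem_centralizer_singleton_iff.mpr
        (congrArg Subtype.val (hAc.is_comm.comm ⟨b, hb⟩ ⟨a, ha.1⟩)))
    refine le_of_fix hE le_rfl hE2 (fun hd => hX.not_dvd (hd.trans (card_dvd_of_le inf_le_left)))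
      (hEA.trans (inf_normalizes hXA hC)) fun e he h1 => ?_
    have : X ⊓ centralizer ({a} : Set G) ⊓ centralizer ({e} : Set G) ≤ θ e ⊓ centralizer ({a} : Set G) :=
      le_inf ((inf_le_inf_right _ inf_le_left).trans (hX.fix e ⟨he, h1⟩)) (inf_le_left.trans inf_le_right)
    exact this.trans (hθ.2.2.2 e (hEA he) h1 a ha.1 ha.2)
  · refine le_of_fix hE le_rfl hE2 (hθ.2.1 a ha.1 ha.2)
      (hEA.trans (inv_to_normalizer (hθ.2.2.1 a ha.1 ha.2))) fun e he h1 => ?_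
    exact (hθ.2.2.2 a ha.1 ha.2 e (hEA he) h1).trans (hle e ⟨he, h1⟩)

theorem restrict_functor {E : Subgroup G} (hEA : E ≤ A) (hθ : IsSignalizerFunctor p A θ) :
    IsSignalizerFunctor p E θ :=
  ⟨fun a ha => hθ.1 a (hEA ha), fun a ha => hθ.2.1 a (hEA ha),
    fun a ha h1 b hb => hθ.2.2.1 a (hEA ha) h1 b (hEA hb),
    fun a ha h1 b hb h2 => hθ.2.2.2 a (hEA ha) h1 b (hEA hb) h2⟩

/-- The theorem, given that there is no minimal counterexample for the prime three. -/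
theorem complete_of_noCtx {G : Type u} [Group G] [Finite G] {p : ℕ} [Fact p.Prime] (hp : p = 2 ∨ p = 3)
    (A : Subgroup G) (hAc : IsMulCommutative A)
    (hA3 : ∃ E : Subgroup G, E ≤ A ∧ IsElementaryAbelian p E ∧ Nat.card E = p ^ 3)
    (θ : G → Subgroup G) (hθ : IsSignalizerFunctor p A θ) (hno : p = 3 → NoCtx.{u} p) :
    IsCompleteSignalizerFunctor p A θ := by
  obtain ⟨E, hEA, hE, hEc⟩ := hA3
  have hθE := restrict_functor hEA hθ
  refine complete_of_elementary hAc hθ hEA hE hEc ?_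
  rcases hp with rfl | rfl
  · refine comp'_of_solvable hE hEc.ge hθE fun a ha => OddOrder.feitThompson ?_
    exact Nat.odd_iff.mpr (Nat.two_dvd_ne_zero.mp (hθE.2.1 a ha.1 ha.2))
  · exact comp'_rank3 (hno rfl) _ hE hEc hθE rfl

end CfsgLib.SF23
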