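import Cfsg.Agent.Lib.SF23.GlueIota
import Cfsg.Agent.Lib.SF23.CubicTriv
import Cfsg.Agent.Lib.SF23.Reduce

/-!
The member glued from the copies: there is no minimal counterexample for the prime three.
-/

set_option autoImplicit false
set_option linter.unusedSectionVars false
set_option linter.style.haveILetI false

namespace CfsgLib.SF23

open Cfsg Subgroup CfsgLib.Signalizer CfsgLib.SolvSF

universe u

theorem plane_lines : ∀ w : ZMod 3 × ZMod 3,
    (∃ k : Fin 3, w = (k : ℕ) • ((1, 0) : ZMod 3 × ZMod 3)) ∨ (∃ k : Fin 3, w = (k : ℕ) • ((0, 1) : ZMod 3 × ZMod 3)) ∨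
    (∃ k : Fin 3, w = (k : ℕ) • ((1, 1) : ZMod 3 × ZMod 3)) ∨ (∃ k : Fin 3, w = (k : ℕ) • ((1, 2) : ZMod 3 × ZMod 3)) := by
  decide

variable {G : Type u} [Group G] [Finite G] {A : Subgroup G} {θ : G → Subgroup G}

section Choose

variable (h : Ctx 3 A θ) (hcub : CubicTrivial.{u}) {s z : G} (F : Frame h s z) {N B R : Subgroup G}
  (D : Glue h s z N B R)
include h hcub F D

/-- A copy at another point. -/
theorem exists_dir {a b : G} (ha : a ∈ B) (hb : b ∈ B) (hab : b ∉ zpowers a) (hba : a ∉ zpowers b)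
    (hga : GP A θ a) (han : a ∉ normalizer (N : Set G)) {K : Subgroup ↥(θ a)} (hK : IsComponent K)
    (hsp : Spec h hcub F N hga hK) : ∃ σ, Dir h hcub F N R hga hK b σ := by
  obtain ⟨hgb, hbn⟩ := glue_gp h hcub F D hb fun e => hab (e ▸ one_mem _)
  obtain ⟨L, hL, hsp'⟩ := exists_spec h hcub F D.sep hgb
  obtain ⟨ρ, hi, hs, hE, hz⟩ := exists_rho h hcub F D ha hb hga hgb han hab hK hL hsp hsp'
  obtain ⟨ρ', hi', -, -, -⟩ := exists_rho h hcub F D hb ha hgb hga hbn hba hL hK hsp' hsp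
  have hbij : Function.Bijective ρ := (Nat.bijective_iff_injective_and_card _).mpr
    ⟨hi, le_antisymm (Nat.card_le_card_of_injective ρ hi) (Nat.card_le_card_of_injective ρ' hi')⟩
  exact ⟨_, dir_of_iso h hcub F D hga hgb (D.B_le hb) hbn hK hsp hL hsp' (MulEquiv.ofBijective ρ hbij) hs
    (hz hbij.2) hE⟩

theorem exists_cross : ∃ (g₁ : G) (hg₁ : GP A θ g₁) (K₁ : Subgroup ↥(θ g₁)) (hK₁ : IsComponent K₁) (g₂ : G)
    (σ₁ σ₂ σ₃ σ₄ : ↥K₁ →* G), Cross h hcub F N B R hg₁ hK₁ g₂ σ₁ σ₂ σ₃ σ₄ := by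
  have hBA := D.B_le.trans D.R_le
  obtain ⟨g₁, hg₁B, hne⟩ : ∃ g ∈ B, g ≠ 1 := by
    by_contra hall
    push Not at hall
    have hb : B = ⊥ := (Subgroup.eq_bot_iff_forall _).mpr hall
    have := D.B_card
    rw [hb, Subgroup.card_bot] at this
    omega
  obtain ⟨g₂, hg₂B, hind⟩ : ∃ g ∈ B, g ∉ zpowers g₁ := by
    by_contra hall
    push Not at hall
    haveI : Fact (Nat.Prime 3) := ⟨Nat.prime_three⟩
    have := D.B_card.trans_le (Subgroup.card_le_of_le (show B ≤ zpowers g₁ from hall))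
    rw [Nat.card_zpowers, orderOf_eq_prime (h.hA.2 g₁ (hBA hg₁B)) hne] at this
    omega
  have a1 := hBA hg₁B
  have a2 := hBA hg₂B
  obtain ⟨f1, f2, f3, f4, -⟩ := pp_gens h (g₂ := g₂) a1 a2
  obtain ⟨hg₁, hn₁⟩ := glue_gp h hcub F D hg₁B hne
  obtain ⟨K₁, hK₁, hsp⟩ := exists_spec h hcub F D.sep hg₁
  have hoff : ∀ w, pp g₁ g₂ w ∈ B → (∀ k : Fin 3, w ≠ (k : ℕ) • ((1, 0) : ZMod 3 × ZMod 3)) →
      (∀ k : Fin 3, ((1, 0) : ZMod 3 × ZMod 3) ≠ (k : ℕ) • w) → ∃ σ, Dir h hcub F N R hg₁ hK₁ (pp g₁ g₂ w) σ := by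
    intro w hw h1 h2
    refine exists_dir h hcub F D hg₁B hw (fun e => ?_) (fun e => ?_) hg₁ hn₁ hK₁ hsp
    · obtain ⟨k, hk⟩ := (pp_mem_line h a1 a2 hne hind (v := w) (w := (1, 0))).mp (by rw [f1]; exact e)
      exact h1 k hk
    · obtain ⟨k, hk⟩ := (pp_mem_line h a1 a2 hne hind (v := (1, 0)) (w := w)).mp (by rw [f1]; exact e)
      exact h2 k hk
  obtain ⟨σ₂, d₂⟩ := hoff (0, 1) (by rw [f2]; exact hg₂B) (by decide) (by decide)
  obtain ⟨σ₃, d₃⟩ := hoff (1, 1) (by rw [f3]; exact mul_mem hg₁B hg₂B) (by decide) (by decide)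
  obtain ⟨σ₄, d₄⟩ := hoff (1, 2) (by rw [f4]; exact mul_mem hg₁B (pow_mem hg₂B 2)) (by decide) (by decide)
  have d₁ := dir_of_iso h hcub F D hg₁ hg₁ (D.B_le hg₁B) hn₁ hK₁ hsp hK₁ hsp (MulEquiv.refl ↥K₁) rfl rfl
    fun e he => ⟨he, by
      show ((e : ↥(θ g₁)) : G) * ((e : ↥(θ g₁)) : G) ∈ N
      rw [show ((e : ↥(θ g₁)) : G) * ((e : ↥(θ g₁)) : G) = 1 from
        congrArg (fun w : ↥K₁ => ((w : ↥(θ g₁)) : G)) he.1]
      exact one_mem _⟩
  exact ⟨g₁, hg₁, K₁, hK₁, g₂, _, σ₂, σ₃, σ₄, D, hsp, hg₁B, hg₂B, hind, d₁, f2 ▸ d₂, f3 ▸ d₃, f4 ▸ d₄⟩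

end Choose

section Data

variable (h : Ctx 3 A θ) (hcub : CubicTrivial.{u}) {s z : G} (F : Frame h s z) {N B R : Subgroup G}
  {g₁ : G} {hg₁ : GP A θ g₁} {K₁ : Subgroup ↥(θ g₁)} {hK₁ : IsComponent K₁} {g₂ : G}
  {σ₁ σ₂ σ₃ σ₄ : ↥K₁ →* G}
  (X : Cross h hcub F N B R hg₁ hK₁ g₂ σ₁ σ₂ σ₃ σ₄)
include h hcub F X

local notation "cc" => cx g₂ σ₁ σ₂ σ₃ σ₄
local notation "genP" => Gen h hcub F (hg₁ := hg₁) (hK₁ := hK₁)

theorem iota_tr {ι : ↥R → (↥K₁ →* G)} (hι : ∀ (x : ↥R) v, genP v → ι x v = cc (x : G) v) (a x : ↥R) (v : ↥K₁) :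
    (a : G) * ι x v * (a : G)⁻¹ = ι (a * x) v := by
  have htop := gen_top h hcub F X (W := ((MulAut.conj (a : G)).toMonoidHom.comp (ι x)).eqLocus (ι (a * x)))
    fun w hw => by
      show (a : G) * ι x w * (a : G)⁻¹ = ι (a * x) w
      rw [hι _ _ hw, hι _ _ hw, cx_tr]
      rfl
  exact htop.ge (Subgroup.mem_top v)

theorem iota_line {ι : ↥R → (↥K₁ →* G)} (hι : ∀ (x : ↥R) v, genP v → ι x v = cc (x : G) v)
    (hc : ∀ x y : ↥R, x ≠ y → ∀ v w, ι x v * ι y w = ι y w * ι x v) (g : ↥R) (hg : Pt A (g : G))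
    {σ : ↥K₁ →* G} (hd : Dir h hcub F N R hg₁ hK₁ (g : G) σ) (x : ↥R) (v : ↥K₁) :
    ι x v * ι (x * g) v * ι (x * g ^ 2) v = dl (x : G) σ v := by
  have h3 : (g : G) ^ 3 = 1 := h.hA.2 _ hg.1
  have hg2 : (g : G) ^ 2 ≠ 1 := fun e => hg.2 (by rw [pow_succ, e, one_mul] at h3; exact h3)
  have n1 : x * g ≠ x := fun e => hg.2 (congrArg Subtype.val (mul_eq_left.mp e))
  have n2 : x * g ^ 2 ≠ x := fun e => hg2 (by simpa using congrArg Subtype.val (mul_eq_left.mp e))
  have n3 : x * g ^ 2 ≠ x * g := fun e => hg.2 (by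
    have e' := congrArg Subtype.val (mul_left_cancel e)
    rw [SubmonoidClass.coe_pow, pow_two] at e'
    exact mul_eq_left.mp e')
  let f : ↥K₁ →* G :=
    { toFun := fun v => ι x v * ι (x * g) v * ι (x * g ^ 2) v
      map_one' := by simp
      map_mul' := fun v w => by
        rw [map_mul, map_mul, map_mul]
        exact mul_three (hc _ _ n1 v w) (hc _ _ n2 v w) (hc _ _ n3 v w) }
  have htop := gen_top h hcub F X (W := f.eqLocus (dl (x : G) σ)) fun w hw => by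
    show ι x w * ι (x * g) w * ι (x * g ^ 2) w = dl (x : G) σ w
    rw [hι _ _ hw, hι _ _ hw, hι _ _ hw]
    simpa using cx_line h hcub F X hg g.2 hd x.2 hw
  exact htop.ge (Subgroup.mem_top v)

set_option maxHeartbeats 800000 in
theorem cross_false : False := by
  classical
  obtain ⟨⟨a1, a2, r1, r2⟩, hp1, hp2, hp3, hp4⟩ := cross_pts h hcub F X
  have D := X.glue
  obtain ⟨ι, hι, hc⟩ := exists_iota h hcub F X
  haveI : Fintype ↥R := Fintype.ofFinite _
  let I : (↥R → ↥K₁) →* G := MonoidHom.noncommPiCoprod ι fun x y hxy v w => hc x y hxy v w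
  have hI : ∀ x v, I (Pi.mulSingle x v) = ι x v := fun x v => MonoidHom.noncommPiCoprod_mulSingle ι x v
  have hS := suz_simple (crd_suz h hcub hg₁ hK₁)
  have hιinj : ∀ x, Function.Injective (ι x) := fun x => by
    refine (MonoidHom.ker_eq_bot_iff _).mp ((Subgroup.Normal.eq_bot_or_eq_top inferInstance).resolve_right fun e => ?_)
    refine cx_ne_one h hcub F X x.2 ?_
    rw [← hι x _ (Or.inl (sC_inE h hcub F hg₁ hK₁))]
    exact MonoidHom.mem_ker.mp (e ▸ Subgroup.mem_top _)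
  -- the gluing map is injective
  have hIinj : Function.Injective I := (injective_iff_map_eq_one I).mpr fun f hf => funext fun x => by
    refine Subtype.ext (comp_center (rad_theta h hcub hg₁) hK₁ (f x).2 fun k hk => ?_)
    have e : f * Pi.mulSingle x (⟨k, hk⟩ : ↥K₁) * f⁻¹ * (Pi.mulSingle x (⟨k, hk⟩ : ↥K₁))⁻¹ =
        Pi.mulSingle x (f x * ⟨k, hk⟩ * (f x)⁻¹ * (⟨k, hk⟩ : ↥K₁)⁻¹) := by
      funext y
      by_cases hy : y = x
      · subst hy
        simp
      · simp [Pi.mulSingle_eq_of_ne hy]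
    have e' := congrArg I e
    rw [map_mul, map_mul, map_mul, hf, map_inv, map_inv, hf, hI, hI, one_mul, inv_one, mul_one, mul_inv_cancel,
      eq_comm, ← (ι x).map_one] at e'
    have e2 := hιinj x e'
    rw [mul_inv_eq_one, mul_inv_eq_iff_eq_mul] at e2
    exact (congrArg Subtype.val e2).symm
  -- equivariance
  let sh : ↥R → ((↥R → ↥K₁) →* (↥R → ↥K₁)) := fun a =>
    { toFun := fun f y => f (a⁻¹ * y), map_one' := rfl, map_mul' := fun _ _ => rfl }
  have hsh : ∀ (a : ↥R) f, (a : G) * I f * (a : G)⁻¹ = I (sh a f) := fun a f => by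
    have e : (MulAut.conj (a : G)).toMonoidHom.comp I = I.comp (sh a) := MonoidHom.pi_ext fun (x : ↥R) (v : ↥K₁) => by
      show (a : G) * I (Pi.mulSingle (M := fun _ : ↥R => ↥K₁) x v) * (a : G)⁻¹ =
        I (sh a (Pi.mulSingle (M := fun _ : ↥R => ↥K₁) x v))
      rw [hI, iota_tr h hcub F X hι, ← hI]
      congr 1
      funext y
      show _ = Pi.mulSingle (M := fun _ : ↥R => ↥K₁) x v (a⁻¹ * y)
      by_cases hy : y = a * x
      · rw [hy, inv_mul_cancel_left, Pi.mulSingle_eq_same, Pi.mulSingle_eq_same]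
      · rw [Pi.mulSingle_eq_of_ne hy,
          Pi.mulSingle_eq_of_ne fun e => hy (by rw [← e, mul_inv_cancel_left])]
    exact DFunLike.congr_fun e f
  -- fixed points of a line
  have hfix : ∀ (g : ↥R), Pt A (g : G) → ∀ (σ : ↥K₁ →* G), Dir h hcub F N R hg₁ hK₁ (g : G) σ →
      ∀ v ∈ I.range, v ∈ centralizer ({(g : G)} : Set G) → v ∈ θ (g : G) := by
    intro g hg σ hd
    rintro _ ⟨f, rfl⟩ hv
    have h3 : g ^ 3 = 1 := Subtype.ext (by rw [SubmonoidClass.coe_pow]; exact h.hA.2 _ hg.1)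
    have hinv : ∀ y, f (g * y) = f y := fun y => by
      have e := hsh g f
      rw [conj_of_commute (Subgroup.mem_centralizer_singleton_iff.mp hv).symm] at e
      have e' := congrFun (hIinj e) (g * y)
      rw [e']
      show f (g⁻¹ * (g * y)) = f y
      rw [inv_mul_cancel_left]
    suffices key : ∀ (T : Finset ↥R) (f : ↥R → ↥K₁), (∀ y, f (g * y) = f y) → (∀ y, y ∉ T → f y = 1) →
        I f ∈ θ (g : G) from key Finset.univ f hinv fun y hy => absurd (Finset.mem_univ y) hy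
    intro T
    induction T using Finset.induction with
    | empty =>
      intro f _ hout
      rw [show f = 1 from funext fun y => hout y (by simp), map_one]
      exact one_mem _
    | insert x T _ ih =>
      intro f hinv hout
      by_cases hfx : f x = 1
      · refine ih f hinv fun y hy => ?_
        by_cases e : y = x
        · rw [e, hfx]
        · exact hout y (by simp [e, hy])
      set v := f x
      set l : ↥R → ↥K₁ := Pi.mulSingle x v * Pi.mulSingle (x * g) v * Pi.mulSingle (x * g ^ 2) v with hl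
      have hxg : x * g ≠ x := fun e => hg.2 (congrArg Subtype.val (mul_eq_left.mp e))
      have hxg2 : x * g ^ 2 ≠ x := fun e => hg.2 (by
        have e' := mul_eq_left.mp e
        rw [pow_succ, e', one_mul] at h3
        exact congrArg Subtype.val h3)
      have hgg : x * g ^ 2 ≠ x * g := fun e => hxg (by
        have e' := mul_left_cancel e
        rw [pow_two, mul_eq_left] at e'
        rw [e', mul_one])
      have hcx : ∀ y : ↥R, g * y = y * g := fun y => Subtype.ext (ea_comm h.hA hg.1 (D.R_le y.2))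
      have hlx : l x = v := by
        simp [hl, Pi.mulSingle_eq_of_ne hxg.symm, Pi.mulSingle_eq_of_ne hxg2.symm]
      have hl1 : l (x * g) = v := by
        simp [hl, Pi.mulSingle_eq_of_ne hxg, Pi.mulSingle_eq_of_ne hgg.symm]
      have hl2 : l (x * g ^ 2) = v := by
        simp [hl, Pi.mulSingle_eq_of_ne hxg2, Pi.mulSingle_eq_of_ne hgg]
      have hlo : ∀ y, y ≠ x → y ≠ x * g → y ≠ x * g ^ 2 → l y = 1 := fun y p q r => by
        simp [hl, Pi.mulSingle_eq_of_ne p, Pi.mulSingle_eq_of_ne q, Pi.mulSingle_eq_of_ne r]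
      have hlinv : ∀ y, l (g * y) = l y := fun y => by
        rw [hcx]
        by_cases p : y = x
        · rw [p, hl1, hlx]
        by_cases q : y = x * g
        · rw [q, mul_assoc, ← pow_two, hl2, hl1]
        by_cases r : y = x * g ^ 2
        · rw [r, mul_assoc, ← pow_succ, h3, mul_one, hl2, hlx]
        rw [hlo y p q r, hlo _ (fun e => r ?_) (fun e => p (mul_right_cancel e)) fun e => q ?_]
        · rw [← e, mul_assoc, ← pow_succ', h3, mul_one]
        · rw [pow_two, ← mul_assoc] at e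
          exact mul_right_cancel e
      have hf1 : f (x * g) = v := by rw [← hcx, hinv]
      have hf2 : f (x * g ^ 2) = v := by rw [pow_two, ← mul_assoc, ← hcx, hinv, hf1]
      have hf' := ih (f * l⁻¹) (fun y => by simp [hinv, hlinv]) fun y hy => by
        by_cases p : y = x
        · rw [p]; simp [hlx, v]
        by_cases q : y = x * g
        · rw [q]; simp [hl1, hf1]
        by_cases r : y = x * g ^ 2
        · rw [r]; simp [hl2, hf2]
        simp [hlo y p q r, hout y (by simp [p, hy])]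
      have hIl : I l ∈ θ (g : G) := by
        rw [hl, map_mul, map_mul, hI, hI, hI, iota_line h hcub F X hι hc g hg hd x v, dl_apply]
        exact (Subgroup.mem_normalizer_iff.mp (theta_inv h.hθ hg (D.R_le x.2)) _).mp (hd.mem v)
      rw [show f = f * l⁻¹ * l by rw [inv_mul_cancel_right], map_mul]
      exact mul_mem hf' hIl
  -- the range contains the values along the plane
  have hle : ∀ (g : ↥R), Pt A (g : G) → ∀ (σ : ↥K₁ →* G), Dir h hcub F N R hg₁ hK₁ (g : G) σ →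
      θ (g : G) ≤ I.range := fun g hg σ hd => hd.span.trans (iSup_le fun ⟨r, hr⟩ => by
    rintro _ ⟨_, ⟨v, rfl⟩, rfl⟩
    show r * σ v * r⁻¹ ∈ I.range
    rw [← dl_apply, show dl r σ v = dl ((⟨r, hr⟩ : ↥R) : G) σ v from rfl,
      ← iota_line h hcub F X hι hc g hg hd, ← hI, ← hI, ← hI, ← map_mul, ← map_mul]
    exact ⟨_, rfl⟩)
  -- the four lines
  let P := zpowers g₁ ⊔ zpowers g₂
  have hPA : P ≤ A := sup_le (Subgroup.zpowers_le.mpr a1) (Subgroup.zpowers_le.mpr a2)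
  have hP3 : 3 < Nat.card P := by
    rw [show P = zpowers g₂ ⊔ zpowers g₁ from sup_comm _ _]
    exact plane_card h hp2 hp1 X.indep
  let GoodPt : G → Prop := fun b => θ b ≤ I.range ∧
    ∀ v ∈ I.range, v ∈ centralizer ({b} : Set G) → v ∈ θ b
  have hmain : ∀ b, Pt A b → b ∈ P → GoodPt b := by
    intro b hb hbP
    obtain ⟨f1, f2, f3, f4, -⟩ := pp_gens h (g₂ := g₂) a1 a2
    have key : ∀ (g : ↥R) (σ : ↥K₁ →* G), Pt A (g : G) → Dir h hcub F N R hg₁ hK₁ (g : G) σ →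
        b ∈ zpowers (g : G) → GoodPt b := fun g σ hg hd hm => by
      obtain ⟨e1, e2⟩ := theta_eq_of_mem h hg hb hm
      refine ⟨e1 ▸ hle g hg σ hd, fun v hv hvb => e1 ▸ hfix g hg σ hd v hv (e2 ▸ hvb)⟩
    obtain ⟨w, rfl⟩ : ∃ w, b = pp g₁ g₂ w := by
      have hn : zpowers g₂ ≤ normalizer (zpowers g₁ : Set G) := fun w hw =>
        Comp.mem_normalizer_of_maps fun v hv => by
          rw [ea_comm h.hA (Subgroup.zpowers_le.mpr a2 hw) (Subgroup.zpowers_le.mpr a1 hv), mul_inv_cancel_right]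
          exact hv
      obtain ⟨u, hu, w, hw, rfl⟩ := CfsgLib.mem_sup_of_le_normalizer hn hbP
      obtain ⟨n, rfl⟩ := mem_powers_iff_mem_zpowers.mpr hu
      obtain ⟨m, rfl⟩ := mem_powers_iff_mem_zpowers.mpr hw
      refine ⟨n • (1, 0) + m • (0, 1), ?_⟩
      rw [pp_add h a1 a2 hp1.2 X.indep, pp_nsmul h a1 a2 hp1.2 X.indep, pp_nsmul h a1 a2 hp1.2 X.indep, f1, f2]
    have hml := fun u => pp_mem_line h a1 a2 hp1.2 X.indep (v := w) (w := u)
    rcases plane_lines w with e | e | e | e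
    · exact key ⟨g₁, r1⟩ σ₁ hp1 X.d₁ (by have := (hml _).mpr e; rwa [f1] at this)
    · exact key ⟨g₂, r2⟩ σ₂ hp2 X.d₂ (by have := (hml _).mpr e; rwa [f2] at this)
    · exact key ⟨g₁ * g₂, mul_mem r1 r2⟩ σ₃ hp3 X.d₃ (by have := (hml _).mpr e; rwa [f3] at this)
    · exact key ⟨g₁ * g₂ ^ 2, mul_mem r1 (pow_mem r2 2)⟩ σ₄ hp4 X.d₄ (by have := (hml _).mpr e; rwa [f4] at this)
  set V := ⨆ b : {b : G // Pt A b ∧ b ∈ P}, θ b with hV
  have hVA : A ≤ normalizer (V : Set G) := fun x hx => Subgroup.mem_normalizer_iff_map_conj_eq.mpr (by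
    rw [hV, Subgroup.map_iSup]
    exact iSup_congr fun b => Subgroup.mem_normalizer_iff_map_conj_eq.mp (theta_inv h.hθ b.2.1 hx))
  have hVI : V ≤ I.range := iSup_le fun b => (hmain b b.2.1 b.2.2).1
  have hIV : I.range ≤ V := by
    refine (MonoidHom.noncommPiCoprod_range (ϕ := ι)).le.trans (iSup_le fun x => ?_)
    have hline : ∀ (g : G), Pt A g → g ∈ P → ∀ (σ : ↥K₁ →* G), Dir h hcub F N R hg₁ hK₁ g σ →
        ∀ y ∈ R, ∀ v, dl y σ v ∈ V := fun g hg hgP σ hd y hy v => by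
      rw [dl_apply]
      exact le_iSup (fun b : {b : G // Pt A b ∧ b ∈ P} => θ b) ⟨g, hg, hgP⟩
        ((Subgroup.mem_normalizer_iff.mp (theta_inv h.hθ hg (D.R_le hy)) _).mp (hd.mem v))
    have m1 : g₁ ∈ P := Subgroup.mem_sup_left (mem_zpowers g₁)
    have m2 : g₂ ∈ P := Subgroup.mem_sup_right (mem_zpowers g₂)
    have htop := gen_top h hcub F X (W := V.comap (ι x)) fun w hw => by
      rw [Subgroup.mem_comap, hι x w hw]
      exact mul_mem (mul_mem (mul_mem (mul_mem (hline _ hp2 m2 σ₂ X.d₂ _ x.2 _)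
        (hline _ hp3 (mul_mem m1 m2) σ₃ X.d₃ _ x.2 _)) (hline _ hp4 (mul_mem m1 (pow_mem m2 2)) σ₄ X.d₄ _ x.2 _))
        (hline _ hp1 m1 σ₁ X.d₁ _ (mul_mem x.2 r2) _))
        (hline _ hp1 m1 σ₁ X.d₁ _ (mul_mem x.2 (pow_mem r2 2)) _)
    rintro _ ⟨v, rfl⟩
    exact htop.ge (Subgroup.mem_top v)
  have h3V : ¬ 3 ∣ Nat.card V := fun hd => by
    have h1 := hd.trans ((Subgroup.card_dvd_of_le hVI).trans (Subgroup.card_range_dvd I))
    rw [Nat.card_fun] at h1
    exact three_theta h hcub hg₁ ((Nat.prime_three.dvd_of_dvd_pow h1).trans (Subgroup.card_subgroup_dvd_card K₁))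
  have hVmem : IsMem 3 A θ V := by
    refine ⟨h3V, hVA, fun a ha => ?_⟩
    refine le_of_fix h.hA hPA hP3 (fun hd => h3V (hd.trans (Subgroup.card_dvd_of_le inf_le_left)))
      (inf_normalizes hVA (centralizer_singleton_normalizes h.hA ha.1)) fun b hb hb1 v hv => ?_
    obtain ⟨⟨hvV, hva⟩, hvb⟩ := hv
    have hb' : Pt A b := ⟨hPA hb, hb1⟩
    exact balance h.hθ hb' ha (Subgroup.mem_inf.mpr ⟨(hmain b hb' hb).2 v (hVI hvV) hvb, hva⟩)
  refine no_member h hcub hVmem (fun e => ?_) fun a ha => ?_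
  · have hs : s ∈ V := le_iSup (fun b : {b : G // Pt A b ∧ b ∈ P} => θ b)
      ⟨g₁, hp1, Subgroup.mem_sup_left (mem_zpowers g₁)⟩ (dfix_le_theta h hp1 F.s_mem)
    rw [e, Subgroup.mem_bot] at hs
    exact F.s_ne hs
  · have hXV : (⨆ b : {b : G // Pt A b ∧ b ∈ P}, mX h (b : G)) ≤ V := iSup_le fun b =>
      (mX_le h (b : G)).trans (le_iSup (fun b : {b : G // Pt A b ∧ b ∈ P} => θ (b : G)) b)
    exact ((mX_eq_iSup_plane h hcub hPA hP3 ha).trans hXV).trans Subgroup.le_normalizer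

end Data

/-- There is no minimal counterexample. -/
theorem noCtx_three : NoCtx.{u} 3 := by
  intro G _ _ A θ h
  have hcub : CubicTrivial.{u} := cubicTrivial
  obtain ⟨s, z, F⟩ := exists_frame h hcub
  obtain ⟨N, B, R, D⟩ := exists_glue h hcub F
  obtain ⟨g₁, hg₁, K₁, hK₁, g₂, σ₁, σ₂, σ₃, σ₄, X⟩ := exists_cross h hcub F D
  exact cross_false h hcub F X

end CfsgLib.SF23
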