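import Cfsg.Agent.Lib.SF23.GlueBase

/-!
Maximal invariant subgroups avoiding the involution, their translates, and their stabiliser.
-/

set_option autoImplicit false
set_option linter.unusedSectionVars false
set_option linter.style.haveILetI false

namespace CfsgLib.SF23

open Cfsg Subgroup CfsgLib.Signalizer CfsgLib.SolvSF

universe u

/-- An element of the layer lies in a subgroup containing its coordinates. -/
theorem mem_of_prj {H : Type u} [Group H] [Finite H] (hR : solvableRadical H = ⊥) {W : Subgroup H} {x : H}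
    (hx : x ∈ layer H) (hW : ∀ K, IsComponent K → prj K x ∈ W) : x ∈ W := by
  classical
  haveI := Fintype.ofFinite (Subgroup H)
  suffices key : ∀ (S : Finset (Subgroup H)) (x : H), x ∈ layer H →
      (∀ K, IsComponent K → prj K x ∈ W) → (∀ K, IsComponent K → K ∉ S → prj K x = 1) → x ∈ W from
    key Finset.univ x hx hW fun K _ hK => absurd (Finset.mem_univ K) hK
  intro S
  induction S using Finset.induction with
  | empty =>
    intro x hx _ hout
    rw [layer_ext hR hx (one_mem _) fun K hK => (hout K hK (by simp)).trans (prj_one hR hK).symm]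
    exact one_mem _
  | insert K S _ ih =>
    intro x hx hW hout
    by_cases hK : IsComponent K
    swap
    · exact ih x hx hW fun L hL hLS => hout L hL (by
        rw [Finset.mem_insert]
        rintro (rfl | h)
        exacts [hK hL, hLS h])
    set k := prj K x with hk
    have hkl : k ∈ layer H := CfsgLib.le_layer hK (prj_mem K x)
    rw [show x = k * (k⁻¹ * x) by group]
    refine mul_mem (hW K hK) (ih _ (mul_mem (inv_mem hkl) hx) (fun L hL => ?_) fun L hL hLS => ?_)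
    all_goals rw [prj_mul hR hL (inv_mem hkl) hx, prj_inv hR hL hkl]
    all_goals by_cases e : L = K
    · subst e
      rw [prj_self hR hL (prj_mem _ x), inv_mul_cancel]
      exact one_mem _
    · rw [prj_other hR hL hK e (prj_mem K x), inv_one, one_mul]
      exact hW L hL
    · subst e
      rw [prj_self hR hL (prj_mem _ x), inv_mul_cancel]
    · rw [prj_other hR hL hK e (prj_mem K x), inv_one, one_mul]
      exact hout L hL (by rw [Finset.mem_insert]; tauto)

variable {G : Type u} [Group G] [Finite G] {A : Subgroup G} {θ : G → Subgroup G}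

/-- A maximal invariant subgroup avoiding the involution. -/
structure Sep (A : Subgroup G) (θ : G → Subgroup G) (s z : G) (N : Subgroup G) : Prop where
  le : N ≤ mZ A θ s z
  norm : gamT A θ s z ≤ normalizer (N : Set G)
  avoid : s ∉ N
  top : ∀ N', N ≤ N' → N' ≤ mZ A θ s z → gamT A θ s z ≤ normalizer (N' : Set G) → s ∉ N' → N' ≤ N

/-- An endomorphism commuting with the torus closure and preserving its invariant subgroups. -/
structure Endo (A : Subgroup G) (θ : G → Subgroup G) (s z : G) (f : G → G) : Prop where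
  maps : ∀ m ∈ mZ A θ s z, f m ∈ mZ A θ s z
  mul : ∀ m ∈ mZ A θ s z, ∀ n ∈ mZ A θ s z, f (m * n) = f m * f n
  equiv : ∀ t ∈ gamT A θ s z, ∀ m ∈ mZ A θ s z, f (t * m * t⁻¹) = t * f m * t⁻¹
  keep : ∀ N : Subgroup G, N ≤ mZ A θ s z → gamT A θ s z ≤ normalizer (N : Set G) → ∀ n ∈ N, f n ∈ N

/-- The translate of a subgroup. -/
def tr (a : G) (N : Subgroup G) : Subgroup G := N.map (MulAut.conj a).toMonoidHom

theorem mem_tr {a x : G} {N : Subgroup G} : x ∈ tr a N ↔ a⁻¹ * x * a ∈ N := by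
  constructor
  · rintro ⟨n, hn, rfl⟩
    show a⁻¹ * (a * n * a⁻¹) * a ∈ N
    rwa [show a⁻¹ * (a * n * a⁻¹) * a = n by group]
  · intro h
    refine ⟨_, h, ?_⟩
    show a * (a⁻¹ * x * a) * a⁻¹ = x
    group

theorem tr_tr (a b : G) (N : Subgroup G) : tr a (tr b N) = tr (a * b) N := by
  rw [tr, tr, tr, Subgroup.map_map]
  congr 1
  exact MonoidHom.ext fun x => by
    show a * (b * x * b⁻¹) * a⁻¹ = a * b * x * (a * b)⁻¹
    group

theorem tr_one (N : Subgroup G) : tr 1 N = N := by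
  ext x
  rw [mem_tr, inv_one, one_mul, mul_one]

theorem tr_eq_iff {a : G} {N : Subgroup G} : tr a N = N ↔ a ∈ normalizer (N : Set G) :=
  Subgroup.mem_normalizer_iff_map_conj_eq.symm

section Data

variable (h : Ctx 3 A θ) (hcub : CubicTrivial.{u}) {s z : G} (F : Frame h s z)
include h hcub F

theorem s_mem_mZ : s ∈ mZ A θ s z := Subgroup.subset_closure ⟨1, one_mem _, by simp⟩

theorem exists_sep : ∃ N, Sep A θ s z N := by
  obtain ⟨N, ⟨h1, h2, h3⟩, hmax⟩ := (Set.toFinite {N : Subgroup G | N ≤ mZ A θ s z ∧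
    gamT A θ s z ≤ normalizer (N : Set G) ∧ s ∉ N}).exists_maximal ⟨⊥, bot_le,
      fun t _ => Comp.mem_normalizer_of_maps fun v hv => by
        rw [Subgroup.mem_bot] at hv ⊢
        rw [hv, mul_one, mul_inv_cancel],
      fun e => F.s_ne (Subgroup.mem_bot.mp e)⟩
  exact ⟨N, h1, h2, h3, fun N' hN' h1' h2' h3' => hmax ⟨h1', h2', h3'⟩ hN'⟩

/-- An invariant subgroup containing the involution is everything. -/
theorem mZ_le_of_mem {S : Subgroup G} (hS : gamT A θ s z ≤ normalizer (S : Set G)) (hs : s ∈ S) :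
    mZ A θ s z ≤ S := (Subgroup.closure_le _).mpr fun x ⟨t, ht, e⟩ => by
  rw [e]
  exact (Subgroup.mem_normalizer_iff.mp (hS ht) s).mp hs

/-- The points sent into an invariant subgroup. -/
theorem endo_pre {f : G → G} (hf : Endo A θ s z f) {N : Subgroup G}
    (hN : gamT A θ s z ≤ normalizer (N : Set G)) :
    ∃ S : Subgroup G, (∀ x, x ∈ S ↔ x ∈ mZ A θ s z ∧ f x ∈ N) ∧ gamT A θ s z ≤ normalizer (S : Set G) := by
  have hone : f 1 = 1 := by
    have := hf.mul 1 (one_mem _) 1 (one_mem _)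
    rw [one_mul] at this
    exact mul_eq_left.mp this.symm
  refine ⟨{ carrier := {x | x ∈ mZ A θ s z ∧ f x ∈ N}
            one_mem' := ⟨one_mem _, by rw [hone]; exact one_mem _⟩
            mul_mem' := fun {a b} ha hb => ⟨mul_mem ha.1 hb.1, hf.mul a ha.1 b hb.1 ▸ mul_mem ha.2 hb.2⟩
            inv_mem' := fun {a} ha => by
              show a⁻¹ ∈ mZ A θ s z ∧ f a⁻¹ ∈ N
              rw [inv_eq_of_mul_eq_one_right (mZ_sq h hcub F ha.1)]
              exact ha }, fun x => Iff.rfl, fun t ht => Comp.mem_normalizer_of_maps fun v hv =>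
    ⟨(Subgroup.mem_normalizer_iff.mp (gamT_normalizes_mZ h hcub F ht) v).mp hv.1, ?_⟩⟩
  rw [hf.equiv t ht v hv.1]
  exact (Subgroup.mem_normalizer_iff.mp (hN ht) _).mp hv.2

theorem endo_zero {f : G → G} (hf : Endo A θ s z f) {N : Subgroup G}
    (hN : gamT A θ s z ≤ normalizer (N : Set G)) (hs : f s ∈ N) : ∀ x ∈ mZ A θ s z, f x ∈ N := by
  obtain ⟨S, hS, hSn⟩ := endo_pre h hcub F hf hN
  exact fun x hx => ((hS x).mp (mZ_le_of_mem h hcub F hSn ((hS s).mpr ⟨s_mem_mZ h hcub F, hs⟩) hx)).2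

theorem ker_of_sep {f : G → G} (hf : Endo A θ s z f) {N : Subgroup G} (hN : Sep A θ s z N) {m : G}
    (hm : m ∈ mZ A θ s z) (hmN : m ∉ N) (hfm : f m ∈ N) : ∀ x ∈ mZ A θ s z, f x ∈ N := by
  obtain ⟨S, hS, hSn⟩ := endo_pre h hcub F hf hN.norm
  refine endo_zero h hcub F hf hN.norm ?_
  by_contra hs
  exact hmN (hN.top S (fun n hn => (hS n).mpr ⟨hN.le hn, hf.keep N hN.le hN.norm n hn⟩)
    (fun x hx => ((hS x).mp hx).1) hSn (fun h' => hs ((hS s).mp h').2) ((hS m).mpr ⟨hm, hfm⟩))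

theorem endo_conj {t : G} (ht : t ∈ gamT A θ s z) : Endo A θ s z (fun m => m * (t * m * t⁻¹)) where
  maps m hm := mul_mem hm ((Subgroup.mem_normalizer_iff.mp (gamT_normalizes_mZ h hcub F ht) m).mp hm)
  mul m hm n hn := by
    have h1 := mZ_comm h hcub F hn
      ((Subgroup.mem_normalizer_iff.mp (gamT_normalizes_mZ h hcub F ht) m).mp hm)
    calc m * n * (t * (m * n) * t⁻¹) = m * (n * (t * m * t⁻¹)) * (t * n * t⁻¹) := by group
      _ = m * (t * m * t⁻¹ * n) * (t * n * t⁻¹) := by rw [h1]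
      _ = m * (t * m * t⁻¹) * (n * (t * n * t⁻¹)) := by group
  equiv w hw m hm := by
    have e := gamT_comm h hcub F ht hw
    calc w * m * w⁻¹ * (t * (w * m * w⁻¹) * t⁻¹) = w * m * w⁻¹ * (t * w * m * (t * w)⁻¹) := by group
      _ = w * (m * (t * m * t⁻¹)) * w⁻¹ := by rw [e]; group
  keep N _ hN n hn := mul_mem hn ((Subgroup.mem_normalizer_iff.mp (hN ht) n).mp hn)

theorem exists_endo {m : G} (hm : m ∈ mZ A θ s z) : ∃ f, Endo A θ s z f ∧ f s = m := by
  refine Subgroup.closure_induction (p := fun m _ => ∃ f, Endo A θ s z f ∧ f s = m) ?_ ?_ ?_ ?_ hm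
  · rintro _ ⟨t, ht, rfl⟩
    refine ⟨fun x => t * x * t⁻¹,
      ⟨fun x hx => (Subgroup.mem_normalizer_iff.mp (gamT_normalizes_mZ h hcub F ht) x).mp hx,
        fun a _ b _ => by group, fun w hw x _ => ?_,
        fun N _ hN n hn => (Subgroup.mem_normalizer_iff.mp (hN ht) n).mp hn⟩, rfl⟩
    calc t * (w * x * w⁻¹) * t⁻¹ = t * w * x * (t * w)⁻¹ := by group
      _ = w * (t * x * t⁻¹) * w⁻¹ := by rw [gamT_comm h hcub F ht hw]; group
  · exact ⟨fun _ => 1, ⟨fun _ _ => one_mem _, fun _ _ _ _ => (one_mul 1).symm, fun t _ _ _ => by group,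
      fun N _ _ _ _ => one_mem N⟩, rfl⟩
  · rintro x y - - ⟨f, hf, rfl⟩ ⟨f', hf', rfl⟩
    refine ⟨fun x => f x * f' x, ⟨fun a ha => mul_mem (hf.maps a ha) (hf'.maps a ha), fun a ha b hb => ?_,
      fun t ht a ha => by rw [hf.equiv t ht a ha, hf'.equiv t ht a ha]; group,
      fun N h1 h2 n hn => mul_mem (hf.keep N h1 h2 n hn) (hf'.keep N h1 h2 n hn)⟩, rfl⟩
    have h1 := mZ_comm h hcub F (hf.maps b hb) (hf'.maps a ha)
    rw [hf.mul a ha b hb, hf'.mul a ha b hb]
    calc f a * f b * (f' a * f' b) = f a * (f b * f' a) * f' b := by group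
      _ = f a * (f' a * f b) * f' b := by rw [h1]
      _ = f a * f' a * (f b * f' b) := by group
  · rintro x hx ⟨f, hf, rfl⟩
    exact ⟨f, hf, (inv_eq_of_mul_eq_one_right (mZ_sq h hcub F hx)).symm⟩

theorem a_s {a : G} (ha : a ∈ A) : a⁻¹ * s * a = s := by
  rw [mul_assoc, ← (Subgroup.mem_centralizer_iff.mp (dfix_le_cent h F.s_mem) a ha), inv_mul_cancel_left]

theorem sep_tr {N : Subgroup G} (hN : Sep A θ s z N) {a : G} (ha : a ∈ A) : Sep A θ s z (tr a N) := by
  have hM : ∀ {b : G}, b ∈ A → tr b (mZ A θ s z) = mZ A θ s z := fun hb => tr_eq_iff.mpr (mZ_inv h hcub F hb)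
  have hT : ∀ {b : G}, b ∈ A → ∀ {S : Subgroup G}, gamT A θ s z ≤ normalizer (S : Set G) →
      gamT A θ s z ≤ normalizer (tr b S : Set G) := fun {b} hb {S} hS t ht => by
    have ht' := (Subgroup.mem_normalizer_iff''.mp (gamT_inv h hcub F hb) t).mp ht
    refine Comp.mem_normalizer_of_maps fun v hv => mem_tr.mpr ?_
    rw [show b⁻¹ * (t * v * t⁻¹) * b = (b⁻¹ * t * b) * (b⁻¹ * v * b) * (b⁻¹ * t * b)⁻¹ by group]
    exact (Subgroup.mem_normalizer_iff.mp (hS ht') _).mp (mem_tr.mp hv)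
  refine ⟨fun x hx => (hM ha).le ?_, hT ha hN.norm, fun e => hN.avoid ?_, fun N' h1 h2 h3 h4 x hx => mem_tr.mpr ?_⟩
  · obtain ⟨n, hn, rfl⟩ := hx
    exact ⟨n, hN.le hn, rfl⟩
  · rw [← a_s h hcub F ha]
    exact mem_tr.mp e
  · have hb : a⁻¹ ∈ A := inv_mem ha
    have h5 := hN.top (tr a⁻¹ N') (fun n hn => mem_tr.mpr (h1 (mem_tr.mpr (by
      rw [show a⁻¹ * (a⁻¹⁻¹ * n * a⁻¹) * a = n by group]; exact hn))))
      (fun v hv => (hM hb).le (by obtain ⟨n, hn, rfl⟩ := hv; exact ⟨n, h2 hn, rfl⟩)) (hT hb h3)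
      (fun e => h4 (by have := mem_tr.mp e; rwa [a_s h hcub F hb] at this))
    exact h5 (mem_tr.mpr (by rw [show a⁻¹⁻¹ * (a⁻¹ * x * a) * a⁻¹ = x by group]; exact hx))

/-- A point outside any maximal subgroup in finitely many others. -/
theorem inter_not_le {N : Subgroup G} (hN : Sep A θ s z N) (S : Finset (Subgroup G))
    (hS : ∀ N' ∈ S, Sep A θ s z N' ∧ N' ≠ N) : ∃ m ∈ mZ A θ s z, m ∉ N ∧ ∀ N' ∈ S, m ∈ N' := by
  classical
  induction S using Finset.induction with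
  | empty => exact ⟨s, s_mem_mZ h hcub F, hN.avoid, by simp⟩
  | insert N' S _ ih =>
    obtain ⟨m, hm, hmN, hmS⟩ := ih fun M hM => hS M (Finset.mem_insert_of_mem hM)
    obtain ⟨hN', hne⟩ := hS N' (Finset.mem_insert_self _ _)
    obtain ⟨m', hm', hm'N⟩ : ∃ m' ∈ N', m' ∉ N := by
      by_contra hall
      push Not at hall
      exact hne (le_antisymm hall (hN'.top N hall hN.le hN.norm hN.avoid))
    obtain ⟨f, hf, hfs⟩ := exists_endo h hcub F hm
    refine ⟨f m', hf.maps _ (hN'.le hm'), fun e => hmN (hfs ▸ ker_of_sep h hcub F hf hN (hN'.le hm') hm'N e s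
      (s_mem_mZ h hcub F)), fun M hM => ?_⟩
    rcases Finset.mem_insert.mp hM with rfl | hM
    · exact hf.keep M hN'.le hN'.norm m' hm'
    · exact endo_zero h hcub F hf (hS M (Finset.mem_insert_of_mem hM)).1.norm (hfs ▸ hmS M hM) m' (hN'.le hm')

/-- A central involution coordinate. -/
def InE {g : G} (hg : GP A θ g) {K : Subgroup ↥(θ g)} (hK : IsComponent K) (k : ↥K) : Prop :=
  k * k = 1 ∧ k * sC h hcub F hg hK = sC h hcub F hg hK * k

theorem sC_inE {g : G} (hg : GP A θ g) {K : Subgroup ↥(θ g)} (hK : IsComponent K) :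
    InE h hcub F hg hK (sC h hcub F hg hK) :=
  ⟨by rw [← pow_two, ← sC_order h hcub F hg hK, pow_orderOf_eq_one], rfl⟩

theorem inE_mul {g : G} (hg : GP A θ g) {K : Subgroup ↥(θ g)} (hK : IsComponent K) {k l : ↥K}
    (hk : InE h hcub F hg hK k) (hl : InE h hcub F hg hK l) : InE h hcub F hg hK (k * l) := by
  have e : l * k = k * l := fr_central (crd_suz h hcub hg hK) (sC_order h hcub F hg hK) (zC_order h hcub F hg hK)
    hl.1 hl.2 hk.2
  refine ⟨?_, ?_⟩
  · calc k * l * (k * l) = k * (l * k) * l := by group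
      _ = (k * k) * (l * l) := by rw [e]; group
      _ = 1 := by rw [hk.1, hl.1, one_mul]
  · rw [mul_assoc, hl.2, ← mul_assoc, hk.2, mul_assoc]

theorem inE_ne_one {g : G} (hg : GP A θ g) {K : Subgroup ↥(θ g)} (hK : IsComponent K) :
    sC h hcub F hg hK ≠ 1 := fun e => by
  have := sC_order h hcub F hg hK
  rw [e, orderOf_one] at this
  norm_num at this

theorem tor_mem_gamT {g : G} (hg : GP A θ g) {K : Subgroup ↥(θ g)} (hK : IsComponent K) {t : ↥K}
    (ht : t ∈ fTor (sC h hcub F hg hK) (zC h hcub F hg hK)) : ((t : ↥(θ g)) : G) ∈ gamT A θ s z :=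
  tg_le_gamT h hcub F hg ((tg_crd h hcub F hg t).mpr fun L hL => by
    by_cases e : L = K
    · subst e
      rw [crd_self h hcub hg hL]
      exact ht
    · rw [crd_other h hcub hg hL hK e]
      exact one_mem _)

/-- The special component. -/
def Spec (N : Subgroup G) {g : G} (hg : GP A θ g) {K : Subgroup ↥(θ g)} (hK : IsComponent K) : Prop :=
  ((sC h hcub F hg hK : ↥(θ g)) : G) ∉ N

variable {N : Subgroup G} (hN : Sep A θ s z N)
include hN

theorem eC_all {g : G} (hg : GP A θ g) {K : Subgroup ↥(θ g)} (hK : IsComponent K) {k l : ↥K}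
    (hk : InE h hcub F hg hK k) (hk1 : k ≠ 1) (hkN : ((k : ↥(θ g)) : G) ∈ N) (hl : InE h hcub F hg hK l) :
    ((l : ↥(θ g)) : G) ∈ N := by
  by_cases hl1 : l = 1
  · rw [hl1]; exact one_mem _
  have hS := crd_suz h hcub hg hK
  have hso := sC_order h hcub F hg hK
  have hzo := zC_order h hcub F hg hK
  obtain ⟨t, ht, et⟩ := fr_conj hS hso hzo hk.1 hk.2 hk1
  obtain ⟨w, hw, ew⟩ := fr_conj hS hso hzo hl.1 hl.2 hl1
  have e : l = (w * t⁻¹) * k * (w * t⁻¹)⁻¹ := by rw [← et, ← ew]; group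
  rw [e]
  exact (Subgroup.mem_normalizer_iff.mp
    (hN.norm (tor_mem_gamT h hcub F hg hK (mul_mem hw (inv_mem ht)))) _).mp hkN

theorem spec_ker {g : G} (hg : GP A θ g) {K : Subgroup ↥(θ g)} (hK : IsComponent K)
    (hsp : Spec h hcub F N hg hK) {k : ↥K} (hk : InE h hcub F hg hK k) (hkN : ((k : ↥(θ g)) : G) ∈ N) : k = 1 := by
  by_contra hk1
  exact hsp (eC_all h hcub F hN hg hK hk hk1 hkN (sC_inE h hcub F hg hK))

theorem spec_unique {g : G} (hg : GP A θ g) {K L : Subgroup ↥(θ g)} (hK : IsComponent K) (hL : IsComponent L)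
    (hsp : Spec h hcub F N hg hK) (hne : K ≠ L) {l : ↥L} (hl : InE h hcub F hg hL l) :
    ((l : ↥(θ g)) : G) ∈ N := by
  by_contra hlN
  set sk := sC h hcub F hg hK with hsk
  have hS := crd_suz h hcub hg hK
  have hso := sC_order h hcub F hg hK
  have hzo := zC_order h hcub F hg hK
  obtain ⟨⟨t, ht⟩, ht1⟩ : ∃ t : ↥(fTor sk (zC h hcub F hg hK)), t ≠ 1 := by
    haveI := (Subgroup.nontrivial_iff_ne_bot _).mpr (fr_tor_ne hS hso hzo)
    exact exists_ne 1
  have htT := tor_mem_gamT h hcub F hg hK ht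
  have hlM := crd_mem_mZ h hcub F hg hL hl.1 hl.2
  have e1 : (t : ↥(θ g)) * (l : ↥(θ g)) * (t : ↥(θ g))⁻¹ = (l : ↥(θ g)) := crd_ext h hcub hg fun M hM => by
    rw [map_mul, map_mul, map_inv]
    by_cases e : M = K
    · subst e
      rw [crd_other h hcub hg hM hL hne, mul_one, mul_inv_cancel]
    · rw [crd_other h hcub hg hM hK e, one_mul, inv_one, mul_one]
  have h1 := ker_of_sep h hcub F (endo_conj h hcub F htT) hN hlM hlN (by
    show ((l : ↥(θ g)) : G) * ((t : ↥(θ g)) * (l : ↥(θ g)) * (t : ↥(θ g))⁻¹ : ↥(θ g)) ∈ N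
    rw [e1, show ((l : ↥(θ g)) : G) * (l : ↥(θ g)) = 1 from congrArg (fun w : ↥L => ((w : ↥(θ g)) : G)) hl.1]
    exact one_mem _) _ (crd_mem_mZ h hcub F hg hK (sC_inE h hcub F hg hK).1 rfl)
  have hn : sk * (t * sk * t⁻¹) ≠ 1 := fun e => ht1 (Subtype.ext (fr_tor_cent hS hso hzo ht (by
    rw [mul_eq_one_iff_eq_inv] at e
    rw [← mul_inv_eq_iff_eq_mul]
    have := congrArg Inv.inv e
    rw [inv_inv] at this
    rw [← this, inv_eq_of_mul_eq_one_right (sC_inE h hcub F hg hK).1])))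
  refine hn (spec_ker h hcub F hN hg hK hsp (inE_mul h hcub F hg hK (sC_inE h hcub F hg hK) ⟨?_, ?_⟩) h1)
  · calc t * sk * t⁻¹ * (t * sk * t⁻¹) = t * (sk * sk) * t⁻¹ := by group
      _ = 1 := by rw [(sC_inE h hcub F hg hK).1, mul_one, mul_inv_cancel]
  · exact Subgroup.mem_centralizer_singleton_iff.mp ((Subgroup.mem_normalizer_iff.mp (Subgroup.mem_inf.mp ht).1 sk).mp
      (Subgroup.mem_centralizer_singleton_iff.mpr rfl))

theorem spec_eq {g : G} (hg : GP A θ g) {K L : Subgroup ↥(θ g)} (hK : IsComponent K) (hL : IsComponent L)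
    (h1 : Spec h hcub F N hg hK) (h2 : Spec h hcub F N hg hL) : K = L := by
  by_contra hne
  exact h2 (spec_unique h hcub F hN hg hK hL h1 hne (sC_inE h hcub F hg hL))

theorem exists_spec {g : G} (hg : GP A θ g) :
    ∃ (K : Subgroup ↥(θ g)) (hK : IsComponent K), Spec h hcub F N hg hK := by
  by_contra hall
  simp only [Spec, not_exists, not_not] at hall
  refine hN.avoid ?_
  exact mem_of_prj (rad_theta h hcub hg) (W := N.subgroupOf (θ g)) (x := ⟨s, dfix_le_theta h hg.pt F.s_mem⟩)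
    (mem_lay h hcub hg _) fun K hK => hall K hK

/-- An element is congruent to its coordinate at the special component. -/
theorem coord_mod {g : G} (hg : GP A θ g) {K : Subgroup ↥(θ g)} (hK : IsComponent K)
    (hsp : Spec h hcub F N hg hK) {m : G} (hm : m ∈ mZ A θ s z) (hmg : m ∈ centralizer ({g} : Set G)) :
    ∃ k : ↥K, InE h hcub F hg hK k ∧ m * ((k : ↥(θ g)) : G) ∈ N ∧
      ∀ hmθ : m ∈ θ g, crd h hcub hg hK ⟨m, hmθ⟩ = k := by
  obtain ⟨hmθ, hc⟩ := mZ_crd h hcub F hg hm hmg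
  set k := crd h hcub hg hK ⟨m, hmθ⟩ with hk
  refine ⟨k, hc K hK, ?_, fun _ => rfl⟩
  refine mem_of_prj (rad_theta h hcub hg) (W := N.subgroupOf (θ g)) (x := ⟨m, hmθ⟩ * (k : ↥(θ g)))
    (mem_lay h hcub hg _) fun L hL => ?_
  rw [← crd_val h hcub hg hL, map_mul]
  by_cases e : L = K
  · subst e
    rw [crd_self h hcub hg hL, ← hk, (hc L hL).1]
    exact one_mem _
  · rw [crd_other h hcub hg hL hK e, mul_one]
    exact spec_unique h hcub F hN hg hK hL hsp (Ne.symm e) (hc L hL)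

/-- The norm over an outside point. -/
theorem norm_eq {g : G} (hg : g ∈ A) {m : G} (hm : m ∈ mZ A θ s z) :
    m * (g * m * g⁻¹) * (g ^ 2 * m * (g ^ 2)⁻¹) ∈ mZ A θ s z ∧
      m * (g * m * g⁻¹) * (g ^ 2 * m * (g ^ 2)⁻¹) ∈ centralizer ({g} : Set G) := by
  have h1 := (Subgroup.mem_normalizer_iff.mp (mZ_inv h hcub F hg) m).mp hm
  have h2 := (Subgroup.mem_normalizer_iff.mp (mZ_inv h hcub F (pow_mem hg 2)) m).mp hm
  refine ⟨mul_mem (mul_mem hm h1) h2, Subgroup.mem_centralizer_singleton_iff.mpr ?_⟩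
  have h3 : g ^ 3 = 1 := h.hA.2 g hg
  obtain ⟨a, ha⟩ : ∃ a, a = g * m * g⁻¹ := ⟨_, rfl⟩
  obtain ⟨b, hb⟩ : ∃ b, b = g ^ 2 * m * (g ^ 2)⁻¹ := ⟨_, rfl⟩
  rw [← ha, ← hb]
  rw [← ha] at h1
  rw [← hb] at h2
  have e : g * (m * a * b) * g⁻¹ = m * a * b := by
    have ea : g * a * g⁻¹ = b := by
      rw [ha, hb, pow_two, mul_inv_rev]; simp only [mul_assoc]
    have eb : g * b * g⁻¹ = m := by
      rw [hb, show g * (g ^ 2 * m * (g ^ 2)⁻¹) * g⁻¹ = g ^ 3 * m * (g ^ 3)⁻¹ by group, h3, one_mul, inv_one, mul_one]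
    calc g * (m * a * b) * g⁻¹ = (g * m * g⁻¹) * (g * a * g⁻¹) * (g * b * g⁻¹) := by group
      _ = a * b * m := by rw [← ha, ea, eb]
      _ = m * a * b := by rw [← mZ_comm h hcub F hm (mul_mem h1 h2), mul_assoc]
  exact (mul_inv_eq_iff_eq_mul.mp e).symm

theorem outside_ne {g : G} (hgA : g ∈ A) (hgn : g ∉ normalizer (N : Set G)) :
    tr g N ≠ N ∧ tr (g ^ 2) N ≠ N := by
  refine ⟨fun e => hgn (tr_eq_iff.mp e), fun e => hgn ?_⟩
  have := mul_mem (tr_eq_iff.mp e) (tr_eq_iff.mp e)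
  rwa [← pow_add, show 2 + 2 = 3 + 1 from rfl, pow_succ, h.hA.2 g hgA, one_mul] at this

/-- Modulo the subgroup everything is fixed by an outside point. -/
theorem cover_mod {g : G} (hgA : g ∈ A) (hgn : g ∉ normalizer (N : Set G)) {m : G} (hm : m ∈ mZ A θ s z) :
    ∃ n ∈ mZ A θ s z, n ∈ centralizer ({g} : Set G) ∧ m * n ∈ N := by
  classical
  have h3 : g ^ 3 = 1 := h.hA.2 g hgA
  set D := tr g N ⊓ tr (g ^ 2) N with hDdef
  have hS1 := sep_tr h hcub F hN hgA
  have hS2 := sep_tr h hcub F hN (pow_mem hgA 2)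
  obtain ⟨m₀, hm₀, hm₀N, hm₀S⟩ := inter_not_le h hcub F hN {tr g N, tr (g ^ 2) N} (by
    obtain ⟨e1, e2⟩ := outside_ne h hcub F hN hgA hgn
    intro M hM
    rcases Finset.mem_insert.mp hM with rfl | hM
    · exact ⟨hS1, e1⟩
    · rw [Finset.mem_singleton] at hM
      exact hM ▸ ⟨hS2, e2⟩)
  have hm₀D : m₀ ∈ D := Subgroup.mem_inf.mpr ⟨hm₀S _ (by simp), hm₀S _ (by simp)⟩
  have hDn : gamT A θ s z ≤ normalizer (D : Set G) := inf_normalizes hS1.norm hS2.norm
  have hNDle : N ⊔ D ≤ mZ A θ s z := sup_le hN.le (inf_le_left.trans hS1.le)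
  have hNDn := normalizes_sup' hN.norm hDn
  have htop : mZ A θ s z ≤ N ⊔ D := mZ_le_of_mem h hcub F hNDn (by
    by_contra hs
    exact hm₀N (hN.top _ le_sup_left hNDle hNDn hs (Subgroup.mem_sup_right hm₀D)))
  have hDN : D ≤ normalizer (N : Set G) := fun d hd => Comp.mem_normalizer_of_maps fun v hv => by
    rw [mZ_comm h hcub F (hNDle (Subgroup.mem_sup_right hd)) (hN.le hv), mul_inv_cancel_right]
    exact hv
  obtain ⟨x, hx, d, hd, rfl⟩ := CfsgLib.mem_sup_of_le_normalizer hDN (htop hm)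
  obtain ⟨hd1, hd2⟩ := Subgroup.mem_inf.mp hd
  have hdM := hS1.le hd1
  have hgd : g * d * g⁻¹ ∈ N := by
    have h4 := mem_tr.mp hd2
    rwa [show (g ^ 2)⁻¹ = g by rw [inv_eq_iff_mul_eq_one, ← pow_succ, h3],
      show g ^ 2 = g⁻¹ by rw [eq_inv_iff_mul_eq_one, ← pow_succ, h3]] at h4
  have hg2d : g ^ 2 * d * (g ^ 2)⁻¹ ∈ N := by
    have h4 := mem_tr.mp hd1
    rwa [show (g ^ 2)⁻¹ = g by rw [inv_eq_iff_mul_eq_one, ← pow_succ, h3],
      show g ^ 2 = g⁻¹ by rw [eq_inv_iff_mul_eq_one, ← pow_succ, h3]]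
  obtain ⟨h5, h6⟩ := norm_eq h hcub F hN hgA hdM
  refine ⟨_, h5, h6, ?_⟩
  rw [show x * d * (d * (g * d * g⁻¹) * (g ^ 2 * d * (g ^ 2)⁻¹)) =
    x * (d * d) * ((g * d * g⁻¹) * (g ^ 2 * d * (g ^ 2)⁻¹)) by group, mZ_sq h hcub F hdM, mul_one]
  exact mul_mem hx (mul_mem hgd hg2d)

/-- A point outside the stabiliser has components. -/
theorem gp_outside {g : G} (hgA : g ∈ A) (hgn : g ∉ normalizer (N : Set G)) : GP A θ g := by
  have hg : Pt A g := ⟨hgA, fun e => hgn (e ▸ one_mem _)⟩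
  refine ⟨hg, ?_⟩
  by_contra hno
  set W := N ⊔ zpowers s with hW
  have hfix : mZ A θ s z ⊓ centralizer ({g} : Set G) ≤ W := by
    refine le_of_planes_at h hg (fun hd => (gam_spec h hcub F).1.2.1 (hd.trans (Subgroup.card_dvd_of_le
      ((inf_le_left.trans (mZ_le h hcub F)).trans inf_le_left))))
      (inf_normalizes (mZ_inv h hcub F) (centralizer_singleton_normalizes h.hA hgA)) inf_le_right
      fun B hB hB3 hgB x hx => ?_
    obtain ⟨⟨hxM, -⟩, hxB⟩ := hx
    obtain ⟨y, hyB, hy⟩ := exists_gp_plane h hcub hB hB3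
    obtain ⟨K, hK, hsp⟩ := exists_spec h hcub F hN hy
    have hxy := Subgroup.centralizer_le (Set.singleton_subset_iff.mpr hyB) hxB
    obtain ⟨k, hk, hkN, hke⟩ := coord_mod h hcub F hN hy hK hsp hxM hxy
    obtain ⟨j, hj, hjN, hje⟩ := coord_mod h hcub F hN hy hK hsp (s_mem_mZ h hcub F)
      (cent_A_le h hy.pt.1 (dfix_le_cent h F.s_mem))
    obtain rfl : j = sC h hcub F hy hK := (hje (dfix_le_theta h hy.pt F.s_mem)).symm
    obtain ⟨hc, hnor⟩ := empty_coord h hcub F hy hg hno hK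
    have hxθ := (mZ_crd h hcub F hy hxM hxy).1
    have hgC := Subgroup.centralizer_le (Set.singleton_subset_iff.mpr hgB) hxB
    have hsk : sC h hcub F hy hK ∈ normalizer (centralizer ({zC h hcub F hy hK} : Set ↥K) : Set ↥K) :=
      hnor (dfix_le_theta h hy.pt F.s_mem) (cent_A_le h hgA (dfix_le_cent h F.s_mem))
    have hinv : sC h hcub F hy hK * zC h hcub F hy hK * (sC h hcub F hy hK)⁻¹ = (zC h hcub F hy hK)⁻¹ := by
      unfold sC zC
      rw [← map_inv, ← map_inv, ← map_mul, ← map_mul]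
      refine congrArg _ (Subtype.ext ?_)
      show s * z * s⁻¹ = z⁻¹
      rw [inv_eq_of_mul_eq_one_right F.s_sq, F.inv]
    rcases fr_inv_small (crd_suz h hcub hy hK) (sC_order h hcub F hy hK) (zC_order h hcub F hy hK) hc hsk hinv
      (e := k) (hke hxθ ▸ hnor hxθ hgC) hk.1 hk.2 with e | e
    · refine Subgroup.mem_sup_left ?_
      simpa [e] using hkN
    · rw [e] at hkN
      have h1 : x * s ∈ N := by
        have h2 := mul_mem hkN hjN
        have e3 := mZ_comm h hcub F (s_mem_mZ h hcub F) (crd_mem_mZ h hcub F hy hK hj.1 hj.2)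
        rw [e3, mul_assoc x, ← mul_assoc ((sC h hcub F hy hK : ↥(θ y)) : G),
          show ((sC h hcub F hy hK : ↥(θ y)) : G) * (sC h hcub F hy hK : ↥(θ y)) = 1 from
            congrArg (fun w : ↥K => ((w : ↥(θ y)) : G)) hj.1, one_mul] at h2
        exact h2
      rw [show x = (x * s) * s⁻¹ by group]
      exact Subgroup.mul_mem_sup h1 (inv_mem (mem_zpowers s))
  have htop : ∀ m ∈ mZ A θ s z, m ∈ W := fun m hm => by
    obtain ⟨n, hn, hng, hmn⟩ := cover_mod h hcub F hN hgA hgn hm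
    rw [show m = (m * n) * n⁻¹ by group]
    exact mul_mem (Subgroup.mem_sup_left hmn) (inv_mem (hfix (Subgroup.mem_inf.mpr ⟨hn, hng⟩)))
  obtain ⟨B, hB, hB3, -⟩ := exists_plane_avoiding h hg
  obtain ⟨y, -, hy⟩ := exists_gp_plane h hcub hB hB3
  obtain ⟨K, hK, hsp⟩ := exists_spec h hcub F hN hy
  obtain ⟨e, he, hes, he1, hesk⟩ :=
    fr_four (crd_suz h hcub hy hK) (sC_order h hcub F hy hK) (zC_order h hcub F hy hK)
  have hem := crd_mem_mZ h hcub F hy hK he hes
  have hzn : zpowers s ≤ normalizer (N : Set G) := Subgroup.zpowers_le.mpr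
    (Comp.mem_normalizer_of_maps fun v hv => by
      rw [mZ_comm h hcub F (s_mem_mZ h hcub F) (hN.le hv), mul_inv_cancel_right]
      exact hv)
  obtain ⟨x, hx, w, hw, exw⟩ := CfsgLib.mem_sup_of_le_normalizer hzn (htop _ hem)
  obtain ⟨i, rfl⟩ := hw
  beta_reduce at exw
  rcases Int.even_or_odd i with ⟨q, rfl⟩ | ⟨q, rfl⟩
  · rw [show s ^ (q + q) = 1 by rw [zpow_add, ← (Commute.refl s).mul_zpow, F.s_sq, one_zpow], mul_one] at exw
    exact he1 (spec_ker h hcub F hN hy hK hsp ⟨he, hes⟩ (exw ▸ hx))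
  · rw [show s ^ (2 * q + 1) = s by rw [zpow_add, zpow_mul, zpow_two, F.s_sq, one_zpow, one_mul, zpow_one]] at exw
    obtain ⟨j, hj, hjN, hje⟩ := coord_mod h hcub F hN hy hK hsp (s_mem_mZ h hcub F)
      (cent_A_le h hy.pt.1 (dfix_le_cent h F.s_mem))
    obtain rfl : j = sC h hcub F hy hK := (hje (dfix_le_theta h hy.pt F.s_mem)).symm
    refine hesk ?_
    have h1 := spec_ker h hcub F hN hy hK hsp (inE_mul h hcub F hy hK ⟨he, hes⟩ hj) (by
      show ((e : ↥(θ y)) : G) * (sC h hcub F hy hK : ↥(θ y)) ∈ N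
      rw [← exw, mul_assoc]
      exact mul_mem hx hjN)
    rw [mul_eq_one_iff_eq_inv] at h1
    rw [h1, inv_eq_of_mul_eq_one_right hj.1]

theorem al_fix {g : G} (hg : GP A θ g) (i : ℕ) : al h hg.pt (el hg.pt ^ i) = 1 := by
  have h1 : al h hg.pt (el hg.pt) = 1 := MulEquiv.ext fun x => Subtype.ext (by
    rw [actOn_val]
    exact conj_of_commute (Subgroup.mem_centralizer_singleton_iff.mp (theta_le_cent h.hθ hg.pt x.2)).symm)
  rw [map_pow, h1, one_pow]

theorem spec_tr {g : G} (hg : GP A θ g) (a : A) {K : Subgroup ↥(θ g)} (hK : IsComponent K) :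
    Spec h hcub F (tr (a : G) N) hg (mp_comp (e := al h hg.pt a) hK) ↔ Spec h hcub F N hg hK := by
  have h1 := crd_al h hcub hg a hK ⟨s, dfix_le_theta h hg.pt F.s_mem⟩
  rw [show al h hg.pt a ⟨s, dfix_le_theta h hg.pt F.s_mem⟩ = ⟨s, dfix_le_theta h hg.pt F.s_mem⟩ from
    Subtype.ext (by
      rw [actOn_val]
      exact conj_of_commute (Subgroup.mem_centralizer_iff.mp (dfix_le_cent h F.s_mem) a a.2))] at h1
  have h2 : ((sC h hcub F hg (mp_comp (e := al h hg.pt a) hK) : ↥(θ g)) : G) =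
      (a : G) * ((sC h hcub F hg hK : ↥(θ g)) : G) * (a : G)⁻¹ := (congrArg Subtype.val h1).trans (actOn_val _ _ _ _)
  unfold Spec
  rw [h2, mem_tr]
  rw [show (a : G)⁻¹ * ((a : G) * ((sC h hcub F hg hK : ↥(θ g)) : G) * (a : G)⁻¹) * a =
    ((sC h hcub F hg hK : ↥(θ g)) : G) by group]

/-- The stabiliser of the special component. -/
theorem spec_stab {g : G} (hg : GP A θ g) (hgn : g ∉ normalizer (N : Set G)) {K : Subgroup ↥(θ g)}
    (hK : IsComponent K) (hsp : Spec h hcub F N hg hK) (a : A) :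
    mp (al h hg.pt a) K = K ↔ ∃ i : ℕ, (a : G) * g ^ i ∈ normalizer (N : Set G) := by
  classical
  have hgA := hg.pt.1
  constructor
  · intro hfx
    by_contra hall
    push Not at hall
    have ha3 : g ^ 3 = 1 := h.hA.2 g hgA
    set S : Finset (Subgroup G) := {tr g N, tr (g ^ 2) N, tr (a : G) N, tr ((a : G) * g) N, tr ((a : G) * g ^ 2) N}
    have hne : ∀ i, tr ((a : G) * g ^ i) N ≠ N := fun i e => hall i (tr_eq_iff.mp e)
    obtain ⟨m, hm, hmN, hmS⟩ := inter_not_le h hcub F hN S (by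
      obtain ⟨e1, e2⟩ := outside_ne h hcub F hN hgA hgn
      intro M hM
      simp only [S, Finset.mem_insert, Finset.mem_singleton] at hM
      rcases hM with rfl | rfl | rfl | rfl | rfl
      · exact ⟨sep_tr h hcub F hN hgA, e1⟩
      · exact ⟨sep_tr h hcub F hN (pow_mem hgA 2), e2⟩
      · exact ⟨sep_tr h hcub F hN a.2, by simpa using hne 0⟩
      · exact ⟨sep_tr h hcub F hN (mul_mem a.2 hgA), by simpa using hne 1⟩
      · exact ⟨sep_tr h hcub F hN (mul_mem a.2 (pow_mem hgA 2)), hne 2⟩)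
    obtain ⟨hnM, hng⟩ := norm_eq h hcub F hN hgA hm
    set n := m * (g * m * g⁻¹) * (g ^ 2 * m * (g ^ 2)⁻¹) with hn
    have hi2 : (g ^ 2)⁻¹ = g := by rw [inv_eq_iff_mul_eq_one, ← pow_succ, ha3]
    have hi1 : g⁻¹ = g ^ 2 := by rw [inv_eq_iff_mul_eq_one, ← pow_succ', ha3]
    have hc : ∀ x ∈ A, x * (a : G) = a * x := fun x hx => ea_comm h.hA hx a.2
    have hgN : g * m * g⁻¹ ∈ N := by
      have := mem_tr.mp (hmS (tr (g ^ 2) N) (by simp [S]))
      rwa [hi2, show g ^ 2 = g⁻¹ from hi1.symm] at this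
    have hg2N : g ^ 2 * m * (g ^ 2)⁻¹ ∈ N := by
      have := mem_tr.mp (hmS (tr g N) (by simp [S]))
      rwa [hi2, ← hi1]
    have hnotN : n ∉ N := fun e => hmN (by
      have := mul_mem e (inv_mem (mul_mem hgN hg2N))
      rwa [hn, mul_assoc m, mul_inv_cancel_right] at this)
    have hmem : n ∈ tr (a : G) N := by
      refine mul_mem (mul_mem (hmS _ (by simp [S])) (mem_tr.mpr ?_)) (mem_tr.mpr ?_)
      · have := mem_tr.mp (hmS (tr ((a : G) * g ^ 2) N) (by simp [S]))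
        rw [mul_inv_rev, hi2, show (a : G) * g ^ 2 = g⁻¹ * a by rw [hi1, hc _ (pow_mem hgA 2)]] at this
        rw [show (a : G)⁻¹ * (g * m * g⁻¹) * a = ((a : G)⁻¹ * g) * m * (g⁻¹ * a) by group,
          show (a : G)⁻¹ * g = g * (a : G)⁻¹ from ea_comm h.hA (inv_mem a.2) hgA]
        exact this
      · have := mem_tr.mp (hmS (tr ((a : G) * g) N) (by simp [S]))
        rw [mul_inv_rev, hi1, show (a : G) * g = (g ^ 2)⁻¹ * a by rw [hi2, hc _ hgA]] at this
        rw [show (a : G)⁻¹ * (g ^ 2 * m * (g ^ 2)⁻¹) * a = ((a : G)⁻¹ * g ^ 2) * m * ((g ^ 2)⁻¹ * a) by group,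
          show (a : G)⁻¹ * g ^ 2 = g ^ 2 * (a : G)⁻¹ from ea_comm h.hA (inv_mem a.2) (pow_mem hgA 2)]
        exact this
    obtain ⟨k, hk, hkN, hke⟩ := coord_mod h hcub F hN hg hK hsp hnM hng
    have hN' := sep_tr h hcub F hN a.2
    have hsp' : Spec h hcub F (tr (a : G) N) hg hK := by
      have key : ∀ (K' : Subgroup ↥(θ g)) (hK' : IsComponent K'), K' = K →
          Spec h hcub F (tr (a : G) N) hg hK' → Spec h hcub F (tr (a : G) N) hg hK := by
        rintro K' hK' rfl h'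
        exact h'
      exact key _ _ hfx ((spec_tr h hcub F hN hg a hK).mpr hsp)
    obtain ⟨k', hk', hkN', hke'⟩ := coord_mod h hcub F hN' hg hK hsp' hnM hng
    obtain ⟨hnθ, -⟩ := mZ_crd h hcub F hg hnM hng
    obtain rfl : k' = k := (hke' hnθ).symm.trans (hke hnθ)
    have h1 := spec_ker h hcub F hN' hg hK hsp' hk' (by
      have := mul_mem (inv_mem hmem) hkN'
      rwa [inv_mul_cancel_left] at this)
    rw [h1] at hkN
    exact hnotN (by simpa using hkN)
  · rintro ⟨i, hi⟩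
    have h1 : mp (al h hg.pt a) K = mp (al h hg.pt (a * el hg.pt ^ i)) K := by
      rw [map_mul, al_fix h hcub F hN hg i, mul_one]
    rw [h1]
    have h2 := (spec_tr h hcub F hN hg (a * el hg.pt ^ i) hK).mpr hsp
    have e : tr ((a * el hg.pt ^ i : A) : G) N = N := tr_eq_iff.mpr (by simpa using hi)
    unfold Spec at h2
    rw [e] at h2
    exact spec_eq h hcub F hN hg _ hK h2 hsp

end Data

end CfsgLib.SF23
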