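import Cfsg.Agent.Lib.SF23.GlueStab

/-!
Identification of the special components at the points of the plane.
-/

set_option autoImplicit false
set_option linter.unusedSectionVars false
set_option linter.style.haveILetI false

namespace CfsgLib.SF23

open Cfsg Subgroup CfsgLib.Signalizer CfsgLib.SolvSF

universe u

/-- Elements of a piece agree if their coordinates at the component agree. -/
theorem piece_ext {H : Type u} [Group H] [Finite H] (hR : solvableRadical H = ⊥) {β : MulAut H} {K : Subgroup H}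
    (hK : IsComponent K) {a b : H} (ha : a ∈ piece β K hR) (hb : b ∈ piece β K hR) (e : prj K a = prj K b) :
    a = b := by
  refine layer_ext hR ha.1 hb.1 fun L hL => ?_
  have step : ∀ {M : Subgroup H}, IsComponent M → prj M a = prj M b → prj (mp β M) a = prj (mp β M) b := by
    intro M hM e'
    have h1 := prj_map hR β hM ha.1
    have h2 := prj_map hR β hM hb.1
    rw [ha.2.1] at h1
    rw [hb.2.1] at h2
    rw [h1, h2, e']
  by_cases e0 : L = K
  · rw [e0, e]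
  by_cases e1 : L = mp β K
  · rw [e1]; exact step hK e
  by_cases e2 : L = mp β (mp β K)
  · rw [e2]; exact step (mp_comp hK) (step hK e)
  · rw [ha.2.2 L hL e0 e1 e2, hb.2.2 L hL e0 e1 e2]

variable {G : Type u} [Group G] [Finite G] {A : Subgroup G} {θ : G → Subgroup G}

/-- A copy of the base component at a point of the plane. -/
structure Dir (h : Ctx 3 A θ) (hcub : CubicTrivial.{u}) {s z : G} (F : Frame h s z) (N R : Subgroup G) {g₀ : G}
    (hg₀ : GP A θ g₀) {K₀ : Subgroup ↥(θ g₀)} (hK₀ : IsComponent K₀) (g : G) (σ : ↥K₀ →* G) : Prop where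
  mem : ∀ u, σ u ∈ θ g
  inj : Function.Injective σ
  congr : ∀ e, InE h hcub F hg₀ hK₀ e → σ e ∈ mZ A θ s z ∧ σ e * ((e : ↥(θ g₀)) : G) ∈ N
  swap : ∀ u, z * s * σ u * (z * s)⁻¹ = σ (zC h hcub F hg₀ hK₀ * sC h hcub F hg₀ hK₀ * u *
    (zC h hcub F hg₀ hK₀ * sC h hcub F hg₀ hK₀)⁻¹)
  away : ∀ x ∈ R, x ∉ zpowers g → (∀ u v, σ u * (x * σ v * x⁻¹) = x * σ v * x⁻¹ * σ u) ∧
    ∀ e, InE h hcub F hg₀ hK₀ e → x * σ e * x⁻¹ ∈ N
  torus : ∀ t ∈ fTor (sC h hcub F hg₀ hK₀) (zC h hcub F hg₀ hK₀), σ t ∈ gamT A θ s z ∧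
    ∀ m ∈ mZ A θ s z, σ t * m * (σ t)⁻¹ * (((t : ↥(θ g₀)) : G) * m * ((t : ↥(θ g₀)) : G)⁻¹) ∈ N
  torus_away : ∀ x ∈ R, x ∉ zpowers g → ∀ t ∈ fTor (sC h hcub F hg₀ hK₀) (zC h hcub F hg₀ hK₀),
    ∀ m ∈ mZ A θ s z, x * σ t * x⁻¹ * m * (x * σ t * x⁻¹)⁻¹ * m ∈ N
  span : θ g ≤ ⨆ r : {r : G // r ∈ R}, tr (r : G) σ.range

section Data

variable (h : Ctx 3 A θ) (hcub : CubicTrivial.{u}) {s z : G} (F : Frame h s z)
include h hcub F

theorem endo_tr {t : G} (ht : t ∈ gamT A θ s z) : Endo A θ s z (fun m => t * m * t⁻¹) where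
  maps m hm := (Subgroup.mem_normalizer_iff.mp (gamT_normalizes_mZ h hcub F ht) m).mp hm
  mul m _ n _ := by group
  equiv w hw m _ := by
    calc t * (w * m * w⁻¹) * t⁻¹ = t * w * m * (t * w)⁻¹ := by group
      _ = w * (t * m * t⁻¹) * w⁻¹ := by rw [gamT_comm h hcub F ht hw]; group
  keep N _ hN n hn := (Subgroup.mem_normalizer_iff.mp (hN ht) n).mp hn

theorem endo_mul {f f' : G → G} (hf : Endo A θ s z f) (hf' : Endo A θ s z f') :
    Endo A θ s z (fun x => f x * f' x) where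
  maps a ha := mul_mem (hf.maps a ha) (hf'.maps a ha)
  mul a ha b hb := by
    have h1 := mZ_comm h hcub F (hf.maps b hb) (hf'.maps a ha)
    rw [hf.mul a ha b hb, hf'.mul a ha b hb]
    calc f a * f b * (f' a * f' b) = f a * (f b * f' a) * f' b := by group
      _ = f a * (f' a * f b) * f' b := by rw [h1]
      _ = f a * f' a * (f b * f' b) := by group
  equiv t ht a ha := by rw [hf.equiv t ht a ha, hf'.equiv t ht a ha]; group
  keep N h1 h2 n hn := mul_mem (hf.keep N h1 h2 n hn) (hf'.keep N h1 h2 n hn)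

/-- Congruence modulo a subgroup of the exponent two group. -/
theorem cong_trans {N : Subgroup G} {a b c : G} (hb : b ∈ mZ A θ s z) (h1 : a * b ∈ N) (h2 : b * c ∈ N) :
    a * c ∈ N := by
  have := mul_mem h1 h2
  rwa [show a * b * (b * c) = a * (b * b) * c by group, mZ_sq h hcub F hb, mul_one] at this

theorem cong_symm {N : Subgroup G} {a b : G} (ha : a ∈ mZ A θ s z) (hb : b ∈ mZ A θ s z) (h1 : a * b ∈ N) :
    b * a ∈ N := mZ_comm h hcub F ha hb ▸ h1

/-- An element of the exponent two group is fixed by its conjugating fixed elements. -/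
theorem conj_s_mem {g : G} (hg : GP A θ g) {w : G} (hw : w ∈ θ g) (hwT : w ∈ gamT A θ s z) :
    w * s * w⁻¹ ∈ mZ A θ s z ∧ w * s * w⁻¹ ∈ centralizer ({g} : Set G) :=
  ⟨Subgroup.subset_closure ⟨w, hwT, rfl⟩, mul_mem (mul_mem (theta_le_cent h.hθ hg.pt hw)
    (cent_A_le h hg.pt.1 (dfix_le_cent h F.s_mem))) (inv_mem (theta_le_cent h.hθ hg.pt hw))⟩

variable {N B R : Subgroup G} (D : Glue h s z N B R)
include D

theorem glue_gp {b : G} (hb : b ∈ B) (hb1 : b ≠ 1) : GP A θ b ∧ b ∉ normalizer (N : Set G) := by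
  have hn : b ∉ normalizer (N : Set G) := fun e => hb1 (D.avoid b (D.B_le hb) e)
  exact ⟨gp_outside h hcub F D.sep (D.R_le (D.B_le hb)) hn, hn⟩

theorem moves {g : G} (hg : GP A θ g) (hgR : g ∈ R) (hgn : g ∉ normalizer (N : Set G)) {K : Subgroup ↥(θ g)}
    (hK : IsComponent K) (hsp : Spec h hcub F N hg hK) {x : A} (hxR : (x : G) ∈ R) (hx : (x : G) ∉ zpowers g) :
    mp (al h hg.pt x) K ≠ K := fun e => by
  obtain ⟨i, hi⟩ := (spec_stab h hcub F D.sep hg hgn hK hsp x).mp e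
  have := D.avoid _ (mul_mem hxR (pow_mem hgR i)) hi
  rw [mul_eq_one_iff_eq_inv] at this
  exact hx (this ▸ inv_mem (pow_mem (mem_zpowers g) i))

/-- The torus action modulo the subgroup is read from the special coordinate. -/
theorem torus_mod {g : G} (hg : GP A θ g) {K : Subgroup ↥(θ g)} (hK : IsComponent K)
    (hsp : Spec h hcub F N hg hK) {w : ↥(θ g)} (hwT : (w : G) ∈ gamT A θ s z) :
    (w : G) * s * (w : G)⁻¹ * (((crd h hcub hg hK w * sC h hcub F hg hK * (crd h hcub hg hK w)⁻¹ : ↥K) :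
      ↥(θ g)) : G) ∈ N := by
  obtain ⟨h1, h2⟩ := conj_s_mem h hcub F hg w.2 hwT
  obtain ⟨k, -, hkN, hke⟩ := coord_mod h hcub F D.sep hg hK hsp h1 h2
  have h3 := hke (mul_mem (mul_mem w.2 (dfix_le_theta h hg.pt F.s_mem)) (inv_mem w.2))
  rw [show (⟨(w : G) * s * (w : G)⁻¹, mul_mem (mul_mem w.2 (dfix_le_theta h hg.pt F.s_mem)) (inv_mem w.2)⟩ :
    ↥(θ g)) = w * ⟨s, dfix_le_theta h hg.pt F.s_mem⟩ * w⁻¹ from rfl, map_mul, map_mul, map_inv] at h3
  exact h3 ▸ hkN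

theorem sC_mod {g : G} (hg : GP A θ g) {K : Subgroup ↥(θ g)} (hK : IsComponent K)
    (hsp : Spec h hcub F N hg hK) : s * ((sC h hcub F hg hK : ↥(θ g)) : G) ∈ N := by
  obtain ⟨j, -, hjN, hje⟩ := coord_mod h hcub F D.sep hg hK hsp (s_mem_mZ h hcub F)
    (cent_A_le h hg.pt.1 (dfix_le_cent h F.s_mem))
  rwa [show sC h hcub F hg hK = j from hje (dfix_le_theta h hg.pt F.s_mem)]

set_option maxHeartbeats 800000 in
/-- The special components at two independent points are identified. -/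
theorem exists_rho {a b : G} (ha : a ∈ B) (hb : b ∈ B) (hga : GP A θ a) (hgb : GP A θ b)
    (han : a ∉ normalizer (N : Set G)) (hab : b ∉ zpowers a) {K : Subgroup ↥(θ a)} {L : Subgroup ↥(θ b)}
    (hK : IsComponent K) (hL : IsComponent L) (hsp : Spec h hcub F N hga hK) (hsp' : Spec h hcub F N hgb hL) :
    ∃ ρ : ↥K →* ↥L, Function.Injective ρ ∧ ρ (sC h hcub F hga hK) = sC h hcub F hgb hL ∧
      (∀ e, InE h hcub F hga hK e → InE h hcub F hgb hL (ρ e) ∧
        ((ρ e : ↥(θ b)) : G) * ((e : ↥(θ a)) : G) ∈ N) ∧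
      (Function.Surjective ρ → ρ (zC h hcub F hga hK) = zC h hcub F hgb hL) := by
  have hR := rad_theta h hcub hga
  have h3 := three_theta h hcub hga
  set β := al h hga.pt (el hgb.pt) with hβdef
  have hβ : β ^ 3 = 1 := by rw [hβdef, ← map_pow, act_cube h.hA, map_one]
  have hm : mp β K ≠ K := moves h hcub F D hga (D.B_le ha) han hK hsp (x := el hgb.pt) (D.B_le hb) hab
  let δ : ↥K →* ↥(θ a) :=
    { toFun := fun t => (t : ↥(θ a)) * β t * β (β t)
      map_one' := by simp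
      map_mul' := fun t u => by
        obtain ⟨p1, q1, -⟩ := diag_spec hR h3 hβ hK hm t.2
        obtain ⟨p2, q2, -⟩ := diag_spec hR h3 hβ hK hm u.2
        obtain ⟨p3, q3, -⟩ := diag_spec hR h3 hβ hK hm (t * u).2
        refine piece_ext hR hK p3 (mul_mem p1 p2) ?_
        rw [q3, prj_mul hR hK p1.1 p2.1, q1, q2]
        rfl }
  have hd : ∀ t, δ t ∈ piece β K hR ∧ prj K (δ t) = (t : ↥(θ a)) := fun t => by
    obtain ⟨p, q, -⟩ := diag_spec hR h3 hβ hK hm t.2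
    exact ⟨p, q⟩
  have hfixC : ∀ {w : ↥(θ a)}, β w = w ↔ (w : G) ∈ centralizer ({b} : Set G) := fun {w} => by
    rw [hβdef, Subtype.ext_iff, actOn_val, Subgroup.mem_centralizer_singleton_iff, mul_inv_eq_iff_eq_mul, eq_comm]
  have hδc : ∀ t, ((δ t : ↥(θ a)) : G) ∈ centralizer ({b} : Set G) := fun t => hfixC.mp (hd t).1.2.1
  have hδb : ∀ t, ((δ t : ↥(θ a)) : G) ∈ θ b := fun t =>
    balance h.hθ hga.pt hgb.pt (Subgroup.mem_inf.mpr ⟨(δ t).2, hδc t⟩)
  let δb : ↥K →* ↥(θ b) :=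
    { toFun := fun t => ⟨((δ t : ↥(θ a)) : G), hδb t⟩
      map_one' := Subtype.ext (by simp [map_one])
      map_mul' := fun t u => Subtype.ext (by simp [map_mul]) }
  let ρ : ↥K →* ↥L := (crd h hcub hgb hL).comp δb
  -- coordinates of fixed elements along the orbit
  have horb : ∀ {w : ↥(θ a)}, β w = w → ∀ M (hM : IsComponent M),
      crd h hcub hga (K := M) hM (δ (crd h hcub hga hK w)) = crd h hcub hga hM w ∨
        crd h hcub hga (K := M) hM (δ (crd h hcub hga hK w)) = 1 ∧ (M ≠ K ∧ M ≠ mp β K ∧ M ≠ mp β (mp β K)) := by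
    intro w hw M hM
    obtain ⟨p, q⟩ := hd (crd h hcub hga hK w)
    have step : ∀ {M : Subgroup ↥(θ a)}, IsComponent M → prj M (δ (crd h hcub hga hK w)) = prj M w →
        prj (mp β M) (δ (crd h hcub hga hK w)) = prj (mp β M) w := by
      intro M hM e'
      have h1 := prj_map hR β hM p.1
      have h2 := prj_map hR β hM (mem_lay h hcub hga w)
      rw [p.2.1] at h1
      rw [hw] at h2
      rw [h1, h2, e']
    by_cases e0 : M = K
    · exact Or.inl (Subtype.ext (by rw [crd_val, crd_val, e0, q, crd_val]))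
    by_cases e1 : M = mp β K
    · exact Or.inl (Subtype.ext (by rw [crd_val, crd_val, e1]; exact step hK (by rw [q, crd_val])))
    by_cases e2 : M = mp β (mp β K)
    · exact Or.inl (Subtype.ext (by rw [crd_val, crd_val, e2]; exact step (mp_comp hK) (step hK (by rw [q, crd_val]))))
    · exact Or.inr ⟨Subtype.ext (p.2.2 M hM e0 e1 e2), e0, e1, e2⟩
  have hρE : ∀ e, InE h hcub F hga hK e → InE h hcub F hgb hL (ρ e) ∧
      ((ρ e : ↥(θ b)) : G) * ((e : ↥(θ a)) : G) ∈ N := by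
    intro e he
    have hm0 : ((δ e : ↥(θ a)) : G) ∈ mZ A θ s z := by
      refine mem_of_prj hR (W := (mZ A θ s z).subgroupOf (θ a)) (x := δ e) (mem_lay h hcub hga _) fun M hM => ?_
      rw [← crd_val h hcub hga hM]
      refine crd_mem_mZ h hcub F hga hM (by rw [← map_mul, ← map_mul, he.1, map_one, map_one]) ?_
      have hs : β ⟨s, dfix_le_theta h hga.pt F.s_mem⟩ = ⟨s, dfix_le_theta h hga.pt F.s_mem⟩ :=
        hfixC.mpr (cent_A_le h hgb.pt.1 (dfix_le_cent h F.s_mem))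
      rcases horb hs M hM with h1 | ⟨-, n0, n1, n2⟩
      · have e' : δ e * δ (sC h hcub F hga hK) = δ (sC h hcub F hga hK) * δ e := by rw [← map_mul, he.2, map_mul]
        unfold sC
        rw [← h1]
        exact (map_mul _ _ _).symm.trans ((congrArg (crd h hcub hga hM) e').trans (map_mul _ _ _))
      · rw [show crd h hcub hga hM (δ e) = 1 from Subtype.ext ((hd e).1.2.2 M hM n0 n1 n2), one_mul, mul_one]
    obtain ⟨k, -, hkN, hke⟩ := coord_mod h hcub F D.sep hga hK hsp hm0 (theta_le_cent h.hθ hga.pt (δ e).2)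
    obtain rfl : k = e := (hke (δ e).2).symm.trans (Subtype.ext (hd e).2)
    obtain ⟨j, hj, hjN, hje⟩ := coord_mod h hcub F D.sep hgb hL hsp' hm0 (hδc k)
    obtain rfl : j = ρ k := (hje (hδb k)).symm
    refine ⟨hj, cong_trans h hcub F hm0 ?_ hkN⟩
    exact cong_symm h hcub F hm0 (crd_mem_mZ h hcub F hgb hL hj.1 hj.2) hjN
  have hρs : ρ (sC h hcub F hga hK) = sC h hcub F hgb hL := by
    obtain ⟨h1, h2⟩ := hρE _ (sC_inE h hcub F hga hK)
    have hMa := crd_mem_mZ h hcub F hga hK (sC_inE h hcub F hga hK).1 rfl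
    have h4 := cong_trans h hcub F hMa h2
      (cong_symm h hcub F (s_mem_mZ h hcub F) hMa (sC_mod h hcub F D hga hK hsp))
    have h5 := cong_trans h hcub F (s_mem_mZ h hcub F) h4 (sC_mod h hcub F D hgb hL hsp')
    have h6 := spec_ker h hcub F D.sep hgb hL hsp' (inE_mul h hcub F hgb hL h1 (sC_inE h hcub F hgb hL)) h5
    rw [mul_eq_one_iff_eq_inv] at h6
    rw [h6, inv_eq_of_mul_eq_one_right (sC_inE h hcub F hgb hL).1]
  refine ⟨ρ, ?_, hρs, hρE, fun hsur => ?_⟩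
  · haveI := suz_simple (crd_suz h hcub hga hK)
    refine (MonoidHom.ker_eq_bot_iff ρ).mp ((Subgroup.Normal.eq_bot_or_eq_top inferInstance).resolve_right fun e => ?_)
    exact inE_ne_one h hcub F hgb hL (hρs ▸ MonoidHom.mem_ker.mp (e ▸ Subgroup.mem_top _))
  · -- agreement of the coordinates of a common element
    have hzb : z ∈ centralizer ({b} : Set G) := cent_A_le h hgb.pt.1 (dfix_le_cent h F.z_mem)
    set w : ↥(θ a) := ⟨z, dfix_le_theta h hga.pt F.z_mem⟩ with hw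
    have hwf : β w = w := hfixC.mpr hzb
    set r := (δ (crd h hcub hga hK w))⁻¹ * w with hr
    have hrθ : (r : G) ∈ θ b := mul_mem (inv_mem (hδb _)) (dfix_le_theta h hgb.pt F.z_mem)
    have hcom : ∀ t, r * δ t = δ t * r := fun t => crd_comm h hcub hga fun M hM => by
      rcases horb hwf M hM with h1 | ⟨-, n0, n1, n2⟩
      · rw [hr, map_mul, map_inv, h1, inv_mul_cancel, one_mul, mul_one]
      · rw [show crd h hcub hga hM (δ t) = 1 from Subtype.ext ((hd t).1.2.2 M hM n0 n1 n2), one_mul, mul_one]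
    have hr1 : crd h hcub hgb hL ⟨(r : G), hrθ⟩ = 1 := by
      refine Subtype.ext (comp_center (rad_theta h hcub hgb) hL (crd h hcub hgb hL ⟨(r : G), hrθ⟩).2 fun l hl => ?_)
      obtain ⟨t, ht⟩ := hsur ⟨l, hl⟩
      have h1 := congrArg (crd h hcub hgb hL) (show (⟨(r : G), hrθ⟩ : ↥(θ b)) * δb t = δb t * ⟨(r : G), hrθ⟩ from
        Subtype.ext (congrArg (fun q : ↥(θ a) => (q : G)) (hcom t)))
      rw [map_mul, map_mul, show crd h hcub hgb hL (δb t) = ⟨l, hl⟩ from ht] at h1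
      exact (congrArg Subtype.val h1).symm
    have h2 : (⟨z, dfix_le_theta h hgb.pt F.z_mem⟩ : ↥(θ b)) = δb (crd h hcub hga hK w) * ⟨(r : G), hrθ⟩ :=
      Subtype.ext (by
        show z = ((δ (crd h hcub hga hK w) : ↥(θ a)) : G) * ((δ (crd h hcub hga hK w) : ↥(θ a))⁻¹ * w : ↥(θ a))
        rw [← Subgroup.coe_mul, mul_inv_cancel_left])
    unfold zC
    rw [h2, map_mul, hr1, mul_one]
    rfl

/-- An identification gives a copy. -/
theorem dir_of_iso {g₀ g : G} (hg₀ : GP A θ g₀) (hg : GP A θ g) (hgR : g ∈ R)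
    (hgn : g ∉ normalizer (N : Set G)) {K₀ : Subgroup ↥(θ g₀)}
    (hK₀ : IsComponent K₀) (hsp₀ : Spec h hcub F N hg₀ hK₀) {K : Subgroup ↥(θ g)} (hK : IsComponent K)
    (hsp : Spec h hcub F N hg hK) (ρ : ↥K₀ ≃* ↥K) (hs : ρ (sC h hcub F hg₀ hK₀) = sC h hcub F hg hK)
    (hz : ρ (zC h hcub F hg₀ hK₀) = zC h hcub F hg hK)
    (hE : ∀ e, InE h hcub F hg₀ hK₀ e → InE h hcub F hg hK (ρ e) ∧
      ((ρ e : ↥(θ g)) : G) * ((e : ↥(θ g₀)) : G) ∈ N) :
    Dir h hcub F N R hg₀ hK₀ g ((θ g).subtype.comp (K.subtype.comp ρ.toMonoidHom)) := by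
  have hR := rad_theta h hcub hg
  have hval : ∀ u, ((θ g).subtype.comp (K.subtype.comp ρ.toMonoidHom)) u = ((ρ u : ↥(θ g)) : G) := fun _ => rfl
  have htor : ∀ t ∈ fTor (sC h hcub F hg₀ hK₀) (zC h hcub F hg₀ hK₀),
      ρ t ∈ fTor (sC h hcub F hg hK) (zC h hcub F hg hK) := fun t ht => by
    obtain ⟨h1, h2⟩ := Subgroup.mem_inf.mp ht
    refine Subgroup.mem_inf.mpr ⟨hs ▸ (mem_norm_iff ρ).mp h1, ?_⟩
    have h3 := (mem_norm_iff ρ).mp h2
    rwa [map_mul, map_mul, map_inv, hs, hz] at h3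
  have hmove : ∀ {x : G} (hxR : x ∈ R), x ∉ zpowers g → mp (al h hg.pt ⟨x, D.R_le hxR⟩) K ≠ K :=
    fun hxR hx => moves h hcub F D hg hgR hgn hK hsp (x := ⟨_, D.R_le hxR⟩) hxR hx
  have hconj : ∀ {x : G} (hxA : x ∈ A) (k : ↥K), x * ((k : ↥(θ g)) : G) * x⁻¹ =
      ((al h hg.pt ⟨x, hxA⟩ (k : ↥(θ g)) : ↥(θ g)) : G) := fun hxA k => (actOn_val _ _ ⟨_, hxA⟩ _).symm
  refine ⟨fun u => by rw [hval]; exact (ρ u : ↥(θ g)).2, fun u v e => ρ.injective (Subtype.ext (Subtype.ext e)),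
    fun e he => ?_, fun u => ?_, fun x hxR hx => ⟨fun u v => ?_, fun e he => ?_⟩, fun t ht => ?_,
    fun x hxR hx t ht m hm => ?_, fun w hw => ?_⟩
  · obtain ⟨h1, h2⟩ := hE e he
    exact ⟨crd_mem_mZ h hcub F hg hK h1.1 h1.2, h2⟩
  · rw [hval, hval, map_mul, map_mul, map_inv, map_mul, hz, hs]
    have e : (⟨z, dfix_le_theta h hg.pt F.z_mem⟩ : ↥(θ g)) * ⟨s, dfix_le_theta h hg.pt F.s_mem⟩ *
        (ρ u : ↥(θ g)) * ((⟨z, dfix_le_theta h hg.pt F.z_mem⟩ : ↥(θ g)) * ⟨s, dfix_le_theta h hg.pt F.s_mem⟩)⁻¹ =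
        ((zC h hcub F hg hK * sC h hcub F hg hK * ρ u * (zC h hcub F hg hK * sC h hcub F hg hK)⁻¹ : ↥K) : ↥(θ g)) :=
      crd_ext h hcub hg fun L hL => by
        by_cases e : L = K
        · subst e
          rw [crd_self h hcub hg hL, map_mul, map_mul, map_inv, map_mul, crd_self h hcub hg hL]
          rfl
        · rw [crd_other h hcub hg hL hK e, map_mul, map_mul, map_inv, crd_other h hcub hg hL hK e, mul_one,
            mul_inv_cancel]
    exact congrArg Subtype.val e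
  · rw [hval, hval, hconj (D.R_le hxR)]
    have := comp_commute hR hK (mp_comp hK) (hmove hxR hx).symm (ρ u).2
      (mem_mp (e := al h hg.pt ⟨x, D.R_le hxR⟩) (ρ v).2)
    exact congrArg Subtype.val this
  · rw [hval, hconj (D.R_le hxR)]
    obtain ⟨h1, -⟩ := hE e he
    set a := al h hg.pt ⟨x, D.R_le hxR⟩
    have hs' := crd_al h hcub hg ⟨x, D.R_le hxR⟩ hK ⟨s, dfix_le_theta h hg.pt F.s_mem⟩
    rw [show al h hg.pt ⟨x, D.R_le hxR⟩ ⟨s, dfix_le_theta h hg.pt F.s_mem⟩ = ⟨s, dfix_le_theta h hg.pt F.s_mem⟩ from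
      Subtype.ext (by
        rw [actOn_val]
        exact conj_of_commute (Subgroup.mem_centralizer_iff.mp (dfix_le_cent h F.s_mem) x (D.R_le hxR)))] at hs'
    refine spec_unique h hcub F D.sep hg hK (mp_comp (e := a) hK) hsp (hmove hxR hx).symm
      (l := ⟨a (ρ e : ↥(θ g)), mem_mp (ρ e).2⟩) ⟨Subtype.ext ?_, Subtype.ext ?_⟩
    · show a _ * a _ = 1
      rw [← map_mul, ← Subgroup.coe_mul, h1.1, OneMemClass.coe_one, map_one]
    · show a _ * (sC h hcub F hg (mp_comp (e := a) hK) : ↥(θ g)) = (sC h hcub F hg (mp_comp (e := a) hK) : ↥(θ g)) * a _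
      unfold sC
      rw [hs', ← map_mul, ← map_mul]
      exact congrArg a (congrArg Subtype.val h1.2)
  · have hρT := tor_mem_gamT h hcub F hg hK (htor t ht)
    have ht0 := tor_mem_gamT h hcub F hg₀ hK₀ ht
    refine ⟨hρT, endo_zero h hcub F (endo_mul h hcub F (endo_tr h hcub F hρT) (endo_tr h hcub F ht0)) D.sep.norm ?_⟩
    have h1 := torus_mod h hcub F D hg hK hsp (w := (ρ t : ↥(θ g))) hρT
    have h2 := torus_mod h hcub F D hg₀ hK₀ hsp₀ (w := (t : ↥(θ g₀))) ht0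
    rw [crd_self] at h1 h2
    have hte : InE h hcub F hg₀ hK₀ (t * sC h hcub F hg₀ hK₀ * t⁻¹) := by
      refine ⟨?_, Subgroup.mem_centralizer_singleton_iff.mp ((Subgroup.mem_normalizer_iff.mp
        (Subgroup.mem_inf.mp ht).1 _).mp (Subgroup.mem_centralizer_singleton_iff.mpr rfl))⟩
      calc t * sC h hcub F hg₀ hK₀ * t⁻¹ * (t * sC h hcub F hg₀ hK₀ * t⁻¹)
          = t * (sC h hcub F hg₀ hK₀ * sC h hcub F hg₀ hK₀) * t⁻¹ := by group
        _ = 1 := by rw [(sC_inE h hcub F hg₀ hK₀).1, mul_one, mul_inv_cancel]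
    obtain ⟨h4, h5⟩ := hE _ hte
    rw [map_mul, map_mul, map_inv, hs] at h4 h5
    have hm1 := crd_mem_mZ h hcub F hg hK h4.1 h4.2
    have hm2 := crd_mem_mZ h hcub F hg₀ hK₀ hte.1 hte.2
    have hm3 : ((t : ↥(θ g₀)) : G) * s * ((t : ↥(θ g₀)) : G)⁻¹ ∈ mZ A θ s z :=
      (conj_s_mem h hcub F hg₀ (t : ↥(θ g₀)).2 ht0).1
    exact cong_trans h hcub F hm2 (cong_trans h hcub F hm1 h1 h5) (cong_symm h hcub F hm3 hm2 h2)
  · rw [hval]
    have hρT := tor_mem_gamT h hcub F hg hK (htor t ht)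
    set a := al h hg.pt ⟨x, D.R_le hxR⟩
    have hxT : x * ((ρ t : ↥(θ g)) : G) * x⁻¹ ∈ gamT A θ s z :=
      (Subgroup.mem_normalizer_iff.mp (gamT_inv h hcub F (D.R_le hxR)) _).mp hρT
    have hid : Endo A θ s z (fun m => m) :=
      ⟨fun _ hm => hm, fun _ _ _ _ => rfl, fun _ _ _ _ => rfl, fun _ _ _ _ hn => hn⟩
    refine endo_zero h hcub F (endo_mul h hcub F (endo_tr h hcub F hxT) hid) D.sep.norm ?_ m hm
    rw [hconj (D.R_le hxR)] at hxT ⊢
    have h1 := torus_mod h hcub F D hg hK hsp (w := a (ρ t : ↥(θ g))) hxT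
    rw [show crd h hcub hg hK (a (ρ t : ↥(θ g))) = 1 from Subtype.ext (prj_other hR hK (mp_comp hK)
      (hmove hxR hx).symm (mem_mp (ρ t).2)), one_mul, inv_one, mul_one] at h1
    have hms := crd_mem_mZ h hcub F hg hK (sC_inE h hcub F hg hK).1 rfl
    exact cong_trans h hcub F hms h1 (cong_symm h hcub F (s_mem_mZ h hcub F) hms (sC_mod h hcub F D hg hK hsp))
  · refine mem_of_prj hR (W := (⨆ r : {r : G // r ∈ R}, tr (r : G)
      ((θ g).subtype.comp (K.subtype.comp ρ.toMonoidHom)).range).subgroupOf (θ g)) (x := ⟨w, hw⟩)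
      (mem_lay h hcub hg _) fun M hM => ?_
    obtain ⟨a, rfl⟩ := orbit_theta h hcub hg hK hM
    obtain ⟨r, hrR, hr⟩ := D.cover a a.2
    have hk : mp (al h hg.pt ⟨r⁻¹ * (a : G), mul_mem (inv_mem (D.R_le hrR)) a.2⟩) K = K :=
      (spec_stab h hcub F D.sep hg hgn hK hsp _).mpr ⟨0, by simpa using hr⟩
    have he : mp (al h hg.pt a) K = mp (al h hg.pt ⟨r, D.R_le hrR⟩) K := by
      conv_rhs => rw [← hk]
      rw [← mp_mul, ← map_mul]
      congr 2
      exact Subtype.ext (mul_inv_cancel_left r (a : G)).symm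
    obtain ⟨k, hkK, ek⟩ := he.le (prj_mem (mp (al h hg.pt a) K) (⟨w, hw⟩ : ↥(θ g)))
    obtain ⟨u, hu⟩ := ρ.surjective ⟨k, hkK⟩
    refine Subgroup.mem_subgroupOf.mpr (Subgroup.mem_iSup_of_mem ⟨r, hrR⟩
      ⟨(((ρ u : ↥K) : ↥(θ g)) : G), ⟨u, rfl⟩, ?_⟩)
    rw [← ek, hu]
    exact (actOn_val _ _ ⟨r, D.R_le hrR⟩ _).symm

end Data

end CfsgLib.SF23
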