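import Cfsg.Agent.Lib.SF23.GlueN

/-!
The stabiliser of a separating subgroup is small: a transversal containing a plane.
-/

set_option autoImplicit false
set_option linter.unusedSectionVars false
set_option linter.style.haveILetI false

namespace CfsgLib.SF23

open Cfsg Subgroup CfsgLib.Signalizer CfsgLib.SolvSF

universe u
variable {G : Type u} [Group G] [Finite G] {A : Subgroup G} {θ : G → Subgroup G}

/-- The data for the gluing. -/
structure Glue (h : Ctx 3 A θ) (s z : G) (N B R : Subgroup G) : Prop where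
  sep : Sep A θ s z N
  B_le : B ≤ R
  R_le : R ≤ A
  B_card : 3 < Nat.card B
  avoid : ∀ r ∈ R, r ∈ normalizer (N : Set G) → r = 1
  cover : ∀ a ∈ A, ∃ r ∈ R, r⁻¹ * a ∈ normalizer (N : Set G)

section Data

variable (h : Ctx 3 A θ) (hcub : CubicTrivial.{u}) {s z : G} (F : Frame h s z)
include h hcub F

theorem mX_le_theta_k {k : G} (hk : Pt A k) (hle : ∀ g, Pt A g → mX h g ≤ centralizer ({k} : Set G)) : False := by
  have hle' : ∀ g, Pt A g → mX h g ≤ θ k := fun g hg =>
    (le_inf (mX_le h g) (hle g hg)).trans (balance h.hθ hg hk)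
  refine no_member h hcub (theta_isMem h.hθ hk) (fun e => ?_) fun a ha => (hle' a ha).trans Subgroup.le_normalizer
  obtain ⟨g, hg, L, hL⟩ := exists_hasComp h hcub
  refine isComponent_ne_bot hL (le_bot_iff.mp ?_)
  have h1 := (CfsgLib.le_layer hL).trans (img_mX h hcub hg).ge
  rwa [le_bot_iff.mp ((hle' g hg).trans e.le), img_bot] at h1

variable {N : Subgroup G} (hN : Sep A θ s z N)
include hN

/-- Some point lies outside the stabiliser. -/
theorem not_all_stab : ¬ A ≤ normalizer (N : Set G) := by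
  intro hall
  classical
  have hone : ∀ {g : G} (hg : GP A θ g) {K L : Subgroup ↥(θ g)}, IsComponent K → IsComponent L → L = K := by
    intro g hg K L hK hL
    obtain ⟨M, hM, hsp⟩ := exists_spec h hcub F hN hg
    have key : ∀ L, IsComponent L → L = M := fun L hL => by
      obtain ⟨a, rfl⟩ := orbit_theta h hcub hg hM hL
      have h1 := (spec_tr h hcub F hN hg a hM).mpr hsp
      rw [tr_eq_iff.mpr (hall a.2)] at h1
      exact spec_eq h hcub F hN hg _ hM h1 hsp
    rw [key L hL, key K hK]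
  obtain ⟨g0, hg0, hg0'⟩ := exists_hasComp h hcub
  obtain ⟨g, hg, hmax⟩ := Set.exists_max_image {g : G | GP A θ g} (fun g => Nat.card ↥(θ g)) (Set.toFinite _)
    ⟨g0, hg0, hg0'⟩
  have hg : GP A θ g := hg
  obtain ⟨K, hK, -⟩ := exists_spec h hcub F hN hg
  set α := al h hg.pt
  set D := kerPts α K with hD
  have hcard : Nat.card A ≤ 3 * Nat.card D := by
    by_cases hsub : ∀ a : A, a ∈ D
    · rw [show D = ⊤ from Subgroup.eq_top_iff' D |>.mpr hsub, Subgroup.card_top]
      omega
    push Not at hsub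
    obtain ⟨x, hx⟩ := hsub
    let f : Fin 3 × D → A := fun p => (p.2 : A) * (x ^ (p.1 : ℕ))⁻¹
    have hf : Function.Surjective f := fun b => by
      obtain ⟨i, hi⟩ := stab_gen (rad_theta h hcub hg) (three_theta h hcub hg) (act_cube h.hA) (act_comm h.hA) α hK
        (x := x) (b := b) (hone hg hK (mp_comp hK)) hx (hone hg hK (mp_comp hK))
      have e : x ^ (i % 3) = x ^ i := by
        conv_rhs => rw [← Nat.mod_add_div i 3]
        rw [pow_add, pow_mul, act_cube h.hA, one_pow, mul_one]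
      refine ⟨(⟨i % 3, Nat.mod_lt _ (by norm_num)⟩, ⟨b * x ^ i, hi⟩), ?_⟩
      show b * x ^ i * (x ^ (i % 3))⁻¹ = b
      rw [e, mul_inv_cancel_right]
    have := Nat.card_le_card_of_surjective f hf
    rwa [Nat.card_prod, Nat.card_fin] at this
  have hD3 : 3 < Nat.card ↥(D.map A.subtype) := by
    rw [Subgroup.card_map_of_injective A.subtype_injective]
    have := h.hA3
    omega
  have hself : ∀ x : ↥(θ g), x ∈ K := fun x => by
    have : x = (crd h hcub hg hK x : ↥(θ g)) := crd_ext h hcub hg fun L hL => by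
      obtain rfl := hone hg hK hL
      rw [crd_self h hcub hg hL]
    rw [this]
    exact (crd h hcub hg hK x).2
  have hnot : ∀ d ∈ D, θ g ≤ centralizer ({(d : G)} : Set G) := fun d hd x hx => by
    have h1 := congrArg Subtype.val (hd ⟨x, hx⟩ (hself _))
    rw [actOn_val] at h1
    exact Subgroup.mem_centralizer_singleton_iff.mpr (mul_inv_eq_iff_eq_mul.mp h1).symm
  have hsub : ∀ a, Pt A a → a ∈ D.map A.subtype → mX h a ≤ θ g := by
    rintro _ hd ⟨d, hdD, rfl⟩
    have hle : θ g ≤ θ (d : G) := (le_inf le_rfl (hnot d hdD)).trans (balance h.hθ hg.pt hd)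
    have hG : HasComp θ (d : G) := by
      by_contra hn
      refine CfsgLib.isQuasisimple_not_isSolvable hK.2 ?_
      haveI := solvable_of_le hle (theta_solvable h hcub hd hn)
      exact Group.isSolvable_of_isSolvable_injective (f := K.subtype) K.subtype_injective
    exact (mX_le h _).trans (Subgroup.eq_of_le_of_card_ge hle (hmax _ ⟨hd, hG⟩)).ge
  refine no_member h hcub (theta_isMem h.hθ hg.pt) (fun e => ?_) fun a ha => le_trans ?_ Subgroup.le_normalizer
  · refine isComponent_ne_bot hK (le_bot_iff.mp fun k _ => Subgroup.mem_bot.mpr (Subtype.ext ?_))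
    have := k.2
    exact Subgroup.mem_bot.mp (e.le this)
  · exact (mX_eq_iSup_plane h hcub (Subgroup.map_subtype_le D) hD3 ha).trans (iSup_le fun b => hsub b b.2.1 b.2.2)

/-- No point of the stabiliser fixes everything modulo the subgroup. -/
theorem stab_ker {k : G} (hk : Pt A k) (hkn : k ∈ normalizer (N : Set G))
    (hfix : ∀ m ∈ mZ A θ s z, k * m * k⁻¹ * m ∈ N) : False := by
  have hout : ∀ g ∈ A, g ∉ normalizer (N : Set G) → θ g ≤ centralizer ({k} : Set G) := by
    intro g hgA hgn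
    have hg := gp_outside h hcub F hN hgA hgn
    obtain ⟨K, hK, hsp⟩ := exists_spec h hcub F hN hg
    have hR := rad_theta h hcub hg
    set e := al h hg.pt (el hk) with he
    have hKfix : mp e K = K := (spec_stab h hcub F hN hg hgn hK hsp (el hk)).mpr ⟨0, by simpa using hkn⟩
    have hcoord : ∀ {d : G} (hd : d ∈ dfix h), e (crd h hcub hg hK ⟨d, dfix_le_theta h hg.pt hd⟩ : ↥(θ g)) =
        (crd h hcub hg hK ⟨d, dfix_le_theta h hg.pt hd⟩ : ↥(θ g)) := fun {d} hd => by
      have h1 := prj_map hR e hK (mem_lay h hcub hg ⟨d, dfix_le_theta h hg.pt hd⟩)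
      rw [hKfix, show e ⟨d, dfix_le_theta h hg.pt hd⟩ = ⟨d, dfix_le_theta h hg.pt hd⟩ from Subtype.ext (by
        rw [he, actOn_val]
        exact conj_of_commute (Subgroup.mem_centralizer_iff.mp (dfix_le_cent h hd) k hk.1))] at h1
      exact h1.symm
    set φ := res e K hKfix with hφ
    have hs : φ (sC h hcub F hg hK) = sC h hcub F hg hK := Subtype.ext (hcoord F.s_mem)
    have hz : φ (zC h hcub F hg hK) = zC h hcub F hg hK := Subtype.ext (hcoord F.z_mem)
    have hφ1 : φ = 1 := by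
      refine fr_rigid (crd_suz h hcub hg hK) (sC_order h hcub F hg hK) (zC_order h hcub F hg hK) hs
        (by rw [map_mul, map_mul, map_inv, hs, hz]) fun v hv hvs => ?_
      have hv' : InE h hcub F hg hK (φ v) := ⟨by rw [← map_mul, hv, map_one], by
        conv_lhs => rw [← hs]
        conv_rhs => rw [← hs]
        rw [← map_mul, ← map_mul, hvs]⟩
      have h1 := spec_ker h hcub F hN hg hK hsp (inE_mul h hcub F hg hK hv' ⟨hv, hvs⟩) (by
        show ((φ v : ↥(θ g)) : G) * ((v : ↥(θ g)) : G) ∈ N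
        rw [res_val, he, actOn_val]
        exact hfix _ (crd_mem_mZ h hcub F hg hK hv hvs))
      rw [mul_eq_one_iff_eq_inv] at h1
      rw [h1, inv_eq_of_mul_eq_one_right hv]
    have hLfix : ∀ L, IsComponent L → ∀ l ∈ L, e l = l := by
      intro L hL
      obtain ⟨b, rfl⟩ := orbit_theta h hcub hg hK hL
      rintro _ ⟨l, hl, rfl⟩
      show al h hg.pt (el hk) (al h hg.pt b l) = al h hg.pt b l
      rw [← MulAut.mul_apply, ← map_mul, act_comm h.hA, map_mul, MulAut.mul_apply]
      exact congrArg _ (congrArg Subtype.val (DFunLike.congr_fun hφ1 (⟨l, hl⟩ : K)))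
    intro x hx
    have h1 : e ⟨x, hx⟩ = ⟨x, hx⟩ := layer_ext hR (mem_lay h hcub hg _) (mem_lay h hcub hg _) fun L hL => by
      have h2 := prj_map hR e hL (mem_lay h hcub hg ⟨x, hx⟩)
      rw [show mp e L = L from mp_of_kerPts (α := al h hg.pt) (hLfix L hL), hLfix L hL _ (prj_mem L _)] at h2
      exact h2
    have h3 := congrArg Subtype.val h1
    rw [he, actOn_val] at h3
    exact Subgroup.mem_centralizer_singleton_iff.mpr (mul_inv_eq_iff_eq_mul.mp h3).symm
  obtain ⟨a, haA, han⟩ := SetLike.not_le_iff_exists.mp (not_all_stab h hcub F hN)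
  have hpt : Pt A a := ⟨haA, fun e => han (e ▸ one_mem _)⟩
  have hne : a ∉ zpowers k := fun e => han (Subgroup.zpowers_le.mpr hkn e)
  have hP3 := plane_card h hpt hk hne
  have hPA : zpowers a ⊔ zpowers k ≤ A := sup_le (Subgroup.zpowers_le.mpr haA) (Subgroup.zpowers_le.mpr hk.1)
  refine mX_le_theta_k h hcub F hk fun g hg => (mX_eq_iSup_plane h hcub hPA hP3 hg).trans (iSup_le ?_)
  rintro ⟨d, hd, hdP⟩
  by_cases hdn : d ∈ normalizer (N : Set G)
  swap
  · exact (mX_le h d).trans (hout d hd.1 hdn)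
  have hzk : zpowers k ≤ normalizer (zpowers a : Set G) := fun w hw =>
    Comp.mem_normalizer_of_maps fun v hv => by
      rw [ea_comm h.hA (Subgroup.zpowers_le.mpr hk.1 hw) (Subgroup.zpowers_le.mpr haA hv), mul_inv_cancel_right]
      exact hv
  obtain ⟨x, ⟨i, rfl⟩, w, hw, rfl⟩ := CfsgLib.mem_sup_of_le_normalizer hzk hdP
  beta_reduce at hdn hd ⊢
  have hai : a ^ i ∈ normalizer (N : Set G) := by
    have := mul_mem hdn (inv_mem (Subgroup.zpowers_le.mpr hkn hw))
    rwa [mul_inv_cancel_right] at this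
  have h1 : a ^ i = 1 := by
    by_contra h1
    have := theta_eq_of_mem h hpt ⟨zpow_mem haA i, h1⟩ ⟨i, rfl⟩
    haveI : Fact (Nat.Prime 3) := ⟨Nat.prime_three⟩
    have heq : zpowers (a ^ i) = zpowers a :=
      Subgroup.eq_of_le_of_card_ge (Subgroup.zpowers_le.mpr ⟨i, rfl⟩) (le_of_eq (by
        rw [Nat.card_zpowers, Nat.card_zpowers, orderOf_eq_prime (h.hA.2 a haA) hpt.2,
          orderOf_eq_prime (h.hA.2 _ (zpow_mem haA i)) h1]))
    exact han (Subgroup.zpowers_le.mpr hai (heq.ge (mem_zpowers a)))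
  have hd' : Pt A w := by rwa [h1, one_mul] at hd
  show mX h (a ^ i * w) ≤ _
  rw [h1, one_mul]
  obtain ⟨-, hc⟩ := theta_eq_of_mem h hk hd' hw
  exact ((mX_le h w).trans (theta_le_cent h.hθ hd')).trans hc.ge

/-- The stabiliser has order at most three. -/
theorem stab_small : Nat.card ↥(A ⊓ normalizer (N : Set G)) ≤ 3 := by
  obtain ⟨g, hgA, hgn⟩ := SetLike.not_le_iff_exists.mp (not_all_stab h hcub F hN)
  have hg := gp_outside h hcub F hN hgA hgn
  obtain ⟨K, hK, hsp⟩ := exists_spec h hcub F hN hg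
  set S := (normalizer (N : Set G)).subgroupOf A with hS
  let r := resHom (al h hg.pt) K S fun b hb =>
    (spec_stab h hcub F hN hg hgn hK hsp b).mpr ⟨0, by simpa using Subgroup.mem_subgroupOf.mp hb⟩
  have hel : Cfsg.IsElementaryAbelian 3 r.range := by
    refine ⟨⟨⟨?_⟩⟩, ?_⟩
    · rintro ⟨_, x, rfl⟩ ⟨_, y, rfl⟩
      apply Subtype.ext
      show r x * r y = r y * r x
      rw [← map_mul, ← map_mul, show x * y = y * x from Subtype.ext (act_comm h.hA x y)]
    · rintro _ ⟨x, rfl⟩
      rw [← map_pow, show x ^ 3 = 1 from Subtype.ext (act_cube h.hA _), map_one]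
  obtain ⟨hle, -⟩ := suz_three_group (crd_suz h hcub hg hK) r.range hel
  have hinj : Function.Injective r.rangeRestrict := by
    refine (injective_iff_map_eq_one _).mpr fun b hb => ?_
    by_contra hb1
    have hbt : Pt A ((b : A) : G) := ⟨(b : A).2, fun e => hb1 (Subtype.ext (Subtype.ext e))⟩
    refine stab_ker h hcub F hN hbt (Subgroup.mem_subgroupOf.mp b.2) fun m hm => ?_
    obtain ⟨n, hn, hng, hmn⟩ := cover_mod h hcub F hN hgA hgn hm
    obtain ⟨k, hk, hkN, -⟩ := coord_mod h hcub F hN hg hK hsp hn hng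
    set w := ((k : ↥(θ g)) : G) with hw
    have hwM : w ∈ mZ A θ s z := crd_mem_mZ h hcub F hg hK hk.1 hk.2
    have hmw : m * w ∈ N := by
      have := mul_mem hmn hkN
      rwa [show m * n * (n * w) = m * (n * n) * w by group, mZ_sq h hcub F hn, mul_one] at this
    have hbw : ((b : A) : G) * w * ((b : A) : G)⁻¹ = w := by
      have h1 : r b ⟨k, k.2⟩ = ⟨k, k.2⟩ := by
        rw [show r b = 1 from congrArg Subtype.val hb, MulAut.one_apply]
      have h2 := congrArg (fun q : ↥K => ((q : ↥(θ g)) : G)) h1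
      exact (actOn_val _ _ _ _).symm.trans h2
    have h3 : ((b : A) : G) * m * ((b : A) : G)⁻¹ * w ∈ N := by
      have := (Subgroup.mem_normalizer_iff.mp (Subgroup.mem_subgroupOf.mp b.2) _).mp hmw
      rwa [show ((b : A) : G) * (m * w) * ((b : A) : G)⁻¹ =
        ((b : A) : G) * m * ((b : A) : G)⁻¹ * (((b : A) : G) * w * ((b : A) : G)⁻¹) by group, hbw] at this
    have := mul_mem h3 hmw
    rwa [mZ_comm h hcub F hm hwM, mul_assoc (((b : A) : G) * m * ((b : A) : G)⁻¹), ← mul_assoc w,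
      mZ_sq h hcub F hwM, one_mul] at this
  have h1 := (Nat.card_le_card_of_injective _ hinj).trans hle
  rwa [hS, ← Subgroup.inf_subgroupOf_left, Nat.card_congr (Subgroup.subgroupOfEquivOfLe inf_le_left).toEquiv] at h1

omit hN in
/-- A separating subgroup with a transversal of its stabiliser containing a plane. -/
theorem exists_glue : ∃ N B R, Glue h s z N B R := by
  obtain ⟨N, hN⟩ := exists_sep h hcub F
  have hAc : Nat.card A = 27 := by rw [h.hA3]; norm_num
  by_cases htriv : ∀ a ∈ A, a ∈ normalizer (N : Set G) → a = 1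
  · obtain ⟨g, hg, -⟩ := exists_hasComp h hcub
    obtain ⟨C, hC, hC3, -⟩ := exists_plane_avoiding h hg
    exact ⟨N, C, A, hN, hC, le_rfl, hC3, htriv, fun a ha => ⟨a, ha, by rw [inv_mul_cancel]; exact one_mem _⟩⟩
  push Not at htriv
  obtain ⟨v, hvA, hvn, hv1⟩ := htriv
  have hv : Pt A v := ⟨hvA, hv1⟩
  obtain ⟨C, hC, hC3, hvC⟩ := exists_plane_avoiding h hv
  haveI : Fact (Nat.Prime 3) := ⟨Nat.prime_three⟩
  have hS : zpowers v = A ⊓ normalizer (N : Set G) :=
    Subgroup.eq_of_le_of_card_ge (Subgroup.zpowers_le.mpr (Subgroup.mem_inf.mpr ⟨hvA, hvn⟩)) (by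
      rw [Nat.card_zpowers, orderOf_eq_prime (h.hA.2 v hvA) hv1]
      exact stab_small h hcub F hN)
  have havoid : ∀ r ∈ C, r ∈ normalizer (N : Set G) → r = 1 := fun r hr hrn => by
    by_contra hr1
    have hrv : r ∈ zpowers v := hS ▸ Subgroup.mem_inf.mpr ⟨hC hr, hrn⟩
    have heq : zpowers r = zpowers v :=
      Subgroup.eq_of_le_of_card_ge (Subgroup.zpowers_le.mpr hrv) (le_of_eq (by
        rw [Nat.card_zpowers, Nat.card_zpowers, orderOf_eq_prime (h.hA.2 v hvA) hv1,
          orderOf_eq_prime (h.hA.2 r (hC hr)) hr1]))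
    exact hvC (Subgroup.zpowers_le.mpr hr (heq.ge (mem_zpowers v)))
  refine ⟨N, C, C, hN, le_rfl, hC, hC3, havoid, fun a ha => ?_⟩
  let f : C × zpowers v → A := fun p => ⟨(p.1 : G) * p.2, mul_mem (hC p.1.2) (Subgroup.zpowers_le.mpr hvA p.2.2)⟩
  have hinj : Function.Injective f := by
    rintro ⟨a, b⟩ ⟨a', b'⟩ e
    have e1 : (a : G) * b = a' * b' := congrArg Subtype.val e
    have e' : (a' : G)⁻¹ * a = (b' : G) * (b : G)⁻¹ := by
      rw [inv_mul_eq_iff_eq_mul, ← mul_assoc, ← e1, mul_inv_cancel_right]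
    have h1 := havoid _ (mul_mem (inv_mem a'.2) a.2)
      (e' ▸ mul_mem (Subgroup.zpowers_le.mpr hvn b'.2) (inv_mem (Subgroup.zpowers_le.mpr hvn b.2)))
    rw [h1, eq_comm, mul_inv_eq_one] at e'
    exact Prod.ext (Subtype.ext (inv_mul_eq_one.mp h1).symm) (Subtype.ext e'.symm)
  have hcard : Nat.card A ≤ Nat.card (C × zpowers v) := by
    rw [Nat.card_prod, Nat.card_zpowers, orderOf_eq_prime (h.hA.2 v hvA) hv1, hAc]
    have h9 : 9 ≤ Nat.card C := by
      obtain ⟨k, -, hk⟩ := (Nat.dvd_prime_pow Nat.prime_three).mp (h.hA3 ▸ Subgroup.card_dvd_of_le hC)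
      rw [hk] at hC3 ⊢
      rcases k with - | - | k
      · norm_num at hC3
      · norm_num at hC3
      · calc 9 = 3 ^ 2 := by norm_num
          _ ≤ _ := Nat.pow_le_pow_right (by norm_num) (by omega)
    omega
  obtain ⟨⟨r, w⟩, hrw⟩ := ((Nat.bijective_iff_injective_and_card f).mpr
    ⟨hinj, le_antisymm (Nat.card_le_card_of_injective f hinj) hcard⟩).2 ⟨a, ha⟩
  refine ⟨r, r.2, ?_⟩
  rw [← show (r : G) * w = a from congrArg Subtype.val hrw, inv_mul_cancel_left]
  exact Subgroup.zpowers_le.mpr hvn w.2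

end Data

end CfsgLib.SF23
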