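import Cfsg.Agent.Lib.SF23.Gen

/-!
Products of components, visibility, and small facts on pieces in a group with trivial radical.
-/

set_option autoImplicit false
set_option linter.unusedSectionVars false
set_option linter.style.haveILetI false

namespace CfsgLib.SF23

open Cfsg Subgroup
open scoped commutatorElement

universe u
variable {H : Type u} [Group H] [Finite H]

/-- The automorphism moves the component or fixes it pointwise. -/
def MV (β : MulAut H) (K : Subgroup H) : Prop := mp β K ≠ K ∨ ∀ k ∈ K, β k = k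

/-- The product of a family of components. -/
def compSup (P : Subgroup H → Prop) : Subgroup H := ⨆ K : {K : Subgroup H // P K}, (K : Subgroup H)

theorem le_compSup {P : Subgroup H → Prop} {K : Subgroup H} (hK : P K) : K ≤ compSup P :=
  le_iSup (fun K : {K : Subgroup H // P K} => (K : Subgroup H)) ⟨K, hK⟩

theorem compSup_perfect {P : Subgroup H → Prop} (hP : ∀ K, P K → IsComponent K) :
    ⁅compSup P, compSup P⁆ = compSup P :=
  le_antisymm (Subgroup.commutator_le_self _) (iSup_le fun K => by
    rw [← CfsgLib.isComponent_commutator_self (hP _ K.2)]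
    exact Subgroup.commutator_mono (le_compSup K.2) (le_compSup K.2))

theorem compSup_le_layer {P : Subgroup H → Prop} (hP : ∀ K, P K → IsComponent K) : compSup P ≤ layer H :=
  iSup_le fun K => CfsgLib.le_layer (hP _ K.2)

theorem mp_compSup {P : Subgroup H → Prop} {e : MulAut H} (he : ∀ K, P K → P (mp e K)) :
    mp e (compSup P) ≤ compSup P := by
  rw [mp, compSup, Subgroup.map_iSup]
  exact iSup_le fun K => le_compSup (he _ K.2)

section Trivial

variable (hR : solvableRadical H = ⊥) (h3 : ¬ 3 ∣ Nat.card H)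
include hR h3

theorem prj_pow {K : Subgroup H} (hK : IsComponent K) {w : H} (hw : w ∈ layer H) (n : ℕ) :
    prj K (w ^ n) = prj K w ^ n := by
  induction n with
  | zero => rw [pow_zero, pow_zero, prj_one hR hK]
  | succ n ih => rw [pow_succ, pow_succ, prj_mul hR hK (pow_mem hw n) hw, ih]

/-- Membership in a product of components is read from the coordinates. -/
theorem mem_compSup_iff {P : Subgroup H → Prop} (hP : ∀ K, P K → IsComponent K) {w : H} :
    w ∈ compSup P ↔ w ∈ layer H ∧ ∀ L, IsComponent L → ¬ P L → prj L w = 1 := by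
  classical
  constructor
  · intro hw
    refine Subgroup.iSup_induction (fun K : {K : Subgroup H // P K} => (K : Subgroup H))
      (C := fun y => y ∈ layer H ∧ ∀ L, IsComponent L → ¬ P L → prj L y = 1) hw
      (fun K y hy => ⟨CfsgLib.le_layer (hP _ K.2) hy, fun L hL hn => prj_other hR hL (hP _ K.2)
        (fun e => hn (e ▸ K.2)) hy⟩)
      ⟨one_mem _, fun L hL _ => prj_one hR hL⟩
      fun a b ha hb => ⟨mul_mem ha.1 hb.1, fun L hL hn => by
        rw [prj_mul hR hL ha.1 hb.1, ha.2 L hL hn, hb.2 L hL hn, one_mul]⟩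
  · rintro ⟨hw, hout⟩
    obtain ⟨-, t, ht, htl, htp⟩ := layer_induction
      (P := fun y => y ∈ layer H ∧ ∃ t ∈ compSup P, t ∈ layer H ∧
        ∀ L, IsComponent L → prj L t = if P L then prj L y else 1) hw
      (fun K hK y hy => by
        refine ⟨CfsgLib.le_layer hK hy, ?_⟩
        by_cases h : P K
        · refine ⟨y, le_compSup h hy, CfsgLib.le_layer hK hy, fun L hL => ?_⟩
          split
          · rfl
          · next hn => exact prj_other hR hL hK (fun e => hn (e ▸ h)) hy
        · refine ⟨1, one_mem _, one_mem _, fun L hL => ?_⟩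
          rw [prj_one hR hL]
          split
          · next hp => exact (prj_other hR hL hK (fun e => h (e ▸ hp)) hy).symm
          · rfl)
      ⟨one_mem _, 1, one_mem _, one_mem _, fun L hL => by rw [prj_one hR hL]; simp⟩
      (fun a b ⟨ha, s, hs, hsl, hsp⟩ ⟨hb, t, ht, htl, htp⟩ => ⟨mul_mem ha hb, s * t, mul_mem hs ht,
        mul_mem hsl htl, fun L hL => by
          rw [prj_mul hR hL hsl htl, hsp L hL, htp L hL, prj_mul hR hL ha hb]
          split <;> simp⟩)
    have e : t = w := layer_ext hR htl hw fun L hL => by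
      rw [htp L hL]
      split
      · rfl
      · next hn => exact (hout L hL hn).symm
    exact e ▸ ht

variable {β : MulAut H} {K : Subgroup H}

theorem vis_of_mv (hK : IsComponent K) (hm : MV β K) : Vis β K := by
  by_contra hv
  obtain ⟨h1, k, hk, hne⟩ := not_vis hR h3 hK hv
  rcases hm with hm | hm
  · exact hm h1
  · exact hne (hm k hk)

theorem piece_perfect (hβ : β ^ 3 = 1) (hK : IsComponent K) (hv : Vis β K) :
    ⁅piece β K hR, piece β K hR⁆ = piece β K hR :=
  Subgroup.isPerfect_iff.mp (quasisimple_of_suz (piece_suzuki hR h3 hβ hK hv)).1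

theorem piece_prj (hK : IsComponent K) (hv : mp β K = K) {w : H} (hw : w ∈ piece β K hR) :
    prj K w = w ∧ w ∈ K ∧ β w = w := by
  rw [piece_fixed_eq hR h3 hK hv] at hw
  exact ⟨prj_self hR hK hw.1, hw.1, hw.2⟩

theorem vis_orbit (hv : Vis β K) : Vis β (mp β K) := by
  by_cases e : mp β K = K
  · rwa [e]
  · exact Or.inl fun e' => e (mp_injective β e')

/-- An element of the fixed layer with a non-trivial coordinate does not commute with the piece. -/
theorem piece_noncomm (hβ : β ^ 3 = 1) (hK : IsComponent K) {p : H} (hp : p ∈ layer H) (hpf : β p = p)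
    (hne : prj K p ≠ 1) : ∃ w ∈ piece β K hR, p * w ≠ w * p := by
  by_contra hall
  push Not at hall
  have hc := cent_comp hR h3 hβ hK hpf fun w hw hwf hsupp => hall w ⟨hw, hwf, hsupp⟩
  refine hne (comp_center hR hK (prj_mem K p) fun k hk => ?_)
  have h1 := layer_mul_comm_prj hR hK hp hk
  rw [hc k hk, mul_inv_cancel_right] at h1
  exact (mul_inv_eq_iff_eq_mul.mp h1.symm).symm

/-- An invisible component meets the fixed subgroup inside the normalizer of a fixed torus. -/
theorem invisible_nor (hK : IsComponent K) (hv : ¬ Vis β K) {v : H} (hvK : v ∈ K) (h5 : orderOf v = 5)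
    (hvf : β v = v) : K ⊓ fix1 β ≤ nor K v := by
  obtain ⟨h1, -⟩ := not_vis hR h3 hK hv
  refine solvable_le_nor (component_suzuki hR h3 hK) hvK h5 inf_le_left ?_ ⟨hvK, hvf⟩
  by_contra hs
  exact hv (Or.inr hs)

/-- A perfect group of fixed elements of the layer has trivial coordinates at invisible components. -/
theorem prj_invisible (hK : IsComponent K) (hv : ¬ Vis β K) {Q : Subgroup H} (hQl : Q ≤ layer H)
    (hQf : Q ≤ fix1 β) (hQ : ⁅Q, Q⁆ = Q) {q : H} (hq : q ∈ Q) : prj K q = 1 := by
  obtain ⟨h1, -⟩ := not_vis hR h3 hK hv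
  let f : Q →* H :=
    { toFun := fun y => prj K y
      map_one' := prj_one hR hK
      map_mul' := fun a b => prj_mul hR hK (hQl a.2) (hQl b.2) }
  have hle : f.range ≤ K ⊓ fix1 β := by
    rintro _ ⟨y, rfl⟩
    refine ⟨prj_mem K _, ?_⟩
    have h2 := prj_map hR β hK (hQl y.2)
    rw [h1, show β (y : H) = y from hQf y.2] at h2
    exact h2.symm
  have hs : Group.IsSolvable f.range :=
    solvable_of_le hle (by by_contra hs; exact hv (Or.inr hs))
  have htop : ⁅(⊤ : Subgroup Q), (⊤ : Subgroup Q)⁆ = ⊤ := by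
    apply Subgroup.map_injective Q.subtype_injective
    rw [Subgroup.map_commutator, ← MonoidHom.range_eq_map, Subgroup.range_subtype, hQ]
  exact MonoidHom.mem_ker.mp
    (perfect_le_ker' htop f (by rwa [← MonoidHom.range_eq_map]) (Subgroup.mem_top ⟨q, hq⟩))

theorem prj_piece_out {w : H} (hw : w ∈ piece β K hR) {L : Subgroup H} (hL : IsComponent L) (h0 : L ≠ K)
    (h1 : L ≠ mp β K) (h2 : L ≠ mp β (mp β K)) : prj L w = 1 := hw.2.2 L hL h0 h1 h2

end Trivial

/-- A perfect image survives in the largest perfect subgroup. -/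
theorem exists_mem_pc {G : Type u} [Group G] [Finite G] {M : Type u} [Group M] {X : Subgroup G} (f : X →* M)
    {Q : Subgroup M} (hQ : ⁅Q, Q⁆ = Q) (hle : Q ≤ f.range) {q : M} (hq : q ∈ Q) :
    ∃ (x : G) (hx : x ∈ X), x ∈ pc X ∧ f ⟨x, hx⟩ = q := by
  obtain ⟨n, hn⟩ := exists_derived_le_pc X
  obtain ⟨s, hs, e⟩ := map_derived_le hQ hle n hq
  exact ⟨s, s.2, hn ⟨s, hs, rfl⟩, e⟩

end CfsgLib.SF23
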