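import Cfsg.Agent.Lib.SF23.Marked

/-!
Linked components: those touched by the perfect fixed parts of marked products.
-/

set_option autoImplicit false
set_option linter.unusedSectionVars false
set_option linter.style.haveILetI false

namespace CfsgLib.SF23

open Cfsg Subgroup CfsgLib.Signalizer CfsgLib.SolvSF
open scoped commutatorElement

universe u
variable {G : Type u} [Group G] [Finite G] {A : Subgroup G} {θ : G → Subgroup G}

/-- A component touched by the perfect fixed part of a marked product. -/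
def Linked (h : Ctx 3 A θ) (x : G) (L : Subgroup (Bar (θ x))) : Prop :=
  IsComponent L ∧ ∃ d, Pt A d ∧ ∃ (p : G) (hp : p ∈ θ x), p ∈ pgr h d x ∧ prj L (toBar (θ x) hp) ≠ 1

/-- The product of the linked components, lifted. -/
def mX (h : Ctx 3 A θ) (x : G) : Subgroup G := pc (pre (θ x) (compSup (Linked h x)))

/-- The elements of a value whose image is in the layer and has trivial coordinate at a component. -/
def offK (X : Subgroup G) (K : Subgroup (Bar X)) (hK : IsComponent K) : Subgroup G where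
  carrier := {y | ∃ hy : y ∈ X, toBar X hy ∈ layer (Bar X) ∧ prj K (toBar X hy) = 1}
  one_mem' := by
    refine ⟨one_mem _, ?_⟩
    rw [show toBar X (one_mem X) = 1 from map_one (QuotientGroup.mk' _)]
    exact ⟨one_mem _, prj_one (bar_rad X) hK⟩
  mul_mem' := fun {a b} ha hb => by
    obtain ⟨ha, hal, ea⟩ := ha
    obtain ⟨hb, hbl, eb⟩ := hb
    refine ⟨mul_mem ha hb, ?_⟩
    rw [toBar_mul ha hb]
    exact ⟨mul_mem hal hbl, by rw [prj_mul (bar_rad X) hK hal hbl, ea, eb, one_mul]⟩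
  inv_mem' := fun {a} ha => by
    obtain ⟨ha, hal, ea⟩ := ha
    refine ⟨inv_mem ha, ?_⟩
    rw [toBar_inv ha]
    exact ⟨inv_mem hal, by rw [prj_inv (bar_rad X) hK hal, ea, inv_one]⟩

/-- A component on which an element of `cl` is non-trivial lies in `cl`. -/
theorem le_cl_of_prj {X : Subgroup G} {K : Subgroup (Bar X)} (hK : IsComponent K) {w : Bar X}
    (hw : w ∈ cl X) (hwl : w ∈ layer (Bar X)) (hne : prj K w ≠ 1) : K ≤ cl X := by
  haveI := cl_normal X
  have hR := bar_rad X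
  rcases CfsgLib.component_le_or_commutator_eq_bot hK (cl X) with h' | h'
  · exact h'
  · refine absurd (comp_center hR hK (prj_mem K _) fun k hk => ?_) hne
    have h1 := layer_mul_comm_prj hR hK hwl hk
    have h2 : w * k = k * w :=
      Subgroup.mem_centralizer_iff.mp (Subgroup.commutator_eq_bot_iff_le_centralizer.mp h' hk) _ hw
    rw [h2, mul_inv_cancel_right] at h1
    exact (mul_inv_eq_iff_eq_mul.mp h1.symm).symm

section Data

variable (h : Ctx 3 A θ)
include h

theorem mX_le (x : G) : mX h x ≤ θ x := pc_pre_le _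

theorem mX_perfect (x : G) : ⁅mX h x, mX h x⁆ = mX h x := pc_perfect _

theorem pgr_normalized {d x u : G} (hd : Pt A d) (hud : u ∈ uF h d) (hux : u ∈ centralizer ({x} : Set G)) :
    u ∈ normalizer (pgr h d x : Set G) := by
  refine le_normalizer_pc (U := uF h d ⊓ centralizer ({x} : Set G)) ?_ (Subgroup.mem_inf.mpr ⟨hud, hux⟩)
  exact inf_normalizes (inf_le_left.trans (uF_normalizes_mst h hd)) (inf_le_right.trans Subgroup.le_normalizer)

variable (hcub : CubicTrivial.{u})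
include hcub

theorem pgr_cover {d x : G} (hd : Pt A d) (hx : Pt A x) :
    pgr h d x ≤ ⨆ L : {L : Subgroup (Bar (θ d)) // Marked h d L ∧ Vis (ac h hd (el hx)) L},
      pc (pre (θ d) (piece (ac h hd (el hx)) (L : Subgroup (Bar (θ d))) (bar_rad _))) := by
  have hR := bar_rad (θ d)
  have h3 := bar_not_dvd (theta_not_dvd h.hθ hd)
  have hSd : pgr h d x ≤ θ d := (pgr_le_mst h d x).trans (mst_le h d)
  have hmem : ∀ (s : G) (hs : s ∈ θ d), s ∈ pgr h d x → toBar (θ d) hs ∈ compSup (Marked h d) :=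
    fun s hs hsS => toBar_pc_pre hs (pgr_le_mst h d x hsS)
  refine (pieces_cover h hd (el hx) hSd (pc_perfect _) ((pgr_le_mst h d x).trans (mst_cent h hcub hd))
    fun s hs hsS => ⟨compSup_le_layer (fun M hM => hM.1) (hmem s hs hsS),
      toBar_fix (theta_inv h.hθ hd) (a := el hx) hs (pgr_le_cent h d x hsS)⟩).trans (iSup_le ?_)
  rintro ⟨L, hL, hv, -, s, hs, hsS, hne⟩
  have hm : Marked h d L := by
    by_contra hn
    exact hne (((mem_compSup_iff hR h3 fun M hM => hM.1).mp (hmem s hs hsS)).2 L hL hn)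
  exact le_iSup (fun L : {L : Subgroup (Bar (θ d)) // Marked h d L ∧ Vis (ac h hd (el hx)) L} =>
    pc (pre (θ d) (piece (ac h hd (el hx)) (L : Subgroup (Bar (θ d))) hR))) ⟨L, hm, hv⟩

theorem pgr_layer {d x : G} (hd : Pt A d) (hx : Pt A x) {p : G} (hp : p ∈ θ x) (hpp : p ∈ pgr h d x) :
    toBar (θ x) hp ∈ layer (Bar (θ x)) := by
  refine (mem_pre hp).mp (((pgr_cover h hcub hd hx).trans (iSup_le fun L s hsS => ?_)) hpp)
  obtain ⟨hSθ, hSl⟩ := piece_transfer h hd hx L.2.1.1 L.2.2 (marked_piece_cl h hcub hd (el hx) L.2.1)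
  exact (mem_pre (hSθ hsS)).mpr (hSl s (hSθ hsS) hsS)

/-- The lift of a fixed perfect part of a marked piece lies in the marked product of a point moving or fixing the
component. -/
theorem lift_le_mst {d b : G} (hd : Pt A d) (hb : Pt A b) {L : Subgroup (Bar (θ d))} (hL : Marked h d L) (f : A)
    {Q : Subgroup (Bar (θ d))} (hQp : ⁅Q, Q⁆ = Q) (hQ : Q ≤ piece (ac h hd f) L (bar_rad _))
    (hfix : Q ≤ fix1 (ac h hd (el hb))) (hm : MV (ac h hd (el hb)) L) :
    pc (pre (θ d) Q) ≤ mst h b ⊓ centralizer ({b} : Set G) := by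
  have hR := bar_rad (θ d)
  have hQcl : Q ≤ cl (θ d) := hQ.trans (marked_piece_cl h hcub hd f hL)
  refine le_inf ((pieces_cover h hd (el hb) (pc_pre_le Q) (pc_perfect _) (pc_pre_cent hQcl)
    fun s hs hsS => ⟨(hQ (toBar_pc_pre hs hsS)).1, hfix (toBar_pc_pre hs hsS)⟩).trans (iSup_le ?_))
    (cent_of_bar_fix (theta_inv h.hθ hd) (pc_pre_le Q) (pc_perfect _) (pc_pre_cent hQcl) (el hb)
      fun s hs hsS => hfix (toBar_pc_pre hs hsS))
  rintro ⟨M, hM, hv, -, s, hs, hsS, hne⟩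
  have hw := hQ (toBar_pc_pre hs hsS)
  have key : Marked h d M ∧ MV (ac h hd (el hb)) M := by
    by_cases e0 : M = L
    · exact e0 ▸ ⟨hL, hm⟩
    by_cases e1 : M = mp (ac h hd f) L
    · exact e1 ▸ ⟨marked_ac h hd f hL, mv_conj (act_comm h.hA) hm⟩
    by_cases e2 : M = mp (ac h hd f) (mp (ac h hd f) L)
    · exact e2 ▸ ⟨marked_ac h hd f (marked_ac h hd f hL), mv_conj (act_comm h.hA) (mv_conj (act_comm h.hA) hm)⟩
    exact absurd (hw.2.2 M hM e0 e1 e2) hne
  exact transfer h hcub hd hb key.1 key.2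

/-- The lifts of a piece and of a common fixed part have a commutator outside the radical. -/
theorem qd_commutator {d x : G} (hd : Pt A d) (hx : Pt A x) {L : Subgroup (Bar (θ d))} (hL : IsComponent L)
    (hfx : mp (ac h hd (el hx)) L = L) (hv : Vis (ac h hd (el hx)) L) {f : A} (hm : MV (ac h hd f) L) :
    ∃ (s q : G), s ∈ pc (pre (θ d) (piece (ac h hd (el hx)) L (bar_rad _))) ∧
      q ∈ pc (pre (θ d) (qd (ac h hd f) (ac h hd (el hx)) L (bar_rad _))) ∧
      ⁅s, q⁆ ∈ pc (pre (θ d) (piece (ac h hd (el hx)) L (bar_rad _))) ∧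
      ∃ hc : ⁅s, q⁆ ∈ θ d, toBar (θ d) hc ≠ 1 := by
  have hR := bar_rad (θ d)
  have h3 := bar_not_dvd (theta_not_dvd h.hθ hd)
  set γ := ac h hd (el hx) with hγdef
  have hγ := ac_cube h hd (el hx)
  set P := piece γ L hR with hPdef
  set Q := qd (ac h hd f) γ L hR with hQdef
  have hPp : ⁅P, P⁆ = P := piece_perfect hR h3 hγ hL hv
  haveI : IsSimpleGroup P := suz_simple (piece_suzuki hR h3 hγ hL hv)
  obtain ⟨t, ht, t', ht', hne⟩ : ∃ t ∈ P, ∃ t' ∈ P, ⁅t, t'⁆ ≠ 1 := by
    by_contra hall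
    push Not at hall
    have h1 : P = ⊥ := by
      rw [← hPp]
      exact le_bot_iff.mp (Subgroup.commutator_le.mpr fun a ha b hb => Subgroup.mem_bot.mpr (hall a ha b hb))
    have h2 : Nontrivial P := inferInstance
    exact (Subgroup.nontrivial_iff_ne_bot P).mp h2 h1
  obtain ⟨q₀, hq₀, eq₀⟩ := qd_cover hR h3 (ac_cube h hd f) hγ (actBar_bar_comm h hd (el hx) f) hL hm hfx hv ht'
  obtain ⟨-, htL, -⟩ := piece_prj hR h3 hL hfx ht
  have hq₀l : q₀ ∈ layer (Bar (θ d)) := ((qd_le hR h3 _ γ L).1 hq₀).1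
  have hq₀f : γ q₀ = q₀ := (qd_le hR h3 _ γ L).2 hq₀
  obtain ⟨s, hs, hsS, es⟩ := mem_img_iff.mp ((img_pc_pre hPp).ge ht)
  obtain ⟨q, hq, hqD, eq⟩ := mem_img_iff.mp ((img_pc_pre (pc_perfect _ : ⁅Q, Q⁆ = Q)).ge hq₀)
  have hn : toBar (θ d) hq ∈ normalizer (P : Set (Bar (θ d))) := by
    rw [eq]
    refine Comp.mem_normalizer_of_maps fun w hw => ?_
    rw [hPdef, piece_fixed_eq hR h3 hL hfx] at hw ⊢
    refine Subgroup.mem_inf.mpr ⟨(Subgroup.mem_normalizer_iff.mp (layer_le_normalizer hR hL hq₀l) w).mp hw.1, ?_⟩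
    show γ (q₀ * w * q₀⁻¹) = q₀ * w * q₀⁻¹
    rw [map_mul, map_mul, map_inv, hq₀f, show γ w = w from hw.2]
  have hqn := le_normalizer_pc (U := normalizer (pre (θ d) P : Set G)) le_rfl (mem_normalizer_pre hq hn)
  refine ⟨s, q, hsS, hqD, ?_, mul_mem (mul_mem (mul_mem hs hq) (inv_mem hs)) (inv_mem hq), ?_⟩
  · rw [show ⁅s, q⁆ = s * (q * s⁻¹ * q⁻¹) by rw [commutatorElement_def]; group]
    exact mul_mem hsS ((Subgroup.mem_normalizer_iff.mp hqn s⁻¹).mp (inv_mem hsS))
  · have e : toBar (θ d) (mul_mem (mul_mem (mul_mem hs hq) (inv_mem hs)) (inv_mem hq)) =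
        ⁅toBar (θ d) hs, toBar (θ d) hq⁆ := toBar_commutator hs hq
    show toBar (θ d) _ ≠ 1
    rw [show toBar (θ d) (mul_mem (mul_mem (mul_mem hs hq) (inv_mem hs)) (inv_mem hq)) = _ from e, es, eq,
      comm_piece hR h3 (β := γ) hL htL hq₀l, eq₀]
    exact hne

set_option maxHeartbeats 800000 in
/-- The fixed part of a marked product centralises the radical of the value at the fixing point. -/
theorem pgr_cent {d x : G} (hd : Pt A d) (hx : Pt A x) :
    pgr h d x ≤ centralizer (rv θ x : Set G) := by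
  refine (pgr_cover h hcub hd hx).trans (iSup_le ?_)
  rintro ⟨L, hLm, hv⟩
  have hR := bar_rad (θ d)
  have h3 := bar_not_dvd (theta_not_dvd h.hθ hd)
  set γ := ac h hd (el hx) with hγdef
  by_cases hm : MV γ L
  · exact (transfer h hcub hd hx hLm hm).trans (mst_cent h hcub hx)
  have hfx : mp γ L = L := by_contra fun e => hm (Or.inl e)
  have hxn : el hx ∉ kerPts (ac h hd) L := fun e => hm (Or.inr e)
  obtain ⟨D, hWD, hxD, hc, hmvD⟩ :=
    exists_mv_plane hR h3 (act_cube h.hA) (act_comm h.hA) (ac h hd) hLm.1 hfx hxn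
  have hdtriv : ∀ y, ac h hd (el hd) y = y := fun y => by
    obtain ⟨⟨k, hk⟩, rfl⟩ := QuotientGroup.mk'_surjective _ y
    exact toBar_fix (theta_inv h.hθ hd) (a := el hd) hk (theta_le_cent h.hθ hd hk)
  have hdD : el hd ∈ D := hWD fun k _ => hdtriv k
  obtain ⟨e, heD, hfix⟩ : ∃ e ∈ D, ∀ a ∈ D, ∀ q ∈ qd (ac h hd e) γ L hR, ac h hd a q = q := by
    by_cases hmov : ∃ e ∈ D, mp (ac h hd e) L ≠ L
    · obtain ⟨e, heD, hne⟩ := hmov
      refine ⟨e, heD, fun a ha => ?_⟩
      have hle : zpowers (el hd) ⊔ zpowers e ≤ D :=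
        sup_le (Subgroup.zpowers_le.mpr hdD) (Subgroup.zpowers_le.mpr heD)
      have hne' : e ∉ zpowers (el hd) := fun hmem => hne (mp_of_kerPts
        ((Subgroup.zpowers_le.mpr (show el hd ∈ kerPts (ac h hd) L from fun k _ => hdtriv k)) hmem))
      have hd1 : (el hd : A) ≠ 1 := fun e1 => hd.2 (congrArg Subtype.val e1)
      have hcardA : Nat.card A = 3 ^ 3 := h.hA3
      have h9 : 9 ≤ Nat.card ↥(zpowers (el hd) ⊔ zpowers e) := by
        obtain ⟨k, -, hk⟩ := (Nat.dvd_prime_pow Nat.prime_three).mp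
          (hcardA ▸ Subgroup.card_subgroup_dvd_card (zpowers (el hd) ⊔ zpowers e))
        have h1 : Nat.card (zpowers (el hd)) = 3 := by
          rw [Nat.card_zpowers, orderOf_eq_prime (hp := ⟨Nat.prime_three⟩) (act_cube h.hA _) hd1]
        have h2 : zpowers (el hd) < zpowers (el hd) ⊔ zpowers e :=
          lt_of_le_of_ne le_sup_left fun e1 => hne' (e1.ge (Subgroup.mem_sup_right (mem_zpowers e)))
        have h4 : Nat.card (zpowers (el hd)) < Nat.card ↥(zpowers (el hd) ⊔ zpowers e) :=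
          Set.Finite.card_lt_card (Set.toFinite _) (SetLike.coe_ssubset_coe.mpr h2)
        rw [h1] at h4
        rw [hk] at h4 ⊢
        rcases k with - | - | k
        · norm_num at h4
        · norm_num at h4
        · calc 9 = 3 ^ 2 := by norm_num
            _ ≤ 3 ^ (k + 1 + 1) := Nat.pow_le_pow_right (by norm_num) (by omega)
      have hD9 : Nat.card D ≤ 9 := by
        obtain ⟨k, hk3, hk⟩ := (Nat.dvd_prime_pow Nat.prime_three).mp (hcardA ▸ Subgroup.card_subgroup_dvd_card D)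
        rw [hk]
        rcases (by omega : k ≤ 2 ∨ k = 3) with h2 | rfl
        · exact (Nat.pow_le_pow_right (by norm_num) h2).trans (by norm_num)
        · exact absurd (Subgroup.eq_top_of_card_eq D (hk.trans hcardA.symm) ▸ Subgroup.mem_top _) hxD
      have heq := Subgroup.eq_of_le_of_card_ge hle (hD9.trans h9)
      intro q hq
      have hsub : zpowers (el hd) ⊔ zpowers e ≤ kerPts (ac h hd) (qd (ac h hd e) γ L hR) :=
        sup_le (Subgroup.zpowers_le.mpr fun k _ => hdtriv k)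
          (Subgroup.zpowers_le.mpr fun k hk => ((qd_le hR h3 _ γ L).1 hk).2.1)
      exact hsub (heq.ge ha) q hq
    · push Not at hmov
      refine ⟨el hd, hdD, fun a ha q hq => ?_⟩
      have hq1 := (qd_le hR h3 _ γ L).1 hq
      rw [piece_fixed_eq hR h3 hLm.1 (hmov _ hdD)] at hq1
      rcases hmvD a ha with h1 | h1
      · exact absurd (hmov a ha) h1
      · exact h1 q hq1.1
  set Q := qd (ac h hd e) γ L hR with hQdef
  set D' := pc (pre (θ d) Q) with hD'def
  have hQp : ⁅Q, Q⁆ = Q := pc_perfect _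
  have hQcl : Q ≤ cl (θ d) := (qd_le hR h3 _ γ L).1.trans (marked_piece_cl h hcub hd e hLm)
  have hD'x : D' ≤ centralizer ({x} : Set G) :=
    cent_of_bar_fix (theta_inv h.hθ hd) (pc_pre_le Q) (pc_perfect _) (pc_pre_cent hQcl) (el hx)
      fun s hs hsS => (qd_le hR h3 _ γ L).2 (toBar_pc_pre hs hsS)
  have hD'R : D' ≤ centralizer (rv θ x : Set G) := by
    refine Subgroup.le_centralizer_iff.mp (le_of_fix h.hA (B := D.map A.subtype) (Subgroup.map_subtype_le D) ?_
      (fun hdd => theta_not_dvd h.hθ hx (hdd.trans (Subgroup.card_dvd_of_le (radS_le _))))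
      (le_normalizer_radS (theta_inv h.hθ hx)) ?_)
    · rw [Nat.card_congr (Subgroup.equivMapOfInjective D A.subtype A.subtype_injective).toEquiv.symm]
      have := h.hA3
      omega
    · rintro _ ⟨⟨b, hbA⟩, hbD, rfl⟩ hb1
      have hb : Pt A b := ⟨hbA, hb1⟩
      have hle := lift_le_mst h hcub hd hb hLm e hQp (qd_le hR h3 _ γ L).1
        (fun q hq => hfix (el hb) hbD q hq) (hmvD (el hb) hbD)
      refine Subgroup.le_centralizer_iff.mp (cent_fixed_solvable h hb hx (hle.trans (inf_le_left.trans (mst_le h b)))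
        hD'x (pc_perfect _) ((hle.trans inf_le_left).trans (mst_cent h hcub hb))
        (fun s hs hsS => compSup_le_layer (fun M hM => hM.1) (toBar_pc_pre hs ((hle hsS).1)))
        (N := rv θ x ⊓ centralizer ({b} : Set G)) ?_ (solvable_of_le inf_le_left (radS_solvable _)) ?_)
      · exact le_inf ((inf_le_inf_right _ (radS_le _)).trans (balance h.hθ hx hb))
          (inf_le_left.trans ((radS_le _).trans (theta_le_cent h.hθ hx)))
      · exact inf_normalizes ((balance h.hθ hb hx).trans (self_normalizes_radS _))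
          ((inf_le_left.trans (theta_le_cent h.hθ hb)).trans Subgroup.le_normalizer)
  obtain ⟨hSθ, -⟩ := piece_transfer h hd hx hLm.1 hv (marked_piece_cl h hcub hd (el hx) hLm)
  obtain ⟨s, q, hs, hq, hc, hcd, hne⟩ := qd_commutator h hcub hd hx hLm.1 hfx hv (hmvD e heD)
  refine (simple_fill (piece_perfect hR h3 (ac_cube h hd (el hx)) hLm.1 hv)
    (suz_simple (piece_suzuki hR h3 (ac_cube h hd (el hx)) hLm.1 hv))
    (N := pc (pre (θ d) (piece γ L hR)) ⊓ centralizer (rv θ x : Set G)) inf_le_left ?_ hcd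
    (Subgroup.mem_inf.mpr ⟨hc, ?_⟩) hne).trans inf_le_right
  · exact inf_normalizes Subgroup.le_normalizer fun g hg => Comp.mem_normalizer_of_maps fun v hv =>
      centralizer_conj (self_normalizes_radS _ (hSθ hg)) hv
  · rw [commutatorElement_def]
    exact mul_mem (centralizer_conj (self_normalizes_radS _ (hSθ hs)) (hD'R hq)) (inv_mem (hD'R hq))

theorem linked_le_cl {x : G} (hx : Pt A x) {L : Subgroup (Bar (θ x))} (hL : Linked h x L) : L ≤ cl (θ x) := by
  obtain ⟨hLc, d, hd, p, hp, hpp, hne⟩ := hL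
  exact le_cl_of_prj hLc (mem_cl hp (pgr_cent h hcub hd hx hpp)) (pgr_layer h hcub hd hx hp hpp) hne

theorem mX_cent_rad {x : G} (hx : Pt A x) : mX h x ≤ centralizer (rv θ x : Set G) :=
  pc_pre_cent (iSup_le fun L => linked_le_cl h hcub hx L.2)

theorem linked_map {x d n : G} (hd : Pt A d) (hx : Pt A x) {L : Subgroup (Bar (θ x))} (hL : IsComponent L)
    {p : G} (hp : p ∈ θ x) (hpp : p ∈ pgr h d x) (hne : prj L (toBar (θ x) hp) ≠ 1) (e : MulAut (Bar (θ x)))
    (he : ∀ (k : G) (hk : k ∈ θ x), ∃ hk' : n * k * n⁻¹ ∈ θ x, e (toBar (θ x) hk) = toBar (θ x) hk')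
    (hn : n ∈ normalizer (pgr h d x : Set G)) : Linked h x (mp e L) := by
  obtain ⟨hk', hke⟩ := he p hp
  refine ⟨mp_comp hL, d, hd, _, hk', (Subgroup.mem_normalizer_iff.mp hn p).mp hpp, fun e1 => hne (e.injective ?_)⟩
  rw [← prj_map (bar_rad _) e hL (pgr_layer h hcub hd hx hp hpp), hke, map_one]
  exact e1

theorem linked_ac {x : G} (hx : Pt A x) (a : A) {L : Subgroup (Bar (θ x))} (hL : Linked h x L) :
    Linked h x (mp (ac h hx a) L) := by
  obtain ⟨hLc, d, hd, p, hp, hpp, hne⟩ := hL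
  exact linked_map h hcub hd hx hLc hp hpp hne _ (ac_toBar h hx a) (pgr_inv h hd hx a.2)

theorem mX_inv {x : G} (hx : Pt A x) : A ≤ normalizer (mX h x : Set G) :=
  le_normalizer_pc fun a ha => mem_normalizer_pre' (ac h hx ⟨a, ha⟩) (ac_toBar h hx ⟨a, ha⟩)
    (mp_compSup fun _ hK => linked_ac h hcub hx ⟨a, ha⟩ hK)

set_option maxHeartbeats 800000 in
/-- Linked components are touched from every plane through the point. -/
theorem spread {x : G} (hx : Pt A x) {L₂ : Subgroup (Bar (θ x))} (hL₂ : Linked h x L₂) {P : Subgroup A}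
    (hxP : el hx ∈ P) (hP : 3 < Nat.card P) :
    ∃ (e : A) (_ : Pt A (e : G)), e ∈ P ∧ ∃ (p : G) (hp : p ∈ θ x), p ∈ pgr h (e : G) x ∧
      prj L₂ (toBar (θ x) hp) ≠ 1 := by
  obtain ⟨hL₂c, d, hd, p, hp, hpp, hne⟩ := hL₂
  have hR := bar_rad (θ d)
  have h3 := bar_not_dvd (theta_not_dvd h.hθ hd)
  have hR' := bar_rad (θ x)
  obtain ⟨⟨L, hLm, hv⟩, s, hs, hsn⟩ : ∃ L : {L : Subgroup (Bar (θ d)) // Marked h d L ∧ Vis (ac h hd (el hx)) L},
      ∃ s ∈ pc (pre (θ d) (piece (ac h hd (el hx)) (L : Subgroup (Bar (θ d))) hR)), s ∉ offK (θ x) L₂ hL₂c := by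
    by_contra hall
    push Not at hall
    obtain ⟨_, -, e⟩ := (pgr_cover h hcub hd hx).trans (iSup_le fun L s hs => hall L s hs) hpp
    exact hne e
  dsimp only at hs
  set γ := ac h hd (el hx) with hγdef
  set S := pc (pre (θ d) (piece γ L hR)) with hSdef
  obtain ⟨hSθ, hSl⟩ := piece_transfer h hd hx hLm.1 hv (marked_piece_cl h hcub hd (el hx) hLm)
  have hsne : prj L₂ (toBar (θ x) (hSθ hs)) ≠ 1 := fun e => hsn ⟨hSθ hs, hSl s _ hs, e⟩
  by_cases hm : MV γ L
  · exact ⟨el hx, hx, hxP, s, hSθ hs, le_pc (le_inf (transfer h hcub hd hx hLm hm)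
      (hSθ.trans (theta_le_cent h.hθ hx))) (pc_perfect _) hs, hsne⟩
  have hfx : mp γ L = L := by_contra fun e => hm (Or.inl e)
  obtain ⟨e, heP, he1, hme⟩ := exists_mv hR h3 (act_cube h.hA) (act_comm h.hA) (ac h hd) hLm.1 hP
  have he : Pt A (e : G) := ⟨e.2, fun e1 => he1 (Subtype.ext e1)⟩
  set Q := qd (ac h hd e) γ L hR with hQdef
  have hQcl : Q ≤ cl (θ d) := (qd_le hR h3 _ γ L).1.trans (marked_piece_cl h hcub hd e hLm)
  have hD'x : pc (pre (θ d) Q) ≤ centralizer ({x} : Set G) :=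
    cent_of_bar_fix (theta_inv h.hθ hd) (pc_pre_le Q) (pc_perfect _) (pc_pre_cent hQcl) (el hx)
      fun s hs hsS => (qd_le hR h3 _ γ L).2 (toBar_pc_pre hs hsS)
  have hD'p : pc (pre (θ d) Q) ≤ pgr h (e : G) x :=
    le_pc (le_inf ((lift_le_mst h hcub hd he hLm e (pc_perfect _) (qd_le hR h3 _ γ L).1
      (fun q hq => ((qd_le hR h3 _ γ L).1 hq).2.1) hme).trans inf_le_left) hD'x) (pc_perfect _)
  refine ⟨e, he, heP, ?_⟩
  by_contra hall
  push Not at hall
  obtain ⟨s', q, hs', hq, hc, hcd, hne'⟩ := qd_commutator h hcub hd hx hLm.1 hfx hv hme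
  have hn : S ≤ normalizer ((S ⊓ offK (θ x) L₂ hL₂c : Subgroup G) : Set G) := fun g hg =>
    Comp.mem_normalizer_of_maps fun v hv => by
      obtain ⟨hvS, hvX, hvl, ev⟩ := hv
      refine Subgroup.mem_inf.mpr
        ⟨mul_mem (mul_mem hg hvS) (inv_mem hg), mul_mem (mul_mem (hSθ hg) hvX) (inv_mem (hSθ hg)), ?_⟩
      rw [toBar_conj (hSθ hg) hvX, MulAut.conj_apply]
      refine ⟨mul_mem (mul_mem (hSl g _ hg) hvl) (inv_mem (hSl g _ hg)), ?_⟩
      rw [prj_mul hR' hL₂c (mul_mem (hSl g _ hg) hvl) (inv_mem (hSl g _ hg)),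
        prj_mul hR' hL₂c (hSl g _ hg) hvl, prj_inv hR' hL₂c (hSl g _ hg), ev, mul_one, mul_inv_cancel]
  have hq' : q ∈ θ x := pgr_le_theta h he hx (hD'p hq)
  have hcN : ⁅s', q⁆ ∈ S ⊓ offK (θ x) L₂ hL₂c := by
    refine Subgroup.mem_inf.mpr ⟨hc, hSθ hc, hSl _ _ hc, ?_⟩
    rw [show toBar (θ x) (hSθ hc) = ⁅toBar (θ x) (hSθ hs'), toBar (θ x) hq'⁆ from toBar_commutator (hSθ hs') hq',
      prj_commutator hR' (bar_not_dvd (theta_not_dvd h.hθ hx)) hL₂c (hSl s' _ hs') (pgr_layer h hcub he hx hq' (hD'p hq)), hall q hq' (hD'p hq),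
      commutatorElement_one_right]
  exact hsn ((simple_fill (piece_perfect hR h3 (ac_cube h hd (el hx)) hLm.1 hv)
    (suz_simple (piece_suzuki hR h3 (ac_cube h hd (el hx)) hLm.1 hv)) inf_le_left hn hcd hcN hne' hs).2)

/-- The soluble part normalises the linked product. -/
theorem uF_normalizes_mX {x : G} (hx : Pt A x) : uF h x ≤ normalizer (mX h x : Set G) := by
  refine le_normalizer_pc ?_
  refine le_of_planes_at h hx (fun hdd => theta_not_dvd h.hθ hx (hdd.trans (Subgroup.card_dvd_of_le (uF_le h x))))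
    (join_inv h (theta_inv h.hθ hx)) ((uF_le h x).trans (theta_le_cent h.hθ hx)) fun B hB hB3 hxB u hu => ?_
  have hux := uF_le h x hu.1
  refine mem_normalizer_pre' (MulAut.conj (toBar (θ x) hux)) (conj_toBar _) (mp_compSup fun L hL => ?_)
  obtain ⟨e, he, heP, p, hp, hpp, hne⟩ := spread h hcub hx hL (P := B.subgroupOf A) (Subgroup.mem_subgroupOf.mpr hxB)
    (by rwa [Nat.card_congr (Subgroup.subgroupOfEquivOfLe hB).toEquiv])
  refine linked_map h hcub he hx hL.1 hp hpp hne _ (conj_toBar _)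
    (pgr_normalized h he ((yCl_fix h he).le (Subgroup.mem_inf.mpr ⟨uF_le_yCl h hx hu.1, ?_⟩))
      (theta_le_cent h.hθ hx hux))
  exact Subgroup.centralizer_le (Set.singleton_subset_iff.mpr (Subgroup.mem_subgroupOf.mp heP)) hu.2

end Data

end CfsgLib.SF23
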