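import Cfsg.Agent.Lib.SF23.SolvPart
import Cfsg.Agent.Lib.Signalizer.DihedralLemma
import Cfsg.Agent.Lib.Comp.Layer

/-!
Elements of order a power of five in non-soluble normal subgroups of members, the layer, and conjugation of
members by the common fixed group.
-/

set_option autoImplicit false
set_option linter.unusedSectionVars false
set_option linter.style.haveILetI false

namespace CfsgLib.SF23

open Cfsg Subgroup CfsgLib.Signalizer CfsgLib.SolvSF
open CfsgLib.DihedralLemma (fit fit_le isNilpotent_fit le_normalizer_fit)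

universe u
variable {G : Type u} [Group G] [Finite G] {A : Subgroup G} {θ : G → Subgroup G}

theorem le_fit {L N : Subgroup G} (hNL : N ≤ L) (hn : L ≤ normalizer (N : Set G)) (hN : Group.IsNilpotent N) :
    N ≤ fit L := by
  haveI : (N.subgroupOf L).Normal := (Subgroup.normal_subgroupOf_iff_le_normalizer hNL).mpr hn
  haveI := hN
  intro x hx
  exact ⟨⟨x, hNL hx⟩, CfsgLib.le_fittingSubgroup (N := N.subgroupOf L)
    (Group.nilpotent_of_surjective (Subgroup.subgroupOfEquivOfLe hNL).symm.toMonoidHom (MulEquiv.surjective _)) hx, rfl⟩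

theorem fit_le_radS (L : Subgroup G) : fit L ≤ radS L :=
  le_radS (fit_le L) (haveI := isNilpotent_fit L; inferInstance) (le_normalizer_fit Subgroup.le_normalizer)

/-- The layer of a subgroup in the ambient group. -/
def lay (L : Subgroup G) : Subgroup G := (layer ↥L).map L.subtype

theorem lay_le (L : Subgroup G) : lay L ≤ L := Subgroup.map_subtype_le _

theorem le_normalizer_lay {L U : Subgroup G} (hU : U ≤ normalizer (L : Set G)) :
    U ≤ normalizer (lay L : Set G) :=
  normalizes_of_aut_stable hU fun e => Subgroup.characteristic_iff_map_eq.mp inferInstance e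

theorem lay_not_solvable {L : Subgroup G} (h : lay L ≠ ⊥) : ¬ Group.IsSolvable (lay L) := fun hs => by
  haveI := hs
  haveI : Nontrivial (lay L) := (Subgroup.nontrivial_iff_ne_bot _).mpr h
  refine (Group.IsSolvable.commutator_lt_top_of_nontrivial ↥(lay L)).ne ?_
  apply Subgroup.map_injective (lay L).subtype_injective
  rw [_root_.commutator_def, Subgroup.map_commutator, ← MonoidHom.range_eq_map, Subgroup.range_subtype, lay,
    ← Subgroup.map_commutator, CfsgLib.layer_commutator_self]

theorem lay_comm_fit {L : Subgroup G} {e f : G} (he : e ∈ lay L) (hf : f ∈ fit L) : e * f = f * e := by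
  obtain ⟨e, he, rfl⟩ := he
  obtain ⟨f, hf, rfl⟩ := hf
  exact congrArg L.subtype (CfsgLib.Comp.comm_layer_fitting he hf)

/-- Without layer the Fitting subgroup contains its centralizer. -/
theorem centralizer_fit {L : Subgroup G} (h : lay L = ⊥) : L ⊓ centralizer (fit L : Set G) ≤ fit L := by
  rintro x ⟨hx, hc⟩
  have h0 : layer ↥L = ⊥ := (Subgroup.map_eq_bot_iff_of_injective _ L.subtype_injective).mp h
  have hg : generalizedFittingSubgroup ↥L = fittingSubgroup ↥L := by
    rw [generalizedFittingSubgroup, h0]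
    simp
  have h1 : (⟨x, hx⟩ : L) ∈ centralizer (generalizedFittingSubgroup ↥L : Set ↥L) := by
    rw [hg]
    exact fun y hy => Subtype.ext (hc _ ⟨y, hy, rfl⟩)
  have h2 := CfsgLib.centralizer_generalizedFitting_le h1
  rw [hg] at h2
  exact ⟨_, h2, rfl⟩

section Data

variable (h : Ctx 3 A θ)
include h

/-- A non-soluble invariant subgroup normal in a member contains an element of the fixed Sylow
five-subgroup outside its radical. -/
theorem exists_five_outside {H L : Subgroup G} (hH : IsMem 3 A θ H) (hQ : qfive h ≤ H) (hL : L ≤ H)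
    (hLA : A ≤ normalizer (L : Set G)) (hn : H ≤ normalizer (L : Set G)) (hs : ¬ Group.IsSolvable L) :
    ∃ f, f ∈ qfive h ∧ f ∈ L ∧ f ∉ radS L := by
  haveI : Fact (Nat.Prime 5) := ⟨Nat.prime_five⟩
  have hLm := hH.sub hL hLA
  have hR := bar_rad L
  have h3 := bar_not_dvd hLm.not_dvd
  haveI : Nontrivial (Bar L) := by
    refine (QuotientGroup.nontrivial_iff).mpr fun e => hs ?_
    haveI := CfsgLib.isSolvable_solvableRadical (G := ↥L)
    rw [e] at this
    exact Group.isSolvable_of_surjective (f := (⊤ : Subgroup ↥L).subtype) fun x => ⟨⟨x, Subgroup.mem_top _⟩, rfl⟩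
  obtain ⟨K, hK⟩ : ∃ K : Subgroup (Bar L), IsComponent K := by
    by_contra hne
    push Not at hne
    refine layer_ne_bot hR ((Subgroup.eq_bot_iff_forall _).mpr fun x hx => ?_)
    exact layer_ext hR hx (one_mem _) fun K hK => absurd hK (hne K)
  obtain ⟨z, hzK, hz5, hzf⟩ := exists_five_fixed hR h3 hK (actBar L hLA) (act_cube h.hA) (act_comm h.hA)
  obtain ⟨w, hw, hwF, hwp, -⟩ := exists_fixed_orbit hR h3 hK (actBar L hLA) hzK hzf
  -- lift
  have hmap := map_fixedSub_eq (actOn L hLA) (Group.isSolvable_of_comm (act_comm h.hA))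
    (ea_coprime h.hA hLm.not_dvd) (solvableRadical ↥L)
    (fun b n hn => (Subgroup.characteristic_iff_map_eq.mp inferInstance (actOn L hLA b)).le ⟨n, hn, rfl⟩)
    (actBar L hLA) (fun b x => quotAut_mk _ _ _)
  obtain ⟨c, hc, hcw⟩ := hmap.ge hwF
  -- its five-part
  have h5w : 5 ∣ orderOf w := by
    let C : Subgroup (Bar L) := layer (Bar L)
    let f : C →* Bar L :=
      { toFun := fun y => prj K (y : Bar L)
        map_one' := prj_one hR hK
        map_mul' := fun x y => prj_mul hR hK x.2 y.2 }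
    have h1 := orderOf_map_dvd f ⟨w, hw⟩
    rw [show f ⟨w, hw⟩ = z by
      have := hwp 1
      rwa [map_one, mp_one, MulAut.one_apply] at this, hz5, Subgroup.orderOf_mk] at h1
    exact h1
  obtain ⟨i, m, hm5, hcm⟩ : ∃ i m, ¬ 5 ∣ m ∧ orderOf c = 5 ^ i * m :=
    ⟨_, _, Nat.not_dvd_ordCompl Nat.prime_five (orderOf_pos c).ne', (Nat.ordProj_mul_ordCompl_eq_self _ 5).symm⟩
  have hout : (c : G) ^ m ∉ radS L := by
    intro hbad
    rw [← toBar_eq_one_iff (pow_mem c.2 m)] at hbad
    have hwm : w ^ m = 1 := by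
      rw [← hcw, ← map_pow]
      exact hbad
    exact hm5 (h5w.trans (orderOf_dvd_of_pow_eq_one hwm))
  have hcC : (c : G) ^ m ∈ H ⊓ centralizer (A : Set G) :=
    Subgroup.mem_inf.mpr ⟨pow_mem (hL c.2) m, pow_mem (mem_fixedSub_actOn.mp hc) m⟩
  -- conjugate into the Sylow subgroup
  let F : Subgroup G := H ⊓ centralizer (A : Set G)
  have hQF : qfive h ≤ F := le_inf hQ (qfive_le_cent h)
  let P : Sylow 5 F := ((qfive_p h).comap_subtype (K := F)).toSylow (qfive_index_mem h hH hQ)
  have hp : IsPGroup 5 (zpowers (⟨_, hcC⟩ : F)) := IsPGroup.of_card (n := i) (by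
    rw [Nat.card_zpowers, Subgroup.orderOf_mk, orderOf_pow, Subgroup.orderOf_coe, hcm,
      Nat.gcd_eq_right (Dvd.intro_left _ rfl), Nat.mul_div_cancel _ (Nat.pos_of_ne_zero (n := m) fun e => hm5 (e.symm ▸ dvd_zero 5))])
  haveI : (L.subgroupOf F).Normal := ⟨fun x hx g => (Subgroup.mem_normalizer_iff.mp (hn g.2.1) _).mp hx⟩
  obtain ⟨d, -, hd⟩ := exists_conj_mem_sylow P (L.subgroupOf F) (w := ⟨_, hcC⟩) (pow_mem c.2 m) hp
  refine ⟨(d : G) * (c : G) ^ m * (d : G)⁻¹, hd, (Subgroup.mem_normalizer_iff.mp (hn d.2.1) _).mp (pow_mem c.2 m),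
    fun hbad => hout ?_⟩
  exact (Subgroup.mem_normalizer_iff.mp (le_normalizer_radS hn d.2.1) _).mpr hbad

/-- Five divides the order of the fixed group. -/
theorem qfive_ne_bot : qfive h ≠ ⊥ := by
  obtain ⟨a, ha, hns⟩ := h.nsolv
  obtain ⟨f, hf, -, hfr⟩ := exists_five_outside h (theta_isMem h.hθ ha) (qfive_le_theta h ha) le_rfl
    (theta_inv h.hθ ha) Subgroup.le_normalizer hns
  intro e
  rw [e, Subgroup.mem_bot] at hf
  exact hfr (hf ▸ one_mem _)

theorem fZero_ne_bot (hC : yCl h ⊓ centralizer (fZero h : Set G) ≤ fZero h) : fZero h ≠ ⊥ := fun e => by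
  have h1 : yCl h ≤ fZero h := fun y hy => hC ⟨hy, fun z hz => by
    rw [e, SetLike.mem_coe, Subgroup.mem_bot] at hz
    rw [hz, one_mul, mul_one]⟩
  exact qfive_ne_bot h (le_bot_iff.mp (((qfive_le_yCl h).trans h1).trans e.le))

/-- A member above `fZero` in whose Fitting subgroup it lies has no layer. -/
theorem lay_eq_bot (hC : yCl h ⊓ centralizer (fZero h : Set G) ≤ fZero h) {H : Subgroup G} (hH : IsMem 3 A θ H)
    (hQ : qfive h ≤ H) (hF : fZero h ≤ fit H) : lay H = ⊥ := by
  by_contra hne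
  obtain ⟨f, hfQ, hfL, hfr⟩ := exists_five_outside h hH hQ (lay_le H) (le_normalizer_lay hH.inv)
    (le_normalizer_lay Subgroup.le_normalizer) (lay_not_solvable hne)
  have h1 : f ∈ fZero h := hC ⟨qfive_le_yCl h hfQ, fun z hz => (lay_comm_fit hfL (hF hz)).symm⟩
  haveI := isNilpotent_fit H
  have hs : Group.IsSolvable ↥(lay H ⊓ fit H) := Group.isSolvable_of_isSolvable_injective
    (f := Subgroup.inclusion (inf_le_right : lay H ⊓ fit H ≤ fit H)) (Subgroup.inclusion_injective _)
  exact hfr (le_radS inf_le_left hs (inf_normalizes Subgroup.le_normalizer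
    ((lay_le H).trans (le_normalizer_fit Subgroup.le_normalizer))) (Subgroup.mem_inf.mpr ⟨hfL, hF h1⟩))

theorem fZero_le_fit {H : Subgroup G} (hH : IsMem 3 A θ H) (hQ : qfive h ≤ H) (hF : fZero h ≤ H) :
    fZero h ≤ fit H := by
  obtain ⟨-, hn, hA, hnil, hz⟩ := fZero_spec h
  have h1 : fZero h ≤ fit (radS H) :=
    le_fit (zero_le_radS h hH hF hA hz) ((radS_le_yCl h hH hQ).trans hn) hnil
  exact h1.trans (le_fit ((fit_le _).trans (radS_le H))
    (le_normalizer_fit (self_normalizes_radS H)) (isNilpotent_fit _))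

theorem dfix_le_theta {a : G} (ha : Pt A a) : dfix h ≤ θ a := (dfix_eq h ha).ge.trans inf_le_left

theorem dfix_le_cent : dfix h ≤ centralizer (A : Set G) := inf_le_right

/-- Conjugation of members by fixed elements. -/
theorem conj_isMem {X : Subgroup G} (hX : IsMem 3 A θ X) {c : G} (hc : c ∈ dfix h) :
    IsMem 3 A θ (X.map (MulAut.conj c).toMonoidHom) := by
  have hcA : ∀ a ∈ A, a * c = c * a := fun a ha => dfix_le_cent h hc a ha
  refine ⟨by rw [Subgroup.card_map_of_injective (MulAut.conj c).injective]; exact hX.not_dvd,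
    fun a ha => Comp.mem_normalizer_of_maps ?_, fun a ha => ?_⟩
  · rintro _ ⟨x, hx, rfl⟩
    refine ⟨a * x * a⁻¹, (Subgroup.mem_normalizer_iff.mp (hX.inv ha) x).mp hx, ?_⟩
    simp only [MulEquiv.coe_toMonoidHom, MulAut.conj_apply]
    calc c * (a * x * a⁻¹) * c⁻¹ = (c * a) * x * (c * a)⁻¹ := by group
      _ = (a * c) * x * (a * c)⁻¹ := by rw [hcA a ha]
      _ = a * (c * x * c⁻¹) * a⁻¹ := by group
  · rintro _ ⟨⟨x, hx, rfl⟩, hfix⟩
    have hca : Commute a c := hcA a ha.1
    simp only [MulEquiv.coe_toMonoidHom, MulAut.conj_apply] at hfix ⊢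
    have hxa : x ∈ centralizer ({a} : Set G) := by
      have h1 : Commute a (c * x * c⁻¹) := (Subgroup.mem_centralizer_singleton_iff.mp hfix).symm
      have h2 := (hca.inv_right.mul_right h1).mul_right hca
      exact Subgroup.mem_centralizer_singleton_iff.mpr (by
        have e : c⁻¹ * (c * x * c⁻¹) * c = x := by group
        rw [e] at h2
        exact h2.eq.symm)
    have hcm := dfix_le_theta h ha hc
    exact mul_mem (mul_mem hcm (hX.fix a ha ⟨hx, hxa⟩)) (inv_mem hcm)

end Data

end CfsgLib.SF23
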