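import Cfsg.Agent.Lib.SF23.Pc
import Cfsg.Agent.Lib.SF23.Suz

/-!
A perfect extension of a Suzuki group by a soluble group on which some element acts cubically is central.
-/

set_option autoImplicit false
set_option linter.unusedSectionVars false
set_option linter.style.haveILetI false

namespace CfsgLib.SF23

open Cfsg Subgroup
open scoped commutatorElement

universe u

/-- Cubic elements act trivially (proved in `Cubic`). -/
def CubicTrivial : Prop :=
  ∀ {L : Type u} [Group L] [Finite L] (_ : Lie.IsoSuzuki L) {Γ : Type u} [Group Γ] [Finite Γ] {V : Type u}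
    [AddCommGroup V] [Finite V] (π : Γ →* L), Function.Surjective π → commutator Γ = ⊤ →
    π.ker ≤ Subgroup.center Γ → ∀ {r : ℕ} [Fact r.Prime], (∀ v : V, r • v = 0) → ∀ (σ : Γ →* AddMonoid.End V) {z : Γ},
    π z ≠ 1 → (π z) ^ r = 1 → (∃ k : ℕ, z ^ r ^ k = 1) → (∃ w : L, orderOf w = 5 ∧ π z * w = w * π z) →
    (σ z - 1) ^ 3 = 0 → ∀ g, σ g = 1

variable {M : Type u} [Group M]

/-- The conjugation action as endomorphisms of the additive group. -/
def endOfAut : MulAut M →* AddMonoid.End (Additive M) where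
  toFun e := e.toMonoidHom.toAdditive
  map_one' := rfl
  map_mul' _ _ := rfl

theorem endOfAut_apply (e : MulAut M) (x : M) : endOfAut e (Additive.ofMul x) = Additive.ofMul (e x) := rfl

theorem eq_one_of_cube_coprime {V : Type u} [AddCommGroup V] {l m : ℕ} (hlm : m.Coprime l)
    (hl : ∀ v : V, l • v = 0) {e : AddMonoid.End V} (he : (e - 1) ^ 3 = 0) (hm : e ^ m = 1) : e = 1 := by
  set d := e - 1 with hd
  have hex : e = 1 + d := by rw [hd]; abel
  obtain ⟨T, hT⟩ : ∃ T : AddMonoid.End V, (∑ i ∈ Finset.range m, e ^ i) = m • 1 + T * d := by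
    refine ⟨∑ i ∈ Finset.range m, ∑ j ∈ Finset.range i, e ^ j, ?_⟩
    rw [Finset.sum_mul, Finset.sum_congr rfl (fun i _ => geom_sum_mul e i), Finset.sum_sub_distrib,
      Finset.sum_const, Finset.card_range, add_sub_cancel]
  have hdiv : ∀ f : AddMonoid.End V, m • f = 0 → f = 0 := fun f hf => by
    ext v
    have h1 : m • f v = 0 := by
      have := congrArg (fun φ : AddMonoid.End V => φ v) hf
      simpa using this
    have hd : addOrderOf (f v) = 1 := Nat.eq_one_of_dvd_coprimes hlm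
      (addOrderOf_dvd_of_nsmul_eq_zero h1) (addOrderOf_dvd_of_nsmul_eq_zero (hl _))
    exact AddMonoid.addOrderOf_eq_one_iff.mp hd
  have h0 : m • d + T * d ^ 2 = 0 := by
    have := geom_sum_mul e m
    rw [hm, sub_self, hT, ← hd, add_mul, smul_one_mul, mul_assoc, ← pow_two] at this
    exact this
  have h2 : d ^ 2 = 0 := hdiv _ (by
    have := congrArg (fun f => f * d) h0
    simp only [add_mul, zero_mul, smul_mul_assoc, mul_assoc, ← pow_succ, he, mul_zero, add_zero, ← pow_two] at this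
    exact this)
  have h1 : d = 0 := hdiv _ (by simpa [h2] using h0)
  rw [hex, h1, add_zero]

set_option maxHeartbeats 800000 in
/-- The kernel is central. -/
theorem central_of_cubic (hcub : CubicTrivial.{u}) {L : Type u} [Group L] [Finite L] (hL : Lie.IsoSuzuki L)
    {r : ℕ} [Fact r.Prime] (n : ℕ) :
    ∀ {Γ : Type u} [Group Γ] [Finite Γ], Nat.card Γ = n → ∀ (π : Γ →* L), Function.Surjective π →
      commutator Γ = ⊤ → Group.IsSolvable π.ker → ∀ {z : Γ}, π z ≠ 1 → (∃ k : ℕ, z ^ r ^ k = 1) →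
      (∃ w : L, orderOf w = 5 ∧ π z * w = w * π z) → (∀ v ∈ π.ker, ⁅⁅⁅v, z⁆, z⁆, z⁆ = 1) →
      π.ker ≤ Subgroup.center Γ := by
  induction n using Nat.strong_induction_on with
  | _ n ih =>
  intro Γ _ _ hn π hπ hperf hs z hz1 hzp h5 hcube
  subst hn
  classical
  haveI := suz_simple hL
  by_cases hN : π.ker = ⊥
  · rw [hN]
    exact bot_le
  obtain ⟨M, ⟨hMn, hMN, hM1⟩, hMmin⟩ := (Set.toFinite {M : Subgroup Γ | M.Normal ∧ M ≤ π.ker ∧ M ≠ ⊥}).exists_minimal
    ⟨π.ker, inferInstance, le_rfl, hN⟩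
  haveI := hMn
  haveI hMs : Group.IsSolvable M := solvable_of_le hMN hs
  haveI : Nontrivial M := (Subgroup.nontrivial_iff_ne_bot M).mpr hM1
  have hMab : ⁅M, M⁆ = ⊥ := by
    by_contra hne
    haveI : (⁅M, M⁆ : Subgroup Γ).Normal := Subgroup.commutator_normal M M
    have hle : M ≤ ⁅M, M⁆ := hMmin ⟨inferInstance, (Subgroup.commutator_le_self M).trans hMN, hne⟩
      (Subgroup.commutator_le_self M)
    refine (Group.IsSolvable.commutator_lt_top_of_nontrivial ↥M).ne ?_
    apply Subgroup.map_injective M.subtype_injective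
    rw [_root_.commutator_def, Subgroup.map_commutator, ← MonoidHom.range_eq_map, Subgroup.range_subtype]
    exact le_antisymm (Subgroup.commutator_le_self M) hle
  have hMc : ∀ a ∈ M, ∀ b ∈ M, a * b = b * a := fun a ha b hb =>
    (Subgroup.mem_centralizer_iff.mp (Subgroup.commutator_eq_bot_iff_le_centralizer.mp hMab hb) a ha)
  obtain ⟨l, hl, hld⟩ := Nat.exists_prime_and_dvd (Finite.one_lt_card (α := M)).ne'
  haveI := Fact.mk hl
  obtain ⟨m₀, hm₀⟩ := exists_prime_orderOf_dvd_card' (G := M) l hld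
  have hexp : ∀ a ∈ M, a ^ l = 1 := by
    let M' : Subgroup Γ :=
      { carrier := {a | a ∈ M ∧ a ^ l = 1}
        one_mem' := ⟨one_mem _, one_pow l⟩
        mul_mem' := fun {a b} ha hb => ⟨mul_mem ha.1 hb.1, by
          rw [(show Commute a b from hMc a ha.1 b hb.1).mul_pow, ha.2, hb.2, one_mul]⟩
        inv_mem' := fun {a} ha => ⟨inv_mem ha.1, by rw [inv_pow, ha.2, inv_one]⟩ }
    haveI : M'.Normal := ⟨fun a ha g => ⟨hMn.conj_mem a ha.1 g, by rw [conj_pow, ha.2, mul_one, mul_inv_cancel]⟩⟩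
    have hne : M' ≠ ⊥ := fun e => by
      have hmem : (m₀ : Γ) ∈ M' := ⟨m₀.2, by rw [← hm₀, ← Subgroup.orderOf_coe, pow_orderOf_eq_one]⟩
      rw [e, Subgroup.mem_bot] at hmem
      rw [← Subgroup.orderOf_coe, hmem, orderOf_one] at hm₀
      exact hl.one_lt.ne hm₀
    exact fun a ha => (hMmin ⟨inferInstance, (fun b hb => hMN (hb : b ∈ M ∧ b ^ l = 1).1), hne⟩ (fun b hb => (hb : b ∈ M ∧ b ^ l = 1).1) ha).2
  -- the quotient
  let q := QuotientGroup.mk' M
  let π₁ : Γ ⧸ M →* L := QuotientGroup.lift M π hMN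
  have hπ₁ : ∀ x, π₁ (q x) = π x := fun x => QuotientGroup.lift_mk' M hMN x
  have hsurj : Function.Surjective π₁ := fun y => by
    obtain ⟨x, rfl⟩ := hπ y
    exact ⟨q x, hπ₁ x⟩
  have hperf₁ : commutator (Γ ⧸ M) = ⊤ := by
    rw [_root_.commutator_def, ← Subgroup.map_top_of_surjective q (QuotientGroup.mk'_surjective M),
      ← Subgroup.map_commutator, ← _root_.commutator_def, hperf]
  have hker : π₁.ker = π.ker.map q := by
    ext y
    obtain ⟨x, rfl⟩ := QuotientGroup.mk'_surjective M y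
    rw [MonoidHom.mem_ker, hπ₁]
    exact ⟨fun h => ⟨x, h, rfl⟩, fun ⟨x', hx', e⟩ => by rw [← hπ₁ x, ← e, hπ₁]; exact hx'⟩
  have hs₁ : Group.IsSolvable π₁.ker := by
    rw [hker]
    haveI := hs
    exact Group.isSolvable_of_surjective (f := q.subgroupMap π.ker) (MonoidHom.subgroupMap_surjective _ _)
  have hzp₁ : ∃ k : ℕ, q z ^ r ^ k = 1 := hzp.imp fun k hk => by rw [← map_pow, hk, map_one]
  have hcen := ih (Nat.card (Γ ⧸ M)) (by
      rw [Subgroup.card_eq_card_quotient_mul_card_subgroup M]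
      exact lt_mul_of_one_lt_right Nat.card_pos Finite.one_lt_card)
    rfl π₁ hsurj hperf₁ hs₁ (z := q z) (by rwa [hπ₁]) hzp₁ (by rwa [hπ₁]) (by
      rw [hker]
      rintro _ ⟨v, hv, rfl⟩
      rw [← map_commutatorElement, ← map_commutatorElement, ← map_commutatorElement, hcube v hv, map_one])
  -- the action on the minimal normal subgroup
  let ρ₀ : Γ →* MulAut M := MulAut.conjNormal
  have hMρ : M ≤ ρ₀.ker := fun a ha => MonoidHom.mem_ker.mpr (MulEquiv.ext fun b => Subtype.ext (by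
    show a * b * a⁻¹ = b
    rw [hMc a ha b b.2, mul_inv_cancel_right]))
  let σ : Γ ⧸ M →* AddMonoid.End (Additive M) := endOfAut.comp (QuotientGroup.lift M ρ₀ hMρ)
  letI : CommGroup M := { (inferInstance : Group M) with mul_comm := fun a b => Subtype.ext (hMc a a.2 b b.2) }
  have hσ : ∀ x, σ (q x) = endOfAut (ρ₀ x) := fun x => rfl
  have hV : ∀ v : Additive M, l • v = 0 := fun v => by
    apply Additive.toMul.injective
    rw [toMul_nsmul, toMul_zero]
    exact Subtype.ext (by rw [Subgroup.coe_pow]; exact hexp _ v.toMul.2)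
  have hcu : (σ (q z) - 1) ^ 3 = 0 := by
    have hstep : ∀ v : M, (σ (q z) - 1) (Additive.ofMul v) = -Additive.ofMul (⟨⁅(v : Γ), z⁆, by
        rw [commutatorElement_def, mul_assoc, mul_assoc]
        exact mul_mem v.2 (by rw [← mul_assoc]; exact hMn.conj_mem _ (inv_mem v.2) z)⟩ : M) := fun v => by
      show σ (q z) (Additive.ofMul v) - Additive.ofMul v = _
      rw [hσ, endOfAut_apply, ← ofMul_div, ← ofMul_inv]
      refine congrArg Additive.ofMul (Subtype.ext ?_)
      rw [div_eq_mul_inv]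
      show z * (v : Γ) * z⁻¹ * (v : Γ)⁻¹ = (⁅(v : Γ), z⁆)⁻¹
      rw [commutatorElement_def]; group
    refine DFunLike.ext _ _ fun v => ?_
    obtain ⟨v, rfl⟩ := Additive.ofMul.surjective v
    rw [pow_succ, pow_two]
    show (σ (q z) - 1) ((σ (q z) - 1) ((σ (q z) - 1) (Additive.ofMul v))) = 0
    rw [hstep, map_neg, hstep, map_neg, map_neg, hstep, neg_neg, neg_eq_zero]
    refine congrArg Additive.ofMul (Subtype.ext ?_)
    exact hcube v (hMN v.2)
  -- the minimal normal subgroup is central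
  have hMcen : ∀ g : Γ, ρ₀ g = 1 := by
    by_cases hlr : l = r
    · subst hlr
      obtain ⟨k, hk⟩ := hzp
      obtain ⟨j, hj⟩ : ∃ j, orderOf (π z) = l ^ (j + 1) := by
        obtain ⟨i, -, hi⟩ := (Nat.dvd_prime_pow hl).mp
          (orderOf_dvd_of_pow_eq_one (show (π z) ^ l ^ k = 1 by rw [← map_pow, hk, map_one]))
        rcases i with _ | j
        · exact absurd (orderOf_eq_one_iff.mp (by simpa using hi)) hz1
        · exact ⟨j, hi⟩
      have hzj : π₁ ((q z) ^ l ^ j) ≠ 1 := by
        rw [map_pow, hπ₁]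
        intro e
        have := Nat.le_of_dvd (pow_pos hl.pos j) (hj ▸ orderOf_dvd_of_pow_eq_one e)
        exact absurd this (not_le.mpr (Nat.pow_lt_pow_right hl.one_lt j.lt_succ_self))
      obtain ⟨w, hw, hwz⟩ := h5
      have hpow : (σ ((q z) ^ l ^ j) - 1) ^ 3 = 0 := by
        rw [map_pow]
        obtain ⟨e, he⟩ : ∃ e, e = σ (q z) := ⟨_, rfl⟩
        rw [← he] at hcu ⊢
        rw [← geom_sum_mul e (l ^ j), ((Commute.sum_left _ _ _ fun i _ => (Commute.pow_self e i).sub_right
          (Commute.one_right _))).mul_pow, hcu, mul_zero]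
      have := hcub hL π₁ hsurj hperf₁ hcen hV σ hzj (by
          rw [map_pow, hπ₁, ← pow_mul, ← pow_succ, ← hj, pow_orderOf_eq_one])
        (hzp₁.imp fun k hk => by rw [← pow_mul, mul_comm, pow_mul, hk, one_pow])
        ⟨w, hw, by rw [map_pow, hπ₁]; exact (show Commute (π z) w from hwz).pow_left _⟩ hpow
      intro g
      have h1 := this (q g)
      rw [hσ] at h1
      refine MulEquiv.ext fun v => ?_
      exact Additive.ofMul.injective (congrArg (fun f : AddMonoid.End (Additive M) => f (Additive.ofMul v)) h1)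
    · obtain ⟨k, hk⟩ := hzp
      have h1 : σ (q z) = 1 := eq_one_of_cube_coprime (m := r ^ k) (l := l)
        (Nat.Coprime.pow_left k ((Nat.coprime_primes Fact.out hl).mpr (Ne.symm hlr))) hV hcu
        (by rw [← map_pow, ← map_pow, hk, map_one, map_one])
      have hzC : z ∈ ρ₀.ker := MonoidHom.mem_ker.mpr (MulEquiv.ext fun v => by
        rw [hσ] at h1
        exact Additive.ofMul.injective (congrArg (fun f : AddMonoid.End (Additive M) => f (Additive.ofMul v)) h1))
      have htop : ρ₀.ker.map π = ⊤ := by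
        rcases (Subgroup.Normal.map (inferInstance : ρ₀.ker.Normal) π hπ).eq_bot_or_eq_top with e | e
        · exact absurd (Subgroup.mem_bot.mp (e ▸ ⟨z, hzC, rfl⟩ : π z ∈ (⊥ : Subgroup L))) hz1
        · exact e
      have hsup : (⊤ : Subgroup Γ) ≤ ρ₀.ker ⊔ π.ker := fun x _ => by
        obtain ⟨c, hc, e⟩ := htop.ge (Subgroup.mem_top (π x))
        rw [show x = c * (c⁻¹ * x) by group]
        refine Subgroup.mul_mem_sup hc ?_
        rw [MonoidHom.mem_ker, map_mul, map_inv, e, inv_mul_cancel]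
      have hle := perfect_le_of_sup hs (fun a _ => by rw [Subgroup.normalizer_eq_top]; trivial)
        (by rw [← _root_.commutator_def]; exact hperf) hsup
      exact fun g => hle (Subgroup.mem_top g)
  -- three subgroups
  have h1 : ⁅π.ker, (⊤ : Subgroup Γ)⁆ ≤ M := by
    rw [Subgroup.commutator_le]
    intro a ha g _
    have h2 : q a ∈ Subgroup.center (Γ ⧸ M) := hcen (by rw [hker]; exact ⟨a, ha, rfl⟩)
    refine (QuotientGroup.eq_one_iff _).mp ?_
    show q ⁅a, g⁆ = 1
    rw [map_commutatorElement, commutatorElement_eq_one_iff_commute]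
    exact (Subgroup.mem_center_iff.mp h2 (q g)).symm
  have h2 : ⁅⁅π.ker, (⊤ : Subgroup Γ)⁆, (⊤ : Subgroup Γ)⁆ = ⊥ := by
    rw [Subgroup.commutator_eq_bot_iff_le_centralizer]
    intro a ha g _
    have := congrArg (fun e : MulAut M => ((e ⟨a, h1 ha⟩ : M) : Γ)) (hMcen g)
    exact mul_inv_eq_iff_eq_mul.mp this
  have h3 : ⁅⁅(⊤ : Subgroup Γ), π.ker⁆, (⊤ : Subgroup Γ)⁆ = ⊥ := by
    rwa [Subgroup.commutator_comm ⊤ π.ker]
  have h4 := Subgroup.commutator_commutator_eq_bot_of_rotate h3 h2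
  rw [← _root_.commutator_def, hperf, Subgroup.commutator_comm, Subgroup.commutator_eq_bot_iff_le_centralizer] at h4
  intro a ha
  exact Subgroup.mem_center_iff.mpr fun g => h4 ha g (Subgroup.mem_top g)

end CfsgLib.SF23
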