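import Cfsg.Agent.Lib.SF23.Pre
import Cfsg.Agent.Lib.SF23.Quasi
import Cfsg.Agent.Lib.SF23.Outside

/-!
Mark groups: existence, and the lemma on their fixed elements in the values.
-/

set_option autoImplicit false
set_option linter.unusedSectionVars false
set_option linter.style.haveILetI false

namespace CfsgLib.SF23

open Cfsg Subgroup CfsgLib.Signalizer CfsgLib.SolvSF
open CfsgLib.DihedralLemma (fit fit_le le_normalizer_fit centralizer_fit_le)
open scoped commutatorElement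

universe u
variable {G : Type u} [Group G] [Finite G] {A : Subgroup G} {θ : G → Subgroup G}

/-- A normal subgroup of the closure of prime power order, of class two, with zero derived subgroup. -/
structure MarkGrp (h : Ctx 3 A θ) (r : ℕ) (K : Subgroup G) : Prop where
  prime : r.Prime
  pgroup : IsPGroup r K
  le : K ≤ yCl h
  norm : yCl h ≤ normalizer (K : Set G)
  inv : A ≤ normalizer (K : Set G)
  cent : ⁅⁅K, K⁆, K⁆ = ⊥
  zero : Zero A θ ⁅K, K⁆

section Torus

variable {L : Type u} [Group L] [Finite L] (hL : Lie.IsoSuzuki L) {z : L} (hz : orderOf z = 5)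
include hL hz

theorem torus_odd {a : L} (ha : a ∈ centralizer ({z} : Set L)) (h2 : a * a = 1) : a = 1 := by
  classical
  obtain ⟨hc, -, -, -, t, ht, -, htf⟩ := suz_torus hL hz
  haveI : IsCyclic ↥(centralizer ({z} : Set L)) := hc
  haveI := Fintype.ofFinite ↥(centralizer ({z} : Set L))
  by_contra ha1
  have hb : t * a * t⁻¹ ∈ centralizer ({z} : Set L) := (Subgroup.mem_normalizer_iff.mp ht a).mp ha
  have hb2 : t * a * t⁻¹ * (t * a * t⁻¹) = 1 := by
    calc t * a * t⁻¹ * (t * a * t⁻¹) = t * (a * a) * t⁻¹ := by group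
      _ = 1 := by rw [h2, mul_one, mul_inv_cancel]
  have hb1 : t * a * t⁻¹ ≠ 1 := fun e => ha1 (conj_eq_one_iff.mp e)
  have hne : t * a * t⁻¹ ≠ a := fun e => ha1 (htf a ha (mul_inv_eq_iff_eq_mul.mp e))
  let T := ↥(centralizer ({z} : Set L))
  have hsub : ({1, ⟨a, ha⟩, ⟨t * a * t⁻¹, hb⟩} : Finset T) ⊆ Finset.univ.filter (fun y : T => y ^ 2 = 1) := by
    intro y hy
    simp only [Finset.mem_insert, Finset.mem_singleton] at hy
    refine Finset.mem_filter.mpr ⟨Finset.mem_univ _, ?_⟩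
    rcases hy with rfl | rfl | rfl
    · exact one_pow 2
    · exact Subtype.ext (by rw [pow_two]; exact h2)
    · exact Subtype.ext (by rw [pow_two]; exact hb2)
  have h3 : ({1, ⟨a, ha⟩, ⟨t * a * t⁻¹, hb⟩} : Finset T).card = 3 := Finset.card_eq_three.mpr
    ⟨_, _, _, fun e => ha1 (congrArg Subtype.val e).symm, fun e => hb1 (congrArg Subtype.val e).symm,
      fun e => hne (congrArg Subtype.val e).symm, rfl⟩
  have := (Finset.card_le_card hsub).trans (IsCyclic.card_pow_eq_one_le (α := T) (by norm_num))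
  omega

theorem pow_four_mem {x : L} (hx : x ∈ normalizer (centralizer ({z} : Set L) : Set L)) :
    x ^ 4 ∈ centralizer ({z} : Set L) := by
  obtain ⟨-, -, hcard, -, -⟩ := suz_torus hL hz
  set T := centralizer ({z} : Set L)
  set N := normalizer (T : Set L)
  haveI : (T.subgroupOf N).Normal := Subgroup.normal_in_normalizer
  have hq : Nat.card (↥N ⧸ T.subgroupOf N) = 4 := by
    have h1 := Subgroup.card_eq_card_quotient_mul_card_subgroup (T.subgroupOf N)
    rw [Nat.card_congr (Subgroup.subgroupOfEquivOfLe (Subgroup.le_normalizer : T ≤ N)).toEquiv, hcard] at h1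
    exact (Nat.eq_of_mul_eq_mul_right Nat.card_pos h1).symm
  have h2 : (QuotientGroup.mk' (T.subgroupOf N) ⟨x, hx⟩) ^ 4 = 1 := hq ▸ pow_card_eq_one'
  rw [← map_pow] at h2
  have h3 := (QuotientGroup.eq_one_iff (N := T.subgroupOf N) _).mp h2
  rwa [Subgroup.mem_subgroupOf, Subgroup.coe_pow] at h3

end Torus

section Data

variable (h : Ctx 3 A θ)
include h

theorem exists_markGrp {C : Subgroup G} (hCY : C ≤ yCl h) (hYC : yCl h ≤ normalizer (C : Set G))
    (hCA : A ≤ normalizer (C : Set G)) (hCc : C ≤ centralizer (fZero h : Set G)) (hne : ¬ C ≤ fZero h) :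
    ∃ r K, MarkGrp h r K ∧ K ≤ C ∧ ¬ Zero A θ K := by
  set F := fZero h
  obtain ⟨-, hYF, hAF, -, hzF⟩ := fZero_spec h
  obtain ⟨r, hr, hrF⟩ : ∃ r : ℕ, r.Prime ∧ ¬ O r C ≤ F := by
    by_contra hcon
    push Not at hcon
    refine hne fun x hx => ?_
    have hfit : fit C ≤ F := by
      rw [fit, CfsgLib.fittingSubgroup_eq_iSup_pCore, Subgroup.map_iSup]
      exact iSup_le fun q => hcon q q.2
    exact hfit (centralizer_fit_le (solvable_of_le hCY (yCl_solvable h)) hx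
      fun y hy => (Subgroup.mem_centralizer_iff.mp (hCc hx) y (hfit hy)).symm)
  haveI := Fact.mk hr
  set P := O r C with hP
  have hPc : P ≤ centralizer (F : Set G) := O_le.trans hCc
  have hPY : P ≤ yCl h := O_le.trans hCY
  let K : Subgroup G :=
    { carrier := {x | x ∈ P ∧ ∀ y ∈ P, ⁅x, y⁆ ∈ F}
      one_mem' := ⟨one_mem _, fun y _ => by rw [commutatorElement_one_left]; exact one_mem _⟩
      mul_mem' := fun {a b} ha hb => ⟨mul_mem ha.1 hb.1, fun y hy => by
        have e : ⁅a * b, y⁆ = a * ⁅b, y⁆ * a⁻¹ * ⁅a, y⁆ := by simp [commutatorElement_def, mul_assoc]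
        rw [e]
        exact mul_mem ((Subgroup.mem_normalizer_iff.mp (hYF (hPY ha.1)) _).mp (hb.2 y hy)) (ha.2 y hy)⟩
      inv_mem' := fun {a} ha => ⟨inv_mem ha.1, fun y hy => by
        have e : ⁅a⁻¹, y⁆ = a⁻¹ * ⁅a, y⁆⁻¹ * a := by simp [commutatorElement_def, mul_assoc]
        rw [e]
        exact (Subgroup.mem_normalizer_iff''.mp (hYF (hPY ha.1)) _).mp (inv_mem (ha.2 y hy))⟩ }
  have hKP : K ≤ P := fun x hx => hx.1
  have hKn : normalizer (P : Set G) ⊓ normalizer (F : Set G) ≤ normalizer (K : Set G) := fun g hg =>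
    Comp.mem_normalizer_of_maps fun x hx => ⟨(Subgroup.mem_normalizer_iff.mp hg.1 x).mp hx.1, fun y hy => by
      have hy' := (Subgroup.mem_normalizer_iff''.mp hg.1 y).mp hy
      have e : ⁅g * x * g⁻¹, y⁆ = g * ⁅x, g⁻¹ * y * g⁆ * g⁻¹ := by simp [commutatorElement_def, mul_assoc]
      rw [e]
      exact (Subgroup.mem_normalizer_iff.mp hg.2 _).mp (hx.2 _ hy')⟩
  have hKK : ⁅K, K⁆ ≤ P ⊓ F := le_inf ((Subgroup.commutator_mono hKP hKP).trans (Subgroup.commutator_le_self P))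
    (Subgroup.commutator_le.mpr fun a ha b hb => ha.2 b hb.1)
  have mg : MarkGrp h r K := by
    refine ⟨hr, O_isPGroup.to_le hKP, hKP.trans hPY, ?_, ?_, ?_, hzF.mono (hKK.trans inf_le_right)⟩
    · exact (le_inf (pCore_normalizes hYC) hYF).trans hKn
    · exact (le_inf (pCore_normalizes hCA) hAF).trans hKn
    · exact Subgroup.commutator_eq_bot_iff_le_centralizer.mpr fun x hx y hy =>
        (Subgroup.mem_centralizer_iff.mp (hPc (hKP hy)) x (hKK hx).2).symm
  refine ⟨r, K, mg, hKP.trans O_le, fun hz => ?_⟩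
  haveI := mg.pgroup.isNilpotent
  have hKF : K ≤ F := le_fZero h ⟨mg.le, mg.norm, mg.inv, inferInstance, hz⟩
  -- a central element of the quotient by the zero part
  haveI : (F.subgroupOf P).Normal := ⟨fun x hx g => (Subgroup.mem_normalizer_iff.mp (hYF (hPY g.2)) _).mp hx⟩
  have hq : Nontrivial (↥P ⧸ F.subgroupOf P) := QuotientGroup.nontrivial_iff.mpr fun e =>
    hrF (Subgroup.subgroupOf_eq_top.mp e)
  haveI := (O_isPGroup (q := r) (K := C)).to_quotient (F.subgroupOf P) |>.center_nontrivial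
  obtain ⟨⟨c, hc⟩, hc1⟩ := exists_ne (1 : Subgroup.center (↥P ⧸ F.subgroupOf P))
  obtain ⟨x, rfl⟩ := QuotientGroup.mk'_surjective _ c
  have hxK : (x : G) ∈ K := ⟨x.2, fun y hy => by
    have e : QuotientGroup.mk' (F.subgroupOf P) ⁅x, (⟨y, hy⟩ : P)⁆ = 1 := by
      rw [map_commutatorElement, commutatorElement_eq_one_iff_commute]
      exact (Subgroup.mem_center_iff.mp hc _).symm
    have e2 := (QuotientGroup.eq_one_iff (N := F.subgroupOf P) _).mp e
    exact e2⟩
  exact hc1 (Subtype.ext ((QuotientGroup.eq_one_iff x).mpr (hKF hxK)))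

/-- Fixed elements of mark groups lie in the soluble functor. -/
theorem MarkGrp.mem_uF {r : ℕ} {K : Subgroup G} (mg : MarkGrp h r K) {g k : G} (hg : Pt A g) (hk : k ∈ K)
    (hkg : k ∈ centralizer ({g} : Set G)) : k ∈ uF h g :=
  (yCl_fix h hg).le (Subgroup.mem_inf.mpr ⟨mg.le hk, hkg⟩)

theorem uF_normalizes_fixed {r : ℕ} {K : Subgroup G} (mg : MarkGrp h r K) {g k u : G} (hg : Pt A g) (hk : k ∈ K)
    (hkg : k ∈ centralizer ({g} : Set G)) (hu : u ∈ uF h g) :
    u * k * u⁻¹ ∈ K ∧ u * k * u⁻¹ ∈ centralizer ({g} : Set G) := by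
  have hc := theta_le_cent h.hθ hg (uF_le h g hu)
  exact ⟨(Subgroup.mem_normalizer_iff.mp (mg.norm (uF_le_yCl h hg hu)) k).mp hk, mul_mem (mul_mem hc hkg) (inv_mem hc)⟩

theorem mem_torusProd_of_nor {X : Subgroup G} {K : Subgroup (Bar X)} (hX : IsMem 3 A θ X) (hQ : qfive h ≤ X)
    (hK : IsComponent K) {x : Bar X} (hx : x ∈ nor K (tv h X K)) : x ∈ torusProd (tv h X) (bar_rad X) := by
  refine ⟨CfsgLib.le_layer hK hx.1, fun L hL => ?_⟩
  rcases eq_or_ne L K with rfl | hne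
  · rwa [prj_self (bar_rad X) hL hx.1]
  · rw [prj_other (bar_rad X) hL hK hne hx.1]
    exact one_mem _

/-- Every element of the normalizer of a torus lifts to the soluble functor inside the perfect preimage. -/
theorem exists_nor_lift {g : G} (hg : Pt A g) {L : Subgroup (Bar (θ g))} (hL : IsComponent L) {x : Bar (θ g)}
    (hx : x ∈ nor L (tv h (θ g) L)) :
    ∃ (x' : G) (hx' : x' ∈ θ g), x' ∈ pc (pre (θ g) L) ∧ x' ∈ uF h g ∧ toBar (θ g) hx' = x := by
  have hQ := qfive_le_theta h hg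
  have hle := le_map_pc (pre_le (θ g) L) (CfsgLib.isComponent_commutator_self hL) (img_pre (θ g) L).ge
  obtain ⟨x', hx', hxp, e⟩ := mem_img_iff.mp (hle hx.1)
  exact ⟨x', hx', hxp, mem_join_of_bar h (theta_isMem h.hθ hg) hQ hx'
    (e ▸ mem_torusProd_of_nor h (theta_isMem h.hθ hg) hQ hL hx), e⟩

/-- A fixed element of a mark group fixes every component. -/
theorem mark_fixes {r : ℕ} {K : Subgroup G} (mg : MarkGrp h r K) {g k : G} (hg : Pt A g) (hk : k ∈ K)
    (hkg : k ∈ centralizer ({g} : Set G)) (hkX : k ∈ θ g) {L : Subgroup (Bar (θ g))} (hL : IsComponent L) :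
    mp (MulAut.conj (toBar (θ g) hkX)) L = L := by
  by_contra hmv
  haveI := Fact.mk mg.prime
  have hR := bar_rad (θ g)
  have h3 := bar_not_dvd (theta_not_dvd h.hθ hg)
  have hX := theta_isMem h.hθ hg
  have hQ := qfive_le_theta h hg
  set κ := MulAut.conj (toBar (θ g) hkX)
  have key : ∀ x ∈ nor L (tv h (θ g) L), ∃ n : ℕ, x ^ r ^ n = 1 := by
    intro x hx
    obtain ⟨x', hx', -, hxu, e⟩ := exists_nor_lift h hg hL hx
    have hzK : k * x' * k⁻¹ * x'⁻¹ ∈ K := by
      have := mul_mem hk (uF_normalizes_fixed h mg hg (inv_mem hk) (inv_mem hkg) hxu).1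
      simpa [mul_assoc] using this
    obtain ⟨n, hn⟩ := mg.pgroup ⟨_, hzK⟩
    refine ⟨n, ?_⟩
    have hb : (κ x * x⁻¹) ^ r ^ n = 1 := by
      have h1 : toBar (θ g) (mul_mem (mul_mem (mul_mem hkX hx') (inv_mem hkX)) (inv_mem hx')) = κ x * x⁻¹ := by
        rw [toBar_commutator hkX hx', e, commutatorElement_def, MulAut.conj_apply]
      rw [← h1]
      show (QuotientGroup.mk' (solvableRadical ↥(θ g)) ⟨_, _⟩) ^ r ^ n = 1
      rw [← map_pow]
      refine (QuotientGroup.eq_one_iff _).mpr ?_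
      have h2 : (k * x' * k⁻¹ * x'⁻¹) ^ r ^ n = 1 := congrArg Subtype.val hn
      rw [show (⟨k * x' * k⁻¹ * x'⁻¹, mul_mem (mul_mem (mul_mem hkX hx') (inv_mem hkX)) (inv_mem hx')⟩ : θ g) ^ r ^ n
        = 1 from Subtype.ext h2]
      exact one_mem _
    have hl1 : κ x ∈ layer (Bar (θ g)) := mp_layer κ (CfsgLib.le_layer hL hx.1)
    have hl2 : x⁻¹ ∈ layer (Bar (θ g)) := inv_mem (CfsgLib.le_layer hL hx.1)
    have hp : prj L (κ x * x⁻¹) = x⁻¹ := by
      rw [prj_mul hR hL hl1 hl2, prj_other hR hL (mp_comp hL) (Ne.symm hmv) (mem_mp hx.1), one_mul,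
        prj_inv hR hL (CfsgLib.le_layer hL hx.1), prj_self hR hL hx.1]
    let f : layer (Bar (θ g)) →* Bar (θ g) :=
      { toFun := fun y => prj L y
        map_one' := prj_one hR hL
        map_mul' := fun a b => prj_mul hR hL a.2 b.2 }
    have h5 := congrArg f (show (⟨_, mul_mem hl1 hl2⟩ : layer (Bar (θ g))) ^ r ^ n = 1 from Subtype.ext hb)
    rw [map_pow, map_one, show f ⟨_, mul_mem hl1 hl2⟩ = x⁻¹ from hp, inv_pow, inv_eq_one] at h5
    exact h5
  have hS := component_suzuki hR h3 hL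
  obtain ⟨f, -, -, hfp, hv5⟩ := tv_spec h hX hQ hL
  have hvL := tv_mem h hX hQ hL
  have hv : tv h (θ g) L ∈ nor L (tv h (θ g) L) :=
    ⟨hvL, Subgroup.le_normalizer (⟨hvL, mem_centralizer_singleton_iff.mpr rfl⟩ : _ ∈ tor L (tv h (θ g) L))⟩
  have hr5 : r = 5 := by
    obtain ⟨n, hn⟩ := key _ hv
    have := hv5 ▸ orderOf_dvd_of_pow_eq_one hn
    exact ((Nat.prime_dvd_prime_iff_eq Nat.prime_five mg.prime).mp (Nat.prime_five.dvd_of_dvd_pow this)).symm
  obtain ⟨-, -, -, -, t, ht, ht4, -⟩ := suz_torus hS (z := ⟨_, hvL⟩) (by rwa [Subgroup.orderOf_mk])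
  obtain ⟨n, hn⟩ := key (t : Bar (θ g)) ((mem_nor_iff hvL t.2).mpr ht)
  have h4 := orderOf_dvd_of_pow_eq_one hn
  rw [Subgroup.orderOf_coe, ht4, hr5] at h4
  have := Nat.Coprime.pow_right n (show Nat.Coprime 4 5 by norm_num)
  exact absurd (Nat.eq_one_of_dvd_coprimes this dvd_rfl h4) (by norm_num)

set_option maxHeartbeats 800000 in
/-- A fixed element of a mark group acting non-trivially on a component: the component is clean and
meets the mark group. -/
theorem mark_clean (hcub : CubicTrivial.{u}) {r : ℕ} {K : Subgroup G} (mg : MarkGrp h r K) {g k : G}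
    (hg : Pt A g) (hk : k ∈ K) (hkg : k ∈ centralizer ({g} : Set G)) (hkX : k ∈ θ g)
    {L : Subgroup (Bar (θ g))} (hL : IsComponent L)
    (hnt : ∃ l ∈ L, MulAut.conj (toBar (θ g) hkX) l ≠ l) :
    r ≠ 2 ∧ pc (pre (θ g) L) ≤ centralizer (rv θ g : Set G) ∧
      ∃ (z : G) (hz : z ∈ θ g), z ∈ K ∧ z ∈ pc (pre (θ g) L) ∧ toBar (θ g) hz ∈ tor L (tv h (θ g) L) ∧
        toBar (θ g) hz ≠ 1 := by
  haveI := Fact.mk mg.prime
  have hR := bar_rad (θ g)
  have h3 := bar_not_dvd (theta_not_dvd h.hθ hg)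
  have hX := theta_isMem h.hθ hg
  have hQ := qfive_le_theta h hg
  have hS := component_suzuki hR h3 hL
  set kb := toBar (θ g) hkX with hkb
  set v := tv h (θ g) L with hvdef
  have hvL : v ∈ L := tv_mem h hX hQ hL
  obtain ⟨-, -, -, -, hv5⟩ := tv_spec h hX hQ hL
  have hvo : orderOf (⟨v, hvL⟩ : L) = 5 := by rwa [Subgroup.orderOf_mk]
  have hfixL := mark_fixes h mg hg hk hkg hkX hL
  have hkn : kb ∈ normalizer (L : Set (Bar (θ g))) := mp_conj_eq_iff.mp hfixL
  have hknt : kb ∈ normalizer (tor L v : Set (Bar (θ g))) := by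
    refine mp_conj_eq_iff.mp ?_
    have := map_tor_of_join h hX hQ hkX (mg.mem_uF h hg hk hkg) hL
    rwa [hfixL] at this
  set Γ := pc (pre (θ g) L) with hΓ
  have hΓX : Γ ≤ θ g := (pc_le _).trans (pre_le _ _)
  have hΓL : ∀ {y : G} (hy : y ∈ θ g), y ∈ Γ → toBar (θ g) hy ∈ L := fun hy h' => (mem_pre hy).mp (pc_le _ h')
  have hkΓ : k ∈ normalizer (Γ : Set G) := le_normalizer_pc le_rfl (mem_normalizer_pre hkX hkn)
  -- the element
  obtain ⟨x, hx, hxne⟩ : ∃ x ∈ nor L v, MulAut.conj kb x ≠ x := by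
    by_contra hall
    push Not at hall
    obtain ⟨l, hl, hlne⟩ := hnt
    have hφ : L.normalizerMonoidHom ⟨kb, hkn⟩ = 1 := suz_torus_rigid hS hvo
      (fun hd => h3 (hd.trans ((orderOf_map_dvd _ _).trans (by rw [Subgroup.orderOf_mk]; exact orderOf_dvd_natCard _))))
      (fun y hy => Subtype.ext (hall y ((mem_nor_iff hvL y.2).mpr hy)))
    exact hlne (congrArg (fun e : MulAut L => ((e ⟨l, hl⟩ : L) : Bar (θ g))) hφ)
  obtain ⟨x', hx', hxΓ, hxu, ex⟩ := exists_nor_lift h hg hL hx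
  let Z : Bar (θ g) → Prop := fun y => ∃ (z : G) (hz : z ∈ θ g), z ∈ K ∧ z ∈ Γ ∧ toBar (θ g) hz = y
  have hZp : ∀ y, Z y → ∃ n : ℕ, y ^ r ^ n = 1 := by
    rintro y ⟨z, hz, hzK, -, rfl⟩
    obtain ⟨n, hn⟩ := mg.pgroup ⟨z, hzK⟩
    refine ⟨n, ?_⟩
    show (QuotientGroup.mk' (solvableRadical ↥(θ g)) ⟨z, hz⟩) ^ r ^ n = 1
    rw [← map_pow, show (⟨z, hz⟩ : θ g) ^ r ^ n = 1 from
      Subtype.ext (show z ^ r ^ n = 1 from congrArg Subtype.val hn), map_one]
  set z := k * x' * k⁻¹ * x'⁻¹ with hzdef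
  have hzX : z ∈ θ g := mul_mem (mul_mem (mul_mem hkX hx') (inv_mem hkX)) (inv_mem hx')
  have hzK : z ∈ K := by
    have := mul_mem hk (uF_normalizes_fixed h mg hg (inv_mem hk) (inv_mem hkg) hxu).1
    simpa [hzdef, mul_assoc] using this
  have hzΓ : z ∈ Γ := mul_mem ((Subgroup.mem_normalizer_iff.mp hkΓ x').mp hxΓ) (inv_mem hxΓ)
  have ezb : toBar (θ g) hzX = MulAut.conj kb x * x⁻¹ := by
    show toBar (θ g) (mul_mem (mul_mem (mul_mem hkX hx') (inv_mem hkX)) (inv_mem hx')) = _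
    rw [toBar_commutator hkX hx', ex, commutatorElement_def, MulAut.conj_apply]
  set zb := toBar (θ g) hzX with hzb
  have hzZ : Z zb := ⟨z, hzX, hzK, hzΓ, rfl⟩
  have hzL : zb ∈ L := hΓL hzX hzΓ
  have hz1 : zb ≠ 1 := fun e => hxne (mul_inv_eq_one.mp (ezb ▸ e))
  have hknn : ∀ y ∈ nor L v, MulAut.conj kb y ∈ nor L v := fun y hy => by
    rw [MulAut.conj_apply]
    refine ⟨(Subgroup.mem_normalizer_iff.mp hkn y).mp hy.1, ?_⟩
    exact Subgroup.mul_mem _ (Subgroup.mul_mem _ hknt hy.2) (Subgroup.inv_mem _ hknt)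
  have hzn : zb ∈ nor L v := ezb ▸ mul_mem (hknn x hx) (inv_mem hx)
  have hzN := (mem_nor_iff hvL hzL).mp hzn
  have hr2 : r ≠ 2 := by
    intro hr
    subst hr
    -- two-elements of the normal subgroup centralise the torus
    have hodd : ∀ a ∈ centralizer ({(⟨v, hvL⟩ : L)} : Set L), ∀ n : ℕ, a ^ 2 ^ n = 1 → a = 1 := by
      intro a ha n
      induction n with
      | zero => intro h0; simpa using h0
      | succ n ih =>
        intro hn
        refine ih (torus_odd hS hvo (pow_mem ha _) ?_)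
        rw [← pow_two, ← pow_mul, ← pow_succ]
        exact hn
    have hvn : v ∈ nor L v := ⟨hvL, Subgroup.le_normalizer (⟨hvL, mem_centralizer_singleton_iff.mpr rfl⟩ : _ ∈ tor L (tv h (θ g) L))⟩
    obtain ⟨v', hv', hvΓ, hvu, ev⟩ := exists_nor_lift h hg hL hvn
    have hwX : z * v' * z⁻¹ * v'⁻¹ ∈ θ g := mul_mem (mul_mem (mul_mem hzX hv') (inv_mem hzX)) (inv_mem hv')
    have hwK : z * v' * z⁻¹ * v'⁻¹ ∈ K := by
      have := mul_mem hzK (uF_normalizes_fixed h mg hg (inv_mem hzK) (inv_mem (theta_le_cent h.hθ hg hzX)) hvu).1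
      simpa [mul_assoc] using this
    obtain ⟨n, hn⟩ := hZp _ ⟨_, hwX, hwK, mul_mem (mul_mem (mul_mem hzΓ hvΓ) (inv_mem hzΓ)) (inv_mem hvΓ), rfl⟩
    have hw : toBar (θ g) hwX = zb * v * zb⁻¹ * v⁻¹ := by rw [toBar_commutator hzX hv', ev, commutatorElement_def]
    rw [hw] at hn
    have h1 : (⟨zb, hzL⟩ : L) * ⟨v, hvL⟩ * (⟨zb, hzL⟩)⁻¹ * (⟨v, hvL⟩)⁻¹ = 1 := hodd _
      (mul_mem ((Subgroup.mem_normalizer_iff.mp hzN _).mp (mem_centralizer_singleton_iff.mpr rfl))
        (inv_mem (mem_centralizer_singleton_iff.mpr rfl))) n (Subtype.ext hn)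
    obtain ⟨m, hm⟩ := hZp zb hzZ
    refine hz1 (congrArg Subtype.val (hodd ⟨zb, hzL⟩
      (mem_centralizer_singleton_iff.mpr (mul_inv_eq_iff_eq_mul.mp (mul_inv_eq_one.mp h1))) m (Subtype.ext hm)))
  obtain ⟨m, hm⟩ := hZp zb hzZ
  have hzT : (⟨zb, hzL⟩ : L) ∈ centralizer ({(⟨v, hvL⟩ : L)} : Set L) := by
    obtain ⟨j, hj⟩ := exists_pow_eq_self_of_coprime (x := (⟨zb, hzL⟩ : L)) (n := 4) <| by
      refine Nat.Coprime.coprime_dvd_right (orderOf_dvd_of_pow_eq_one (Subtype.ext hm)) (Nat.Coprime.pow_right m ?_)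
      exact (show Nat.Coprime 2 r from (Nat.coprime_primes Nat.prime_two mg.prime).mpr hr2.symm).pow_left 2
    rw [← hj]
    exact pow_mem (pow_four_mem hS hvo hzN) j
  refine ⟨hr2, ?_, z, hzX, hzK, hzΓ, (mem_tor_iff hvL hzL).mpr hzT, hz1⟩
  -- cleanliness
  have hperf : commutator ↥Γ = ⊤ := by
    apply Subgroup.map_injective Γ.subtype_injective
    rw [_root_.commutator_def, Subgroup.map_commutator, ← MonoidHom.range_eq_map, Subgroup.range_subtype]
    exact pc_perfect _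
  let π : ↥Γ →* L :=
    ((QuotientGroup.mk' (solvableRadical ↥(θ g))).comp (Subgroup.inclusion hΓX)).codRestrict L
      fun y => hΓL (hΓX y.2) y.2
  have hπ : Function.Surjective π := fun y => by
    obtain ⟨y', hy', hyp, e⟩ := mem_img_iff.mp
      (le_map_pc (pre_le (θ g) L) (CfsgLib.isComponent_commutator_self hL) (img_pre (θ g) L).ge y.2)
    exact ⟨⟨y', hyp⟩, Subtype.ext e⟩
  have hker : ∀ y : ↥Γ, y ∈ π.ker ↔ (y : G) ∈ rv θ g := fun y => by
    rw [MonoidHom.mem_ker, rv, ← toBar_eq_one_iff (hΓX y.2)]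
    exact ⟨fun e => congrArg Subtype.val e, fun e => Subtype.ext e⟩
  have hks : Group.IsSolvable π.ker := by
    haveI : Group.IsSolvable (rv θ g) := radS_solvable _
    exact Group.isSolvable_of_isSolvable_injective
      (f := (Γ.subtype.comp π.ker.subtype).codRestrict (rv θ g) fun y => (hker y.1).mp y.2)
      fun a b e => Subtype.ext (Subtype.ext (congrArg (fun y : ↥(rv θ g) => (y : G)) e :))
  have hcen := central_of_cubic hcub hS (r := r) (Nat.card ↥Γ) rfl π hπ hperf hks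
    (z := ⟨z, hzΓ⟩) (fun e => hz1 (congrArg Subtype.val e))
    (by
      obtain ⟨n, hn⟩ := mg.pgroup ⟨z, hzK⟩
      exact ⟨n, Subtype.ext (show z ^ r ^ n = 1 from congrArg Subtype.val hn)⟩)
    ⟨⟨v, hvL⟩, hvo, mem_centralizer_singleton_iff.mp hzT⟩ (by
      intro y hy
      refine Subtype.ext ?_
      show ⁅⁅⁅(y : G), z⁆, z⁆, z⁆ = 1
      have h1 : ⁅(y : G), z⁆ ∈ K := by
        rw [commutatorElement_def]
        exact mul_mem ((Subgroup.mem_normalizer_iff.mp (mg.norm (rv_le_yCl h hg ((hker y).mp hy))) z).mp hzK)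
          (inv_mem hzK)
      refine Subgroup.mem_bot.mp ?_
      rw [← mg.cent]
      exact Subgroup.commutator_mem_commutator (Subgroup.commutator_mem_commutator h1 hzK) hzK)
  -- three subgroups
  have hRn : rv θ g ≤ normalizer (Γ : Set G) := fun y hy => le_normalizer_pc le_rfl
    (mem_normalizer_pre (radS_le _ hy) (by rw [(toBar_eq_one_iff _).mpr hy]; exact one_mem _))
  have hRΓ : ⁅rv θ g, Γ⁆ ≤ rv θ g ⊓ Γ := Subgroup.commutator_le.mpr fun a ha b hb => by
    rw [commutatorElement_def]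
    refine Subgroup.mem_inf.mpr ⟨?_, mul_mem ((Subgroup.mem_normalizer_iff.mp (hRn ha) b).mp hb) (inv_mem hb)⟩
    rw [show a * b * a⁻¹ * b⁻¹ = a * (b * a⁻¹ * b⁻¹) by group]
    exact mul_mem ha ((Subgroup.mem_normalizer_iff.mp (self_normalizes_radS _ (hΓX hb)) _).mp (inv_mem ha))
  have h2 : ⁅⁅rv θ g, Γ⁆, Γ⁆ = ⊥ := Subgroup.commutator_eq_bot_iff_le_centralizer.mpr fun a ha b hb => by
    obtain ⟨hR', hΓ'⟩ := hRΓ ha
    exact congrArg Subtype.val (Subgroup.mem_center_iff.mp (hcen ((hker ⟨a, hΓ'⟩).mpr hR')) ⟨b, hb⟩)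
  have h3' : ⁅⁅Γ, rv θ g⁆, Γ⁆ = ⊥ := by rwa [Subgroup.commutator_comm Γ (rv θ g)]
  have h4 := Subgroup.commutator_commutator_eq_bot_of_rotate h3' h2
  rw [pc_perfect] at h4
  exact Subgroup.commutator_eq_bot_iff_le_centralizer.mp h4

end Data

end CfsgLib.SF23
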