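import Cfsg.Agent.Lib.SF23.Lay

/-!
Points of an elementary group which move a component or fix it pointwise, and lifts of diagonals.
-/

set_option autoImplicit false
set_option linter.unusedSectionVars false
set_option linter.style.haveILetI false

namespace CfsgLib.SF23

open Cfsg Subgroup
open scoped commutatorElement

universe u
variable {H : Type u} [Group H] [Finite H] {B : Type u} [Group B] [Finite B]

/-- The subgroup of the points fixing a component pointwise. -/
def kerPts (α : B →* MulAut H) (K : Subgroup H) : Subgroup B where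
  carrier := {b | ∀ k ∈ K, α b k = k}
  one_mem' k _ := by rw [map_one, MulAut.one_apply]
  mul_mem' {a b} ha hb k hk := by rw [map_mul, MulAut.mul_apply, hb k hk, ha k hk]
  inv_mem' {a} ha k hk := by
    have h1 : α a⁻¹ (α a k) = k := by rw [← MulAut.mul_apply, ← map_mul, inv_mul_cancel, map_one, MulAut.one_apply]
    rwa [ha k hk] at h1

theorem mp_of_kerPts {α : B →* MulAut H} {K : Subgroup H} {b : B} (hb : b ∈ kerPts α K) : mp (α b) K = K := by
  refine le_antisymm ?_ fun k hk => ⟨k, hk, hb k hk⟩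
  rintro _ ⟨k, hk, rfl⟩
  show α b k ∈ K
  rwa [hb k hk]

theorem mv_conj {α : B →* MulAut H} (hBc : ∀ a b : B, a * b = b * a) {K : Subgroup H} {b e : B}
    (hm : MV (α b) K) : MV (α b) (mp (α e) K) := by
  have hc : α b * α e = α e * α b := by rw [← map_mul, hBc, map_mul]
  rcases hm with hm | hm
  · exact Or.inl fun e' => hm (mp_injective (α e) (by rw [← mp_mul, ← hc, mp_mul, e']))
  · refine Or.inr ?_
    rintro _ ⟨k, hk, rfl⟩
    show α b (α e k) = α e k
    rw [← MulAut.mul_apply, hc, MulAut.mul_apply, hm k hk]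

section Trivial

variable (hR : solvableRadical H = ⊥) (h3 : ¬ 3 ∣ Nat.card H) (hB : ∀ b : B, b ^ 3 = 1)
  (hBc : ∀ a b : B, a * b = b * a) (α : B →* MulAut H) {K : Subgroup H} (hK : IsComponent K)
include hR h3 hB hBc hK

/-- The points fixing a component induce a group of order at most three on it. -/
theorem stab_gen {x b : B} (hx : mp (α x) K = K) (hxn : x ∉ kerPts α K) (hb : mp (α b) K = K) :
    ∃ i : ℕ, b * x ^ i ∈ kerPts α K := by
  let S : Subgroup B :=
    { carrier := {b | mp (α b) K = K}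
      one_mem' := by
        show mp (α 1) K = K
        rw [map_one, mp_one]
      mul_mem' := fun {a b} (ha : mp (α a) K = K) (hb : mp (α b) K = K) => by
        show mp (α (a * b)) K = K
        rw [map_mul, mp_mul, hb, ha]
      inv_mem' := fun {a} (ha : mp (α a) K = K) => by
        show mp (α a⁻¹) K = K
        apply mp_injective (α a)
        rw [← mp_mul, ← map_mul, mul_inv_cancel, map_one, mp_one, ha] }
  let r := resHom α K S fun b hb => hb
  have hel : Cfsg.IsElementaryAbelian 3 r.range := by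
    refine ⟨⟨⟨?_⟩⟩, ?_⟩
    · rintro ⟨_, x, rfl⟩ ⟨_, y, rfl⟩
      apply Subtype.ext
      show r x * r y = r y * r x
      rw [← map_mul, ← map_mul, show x * y = y * x from Subtype.ext (hBc x y)]
    · rintro _ ⟨x, rfl⟩
      rw [← map_pow, show x ^ 3 = 1 from Subtype.ext (hB x), map_one]
  obtain ⟨hle, -⟩ := suz_three_group (component_suzuki hR h3 hK) r.range hel
  have hker : ∀ c : S, r c = 1 → (c : B) ∈ kerPts α K := fun c hc k hk =>
    congrArg (fun f : MulAut K => (f ⟨k, hk⟩ : H)) hc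
  have hne : r ⟨x, hx⟩ ≠ 1 := fun e => hxn (hker _ e)
  have h3x : (r ⟨x, hx⟩) ^ 3 = 1 := by rw [← map_pow, show (⟨x, hx⟩ : S) ^ 3 = 1 from Subtype.ext (hB x), map_one]
  have heq : zpowers (r ⟨x, hx⟩) = r.range :=
    Subgroup.eq_of_le_of_card_ge (Subgroup.zpowers_le.mpr ⟨_, rfl⟩) (by
      rw [Nat.card_zpowers, orderOf_eq_prime (hp := ⟨Nat.prime_three⟩) h3x hne]
      exact hle)
  have hof : IsOfFinOrder (r ⟨x, hx⟩) := isOfFinOrder_iff_pow_eq_one.mpr ⟨3, by norm_num, h3x⟩
  obtain ⟨i, hi⟩ := hof.mem_powers_iff_mem_zpowers.mpr (heq.ge (inv_mem (⟨⟨b, hb⟩, rfl⟩ : r ⟨b, hb⟩ ∈ r.range)))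
  refine ⟨i, hker (⟨b, hb⟩ * ⟨x, hx⟩ ^ i) ?_⟩
  rw [map_mul, map_pow, show r ⟨x, hx⟩ ^ i = (r ⟨b, hb⟩)⁻¹ from hi, mul_inv_cancel]

/-- A large subgroup has a point which moves the component or fixes it pointwise. -/
theorem exists_mv {P : Subgroup B} (hP : 3 < Nat.card P) : ∃ e ∈ P, e ≠ 1 ∧ MV (α e) K := by
  by_contra hne
  push Not at hne
  have hfix : ∀ e ∈ P, e ≠ 1 → mp (α e) K = K ∧ e ∉ kerPts α K := fun e he he1 => by
    have h1 := hne e he he1
    refine ⟨by_contra fun h => h1 (Or.inl h), fun h => h1 (Or.inr h)⟩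
  haveI : Nontrivial P := Finite.one_lt_card_iff_nontrivial.mp (by omega)
  obtain ⟨⟨x, hxP⟩, hx'⟩ := exists_ne (1 : P)
  have hx1 : x ≠ 1 := fun e => hx' (Subtype.ext e)
  obtain ⟨hx, hxn⟩ := hfix x hxP hx1
  obtain ⟨y, hy, hyx⟩ : ∃ y ∈ P, y ∉ zpowers x := by
    by_contra hall
    push Not at hall
    have h1 : Nat.card P ≤ Nat.card (zpowers x) := Subgroup.card_le_of_le hall
    rw [Nat.card_zpowers] at h1
    have h2 := Nat.le_of_dvd (by norm_num) (orderOf_dvd_of_pow_eq_one (hB x))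
    omega
  obtain ⟨hy', -⟩ := hfix y hy fun e => hyx (e ▸ one_mem _)
  obtain ⟨i, hi⟩ := stab_gen hR h3 hB hBc α hK hx hxn hy'
  have hne1 : y * x ^ i ≠ 1 := fun e => hyx (by
    rw [eq_inv_of_mul_eq_one_left e]
    exact inv_mem (pow_mem (mem_zpowers x) i))
  exact (hfix _ (mul_mem hy (pow_mem hxP i)) hne1).2 hi

/-- A large subgroup avoiding a point acting non-trivially, all of whose points move the component or
fix it pointwise. -/
theorem exists_mv_plane {x : B} (hx : mp (α x) K = K) (hxn : x ∉ kerPts α K) :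
    ∃ D : Subgroup B, kerPts α K ≤ D ∧ x ∉ D ∧ Nat.card B ≤ 3 * Nat.card D ∧ ∀ e ∈ D, MV (α e) K := by
  obtain ⟨D, hWD, hxD, hc⟩ := exists_avoid hB hBc hxn
  refine ⟨D, hWD, hxD, hc, fun e he => ?_⟩
  by_contra hm
  have hfix : mp (α e) K = K := by_contra fun h => hm (Or.inl h)
  obtain ⟨i, hi⟩ := stab_gen hR h3 hB hBc α hK hx hxn hfix
  have hxi : x ^ i ∈ D := by
    have := mul_mem (inv_mem he) (hWD hi)
    rwa [inv_mul_cancel_left] at this
  have h9 : x ^ i = x ^ (i % 3) := by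
    conv_lhs => rw [← Nat.mod_add_div i 3]
    rw [pow_add, pow_mul, hB, one_pow, mul_one]
  rcases (by omega : i % 3 = 0 ∨ i % 3 = 1 ∨ i % 3 = 2) with h | h | h <;> rw [h9, h] at hxi hi
  · rw [pow_zero, mul_one] at hi
    exact hm (Or.inr hi)
  · rw [pow_one] at hxi
    exact hxD hxi
  · refine hxD ?_
    have h4 : x ^ 2 * x ^ 2 = x := by rw [← pow_add, show 2 + 2 = 3 + 1 from rfl, pow_add, hB, one_mul, pow_one]
    exact h4 ▸ mul_mem hxi hxi

end Trivial

/-- The common fixed part of two pieces. -/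
def qd (β γ : MulAut H) (L : Subgroup H) (hR : solvableRadical H = ⊥) : Subgroup H := pc (piece β L hR ⊓ fix1 γ)

section Trivial

variable (hR : solvableRadical H = ⊥) (h3 : ¬ 3 ∣ Nat.card H)
include hR h3

theorem qd_le (β γ : MulAut H) (L : Subgroup H) : qd β γ L hR ≤ piece β L hR ∧ qd β γ L hR ≤ fix1 γ :=
  ⟨(pc_le _).trans inf_le_left, (pc_le _).trans inf_le_right⟩

/-- The common fixed part covers the fixed part of the component. -/
theorem qd_cover {β γ : MulAut H} (hβ : β ^ 3 = 1) (hγ : γ ^ 3 = 1) (hc : ∀ y, γ (β y) = β (γ y))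
    {L : Subgroup H} (hL : IsComponent L) (hm : MV β L) (hx : mp γ L = L) (hv : Vis γ L) {t : H}
    (ht : t ∈ piece γ L hR) : ∃ q ∈ qd β γ L hR, prj L q = t := by
  set X := piece β L hR ⊓ fix1 γ
  let f : X →* H :=
    { toFun := fun y => prj L y
      map_one' := prj_one hR hL
      map_mul' := fun a b => prj_mul hR hL a.2.1.1 b.2.1.1 }
  have hle : piece γ L hR ≤ f.range := by
    intro s hs
    obtain ⟨-, hsL, hsf⟩ := piece_prj hR h3 hL hx hs
    by_cases hmv : mp β L = L
    · have htriv := hm.resolve_left (not_not.mpr hmv)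
      refine ⟨⟨s, Subgroup.mem_inf.mpr ⟨?_, hsf⟩⟩, prj_self hR hL hsL⟩
      rw [piece_fixed_eq hR h3 hL hmv]
      exact ⟨hsL, htriv s hsL⟩
    · obtain ⟨hd, hd0, -, -, -⟩ := diag_spec hR h3 hβ hL hmv hsL
      refine ⟨⟨_, Subgroup.mem_inf.mpr ⟨hd, ?_⟩⟩, hd0⟩
      show γ (s * β s * β (β s)) = s * β s * β (β s)
      rw [map_mul, map_mul, hc, hc, hc, hsf]
  obtain ⟨q, hq, hqp, e⟩ := exists_mem_pc f (piece_perfect hR h3 hγ hL hv) hle ht
  exact ⟨q, hqp, e⟩

/-- The commutator of a fixed element of the component with an element of a piece. -/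
theorem comm_piece {β : MulAut H} {L : Subgroup H} (hL : IsComponent L) {t q : H} (ht : t ∈ L)
    (hq : q ∈ layer H) : ⁅t, q⁆ = ⁅t, prj L q⁆ := by
  have := comm_eq_of_support hR h3 hL (CfsgLib.le_layer hL ht) hq fun M hM hne =>
    Or.inl (prj_other hR hM hL hne ht)
  rwa [prj_self hR hL ht] at this

end Trivial

end CfsgLib.SF23
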