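import Cfsg.Agent.Lib.SF23.Pieces
import Cfsg.Agent.Lib.SF23.Stab
import Cfsg.Agent.Lib.SF23.Marks

/-!
Marked components and their transfer to the values at points which move or fix them.
-/

set_option autoImplicit false
set_option linter.unusedSectionVars false
set_option linter.style.haveILetI false

namespace CfsgLib.SF23

open Cfsg Subgroup CfsgLib.Signalizer CfsgLib.SolvSF
open scoped commutatorElement

universe u
variable {G : Type u} [Group G] [Finite G] {A : Subgroup G} {θ : G → Subgroup G}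

/-- A component on which a fixed element of a mark group acts non-trivially. -/
def Marked (h : Ctx 3 A θ) (g : G) (L : Subgroup (Bar (θ g))) : Prop :=
  IsComponent L ∧ ∃ (r : ℕ) (K : Subgroup G), MarkGrp h r K ∧ ∃ (k : G) (hk : k ∈ θ g), k ∈ K ∧
    ∃ l ∈ L, MulAut.conj (toBar (θ g) hk) l ≠ l

/-- The marked product. -/
def mst (h : Ctx 3 A θ) (g : G) : Subgroup G := pc (pre (θ g) (compSup (Marked h g)))

/-- The perfect part of the fixed points of a marked product. -/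
def pgr (h : Ctx 3 A θ) (d x : G) : Subgroup G := pc (mst h d ⊓ centralizer ({x} : Set G))

theorem mp_eq_of_le {H : Type u} [Group H] [Finite H] {e : MulAut H} {S : Subgroup H} (h : mp e S ≤ S) :
    mp e S = S :=
  Subgroup.eq_of_le_of_card_ge h (Subgroup.card_map_of_injective e.injective).ge

/-- A normalizing element whose action stabilises a subgroup of the quotient normalises its preimage. -/
theorem mem_normalizer_pre' {X : Subgroup G} {S : Subgroup (Bar X)} {n : G} (e : MulAut (Bar X))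
    (he : ∀ (k : G) (hk : k ∈ X), ∃ hk' : n * k * n⁻¹ ∈ X, e (toBar X hk) = toBar X hk') (hS : mp e S ≤ S) :
    n ∈ normalizer (pre X S : Set G) := by
  refine Subgroup.mem_normalizer_fintype fun y hy => ?_
  obtain ⟨hy', hye⟩ := he y (pre_le X S hy)
  exact (mem_pre hy').mpr (hye ▸ hS ⟨_, (mem_pre (pre_le X S hy)).mp hy, rfl⟩)

theorem conj_toBar {X : Subgroup G} {u : G} (hu : u ∈ X) (k : G) (hk : k ∈ X) :
    ∃ hk' : u * k * u⁻¹ ∈ X, MulAut.conj (toBar X hu) (toBar X hk) = toBar X hk' :=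
  ⟨_, (toBar_conj hu hk).symm⟩

section Data

variable (h : Ctx 3 A θ)
include h

theorem ac_toBar {g : G} (hg : Pt A g) (a : A) (k : G) (hk : k ∈ θ g) :
    ∃ hk' : (a : G) * k * (a : G)⁻¹ ∈ θ g, ac h hg a (toBar (θ g) hk) = toBar (θ g) hk' :=
  ⟨_, actBar_toBar (theta_inv h.hθ hg) a hk⟩

theorem bar_pow_fix {g : G} (hg : Pt A g) {a : A} {y : Bar (θ g)} (hy : ac h hg a y = y) {c : A}
    (hc : c ∈ zpowers a) : ac h hg c y = y := by
  obtain ⟨j, rfl⟩ := hc
  have hst : ac h hg a ∈ MulAction.stabilizer (MulAut (Bar (θ g))) y := hy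
  have := zpow_mem hst j
  rw [← map_zpow] at this
  exact this

theorem marked_map {g n : G} {L : Subgroup (Bar (θ g))} (e : MulAut (Bar (θ g)))
    (he : ∀ (k : G) (hk : k ∈ θ g), ∃ hk' : n * k * n⁻¹ ∈ θ g, e (toBar (θ g) hk) = toBar (θ g) hk')
    (hK : ∀ (r : ℕ) (K : Subgroup G), MarkGrp h r K → n ∈ normalizer (K : Set G)) (hL : Marked h g L) :
    Marked h g (mp e L) := by
  obtain ⟨hLc, r, K, mg, k, hk, hkK, l, hl, hne⟩ := hL
  obtain ⟨hk', hke⟩ := he k hk
  refine ⟨mp_comp hLc, r, K, mg, _, hk', (Subgroup.mem_normalizer_iff.mp (hK r K mg) k).mp hkK, e l, mem_mp hl,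
    fun e1 => hne (e.injective ?_)⟩
  rw [MulAut.conj_apply, map_mul, map_mul, map_inv, hke, ← MulAut.conj_apply]
  exact e1

theorem marked_ac {g : G} (hg : Pt A g) (a : A) {L : Subgroup (Bar (θ g))} (hL : Marked h g L) :
    Marked h g (mp (ac h hg a) L) :=
  marked_map h _ (ac_toBar h hg a) (fun _ _ mg => mg.inv a.2) hL

theorem marked_conj {g u : G} (hg : Pt A g) (hu : u ∈ uF h g) {L : Subgroup (Bar (θ g))} (hL : Marked h g L) :
    Marked h g (mp (MulAut.conj (toBar (θ g) (uF_le h g hu))) L) :=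
  marked_map h _ (conj_toBar _) (fun _ _ mg => mg.norm (uF_le_yCl h hg hu)) hL

theorem mst_le (g : G) : mst h g ≤ θ g := pc_pre_le _

theorem mst_perfect (g : G) : ⁅mst h g, mst h g⁆ = mst h g := pc_perfect _

theorem mst_inv {g : G} (hg : Pt A g) : A ≤ normalizer (mst h g : Set G) :=
  le_normalizer_pc fun a ha => mem_normalizer_pre' (ac h hg ⟨a, ha⟩) (ac_toBar h hg ⟨a, ha⟩)
    (mp_compSup fun _ hK => marked_ac h hg ⟨a, ha⟩ hK)

theorem uF_normalizes_mst {g : G} (hg : Pt A g) : uF h g ≤ normalizer (mst h g : Set G) :=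
  le_normalizer_pc fun _ hu => mem_normalizer_pre' (MulAut.conj (toBar (θ g) (uF_le h g hu))) (conj_toBar _)
    (mp_compSup fun _ hK => marked_conj h hg hu hK)

theorem pgr_le_cent (d x : G) : pgr h d x ≤ centralizer ({x} : Set G) := (pc_le _).trans inf_le_right

theorem pgr_le_mst (d x : G) : pgr h d x ≤ mst h d := (pc_le _).trans inf_le_left

theorem pgr_le_theta {d x : G} (hd : Pt A d) (hx : Pt A x) : pgr h d x ≤ θ x :=
  (le_inf ((pgr_le_mst h d x).trans (mst_le h d)) (pgr_le_cent h d x)).trans (balance h.hθ hd hx)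

theorem pgr_inv {d x : G} (hd : Pt A d) (hx : Pt A x) : A ≤ normalizer (pgr h d x : Set G) :=
  le_normalizer_pc (inf_normalizes (mst_inv h hd) (centralizer_singleton_normalizes h.hA hx.1))

variable (hcub : CubicTrivial.{u})
include hcub

theorem marked_le_cl {g : G} (hg : Pt A g) {L : Subgroup (Bar (θ g))} (hL : Marked h g L) : L ≤ cl (θ g) := by
  obtain ⟨hLc, r, K, mg, k, hk, hkK, hnt⟩ := hL
  obtain ⟨-, hc, -⟩ := mark_clean h hcub mg hg hkK (theta_le_cent h.hθ hg hk) hk hLc hnt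
  exact (img_pc_pre (CfsgLib.isComponent_commutator_self hLc)).ge.trans (img_mono (le_inf (pc_pre_le L) hc))

theorem mTop_le_cl {g : G} (hg : Pt A g) : compSup (Marked h g) ≤ cl (θ g) :=
  iSup_le fun L => marked_le_cl h hcub hg L.2

theorem mst_cent {g : G} (hg : Pt A g) : mst h g ≤ centralizer (rv θ g : Set G) :=
  pc_pre_cent (mTop_le_cl h hcub hg)

theorem marked_piece_le {d : G} (hd : Pt A d) (b : A) {L : Subgroup (Bar (θ d))} (hL : Marked h d L) :
    piece (ac h hd b) L (bar_rad _) ≤ compSup (Marked h d) := fun w hw =>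
  (mem_compSup_iff (bar_rad _) (bar_not_dvd (theta_not_dvd h.hθ hd)) (fun M hM => hM.1)).mpr
    ⟨hw.1, fun M hM hMn => hw.2.2 M hM (fun e => hMn (e ▸ hL)) (fun e => hMn (e ▸ marked_ac h hd b hL))
      (fun e => hMn (e ▸ marked_ac h hd b (marked_ac h hd b hL)))⟩

theorem marked_piece_cl {d : G} (hd : Pt A d) (b : A) {L : Subgroup (Bar (θ d))} (hL : Marked h d L) :
    piece (ac h hd b) L (bar_rad _) ≤ cl (θ d) :=
  (marked_piece_le h hcub hd b hL).trans (mTop_le_cl h hcub hd)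

set_option maxHeartbeats 800000 in
/-- A mark is transported to the value at a point which moves or fixes the marked component. -/
theorem transfer {d e : G} (hd : Pt A d) (he : Pt A e) {L : Subgroup (Bar (θ d))} (hL : Marked h d L)
    (hm : MV (ac h hd (el he)) L) :
    pc (pre (θ d) (piece (ac h hd (el he)) L (bar_rad _))) ≤ mst h e := by
  have hR := bar_rad (θ d)
  have h3 := bar_not_dvd (theta_not_dvd h.hθ hd)
  set β := ac h hd (el he) with hβdef
  have hβ := ac_cube h hd (el he)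
  have hLc := hL.1
  have hv := vis_of_mv hR h3 hLc hm
  obtain ⟨r, K, mg, k, hk, hkK, hnt⟩ := hL.2
  obtain ⟨-, -, z, hz, hzK, hzΓ, -, hz1⟩ := mark_clean h hcub mg hd hkK (theta_le_cent h.hθ hd hk) hk hLc hnt
  have hzL : toBar (θ d) hz ∈ L := toBar_pc_pre hz hzΓ
  -- an element of the mark group covering a fixed element of the piece
  obtain ⟨w, hw, hwK, ht, htne⟩ : ∃ (w : G) (hw : w ∈ θ d), w ∈ K ∧
      toBar (θ d) hw ∈ piece β L hR ∧ prj L (toBar (θ d) hw) ≠ 1 := by
    by_cases hmv : mp β L = L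
    · have htriv := hm.resolve_left (not_not.mpr hmv)
      refine ⟨z, hz, hzK, ?_, by rwa [prj_self hR hLc hzL]⟩
      rw [piece_fixed_eq hR h3 hLc hmv]
      exact ⟨hzL, htriv _ hzL⟩
    · obtain ⟨hdg, hd0, -, -, -⟩ := diag_spec hR h3 hβ hLc hmv hzL
      obtain ⟨h1, e1⟩ := ac_toBar h hd (el he) z hz
      obtain ⟨h2, e2⟩ := ac_toBar h hd (el he) _ h1
      refine ⟨z * (e * z * e⁻¹) * (e * (e * z * e⁻¹) * e⁻¹), mul_mem (mul_mem hz h1) h2, ?_, ?_⟩
      · have hn := mg.inv he.1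
        exact mul_mem (mul_mem hzK ((Subgroup.mem_normalizer_iff.mp hn z).mp hzK))
          ((Subgroup.mem_normalizer_iff.mp hn _).mp ((Subgroup.mem_normalizer_iff.mp hn z).mp hzK))
      · have eb : toBar (θ d) (mul_mem (mul_mem hz h1) h2) =
            toBar (θ d) hz * β (toBar (θ d) hz) * β (β (toBar (θ d) hz)) := by
          rw [toBar_mul (mul_mem hz h1) h2, toBar_mul hz h1]
          rw [hβdef, e1, e2]
        rw [eb]
        exact ⟨hdg, by rw [hd0]; exact hz1⟩
  -- lift to a fixed element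
  set Kd := K ⊓ θ d with hKd
  have hAKd : A ≤ normalizer (Kd : Set G) := inf_normalizes mg.inv (theta_inv h.hθ hd)
  have hKd3 : ¬ 3 ∣ Nat.card Kd := fun hdd =>
    theta_not_dvd h.hθ hd (hdd.trans (Subgroup.card_dvd_of_le inf_le_right))
  have hzl : zpowers e ≤ A := Subgroup.zpowers_le.mpr he.1
  obtain ⟨z₂, hz₂, hwz⟩ := coprime_fixed_quotient (N := Kd ⊓ radS (θ d)) (hzl.trans hAKd)
    (ea_coprime (ea_le h.hA hzl) hKd3) (Or.inl (ea_solvable (ea_le h.hA hzl))) inf_le_left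
    (fun y hy => Comp.mem_normalizer_of_maps fun v hv => Subgroup.mem_inf.mpr
      ⟨mul_mem (mul_mem hy hv.1) (inv_mem hy),
        (Subgroup.mem_normalizer_iff.mp (self_normalizes_radS _ hy.2) v).mp hv.2⟩)
    (hzl.trans (inf_normalizes hAKd (le_normalizer_radS (theta_inv h.hθ hd))))
    (Subgroup.mem_inf.mpr ⟨hwK, hw⟩ : w ∈ Kd) (fun c hc => by
      have hcA := hzl hc
      obtain ⟨hcw, ecw⟩ := ac_toBar h hd ⟨c, hcA⟩ w hw
      refine Subgroup.mem_inf.mpr ⟨mul_mem ((Subgroup.mem_normalizer_iff.mp (hAKd hcA) w).mp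
        (Subgroup.mem_inf.mpr ⟨hwK, hw⟩)) (inv_mem (Subgroup.mem_inf.mpr ⟨hwK, hw⟩)), ?_⟩
      rw [← toBar_eq_one_iff (mul_mem hcw (inv_mem hw)), toBar_mul hcw (inv_mem hw), toBar_inv hw,
        mul_inv_eq_one]
      refine ecw.symm.trans (bar_pow_fix h hd (a := el he) ht.2.1 ?_)
      obtain ⟨j, hj⟩ := hc
      exact ⟨j, Subtype.ext (by rw [Subgroup.coe_zpow]; exact hj)⟩)
  have hz₂d : z₂ ∈ θ d := hz₂.1.2
  have hz₂e : z₂ ∈ centralizer ({e} : Set G) :=
    Subgroup.centralizer_le (Set.singleton_subset_iff.mpr (mem_zpowers e)) hz₂.2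
  have hbz : toBar (θ d) hz₂d = toBar (θ d) hw := by
    have h1 := (toBar_eq_one_iff (mul_mem (inv_mem hw) hz₂d)).mpr hwz.2
    rw [toBar_mul (inv_mem hw) hz₂d, toBar_inv hw, inv_mul_eq_one] at h1
    exact h1.symm
  have hz₂θ : z₂ ∈ θ e := balance h.hθ hd he (Subgroup.mem_inf.mpr ⟨hz₂d, hz₂e⟩)
  -- the piece in the other value
  set P := piece β L hR with hP
  have hPcl := marked_piece_cl h hcub hd (el he) hL
  have hPp := piece_perfect hR h3 hβ hLc hv
  obtain ⟨hSθ, hSl⟩ := piece_transfer h hd he hLc hv hPcl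
  set S := pc (pre (θ d) P) with hSdef
  refine le_pc_pre hSθ (pc_perfect _) fun s hs hsS => ?_
  have hR' := bar_rad (θ e)
  have h3' := bar_not_dvd (theta_not_dvd h.hθ he)
  refine (mem_compSup_iff hR' h3' (fun M hM => hM.1)).mpr ⟨hSl s hs hsS, fun M hM hMn => ?_⟩
  have hcen : ∀ m ∈ M, MulAut.conj (toBar (θ e) hz₂θ) m = m := fun m hm' => by
    by_contra hne
    exact hMn ⟨hM, r, K, mg, z₂, hz₂θ, hz₂.1.1, m, hm', hne⟩
  have hz₂n : z₂ ∈ normalizer (pre (θ d) P : Set G) := by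
    refine mem_normalizer_pre hz₂d ?_
    rw [hbz]
    exact Subgroup.le_normalizer ht
  let N : Subgroup G :=
    { carrier := {y | y ∈ S ∧ ∃ hy : y ∈ θ e, prj M (toBar (θ e) hy) = 1}
      one_mem' := ⟨one_mem _, one_mem _, by
        rw [show toBar (θ e) (one_mem (θ e)) = 1 from map_one (QuotientGroup.mk' _), prj_one hR' hM]⟩
      mul_mem' := fun {a b} ha hb => by
        obtain ⟨haS, ha, ea⟩ := ha
        obtain ⟨hbS, hb, eb⟩ := hb
        exact ⟨mul_mem haS hbS, mul_mem ha hb, by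
          rw [toBar_mul ha hb, prj_mul hR' hM (hSl a ha haS) (hSl b hb hbS), ea, eb, one_mul]⟩
      inv_mem' := fun {a} ha => by
        obtain ⟨haS, ha, ea⟩ := ha
        exact ⟨inv_mem haS, inv_mem ha, by rw [toBar_inv ha, prj_inv hR' hM (hSl a ha haS), ea, inv_one]⟩ }
  have hNn : S ≤ normalizer (N : Set G) := fun a haS => Comp.mem_normalizer_of_maps fun b hb => by
    obtain ⟨hbS, hb, eb⟩ := hb
    have ha := hSθ haS
    refine ⟨mul_mem (mul_mem haS hbS) (inv_mem haS), mul_mem (mul_mem ha hb) (inv_mem ha), ?_⟩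
    rw [toBar_conj ha hb, MulAut.conj_apply,
      prj_mul hR' hM (mul_mem (hSl a ha haS) (hSl b hb hbS)) (inv_mem (hSl a ha haS)),
      prj_mul hR' hM (hSl a ha haS) (hSl b hb hbS), prj_inv hR' hM (hSl a ha haS), eb, mul_one, mul_inv_cancel]
  -- an element of the kernel outside the radical
  obtain ⟨p, hp, hpne⟩ : ∃ p ∈ P, toBar (θ d) hw * p ≠ p * toBar (θ d) hw := by
    exact piece_noncomm hR h3 hβ hLc ht.1 ht.2.1 htne
  obtain ⟨y, hy, hyS, rfl⟩ := mem_img_iff.mp ((img_pc_pre hPp).ge hp)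
  have hye := hSθ hyS
  have hcN : z₂ * y * z₂⁻¹ * y⁻¹ ∈ N := by
    have hyS' : z₂ * y * z₂⁻¹ ∈ S := (Subgroup.mem_normalizer_iff.mp (le_normalizer_pc le_rfl hz₂n) y).mp hyS
    refine ⟨mul_mem hyS' (inv_mem hyS), mul_mem (hSθ hyS') (inv_mem hye), ?_⟩
    have hκ : mp (MulAut.conj (toBar (θ e) hz₂θ)) M = M :=
      le_antisymm (by rintro _ ⟨m, hm', rfl⟩; exact (hcen m hm').symm ▸ hm') fun m hm' => ⟨m, hm', hcen m hm'⟩
    have h1 : prj M (toBar (θ e) (hSθ hyS')) = prj M (toBar (θ e) hye) := by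
      rw [show toBar (θ e) (hSθ hyS') = MulAut.conj (toBar (θ e) hz₂θ) (toBar (θ e) hye) from toBar_conj hz₂θ hye]
      have h2 := prj_map hR' (MulAut.conj (toBar (θ e) hz₂θ)) hM (hSl y hye hyS)
      rw [hκ, hcen _ (prj_mem M _)] at h2
      exact h2
    rw [toBar_mul (hSθ hyS') (inv_mem hye), toBar_inv hye,
      prj_mul hR' hM (hSl _ _ hyS') (inv_mem (hSl y hye hyS)), prj_inv hR' hM (hSl y hye hyS), h1, mul_inv_cancel]
  have hall : S ≤ N := simple_fill hPp (suz_simple (piece_suzuki hR h3 hβ hLc hv))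
    (fun a ha => ha.1) hNn (mul_mem (mul_mem (mul_mem hz₂d hy) (inv_mem hz₂d)) (inv_mem hy)) hcN (by
      rw [toBar_commutator hz₂d hy, hbz, Ne, commutatorElement_eq_one_iff_commute]
      exact hpne)
  obtain ⟨-, _, es⟩ := hall hsS
  exact es

end Data

end CfsgLib.SF23
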