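import Cfsg.Agent.Lib.SF23.Bar

/-!
The largest perfect subgroup, and its behaviour under the passage to the soluble quotient.
-/

set_option autoImplicit false
set_option linter.unusedSectionVars false
set_option linter.style.haveILetI false

namespace CfsgLib.SF23

open Cfsg Subgroup

universe u v
variable {G : Type u} [Group G] [Finite G]

/-- The largest perfect subgroup of `X`. -/
def pc (X : Subgroup G) : Subgroup G := sSup {P | P ≤ X ∧ ⁅P, P⁆ = P}

theorem le_pc {X P : Subgroup G} (hPX : P ≤ X) (hP : ⁅P, P⁆ = P) : P ≤ pc X := le_sSup ⟨hPX, hP⟩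

theorem pc_le (X : Subgroup G) : pc X ≤ X := sSup_le fun _ hP => hP.1

theorem pc_perfect (X : Subgroup G) : ⁅pc X, pc X⁆ = pc X :=
  le_antisymm (Subgroup.commutator_le_self _)
    (sSup_le fun _ hP => hP.2.ge.trans (Subgroup.commutator_mono (le_pc hP.1 hP.2) (le_pc hP.1 hP.2)))

theorem pc_mono {X X' : Subgroup G} (h : X ≤ X') : pc X ≤ pc X' := le_pc ((pc_le X).trans h) (pc_perfect X)

theorem map_pc {M : Type v} [Group M] (f : G →* M) (X : Subgroup G) :
    ⁅(pc X).map f, (pc X).map f⁆ = (pc X).map f := by rw [← Subgroup.map_commutator, pc_perfect]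

/-- Conjugation invariance. -/
theorem le_normalizer_pc {X U : Subgroup G} (hU : U ≤ normalizer (X : Set G)) :
    U ≤ normalizer (pc X : Set G) := fun g hg => Subgroup.mem_normalizer_fintype fun y hy => by
  have hle : (pc X).map (MulAut.conj g).toMonoidHom ≤ pc X := by
    refine le_pc ?_ (map_pc _ X)
    rintro _ ⟨x, hx, rfl⟩
    exact (Subgroup.mem_normalizer_iff.mp (hU hg) x).mp (pc_le X hx)
  exact hle ⟨y, hy, rfl⟩

/-- A perfect subgroup lies in the kernel of a map into a soluble group. -/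
theorem perfect_le_ker' {M : Type v} [Group M] {P : Subgroup G} (hP : ⁅P, P⁆ = P) (f : G →* M)
    (hs : Group.IsSolvable (P.map f)) : P ≤ f.ker := by
  obtain ⟨n, hn⟩ := hs.solvable
  rw [← Subgroup.map_eq_bot_iff]
  have key : ∀ k, P.map f ≤ (derivedSeries (P.map f) k).map (P.map f).subtype := by
    intro k
    induction k with
    | zero => rw [derivedSeries_zero, ← MonoidHom.range_eq_map, Subgroup.range_subtype]
    | succ k ih =>
      rw [derivedSeries_succ, Subgroup.map_commutator]
      calc P.map f = ⁅P.map f, P.map f⁆ := by rw [← Subgroup.map_commutator, hP]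
        _ ≤ _ := Subgroup.commutator_mono ih ih
  refine le_bot_iff.mp ((key n).trans (le_of_eq ?_))
  rw [hn, Subgroup.map_bot]

/-- A perfect subgroup of `N ⊔ S`, `N` normalised by the soluble `S`, lies in `N`. -/
theorem perfect_le_of_sup {N S P : Subgroup G} (hS : Group.IsSolvable S) (hn : S ≤ normalizer (N : Set G))
    (hP : ⁅P, P⁆ = P) (hle : P ≤ N ⊔ S) : P ≤ N := by
  set M := N ⊔ S with hM
  haveI : (N.subgroupOf M).Normal := (Subgroup.normal_subgroupOf_iff_le_normalizer le_sup_left).mpr
    (sup_le Subgroup.le_normalizer hn)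
  have hq : Group.IsSolvable (↥M ⧸ N.subgroupOf M) := by
    haveI := hS
    refine Group.isSolvable_of_surjective
      (f := (QuotientGroup.mk' (N.subgroupOf M)).comp (Subgroup.inclusion (le_sup_right : S ≤ M))) fun q => ?_
    obtain ⟨⟨m, hm⟩, rfl⟩ := QuotientGroup.mk'_surjective _ q
    obtain ⟨y, hy, z, hz, rfl⟩ := CfsgLib.mem_sup_of_le_normalizer hn hm
    refine ⟨⟨z, hz⟩, (QuotientGroup.eq).mpr ?_⟩
    show z⁻¹ * (y * z) ∈ N
    rw [← mul_assoc]
    exact (Subgroup.mem_normalizer_iff''.mp (hn hz) y).mp hy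
  intro x hx
  have hP' : ⁅P.subgroupOf M, P.subgroupOf M⁆ = P.subgroupOf M := by
    apply Subgroup.map_injective M.subtype_injective
    rw [Subgroup.map_commutator, Subgroup.map_subgroupOf_eq_of_le hle, hP]
  haveI := hq
  have h1 := perfect_le_ker' hP' (QuotientGroup.mk' (N.subgroupOf M))
    (Group.isSolvable_of_isSolvable_injective (f := (Subgroup.map (QuotientGroup.mk' _) (P.subgroupOf M)).subtype)
      (Subgroup.subtype_injective _)) (show (⟨x, hle hx⟩ : M) ∈ P.subgroupOf M from hx)
  rw [QuotientGroup.ker_mk'] at h1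
  exact h1

theorem solvable_of_le {X X' : Subgroup G} (h : X ≤ X') (hs : Group.IsSolvable X') : Group.IsSolvable X := by
  haveI := hs
  exact Group.isSolvable_of_isSolvable_injective (f := Subgroup.inclusion h) (Subgroup.inclusion_injective h)

/-- The derived series reaches the largest perfect subgroup. -/
theorem exists_derived_le_pc (X : Subgroup G) : ∃ n, (derivedSeries X n).map X.subtype ≤ pc X := by
  obtain ⟨D, ⟨n, rfl⟩, hmin⟩ := (Set.toFinite (Set.range (derivedSeries X))).exists_minimal ⟨_, 0, rfl⟩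
  refine ⟨n, le_pc (Subgroup.map_subtype_le _) ?_⟩
  rw [← Subgroup.map_commutator, ← derivedSeries_succ]
  exact congrArg _ (le_antisymm (derivedSeries_antitone X n.le_succ) (hmin ⟨_, rfl⟩ (derivedSeries_antitone X n.le_succ)))

theorem map_derived_le {M : Type v} [Group M] {X : Subgroup G} {f : X →* M} {Q : Subgroup M} (hQ : ⁅Q, Q⁆ = Q)
    (hle : Q ≤ f.range) (n : ℕ) : Q ≤ (derivedSeries X n).map f := by
  induction n with
  | zero => rwa [derivedSeries_zero, ← MonoidHom.range_eq_map]
  | succ n ih =>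
    rw [derivedSeries_succ, Subgroup.map_commutator, ← hQ]
    exact Subgroup.commutator_mono ih ih

/-- A perfect subgroup of an image is covered by the largest perfect subgroup. -/
theorem le_map_pc {X S : Subgroup G} (hS : S ≤ X) {Q : Subgroup (Bar X)} (hQ : ⁅Q, Q⁆ = Q) (hle : Q ≤ img X S) :
    Q ≤ img X (pc S) := by
  obtain ⟨n, hn⟩ := exists_derived_le_pc S
  intro q hq
  obtain ⟨s, hs, rfl⟩ := map_derived_le (X := S)
    (f := (QuotientGroup.mk' (solvableRadical ↥X)).comp (Subgroup.inclusion hS)) hQ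
    (fun y hy => by
      obtain ⟨⟨x, hxX⟩, hx, rfl⟩ := hle hy
      exact ⟨⟨x, hx⟩, rfl⟩) n hq
  exact ⟨⟨(s : G), hS s.2⟩, hn ⟨s, hs, rfl⟩, rfl⟩

end CfsgLib.SF23
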