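import Cfsg.Agent.Lib.SF23.Bar
import Cfsg.Agent.Lib.SolvSF.Apply

/-!
The soluble part of a minimal counterexample for the prime three: the subgroups generated by soluble
subgroups containing a fixed Sylow five-subgroup, their closure, and the zero subgroups.
-/

set_option autoImplicit false
set_option linter.unusedSectionVars false
set_option linter.style.haveILetI false

namespace CfsgLib.SF23

open Cfsg Subgroup CfsgLib.Signalizer CfsgLib.SolvSF

universe u
variable {G : Type u} [Group G] [Finite G] {A : Subgroup G} {θ : G → Subgroup G}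

/-- The radical of a value. -/
def rv (θ : G → Subgroup G) (a : G) : Subgroup G := radS (θ a)

theorem normalizes_sup' {X Y M : Subgroup G} (hX : M ≤ normalizer (X : Set G))
    (hY : M ≤ normalizer (Y : Set G)) : M ≤ normalizer ((X ⊔ Y : Subgroup G) : Set G) := fun g hg => by
  have h1 : mp (MulAut.conj g) X = X := mp_conj_eq_iff.mpr (hX hg)
  have h2 : mp (MulAut.conj g) Y = Y := mp_conj_eq_iff.mpr (hY hg)
  refine mp_conj_eq_iff.mp ?_
  rw [mp, Subgroup.map_sup]
  rw [mp] at h1 h2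
  rw [h1, h2]

/-- A subgroup whose fixed points lie in the radicals of the values. -/
def Zero (A : Subgroup G) (θ : G → Subgroup G) (X : Subgroup G) : Prop :=
  ∀ a, Pt A a → X ⊓ centralizer ({a} : Set G) ≤ rv θ a

theorem Zero.mono {X X' : Subgroup G} (h : Zero A θ X) (hle : X' ≤ X) : Zero A θ X' :=
  fun a ha => (inf_le_inf_right _ hle).trans (h a ha)

section Data

variable (h : Ctx 3 A θ)
include h

/-- A fixed point. -/
noncomputable def base : G := h.nsolv.choose

theorem base_pt : Pt A (base h) := h.nsolv.choose_spec.1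

/-- The common fixed group of the values. -/
noncomputable def dfix : Subgroup G := θ (base h) ⊓ centralizer (A : Set G)

theorem cent_A_le {a : G} (ha : a ∈ A) : centralizer (A : Set G) ≤ centralizer ({a} : Set G) :=
  Subgroup.centralizer_le (Set.singleton_subset_iff.mpr ha)

theorem dfix_eq {a : G} (ha : Pt A a) : θ a ⊓ centralizer (A : Set G) = dfix h := by
  refine le_antisymm (le_inf ?_ inf_le_right) (le_inf ?_ inf_le_right)
  · exact (le_inf inf_le_left (inf_le_right.trans (cent_A_le h (base_pt h).1))).trans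
      (balance h.hθ ha (base_pt h))
  · exact (le_inf inf_le_left (inf_le_right.trans (cent_A_le h ha.1))).trans
      (balance h.hθ (base_pt h) ha)

/-- The Sylow five-subgroup of the fixed group. -/
noncomputable def qfive : Subgroup G :=
  (Classical.arbitrary (Sylow 5 ↥(dfix h)) : Subgroup ↥(dfix h)).map (dfix h).subtype

theorem qfive_le : qfive h ≤ dfix h := Subgroup.map_subtype_le _

theorem qfive_p : IsPGroup 5 (qfive h) := (Classical.arbitrary (Sylow 5 ↥(dfix h))).2.map _

theorem qfive_index : ¬ 5 ∣ (qfive h).relIndex (dfix h) := by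
  haveI : Fact (Nat.Prime 5) := ⟨Nat.prime_five⟩
  rw [qfive, Subgroup.relIndex, Subgroup.subgroupOf, Subgroup.comap_map_eq_self_of_injective (dfix h).subtype_injective]
  exact (Classical.arbitrary (Sylow 5 ↥(dfix h))).not_dvd_index

theorem qfive_solvable : Group.IsSolvable (qfive h) := by
  haveI : Fact (Nat.Prime 5) := ⟨Nat.prime_five⟩
  haveI := (qfive_p h).isNilpotent
  infer_instance

theorem qfive_le_theta {a : G} (ha : Pt A a) : qfive h ≤ θ a :=
  ((qfive_le h).trans (dfix_eq h ha).ge).trans inf_le_left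

theorem qfive_le_cent : qfive h ≤ centralizer (A : Set G) := (qfive_le h).trans inf_le_right

theorem qfive_inv : A ≤ normalizer (qfive h : Set G) :=
  (Subgroup.le_centralizer_iff.mp (qfive_le_cent h)).trans (Subgroup.centralizer_le_normalizer _)

theorem mem_cent_le_dfix {X : Subgroup G} (hX : IsMem 3 A θ X) : X ⊓ centralizer (A : Set G) ≤ dfix h :=
  le_inf ((inf_le_inf_left _ (cent_A_le h (base_pt h).1)).trans (hX.fix _ (base_pt h))) inf_le_right

theorem qfive_index_mem {X : Subgroup G} (hX : IsMem 3 A θ X) (hQ : qfive h ≤ X) :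
    ¬ 5 ∣ (qfive h).relIndex (X ⊓ centralizer (A : Set G)) := fun hd =>
  qfive_index h (hd.trans (Dvd.intro _ (Subgroup.relIndex_mul_relIndex _ _ _
    (le_inf hQ (qfive_le_cent h)) (mem_cent_le_dfix h hX))))

theorem join_mem_solvable {X : Subgroup G} (hX : IsMem 3 A θ X) (hQ : qfive h ≤ X) :
    Group.IsSolvable (joinIn X (qfive h)) :=
  haveI : Fact (Nat.Prime 5) := ⟨Nat.prime_five⟩
  joinIn_solvable h.hA hX.inv hX.not_dvd (le_inf hQ (qfive_le_cent h)) (qfive_p h) (qfive_index_mem h hX hQ)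

theorem join_inv {X : Subgroup G} (hX : A ≤ normalizer (X : Set G)) :
    A ≤ normalizer (joinIn X (qfive h) : Set G) := by
  intro a ha
  refine Subgroup.mem_normalizer_fintype fun y hy => ?_
  have hle : (joinIn X (qfive h)).map (MulAut.conj a).toMonoidHom ≤ joinIn X (qfive h) := by
    rw [Subgroup.map_le_iff_le_comap]
    refine sSup_le fun S hS => ?_
    rw [← Subgroup.map_le_iff_le_comap]
    haveI := hS.2.1
    refine le_joinIn ?_ (Group.isSolvable_of_surjective (f := (MulAut.conj a).toMonoidHom.subgroupMap S)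
      (MonoidHom.subgroupMap_surjective _ _)) fun q hq => ⟨q, hS.2.2 hq, ?_⟩
    · rintro _ ⟨s, hs, rfl⟩
      exact (Subgroup.mem_normalizer_iff.mp (hX ha) s).mp (hS.1 hs)
    · show a * q * a⁻¹ = q
      rw [Subgroup.mem_centralizer_iff.mp (qfive_le_cent h hq) a ha, mul_inv_cancel_right]
  exact hle ⟨y, hy, rfl⟩

/-- The soluble functor. -/
noncomputable def uF (a : G) : Subgroup G := joinIn (θ a) (qfive h)

theorem uF_le (a : G) : uF h a ≤ θ a := joinIn_le _ _

theorem le_uF {a : G} {S : Subgroup G} (h1 : S ≤ θ a) (h2 : Group.IsSolvable S) (h3 : qfive h ≤ S) :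
    S ≤ uF h a := le_joinIn h1 h2 h3

theorem qfive_le_uF {a : G} (ha : Pt A a) : qfive h ≤ uF h a :=
  le_uF h (qfive_le_theta h ha) (qfive_solvable h) le_rfl

theorem le_uF_of_normalized {a : G} (ha : Pt A a) {S : Subgroup G} (h1 : S ≤ θ a) (h2 : Group.IsSolvable S)
    (hn : qfive h ≤ normalizer (S : Set G)) : S ≤ uF h a :=
  le_sup_left.trans (le_uF h (sup_le h1 (qfive_le_theta h ha)) (isSolvable_sup' h2 (qfive_solvable h) hn) le_sup_right)

theorem uF_solvable {a : G} (ha : Pt A a) : Group.IsSolvable (uF h a) :=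
  join_mem_solvable h (theta_isMem h.hθ ha) (qfive_le_theta h ha)

theorem uF_functor : IsSolvableSignalizerFunctor 3 A (uF h) := by
  refine ⟨⟨fun a ha h1 => (uF_le h a).trans (theta_le_cent h.hθ ⟨ha, h1⟩),
    fun a ha h1 hd => theta_not_dvd h.hθ ⟨ha, h1⟩ (hd.trans (Subgroup.card_dvd_of_le (uF_le h a))),
    fun a ha h1 => inv_of_normalizer (join_inv h (theta_inv h.hθ ⟨ha, h1⟩)),
    fun a ha h1 b hb hb1 => ?_⟩, fun a ha h1 => uF_solvable h ⟨ha, h1⟩⟩
  refine le_uF h ((inf_le_inf_right _ (uF_le h a)).trans (balance h.hθ ⟨ha, h1⟩ ⟨hb, hb1⟩)) ?_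
    (le_inf (qfive_le_uF h ⟨ha, h1⟩) ((qfive_le_cent h).trans (cent_A_le h hb)))
  haveI := uF_solvable h ⟨ha, h1⟩
  exact Group.isSolvable_of_isSolvable_injective
    (f := Subgroup.inclusion (inf_le_left : uF h a ⊓ centralizer ({b} : Set G) ≤ uF h a))
    (Subgroup.inclusion_injective _)

/-- The closure of the soluble functor. -/
noncomputable def yCl : Subgroup G := ⨆ a : {a : G // a ∈ A ∧ a ≠ 1}, uF h a

theorem yCl_spec : SolvSF.Mem 3 A (uF h) (yCl h) ∧
    ∀ a ∈ A, a ≠ 1 → yCl h ⊓ centralizer {a} = uF h a :=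
  closure_spec h.hA h.hA3.ge (uF_functor h)

theorem yCl_solvable : Group.IsSolvable (yCl h) := (yCl_spec h).1.1

theorem yCl_fix {a : G} (ha : Pt A a) : yCl h ⊓ centralizer ({a} : Set G) = uF h a :=
  (yCl_spec h).2 a ha.1 ha.2

theorem yCl_mem : IsMem 3 A θ (yCl h) :=
  ⟨(yCl_spec h).1.2.1, mem_normalizes (yCl_spec h).1, fun a ha => (yCl_fix h ha).le.trans (uF_le h a)⟩

theorem uF_le_yCl {a : G} (ha : Pt A a) : uF h a ≤ yCl h := (yCl_fix h ha).ge.trans inf_le_left

theorem qfive_le_yCl : qfive h ≤ yCl h := (qfive_le_uF h (base_pt h)).trans (uF_le_yCl h (base_pt h))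

/-- A soluble member containing the Sylow five-subgroup of the fixed group lies in the closure. -/
theorem le_yCl {X : Subgroup G} (hX : IsMem 3 A θ X) (hs : Group.IsSolvable X) (hQ : qfive h ≤ X) :
    X ≤ yCl h :=
  hX.le_of h.hA h.hA3 fun a ha => by
    refine (le_uF h (hX.fix a ha) ?_ (le_inf hQ ((qfive_le_cent h).trans (cent_A_le h ha.1)))).trans
      (uF_le_yCl h ha)
    exact Group.isSolvable_of_isSolvable_injective
      (f := Subgroup.inclusion (inf_le_left : X ⊓ centralizer ({a} : Set G) ≤ X))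
      (Subgroup.inclusion_injective _)

theorem le_yCl_of_normalized {X : Subgroup G} (hX : IsMem 3 A θ X) (hQ : qfive h ≤ X) {S : Subgroup G} (hS : S ≤ X)
    (hs : Group.IsSolvable S) (hSA : A ≤ normalizer (S : Set G)) (hn : qfive h ≤ normalizer (S : Set G)) :
    S ≤ yCl h :=
  le_sup_left.trans (le_yCl h (hX.sub (sup_le hS hQ) (normalizes_sup' hSA (qfive_inv h)))
    (isSolvable_sup' hs (qfive_solvable h) hn) le_sup_right)

theorem rv_le_yCl {a : G} (ha : Pt A a) : rv θ a ≤ yCl h :=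
  (le_uF_of_normalized h ha (radS_le _) (radS_solvable _)
    ((qfive_le_theta h ha).trans (self_normalizes_radS _))).trans (uF_le_yCl h ha)

theorem radS_le_yCl {X : Subgroup G} (hX : IsMem 3 A θ X) (hQ : qfive h ≤ X) : radS X ≤ yCl h :=
  le_yCl_of_normalized h hX hQ (radS_le X) (radS_solvable X) (le_normalizer_radS hX.inv)
    (hQ.trans (self_normalizes_radS X))

/-- The fixed points of a product of invariant subgroups, one normal. -/
theorem zero_sup {X₁ X₂ : Subgroup G} (h₁ : Zero A θ X₁) (h₂ : Zero A θ X₂)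
    (hn : X₂ ≤ normalizer (X₁ : Set G)) (hA₁ : A ≤ normalizer (X₁ : Set G)) (hA₂ : A ≤ normalizer (X₂ : Set G))
    (h3 : ¬ 3 ∣ Nat.card ↥(X₁ ⊔ X₂)) : Zero A θ (X₁ ⊔ X₂) := by
  intro a ha x hx
  have hc := Subgroup.mem_centralizer_singleton_iff.mp hx.2
  have hzl : zpowers a ≤ A := Subgroup.zpowers_le.mpr ha.1
  have hAK := hzl.trans (normalizes_sup' hA₁ hA₂)
  obtain ⟨w, hw, v, hv, rfl⟩ := CfsgLib.mem_sup_of_le_normalizer hn hx.1
  have hz := ea_le h.hA hzl
  have h3₂ : ¬ 3 ∣ Nat.card X₂ := fun hd => h3 (hd.trans (Subgroup.card_dvd_of_le le_sup_right))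
  have hfix : ∀ d ∈ zpowers a, d * v * d⁻¹ * v⁻¹ ∈ X₁ ⊓ X₂ := by
    intro d hd
    have hcd : Commute (w * v) d := by
      obtain ⟨i, rfl⟩ := Subgroup.mem_zpowers_iff.mp hd
      exact (Commute.zpow_right hc i)
    have hdv : d * v * d⁻¹ ∈ X₂ := (Subgroup.mem_normalizer_iff.mp (hA₂ (hzl hd)) v).mp hv
    have hdw : d * w * d⁻¹ ∈ X₁ := (Subgroup.mem_normalizer_iff.mp (hA₁ (hzl hd)) w).mp hw
    refine Subgroup.mem_inf.mpr ⟨?_, mul_mem hdv (inv_mem hv)⟩
    have e : d * v * d⁻¹ * v⁻¹ = (d * w * d⁻¹)⁻¹ * w := by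
      have h1 : d * (w * v) * d⁻¹ = w * v := by rw [← hcd.eq, mul_inv_cancel_right]
      calc d * v * d⁻¹ * v⁻¹ = (d * w * d⁻¹)⁻¹ * (d * (w * v) * d⁻¹) * v⁻¹ := by group
        _ = (d * w * d⁻¹)⁻¹ * w := by rw [h1]; group
    rw [e]
    exact mul_mem (inv_mem hdw) hw
  obtain ⟨c, hc1, hvc⟩ := coprime_fixed_quotient (N := X₁ ⊓ X₂) (hzl.trans hA₂) (ea_coprime hz h3₂)
    (Or.inl (ea_solvable hz)) inf_le_right
    (fun g hg => Comp.mem_normalizer_of_maps fun y hy => Subgroup.mem_inf.mpr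
      ⟨(Subgroup.mem_normalizer_iff.mp (hn hg) y).mp hy.1, mul_mem (mul_mem hg hy.2) (inv_mem hg)⟩)
    (hzl.trans (inf_normalizes hA₁ hA₂)) hv hfix
  have hca : c * a = a * c := (hc1.2 a (mem_zpowers a)).symm
  have h2 : c ∈ rv θ a := h₂ a ha ⟨hc1.1, Subgroup.mem_centralizer_singleton_iff.mpr hca⟩
  have h1 : w * v * c⁻¹ ∈ rv θ a := by
    refine h₁ a ha (Subgroup.mem_inf.mpr
      ⟨?_, mul_mem hx.2 (inv_mem (Subgroup.mem_centralizer_singleton_iff.mpr hca))⟩)
    have e : w * v * c⁻¹ = w * (v * (v⁻¹ * c)⁻¹ * v⁻¹) := by group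
    rw [e]
    exact mul_mem hw ((Subgroup.mem_normalizer_iff.mp (hn hv) _).mp (inv_mem hvc.1))
  have := mul_mem h1 h2
  rwa [inv_mul_cancel_right] at this

/-- The zero invariant normal nilpotent subgroups of the closure. -/
def IsZN (X : Subgroup G) : Prop :=
  X ≤ yCl h ∧ yCl h ≤ normalizer (X : Set G) ∧ A ≤ normalizer (X : Set G) ∧ Group.IsNilpotent X ∧ Zero A θ X

theorem isZN_sup {X₁ X₂ : Subgroup G} (h₁ : IsZN h X₁) (h₂ : IsZN h X₂) : IsZN h (X₁ ⊔ X₂) := by
  have hle : X₁ ⊔ X₂ ≤ yCl h := sup_le h₁.1 h₂.1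
  refine ⟨hle, normalizes_sup' h₁.2.1 h₂.2.1, normalizes_sup' h₁.2.2.1 h₂.2.2.1, ?_,
    zero_sup h h₁.2.2.2.2 h₂.2.2.2.2 (h₂.1.trans h₁.2.1) h₁.2.2.1 h₂.2.2.1
      fun hd => (yCl_mem h).not_dvd (hd.trans (Subgroup.card_dvd_of_le hle))⟩
  have key : ∀ X, IsZN h X → X ≤ (fittingSubgroup ↥(yCl h)).map (yCl h).subtype := by
    intro X hX x hx
    haveI : (X.subgroupOf (yCl h)).Normal := (Subgroup.normal_subgroupOf_iff_le_normalizer hX.1).mpr hX.2.1
    haveI := hX.2.2.2.1
    exact ⟨⟨x, hX.1 hx⟩, CfsgLib.le_fittingSubgroup (N := X.subgroupOf (yCl h))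
      (Group.nilpotent_of_surjective (Subgroup.subgroupOfEquivOfLe hX.1).symm.toMonoidHom (MulEquiv.surjective _))
      hx, rfl⟩
  haveI := CfsgLib.isNilpotent_fittingSubgroup (G := ↥(yCl h))
  haveI := Group.nilpotent_of_surjective ((yCl h).subtype.subgroupMap (fittingSubgroup ↥(yCl h)))
    (MonoidHom.subgroupMap_surjective _ _)
  exact Group.nilpotent_of_surjective (Subgroup.subgroupOfEquivOfLe (sup_le (key _ h₁) (key _ h₂))).toMonoidHom
    (MulEquiv.surjective _)

theorem exists_fzero : ∃ F, IsZN h F ∧ ∀ X, IsZN h X → X ≤ F := by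
  have hb : IsZN h (⊥ : Subgroup G) :=
    ⟨bot_le, fun g _ => Comp.mem_normalizer_of_maps fun v hv => by simp [Subgroup.mem_bot.mp hv],
      fun g _ => Comp.mem_normalizer_of_maps fun v hv => by simp [Subgroup.mem_bot.mp hv],
      inferInstance, fun a _ x hx => by rw [Subgroup.mem_bot.mp hx.1]; exact one_mem _⟩
  obtain ⟨F, hF, hmax⟩ := (Set.toFinite {X : Subgroup G | IsZN h X}).exists_maximal ⟨⊥, hb⟩
  exact ⟨F, hF, fun X hX => le_sup_right.trans (hmax (isZN_sup h hF hX) le_sup_left)⟩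

/-- The largest zero invariant normal nilpotent subgroup of the closure. -/
noncomputable def fZero : Subgroup G := (exists_fzero h).choose

theorem fZero_spec : IsZN h (fZero h) := (exists_fzero h).choose_spec.1

theorem le_fZero {X : Subgroup G} (hX : IsZN h X) : X ≤ fZero h := (exists_fzero h).choose_spec.2 X hX

theorem fZero_mem : IsMem 3 A θ (fZero h) := (yCl_mem h).sub (fZero_spec h).1 (fZero_spec h).2.2.1

/-- A zero subgroup of a member lies in its radical. -/
theorem zero_le_radS {X H : Subgroup G} (hH : IsMem 3 A θ H) (hX : X ≤ H) (hXA : A ≤ normalizer (X : Set G))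
    (hz : Zero A θ X) : X ≤ radS H := by
  intro x hx
  rw [← toBar_eq_one_iff (hX hx)]
  have hR := bar_rad H
  have h3 := bar_not_dvd hH.not_dvd
  refine eq_one_of_centralizes hR fun K hK k hk => ?_
  obtain ⟨P, hP, hvis⟩ := exists_visible_plane hR h3 (act_cube h.hA) (act_comm h.hA) (actBar H hH.inv) hK
  let W : Subgroup G :=
    { carrier := {y | ∃ hy : y ∈ H, ∀ k ∈ K, toBar H hy * k = k * toBar H hy}
      one_mem' := ⟨one_mem _, fun k _ => by
        rw [show toBar H (one_mem H) = 1 from map_one (QuotientGroup.mk' _), one_mul, mul_one]⟩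
      mul_mem' := fun {a b} ha hb => by
        obtain ⟨ha, ha'⟩ := ha
        obtain ⟨hb, hb'⟩ := hb
        refine ⟨mul_mem ha hb, fun k hk => ?_⟩
        rw [show toBar H (mul_mem ha hb) = toBar H ha * toBar H hb from
          map_mul (QuotientGroup.mk' (solvableRadical ↥H)) ⟨a, ha⟩ ⟨b, hb⟩,
          mul_assoc, hb' k hk, ← mul_assoc, ha' k hk, mul_assoc]
      inv_mem' := fun {a} ha => by
        obtain ⟨ha, ha'⟩ := ha
        refine ⟨inv_mem ha, fun k hk => ?_⟩
        rw [show toBar H (inv_mem ha) = (toBar H ha)⁻¹ from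
          map_inv (QuotientGroup.mk' (solvableRadical ↥H)) ⟨a, ha⟩]
        exact (show Commute (toBar H ha) k from ha' k hk).inv_left }
  have hPc : 3 < Nat.card (P.map A.subtype) := by
    rw [Subgroup.card_map_of_injective A.subtype_injective]
    rw [h.hA3] at hP
    omega
  obtain ⟨_, hxW⟩ := le_of_fix h.hA (Subgroup.map_subtype_le P) hPc
    (fun hd => hH.not_dvd (hd.trans (Subgroup.card_dvd_of_le hX))) hXA (Y := W) (by
      rintro _ ⟨d, hd, rfl⟩ hd1 y hy
      refine ⟨hX hy.1, fun k hk => ?_⟩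
      have hpt : Pt A (d : G) := ⟨d.2, hd1⟩
      have hfix := toBar_fix hH.inv (hX hy.1) (a := d) hy.2
      have hrad : (⟨toBar H (hX hy.1), hfix⟩ : fix1 (actBar H hH.inv d)) ∈
          solvableRadical (fix1 (actBar H hH.inv d)) := by
        let C := H ⊓ centralizer ({(d : G)} : Set G)
        let f : C →* fix1 (actBar H hH.inv d) :=
          { toFun := fun w => ⟨toBar H w.2.1, toBar_fix hH.inv w.2.1 w.2.2⟩
            map_one' := Subtype.ext (map_one (QuotientGroup.mk' (solvableRadical ↥H)))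
            map_mul' := fun u v => Subtype.ext (map_mul (QuotientGroup.mk' (solvableRadical ↥H)) ⟨u.1, u.2.1⟩ ⟨v.1, v.2.1⟩) }
        have hf : Function.Surjective f := fun ⟨z, hz'⟩ => by
          obtain ⟨w, hw, hwc, e⟩ := fix_lift h.hA hH.inv hH.not_dvd hz'
          exact ⟨⟨w, hw, hwc⟩, Subtype.ext e⟩
        let S := rv θ (d : G) ⊓ C
        have hCθ : C ≤ θ (d : G) := hH.fix _ hpt
        haveI : (S.subgroupOf C).Normal := (Subgroup.normal_subgroupOf_iff_le_normalizer inf_le_right).mpr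
          fun g hg => Comp.mem_normalizer_of_maps fun v hv => Subgroup.mem_inf.mpr
            ⟨(Subgroup.mem_normalizer_iff.mp (self_normalizes_radS _ (hCθ hg)) v).mp hv.1,
              mul_mem (mul_mem hg hv.2) (inv_mem hg)⟩
        have hSs : Group.IsSolvable (S.subgroupOf C) := by
          haveI : Group.IsSolvable (rv θ (d : G)) := radS_solvable (θ (d : G))
          exact Group.isSolvable_of_isSolvable_injective
            (f := (Subgroup.inclusion (inf_le_left : S ≤ rv θ (d : G))).comp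
              (Subgroup.subgroupOfEquivOfLe (inf_le_right : S ≤ C)).toMonoidHom)
            ((Subgroup.inclusion_injective (inf_le_left : S ≤ rv θ (d : G))).comp
              (Subgroup.subgroupOfEquivOfLe (inf_le_right : S ≤ C)).injective)
        haveI := Subgroup.Normal.map (inferInstance : (S.subgroupOf C).Normal) f hf
        haveI := hSs
        exact CfsgLib.le_solvableRadical (N := (S.subgroupOf C).map f)
          (Group.isSolvable_of_surjective (f := f.subgroupMap (S.subgroupOf C)) (MonoidHom.subgroupMap_surjective _ _))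
          ⟨⟨y, hX hy.1, hy.2⟩, Subgroup.mem_inf.mpr ⟨hz _ hpt hy, hX hy.1, hy.2⟩, rfl⟩
      exact cent_of_radical_fix hR h3 (actBar_cube h.hA hH.inv d) hK (hvis d hd) hrad k hk) hx
  exact (hxW k hk).symm

end Data

end CfsgLib.SF23
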