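import Cfsg.Agent.Lib.SF23.Pc
import Cfsg.Agent.Lib.SF23.SolvPart

/-!
Preimages in the soluble quotient, and the tori of the components of a member containing the fixed Sylow
five-subgroup: their products of normalizers lie in the closure of the soluble functor.
-/

set_option autoImplicit false
set_option linter.unusedSectionVars false
set_option linter.style.haveILetI false

namespace CfsgLib.SF23

open Cfsg Subgroup CfsgLib.Signalizer CfsgLib.SolvSF
open scoped commutatorElement

universe u
variable {G : Type u} [Group G] [Finite G] {A : Subgroup G} {θ : G → Subgroup G}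

/-- The preimage of a subgroup of the soluble quotient. -/
def pre (X : Subgroup G) (S : Subgroup (Bar X)) : Subgroup G :=
  (S.comap (QuotientGroup.mk' (solvableRadical ↥X))).map X.subtype

theorem pre_le (X : Subgroup G) (S : Subgroup (Bar X)) : pre X S ≤ X := Subgroup.map_subtype_le _

theorem mem_pre {X : Subgroup G} {S : Subgroup (Bar X)} {x : G} (hx : x ∈ X) : x ∈ pre X S ↔ toBar X hx ∈ S :=
  ⟨fun ⟨y, hy, e⟩ => by obtain rfl : y = ⟨x, hx⟩ := Subtype.ext e; exact hy, fun h => ⟨⟨x, hx⟩, h, rfl⟩⟩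

theorem radS_le_pre (X : Subgroup G) (S : Subgroup (Bar X)) : radS X ≤ pre X S := fun x hx => by
  rw [mem_pre (radS_le X hx), (toBar_eq_one_iff _).mpr hx]
  exact one_mem _

theorem pre_mono {X : Subgroup G} {S S' : Subgroup (Bar X)} (h : S ≤ S') : pre X S ≤ pre X S' :=
  Subgroup.map_mono (Subgroup.comap_mono h)

theorem img_pre (X : Subgroup G) (S : Subgroup (Bar X)) : img X (pre X S) = S := by
  rw [img, pre, Subgroup.subgroupOf, Subgroup.comap_map_eq_self_of_injective X.subtype_injective,
    Subgroup.map_comap_eq_self_of_surjective (QuotientGroup.mk'_surjective _)]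

theorem img_mono {X U U' : Subgroup G} (h : U ≤ U') : img X U ≤ img X U' :=
  Subgroup.map_mono (Subgroup.comap_mono h)

theorem le_pre_img {X U : Subgroup G} (hU : U ≤ X) : U ≤ pre X (img X U) := fun _ hx =>
  (mem_pre (hU hx)).mpr (mem_img (hU hx) hx)

theorem mem_img_iff {X U : Subgroup G} {y : Bar X} :
    y ∈ img X U ↔ ∃ (x : G) (hx : x ∈ X), x ∈ U ∧ toBar X hx = y :=
  ⟨fun ⟨⟨x, hx⟩, hU, e⟩ => ⟨x, hx, hU, e⟩, fun ⟨_, hx, hU, e⟩ => ⟨⟨_, hx⟩, hU, e⟩⟩

theorem toBar_mul {X : Subgroup G} {a b : G} (ha : a ∈ X) (hb : b ∈ X) :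
    toBar X (mul_mem ha hb) = toBar X ha * toBar X hb :=
  map_mul (QuotientGroup.mk' (solvableRadical ↥X)) ⟨a, ha⟩ ⟨b, hb⟩

theorem toBar_inv {X : Subgroup G} {a : G} (ha : a ∈ X) : toBar X (inv_mem ha) = (toBar X ha)⁻¹ :=
  map_inv (QuotientGroup.mk' (solvableRadical ↥X)) ⟨a, ha⟩

/-- The inner action on the soluble quotient. -/
theorem toBar_conj {X : Subgroup G} {a b : G} (ha : a ∈ X) (hb : b ∈ X) :
    toBar X (mul_mem (mul_mem ha hb) (inv_mem ha)) = MulAut.conj (toBar X ha) (toBar X hb) := by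
  rw [toBar_mul (mul_mem ha hb) (inv_mem ha), toBar_mul ha hb, toBar_inv ha, MulAut.conj_apply]

theorem toBar_commutator {X : Subgroup G} {a b : G} (ha : a ∈ X) (hb : b ∈ X) :
    toBar X (mul_mem (mul_mem (mul_mem ha hb) (inv_mem ha)) (inv_mem hb)) = ⁅toBar X ha, toBar X hb⁆ := by
  rw [toBar_mul (mul_mem (mul_mem ha hb) (inv_mem ha)) (inv_mem hb), toBar_inv hb, toBar_conj ha hb,
    MulAut.conj_apply, commutatorElement_def]

/-- An element normalising the image normalises the preimage. -/
theorem mem_normalizer_pre {X : Subgroup G} {S : Subgroup (Bar X)} {a : G} (ha : a ∈ X)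
    (hn : toBar X ha ∈ normalizer (S : Set (Bar X))) : a ∈ normalizer (pre X S : Set G) := by
  refine Subgroup.mem_normalizer_fintype fun y hy => ?_
  have hyX := pre_le X S hy
  refine (mem_pre (mul_mem (mul_mem ha hyX) (inv_mem ha))).mpr ?_
  rw [toBar_conj ha hyX, MulAut.conj_apply]
  exact (Subgroup.mem_normalizer_iff.mp hn _).mp ((mem_pre hyX).mp hy)

theorem pre_solvable {X : Subgroup G} {S : Subgroup (Bar X)} (hS : Group.IsSolvable S) :
    Group.IsSolvable (pre X S) := by
  let q := QuotientGroup.mk' (solvableRadical ↥X)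
  haveI := hS
  haveI := CfsgLib.isSolvable_solvableRadical (G := ↥X)
  have hc : Group.IsSolvable (S.comap q) := by
    refine Group.isSolvable_of_ker_le_range
      (Subgroup.inclusion (show solvableRadical ↥X ≤ S.comap q from fun x hx => by
        show q x ∈ S
        rw [show q x = 1 from (QuotientGroup.eq_one_iff x).mpr hx]
        exact one_mem _)) ((q.comp (S.comap q).subtype).codRestrict S fun y => y.2) fun y hy => ?_
    exact ⟨⟨(y : X), (QuotientGroup.eq_one_iff _).mp (congrArg Subtype.val (MonoidHom.mem_ker.mp hy))⟩,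
      Subtype.ext rfl⟩
  haveI := hc
  exact Group.isSolvable_of_surjective (f := X.subtype.subgroupMap (S.comap q)) (MonoidHom.subgroupMap_surjective _ _)

section Data

variable (h : Ctx 3 A θ)
include h

/-- The fixed Sylow five-subgroup sees an element of order five in each component. -/
theorem exists_torus {X : Subgroup G} (hX : IsMem 3 A θ X) (hQ : qfive h ≤ X) {K : Subgroup (Bar X)}
    (hK : IsComponent K) : ∃ f ∈ img X (qfive h), f ∈ layer (Bar X) ∧ orderOf (prj K f) = 5 := by
  haveI : Fact (Nat.Prime 5) := ⟨Nat.prime_five⟩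
  let F : Subgroup X := fixedSub (actOn X hX.inv)
  let i : F →* G := X.subtype.comp F.subtype
  have hi : Function.Injective i := X.subtype_injective.comp F.subtype_injective
  have hr : (⊤ : Subgroup F).map i = X ⊓ centralizer (A : Set G) := by
    ext x
    constructor
    · rintro ⟨w, -, rfl⟩
      exact ⟨w.1.2, mem_fixedSub_actOn.mp w.2⟩
    · rintro ⟨hx, hc⟩
      exact ⟨⟨⟨x, hx⟩, mem_fixedSub_actOn.mpr hc⟩, Subgroup.mem_top _, rfl⟩
  have hQm : ((qfive h).comap i).map i = qfive h := Subgroup.map_comap_eq_self (by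
    rw [MonoidHom.range_eq_map, hr]; exact le_inf hQ (qfive_le_cent h))
  let P₀ : Sylow 5 F := ((qfive_p h).comap_of_injective i hi).toSylow (by
    rw [← Subgroup.relIndex_top_right, ← Subgroup.relIndex_map_map_of_injective _ _ hi, hQm, hr]
    exact qfive_index_mem h hX hQ)
  have hmap := map_fixedSub_eq (actOn X hX.inv) (Group.isSolvable_of_comm (act_comm h.hA))
    (ea_coprime h.hA hX.not_dvd) (solvableRadical ↥X)
    (fun b n hn => (Subgroup.characteristic_iff_map_eq.mp inferInstance (actOn X hX.inv b)).le ⟨n, hn, rfl⟩)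
    (actBar X hX.inv) (fun b x => quotAut_mk _ _ _)
  let f : F →* fixedSub (actBar X hX.inv) :=
    ((QuotientGroup.mk' (solvableRadical ↥X)).comp F.subtype).codRestrict _ fun w => hmap.le ⟨w, w.2, rfl⟩
  have hf : Function.Surjective f := fun y => by
    obtain ⟨w, hw, e⟩ := hmap.ge y.2
    exact ⟨⟨w, hw⟩, Subtype.ext e⟩
  obtain ⟨z, hz, hzl, hzo⟩ := exists_five_in_sylow (actBar X hX.inv) (bar_rad X) (bar_not_dvd hX.not_dvd)
    (act_cube h.hA) (act_comm h.hA) (P₀.mapSurjective hf) hK
  refine ⟨z, ?_, hzl, hzo⟩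
  obtain ⟨y, hy, rfl⟩ := hz
  rw [Sylow.coe_mapSurjective] at hy
  obtain ⟨w, hw, rfl⟩ := hy
  exact ⟨(w : X), hw, rfl⟩

open scoped Classical in
/-- The chosen element of order five of a component. -/
noncomputable def tv (X : Subgroup G) (K : Subgroup (Bar X)) : Bar X :=
  if e : ∃ f ∈ img X (qfive h), f ∈ layer (Bar X) ∧ orderOf (prj K f) = 5 then prj K e.choose else 1

theorem tv_spec {X : Subgroup G} (hX : IsMem 3 A θ X) (hQ : qfive h ≤ X) {K : Subgroup (Bar X)}
    (hK : IsComponent K) :
    ∃ f ∈ img X (qfive h), f ∈ layer (Bar X) ∧ prj K f = tv h X K ∧ orderOf (tv h X K) = 5 := by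
  have e := exists_torus h hX hQ hK
  refine ⟨e.choose, e.choose_spec.1, e.choose_spec.2.1, ?_, ?_⟩ <;> rw [tv, dif_pos e]
  exact e.choose_spec.2.2

theorem tv_mem {X : Subgroup G} (hX : IsMem 3 A θ X) (hQ : qfive h ≤ X) {K : Subgroup (Bar X)}
    (hK : IsComponent K) : tv h X K ∈ K := by
  obtain ⟨f, -, -, e, -⟩ := tv_spec h hX hQ hK
  exact e ▸ prj_mem K f

theorem img_qfive_solvable (X : Subgroup G) : Group.IsSolvable (img X (qfive h)) := by
  haveI := qfive_solvable h
  haveI : Group.IsSolvable ((qfive h).subgroupOf X) := Group.isSolvable_of_isSolvable_injective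
    (f := MonoidHom.subgroupComap X.subtype (qfive h)) fun a b e => by
      exact Subtype.ext (Subtype.ext (congrArg Subtype.val e : _))
  exact Group.isSolvable_of_surjective (f := (QuotientGroup.mk' _).subgroupMap ((qfive h).subgroupOf X))
    (MonoidHom.subgroupMap_surjective _ _)

theorem join_le_yCl {X : Subgroup G} (hX : IsMem 3 A θ X) (hQ : qfive h ≤ X) :
    joinIn X (qfive h) ≤ yCl h :=
  le_yCl h (hX.sub (joinIn_le _ _) (join_inv h hX.inv)) (join_mem_solvable h hX hQ)
    (le_joinIn hQ (qfive_solvable h) le_rfl)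

/-- The soluble join of the soluble quotient is covered. -/
theorem joinS_le_img {X : Subgroup G} (hQ : qfive h ≤ X) :
    joinS (img X (qfive h)) ≤ img X (joinIn X (qfive h)) := by
  refine sSup_le fun S hS => ?_
  calc S = img X (pre X S) := (img_pre X S).symm
    _ ≤ _ := img_mono (le_joinIn (pre_le X S) (pre_solvable hS.1) ((le_pre_img hQ).trans (pre_mono hS.2)))

theorem radS_le_join {X : Subgroup G} (hQ : qfive h ≤ X) : radS X ≤ joinIn X (qfive h) :=
  le_sup_left.trans (le_joinIn (sup_le (radS_le X) hQ)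
    (isSolvable_sup' (radS_solvable X) (qfive_solvable h) (hQ.trans (self_normalizes_radS X))) le_sup_right)

theorem mem_join_of_bar {X : Subgroup G} (hX : IsMem 3 A θ X) (hQ : qfive h ≤ X) {x : G} (hx : x ∈ X)
    (ht : toBar X hx ∈ torusProd (tv h X) (bar_rad X)) : x ∈ joinIn X (qfive h) := by
  have h1 := torusProd_le_join (bar_rad X) (bar_not_dvd hX.not_dvd) (img_qfive_solvable h X) (tv h X)
    (fun K hK => tv_spec h hX hQ hK) ht
  obtain ⟨x', hx', hj, e⟩ := mem_img_iff.mp (joinS_le_img h hQ h1)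
  have h2 : x'⁻¹ * x ∈ radS X := by
    rw [← toBar_eq_one_iff (mul_mem (inv_mem hx') hx), toBar_mul (inv_mem hx') hx, toBar_inv hx', e, inv_mul_cancel]
  rw [show x = x' * (x'⁻¹ * x) by group]
  exact mul_mem hj (radS_le_join h hQ h2)

theorem mem_yCl_of_bar {X : Subgroup G} (hX : IsMem 3 A θ X) (hQ : qfive h ≤ X) {x : G} (hx : x ∈ X)
    (ht : toBar X hx ∈ torusProd (tv h X) (bar_rad X)) : x ∈ yCl h :=
  join_le_yCl h hX hQ (mem_join_of_bar h hX hQ hx ht)

/-- The soluble functor permutes the tori. -/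
theorem map_tor_of_join {X : Subgroup G} (hX : IsMem 3 A θ X) (hQ : qfive h ≤ X) {x : G} (hx : x ∈ X)
    (hj : x ∈ joinIn X (qfive h)) {K : Subgroup (Bar X)} (hK : IsComponent K) :
    mp (MulAut.conj (toBar X hx)) (tor K (tv h X K)) = tor (mp (MulAut.conj (toBar X hx)) K)
      (tv h X (mp (MulAut.conj (toBar X hx)) K)) := by
  have h1 : toBar X hx ∈ joinS (img X (qfive h)) := by
    refine le_joinS ?_ (img_mono (le_joinIn hQ (qfive_solvable h) le_rfl)) (mem_img hx hj)
    haveI := join_mem_solvable h hX hQ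
    haveI : Group.IsSolvable ((joinIn X (qfive h)).subgroupOf X) := Group.isSolvable_of_isSolvable_injective
      (f := (Subgroup.subgroupOfEquivOfLe (joinIn_le X (qfive h))).toMonoidHom) (MulEquiv.injective _)
    exact Group.isSolvable_of_surjective
      (f := (QuotientGroup.mk' (solvableRadical ↥X)).subgroupMap ((joinIn X (qfive h)).subgroupOf X))
      (MonoidHom.subgroupMap_surjective _ _)
  exact join_tor (bar_rad X) (bar_not_dvd hX.not_dvd) h1 (tv h X) (fun K hK => tv_spec h hX hQ hK) K hK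

end Data

end CfsgLib.SF23
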