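import Cfsg.Agent.Lib.SF23.Lay
import Cfsg.Agent.Lib.SF23.Pre
import Cfsg.Agent.Lib.Comp.Standard
import Cfsg.Agent.Lib.Comp.BpInherit

/-!
Perfect lifts of pieces, their transfer from one value to another, and the centralization of soluble
subgroups of fixed points.
-/

set_option autoImplicit false
set_option linter.unusedSectionVars false
set_option linter.style.haveILetI false

namespace CfsgLib.SF23

open Cfsg Subgroup CfsgLib.Signalizer CfsgLib.SolvSF
open scoped commutatorElement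

universe u
variable {G : Type u} [Group G] [Finite G] {A : Subgroup G} {θ : G → Subgroup G}

/-- The action on the quotient of a value. -/
noncomputable abbrev ac (h : Ctx 3 A θ) {g : G} (hg : Pt A g) : A →* MulAut (Bar (θ g)) :=
  actBar (θ g) (theta_inv h.hθ hg)

/-- The point as an element of the elementary group. -/
abbrev el {a : G} (ha : Pt A a) : A := ⟨a, ha.1⟩

/-- The image of the centralizer of the radical. -/
def cl (X : Subgroup G) : Subgroup (Bar X) := img X (X ⊓ centralizer (radS X : Set G))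

theorem cl_normal (X : Subgroup G) : (cl X).Normal := by
  have hn : X ≤ normalizer ((X ⊓ centralizer (radS X : Set G) : Subgroup G) : Set G) := fun g hg =>
    Comp.mem_normalizer_of_maps fun v hv => Subgroup.mem_inf.mpr
      ⟨mul_mem (mul_mem hg hv.1) (inv_mem hg), centralizer_conj (self_normalizes_radS X hg) hv.2⟩
  haveI : ((X ⊓ centralizer (radS X : Set G)).subgroupOf X).Normal :=
    (Subgroup.normal_subgroupOf_iff_le_normalizer inf_le_left).mpr hn
  exact Subgroup.Normal.map inferInstance _ (QuotientGroup.mk'_surjective _)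

theorem mem_cl {X : Subgroup G} {x : G} (hx : x ∈ X) (hc : x ∈ centralizer (radS X : Set G)) :
    toBar X hx ∈ cl X := mem_img hx (Subgroup.mem_inf.mpr ⟨hx, hc⟩)

/-- Perfect preimages of subgroups of `cl` centralise the radical. -/
theorem pc_pre_cent {X : Subgroup G} {Q : Subgroup (Bar X)} (hQ : Q ≤ cl X) :
    pc (pre X Q) ≤ centralizer (radS X : Set G) := by
  set W := X ⊓ centralizer (radS X : Set G)
  have hn : radS X ≤ normalizer (W : Set G) := fun r hr => Comp.mem_normalizer_of_maps fun v hv =>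
    Subgroup.mem_inf.mpr ⟨mul_mem (mul_mem (radS_le X hr) hv.1) (inv_mem (radS_le X hr)),
      centralizer_conj (Subgroup.le_normalizer hr) hv.2⟩
  refine (perfect_le_of_sup (radS_solvable X) hn (pc_perfect _) ?_).trans inf_le_right
  intro x hx
  have hxX := pre_le X Q (pc_le _ hx)
  obtain ⟨w, hw, hwW, e⟩ := mem_img_iff.mp (hQ ((mem_pre hxX).mp (pc_le _ hx)))
  rw [show x = w * (w⁻¹ * x) by group]
  refine Subgroup.mul_mem_sup hwW ?_
  rw [← toBar_eq_one_iff (mul_mem (inv_mem hw) hxX), toBar_mul (inv_mem hw) hxX, toBar_inv hw, e, inv_mul_cancel]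

theorem img_pc_pre {X : Subgroup G} {Q : Subgroup (Bar X)} (hQ : ⁅Q, Q⁆ = Q) : img X (pc (pre X Q)) = Q :=
  le_antisymm ((img_mono (pc_le _)).trans (img_pre X Q).le) (le_map_pc (pre_le X Q) hQ (img_pre X Q).ge)

theorem pc_pre_le {X : Subgroup G} (Q : Subgroup (Bar X)) : pc (pre X Q) ≤ X := (pc_le _).trans (pre_le X Q)

theorem toBar_pc_pre {X : Subgroup G} {Q : Subgroup (Bar X)} {x : G} (hx : x ∈ X) (h : x ∈ pc (pre X Q)) :
    toBar X hx ∈ Q := (mem_pre hx).mp (pc_le _ h)

theorem le_pc_pre {X S : Subgroup G} {Q : Subgroup (Bar X)} (hS : S ≤ X) (hp : ⁅S, S⁆ = S)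
    (hb : ∀ (s : G) (hs : s ∈ X), s ∈ S → toBar X hs ∈ Q) : S ≤ pc (pre X Q) :=
  le_pc (fun _ hs => (mem_pre (hS hs)).mpr (hb _ (hS hs) hs)) hp

/-- A subgroup normal in a perfect preimage of a simple group is everything if its image is non-trivial. -/
theorem simple_fill {X N : Subgroup G} {Q : Subgroup (Bar X)} (hQ : ⁅Q, Q⁆ = Q) (hs : IsSimpleGroup Q)
    (hNS : N ≤ pc (pre X Q)) (hn : pc (pre X Q) ≤ normalizer (N : Set G)) {s : G} (hsX : s ∈ X) (hsN : s ∈ N)
    (hs1 : toBar X hsX ≠ 1) : pc (pre X Q) ≤ N := by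
  set S := pc (pre X Q) with hS
  have hmQ : ∀ (w : G) (hw : w ∈ X), w ∈ N → toBar X hw ∈ Q := fun w hw hwN => toBar_pc_pre hw (hNS hwN)
  have hnor : ((img X N).subgroupOf Q).Normal := by
    refine ⟨fun a ha b => ?_⟩
    obtain ⟨w, hw, hwN, ew⟩ := mem_img_iff.mp (show (a : Bar X) ∈ img X N from ha)
    obtain ⟨v, hv, hvS, ev⟩ := mem_img_iff.mp ((img_pc_pre hQ).ge b.2)
    show ((b * a * b⁻¹ : Q) : Bar X) ∈ img X N
    rw [Subgroup.coe_mul, Subgroup.coe_mul, Subgroup.coe_inv, ← ew, ← ev, ← MulAut.conj_apply, ← toBar_conj hv hw]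
    exact mem_img _ ((Subgroup.mem_normalizer_iff.mp (hn hvS) w).mp hwN)
  rcases hnor.eq_bot_or_eq_top with e | e
  · refine absurd ?_ hs1
    have h1 : (⟨toBar X hsX, hmQ s hsX hsN⟩ : Q) ∈ (img X N).subgroupOf Q := mem_img hsX hsN
    rw [e, Subgroup.mem_bot] at h1
    exact congrArg Subtype.val h1
  · have hT : Group.IsSolvable ↥(S ⊓ radS X) := solvable_of_le inf_le_right (radS_solvable X)
    refine perfect_le_of_sup hT (inf_le_left.trans hn) (pc_perfect _) fun x hx => ?_
    have hxX := pc_pre_le Q hx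
    obtain ⟨w, hw, hwN, ew⟩ := mem_img_iff.mp
      (Subgroup.subgroupOf_eq_top.mp e (toBar_pc_pre hxX hx) : toBar X hxX ∈ img X N)
    rw [show x = w * (w⁻¹ * x) by group]
    refine Subgroup.mul_mem_sup hwN (Subgroup.mem_inf.mpr ⟨mul_mem (inv_mem (hNS hwN)) hx, ?_⟩)
    rw [← toBar_eq_one_iff (mul_mem (inv_mem hw) hxX), toBar_mul (inv_mem hw) hxX, toBar_inv hw, ew, inv_mul_cancel]

/-- A perfect subgroup centralising the radical and fixed modulo it is fixed. -/
theorem cent_of_bar_fix {X S : Subgroup G} (hinv : A ≤ normalizer (X : Set G)) (hS : S ≤ X) (hp : ⁅S, S⁆ = S)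
    (hc : S ≤ centralizer (radS X : Set G)) (b : A)
    (hf : ∀ (s : G) (hs : s ∈ X), s ∈ S → actBar X hinv b (toBar X hs) = toBar X hs) :
    S ≤ centralizer ({(b : G)} : Set G) := by
  rw [← hp, Subgroup.commutator_le]
  intro s hs t ht
  refine Subgroup.mem_centralizer_singleton_iff.mpr ?_
  have hd : ∀ y ∈ S, (b : G) * y * (b : G)⁻¹ * y⁻¹ ∈ radS X := fun y hy => by
    have hby : (b : G) * y * (b : G)⁻¹ ∈ X := (Subgroup.mem_normalizer_iff.mp (hinv b.2) y).mp (hS hy)
    rw [← toBar_eq_one_iff (mul_mem hby (inv_mem (hS hy))), toBar_mul hby (inv_mem (hS hy)), toBar_inv (hS hy),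
      mul_inv_eq_one]
    exact (actBar_toBar hinv b (hS hy)).symm.trans (hf y (hS hy) hy)
  have hRn : ∀ r ∈ radS X, (b : G)⁻¹ * r * b ∈ radS X := fun r hr =>
    (Subgroup.mem_normalizer_iff''.mp (le_normalizer_radS hinv b.2) r).mp hr
  obtain ⟨c, hcdef⟩ : ∃ c, c = (b : G) * s * (b : G)⁻¹ * s⁻¹ := ⟨_, rfl⟩
  obtain ⟨d, hddef⟩ : ∃ d, d = (b : G) * t * (b : G)⁻¹ * t⁻¹ := ⟨_, rfl⟩
  have hcR : c ∈ radS X := hcdef ▸ hd s hs
  have hdR : d ∈ radS X := hddef ▸ hd t ht
  have cs : ∀ y ∈ S, ∀ r ∈ radS X, Commute r y := fun y hy r hr => Subgroup.mem_centralizer_iff.mp (hc hy) r hr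
  have hcd : Commute c d := by
    have h1 : Commute c ((b : G) * t * (b : G)⁻¹) := by
      have h2 := cs t ht _ (hRn c hcR)
      show c * ((b : G) * t * (b : G)⁻¹) = (b : G) * t * (b : G)⁻¹ * c
      calc c * ((b : G) * t * (b : G)⁻¹) = (b : G) * ((b : G)⁻¹ * c * b * t) * (b : G)⁻¹ := by group
        _ = (b : G) * (t * ((b : G)⁻¹ * c * b)) * (b : G)⁻¹ := by rw [h2.eq]
        _ = (b : G) * t * (b : G)⁻¹ * c := by group
    rw [hddef]
    exact h1.mul_right (cs t ht c hcR).inv_right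
  have key : (b : G) * ⁅s, t⁆ * (b : G)⁻¹ = ⁅s, t⁆ := by
    have e : (b : G) * ⁅s, t⁆ * (b : G)⁻¹ = (c * s) * (d * t) * (c * s)⁻¹ * (d * t)⁻¹ := by
      rw [hcdef, hddef, commutatorElement_def]; group
    have c1 := (cs s hs d hdR).eq
    have c2 := (cs t ht c hcR).eq
    rw [e, commutatorElement_def]
    calc (c * s) * (d * t) * (c * s)⁻¹ * (d * t)⁻¹ = c * (s * d) * t * s⁻¹ * c⁻¹ * t⁻¹ * d⁻¹ := by group
      _ = (c * d) * (s * t * s⁻¹) * (c⁻¹ * t⁻¹) * d⁻¹ := by rw [← c1]; group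
      _ = (c * d) * (s * t * s⁻¹ * t⁻¹) * (c⁻¹ * d⁻¹) := by
          rw [((cs t ht c hcR).inv_inv).eq]; group
      _ = (c * d) * ((c * d)⁻¹ * (s * t * s⁻¹ * t⁻¹)) := by
          have hcm : Commute (c⁻¹ * d⁻¹) (s * t * s⁻¹ * t⁻¹) :=
            have hm : s * t * s⁻¹ * t⁻¹ ∈ S := mul_mem (mul_mem (mul_mem hs ht) (inv_mem hs)) (inv_mem ht)
            (cs _ hm c hcR).inv_left.mul_left (cs _ hm d hdR).inv_left
          rw [mul_assoc, ← hcm.eq, mul_inv_rev, hcd.inv_inv.eq]
      _ = s * t * s⁻¹ * t⁻¹ := by rw [mul_inv_cancel_left]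
  exact (mul_inv_eq_iff_eq_mul.mp key).symm

section Data

variable (h : Ctx 3 A θ)
include h

theorem ac_cube {g : G} (hg : Pt A g) (b : A) : ac h hg b ^ 3 = 1 := actBar_cube h.hA _ b

theorem fixed_pair {d x : G} (hd : Pt A d) (hx : Pt A x) :
    θ d ⊓ centralizer ({x} : Set G) = θ x ⊓ centralizer ({d} : Set G) :=
  le_antisymm (le_inf (balance h.hθ hd hx) (inf_le_left.trans (theta_le_cent h.hθ hd)))
    (le_inf (balance h.hθ hx hd) (inf_le_left.trans (theta_le_cent h.hθ hx)))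

theorem actBar_bar_comm {g : G} (hg : Pt A g) (a b : A) (y : Bar (θ g)) :
    ac h hg a (ac h hg b y) = ac h hg b (ac h hg a y) := by
  rw [← MulAut.mul_apply, ← map_mul, act_comm h.hA a b, map_mul, MulAut.mul_apply]

/-- The perfect lift of a visible clean piece is a component of the fixed group, and its image in the other
value lies in the layer. -/
theorem piece_transfer {d x : G} (hd : Pt A d) (hx : Pt A x) {L : Subgroup (Bar (θ d))} (hL : IsComponent L)
    (hv : Vis (ac h hd (el hx)) L) (hclean : piece (ac h hd (el hx)) L (bar_rad _) ≤ cl (θ d)) :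
    pc (pre (θ d) (piece (ac h hd (el hx)) L (bar_rad _))) ≤ θ x ∧
      ∀ (s : G) (hs : s ∈ θ x), s ∈ pc (pre (θ d) (piece (ac h hd (el hx)) L (bar_rad _))) →
        toBar (θ x) hs ∈ layer (Bar (θ x)) := by
  set β := ac h hd (el hx) with hβdef
  have hβ := ac_cube h hd (el hx)
  have hR := bar_rad (θ d)
  have h3 := bar_not_dvd (theta_not_dvd h.hθ hd)
  set P := piece β L hR with hPdef
  have hPp := piece_perfect hR h3 hβ hL hv
  set S := pc (pre (θ d) P) with hSdef
  have hSd : S ≤ θ d := pc_pre_le P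
  have hSR : S ≤ centralizer (radS (θ d) : Set G) := pc_pre_cent hclean
  have hSx : S ≤ centralizer ({x} : Set G) :=
    cent_of_bar_fix (theta_inv h.hθ hd) hSd (pc_perfect _) hSR (el hx) fun s hs hsS => (toBar_pc_pre hs hsS).2.1
  have hSF : S ≤ θ d ⊓ centralizer ({x} : Set G) := le_inf hSd hSx
  refine ⟨hSF.trans (balance h.hθ hd hx), fun s hs hsS => ?_⟩
  set F := θ d ⊓ centralizer ({x} : Set G) with hFdef
  -- the subnormal quasisimple subgroup of the common fixed group
  let f : F →* fix1 β :=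
    ((QuotientGroup.mk' (solvableRadical ↥(θ d))).comp
      (Subgroup.inclusion (inf_le_left : F ≤ θ d))).codRestrict _
      fun y => toBar_fix (theta_inv h.hθ hd) (a := el hx) y.2.1 y.2.2
  have hsub : (S.subgroupOf F).IsSubnormal := by
    have h1 : ((P.subgroupOf (fix1 β)).comap f).IsSubnormal :=
      Subgroup.IsSubnormal.comap f (piece_component hR h3 hβ hL hv).1
    have hle : S.subgroupOf F ≤ (P.subgroupOf (fix1 β)).comap f := fun y hy =>
      toBar_pc_pre (show (y : G) ∈ θ d from y.2.1) hy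
    refine Subgroup.IsSubnormal.trans hle (Subgroup.Normal.isSubnormal ?_) h1
    refine ⟨fun a ha b => ?_⟩
    have hb : ((b : F) : G) ∈ pre (θ d) P := (mem_pre b.1.2.1).mpr b.2
    exact (Subgroup.mem_normalizer_iff.mp (le_normalizer_pc Subgroup.le_normalizer hb) _).mp ha
  have hq : IsQuasisimple ↥S := by
    haveI : Group.IsPerfect ↥S := Subgroup.isPerfect_iff.mpr (pc_perfect _)
    let π : S →* P := ((QuotientGroup.mk' (solvableRadical ↥(θ d))).comp (Subgroup.inclusion hSd)).codRestrict P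
      fun y => toBar_pc_pre (hSd y.2) y.2
    refine Comp.isQuasisimple_of_central_extension π (fun y => ?_) (fun y hy => ?_)
      (quasisimple_of_suz (piece_suzuki hR h3 hβ hL hv))
    · obtain ⟨w, hw, hwS, e⟩ := mem_img_iff.mp ((img_pc_pre hPp).ge y.2)
      exact ⟨⟨w, hwS⟩, Subtype.ext e⟩
    · have hyR : (y : G) ∈ radS (θ d) :=
        (toBar_eq_one_iff (hSd y.2)).mp (congrArg Subtype.val (MonoidHom.mem_ker.mp hy))
      exact Subgroup.mem_center_iff.mpr fun z =>
        Subtype.ext (Subgroup.mem_centralizer_iff.mp (hSR z.2) y hyR).symm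
  -- its image in the other value
  set γ := ac h hx (el hd) with hγdef
  have hR' := bar_rad (θ x)
  have h3' := bar_not_dvd (theta_not_dvd h.hθ hx)
  let f' : F →* fix1 γ :=
    ((QuotientGroup.mk' (solvableRadical ↥(θ x))).comp (Subgroup.inclusion (balance h.hθ hd hx))).codRestrict _
      fun y => toBar_fix (theta_inv h.hθ hx) (a := el hd) (balance h.hθ hd hx y.2) (theta_le_cent h.hθ hd y.2.1)
  have hf' : Function.Surjective f' := fun y => by
    obtain ⟨w, hw, hwc, e⟩ := fix_lift h.hA (theta_inv h.hθ hx) (theta_not_dvd h.hθ hx) y.2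
    exact ⟨⟨w, (fixed_pair h hd hx).ge (Subgroup.mem_inf.mpr ⟨hw, hwc⟩)⟩, Subtype.ext e⟩
  set Q := (S.subgroupOf F).map f'
  have hmem : (⟨s, hSF hsS⟩ : F) ∈ S.subgroupOf F := hsS
  by_cases hQ1 : Q = ⊥
  · have h1 : f' ⟨s, hSF hsS⟩ ∈ Q := ⟨_, hmem, rfl⟩
    rw [hQ1, Subgroup.mem_bot] at h1
    have h2 : toBar (θ x) hs = 1 := congrArg Subtype.val h1
    rw [h2]
    exact one_mem _
  · haveI : Nontrivial Q := (Subgroup.nontrivial_iff_ne_bot Q).mpr hQ1
    have hQc : IsComponent Q := ⟨hsub.map hf',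
      Comp.isQuasisimple_of_surj_nontrivial (f'.subgroupMap (S.subgroupOf F)) (MonoidHom.subgroupMap_surjective _ _)
        (CfsgLib.isQuasisimple_of_equiv (Subgroup.subgroupOfEquivOfLe hSF).symm hq)⟩
    exact fixed_comp_le_layer hR' h3' (ac_cube h hx (el hd)) hQc ⟨_, ⟨_, hmem, rfl⟩, rfl⟩

/-- A perfect clean group of fixed elements of the layer is covered by its visible pieces. -/
theorem pieces_cover {d : G} (hd : Pt A d) (b : A) {S : Subgroup G} (hS : S ≤ θ d) (hp : ⁅S, S⁆ = S)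
    (hc : S ≤ centralizer (radS (θ d) : Set G))
    (hl : ∀ (s : G) (hs : s ∈ θ d), s ∈ S → toBar (θ d) hs ∈ layer (Bar (θ d)) ∧
      ac h hd b (toBar (θ d) hs) = toBar (θ d) hs) :
    S ≤ ⨆ L : {L : Subgroup (Bar (θ d)) // IsComponent L ∧ Vis (ac h hd b) L ∧
        piece (ac h hd b) L (bar_rad _) ≤ cl (θ d) ∧ ∃ (s : G) (hs : s ∈ θ d), s ∈ S ∧ prj L (toBar (θ d) hs) ≠ 1},
      pc (pre (θ d) (piece (ac h hd b) (L : Subgroup (Bar (θ d))) (bar_rad _))) := by
  set β := ac h hd b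
  have hβ := ac_cube h hd b
  have hR := bar_rad (θ d)
  have h3 := bar_not_dvd (theta_not_dvd h.hθ hd)
  let P : Subgroup (Bar (θ d)) → Prop := fun L => IsComponent L ∧ Vis β L ∧
        piece β L hR ≤ cl (θ d) ∧ ∃ (s : G) (hs : s ∈ θ d), s ∈ S ∧ prj L (toBar (θ d) hs) ≠ 1
  set W := ⨆ L : {L : Subgroup (Bar (θ d)) // P L}, pc (pre (θ d) (piece β (L : Subgroup (Bar (θ d))) hR))
  show S ≤ W
  have hWd : W ≤ θ d := iSup_le fun L => pc_pre_le _
  have hWR : W ≤ centralizer (radS (θ d) : Set G) := iSup_le fun L => pc_pre_cent L.2.2.2.1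
  have hQl : img (θ d) S ≤ layer (Bar (θ d)) := fun y hy => by
    obtain ⟨s, hs, hsS, rfl⟩ := mem_img_iff.mp hy
    exact (hl s hs hsS).1
  have hQf : img (θ d) S ≤ fix1 β := fun y hy => by
    obtain ⟨s, hs, hsS, rfl⟩ := mem_img_iff.mp hy
    exact (hl s hs hsS).2
  have hQp : ⁅img (θ d) S, img (θ d) S⁆ = img (θ d) S := by
    have hS' : ⁅S.subgroupOf (θ d), S.subgroupOf (θ d)⁆ = S.subgroupOf (θ d) := by
      apply Subgroup.map_injective (θ d).subtype_injective
      rw [Subgroup.map_commutator, Subgroup.map_subgroupOf_eq_of_le hS, hp]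
    rw [img, ← Subgroup.map_commutator, hS']
  have hclS : ∀ (s : G) (hs : s ∈ θ d), s ∈ S → toBar (θ d) hs ∈ cl (θ d) := fun s hs hsS => mem_cl hs (hc hsS)
  have hcover : ∀ (s : G) (hs : s ∈ θ d), s ∈ S → toBar (θ d) hs ∈ img (θ d) W := by
    intro s hs hsS
    obtain ⟨t, ht, htl, htf, htp⟩ := fix_layer_split hR h3 hβ _ rfl (hl s hs hsS).1 (hl s hs hsS).2
    have e : t = toBar (θ d) hs := layer_ext hR htl (hl s hs hsS).1 fun L hL => by
      by_cases hv : Vis β L
      · exact (htp L hL).1 hv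
      · rw [(htp L hL).2 hv, prj_invisible hR h3 hL hv hQl hQf hQp (mem_img hs hsS)]
    rw [← e]
    refine (iSup_le fun L => ?_ : _ ≤ img (θ d) W) ht
    obtain ⟨L, hL, hv, hne⟩ := L
    -- touched components are clean
    haveI := cl_normal (θ d)
    have hcl : ∀ M, IsComponent M → prj M (toBar (θ d) hs) ≠ 1 → M ≤ cl (θ d) := fun M hM hMne => by
      rcases CfsgLib.component_le_or_commutator_eq_bot hM (cl (θ d)) with h' | h'
      · exact h'
      · refine absurd (comp_center hR hM (prj_mem M _) fun k hk => ?_) hMne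
        have h1 := layer_mul_comm_prj hR hM (hl s hs hsS).1 hk
        have h2 : toBar (θ d) hs * k = k * toBar (θ d) hs :=
          Subgroup.mem_centralizer_iff.mp (Subgroup.commutator_eq_bot_iff_le_centralizer.mp h' hk) _ (hclS s hs hsS)
        rw [h2, mul_inv_cancel_right] at h1
        exact (mul_inv_eq_iff_eq_mul.mp h1.symm).symm
    have hmap : ∀ M, IsComponent M → prj M (toBar (θ d) hs) ≠ 1 → prj (mp β M) (toBar (θ d) hs) ≠ 1 := by
      intro M hM hMne e1
      have h1 := prj_map hR β hM (hl s hs hsS).1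
      rw [(hl s hs hsS).2, e1] at h1
      exact hMne (β.injective (by rw [← h1, map_one]))
    have hpiece : piece β L hR ≤ cl (θ d) := by
      intro w hw
      have h1 : w ∈ compSup (fun M => IsComponent M ∧ M ≤ cl (θ d)) := by
        refine (mem_compSup_iff hR h3 (fun M hM => hM.1)).mpr ⟨hw.1, fun M hM hMn => ?_⟩
        have hn0 : M ≠ L := fun e0 => hMn ⟨hM, by rw [e0]; exact hcl L hL hne⟩
        have hn1 : M ≠ mp β L := fun e1 => hMn ⟨hM, by
          rw [e1]; exact hcl _ (mp_comp hL) (hmap L hL hne)⟩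
        have hn2 : M ≠ mp β (mp β L) := fun e2 => hMn ⟨hM, by
          rw [e2]; exact hcl _ (mp_comp (mp_comp hL)) (hmap _ (mp_comp hL) (hmap L hL hne))⟩
        exact hw.2.2 M hM hn0 hn1 hn2
      exact (iSup_le fun M => M.2.2 : compSup (fun M => IsComponent M ∧ M ≤ cl (θ d)) ≤ cl (θ d)) h1
    refine le_trans (le_of_eq (img_pc_pre (piece_perfect hR h3 hβ hL hv)).symm) (img_mono ?_)
    exact le_iSup (fun L : {L : Subgroup (Bar (θ d)) // P L} =>
      pc (pre (θ d) (piece β (L : Subgroup (Bar (θ d))) hR))) ⟨L, hL, hv, hpiece, s, hs, hsS, hne⟩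
  refine perfect_le_of_sup (radS_solvable (θ d)) (fun r hr => ?_) hp fun s hsS => ?_
  · refine Comp.mem_normalizer_of_maps fun v hv => ?_
    rw [Subgroup.mem_centralizer_iff.mp (hWR hv) r hr, mul_inv_cancel_right]
    exact hv
  · obtain ⟨w, hw, hwW, ew⟩ := mem_img_iff.mp (hcover s (hS hsS) hsS)
    rw [show s = w * (w⁻¹ * s) by group]
    refine Subgroup.mul_mem_sup hwW ?_
    rw [← toBar_eq_one_iff (mul_mem (inv_mem hw) (hS hsS)), toBar_mul (inv_mem hw) (hS hsS), toBar_inv hw, ew,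
      inv_mul_cancel]

/-- Perfect clean fixed subgroups of the layer centralise soluble normal subgroups of the fixed group. -/
theorem cent_fixed_solvable {b x : G} (hb : Pt A b) (hx : Pt A x) {S N : Subgroup G} (hS : S ≤ θ b)
    (hSx : S ≤ centralizer ({x} : Set G)) (hp : ⁅S, S⁆ = S) (hc : S ≤ centralizer (radS (θ b) : Set G))
    (hl : ∀ (s : G) (hs : s ∈ θ b), s ∈ S → toBar (θ b) hs ∈ layer (Bar (θ b)))
    (hN : N ≤ θ b ⊓ centralizer ({x} : Set G)) (hNs : Group.IsSolvable N)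
    (hNn : θ b ⊓ centralizer ({x} : Set G) ≤ normalizer (N : Set G)) : S ≤ centralizer (N : Set G) := by
  set β := ac h hb (el hx)
  have hR := bar_rad (θ b)
  have h3 := bar_not_dvd (theta_not_dvd h.hθ hb)
  have hfixS : ∀ (s : G) (hs : s ∈ θ b), s ∈ S → toBar (θ b) hs ∈ layer (Bar (θ b)) ∧
      β (toBar (θ b) hs) = toBar (θ b) hs := fun s hs hsS =>
    ⟨hl s hs hsS, toBar_fix (theta_inv h.hθ hb) (a := el hx) hs (hSx hsS)⟩
  set F := θ b ⊓ centralizer ({x} : Set G) with hF
  let f : F →* fix1 β :=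
    ((QuotientGroup.mk' (solvableRadical ↥(θ b))).comp
      (Subgroup.inclusion (inf_le_left : F ≤ θ b))).codRestrict _
      fun y => toBar_fix (theta_inv h.hθ hb) (a := el hx) y.2.1 y.2.2
  have hf : Function.Surjective f := fun y => by
    obtain ⟨w, hw, hwc, e⟩ := fix_lift h.hA (theta_inv h.hθ hb) (theta_not_dvd h.hθ hb) y.2
    exact ⟨⟨w, hw, hwc⟩, Subtype.ext e⟩
  haveI : (N.subgroupOf F).Normal := (Subgroup.normal_subgroupOf_iff_le_normalizer hN).mpr hNn
  haveI := hNs
  haveI := Subgroup.Normal.map (inferInstance : (N.subgroupOf F).Normal) f hf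
  have hNrad : ∀ (n : G) (hn : n ∈ N), f ⟨n, hN hn⟩ ∈ solvableRadical (fix1 β) := by
    intro n hn
    haveI : Group.IsSolvable (N.subgroupOf F) := Group.isSolvable_of_isSolvable_injective
      (f := (Subgroup.subgroupOfEquivOfLe hN).toMonoidHom) (MulEquiv.injective _)
    exact CfsgLib.le_solvableRadical (N := (N.subgroupOf F).map f)
      (Group.isSolvable_of_surjective (f := f.subgroupMap (N.subgroupOf F)) (MonoidHom.subgroupMap_surjective _ _))
      ⟨⟨n, hN hn⟩, hn, rfl⟩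
  have hbar : ∀ (s : G) (hs : s ∈ θ b), s ∈ S → ∀ (n : G) (hn : n ∈ N),
      toBar (θ b) hs * toBar (θ b) (hN hn).1 = toBar (θ b) (hN hn).1 * toBar (θ b) hs := by
    intro s hs hsS n hn
    let C : Subgroup G :=
      { carrier := {y | ∃ hy : y ∈ θ b, toBar (θ b) hy * toBar (θ b) (hN hn).1 =
          toBar (θ b) (hN hn).1 * toBar (θ b) hy}
        one_mem' := ⟨one_mem _, by
          rw [show toBar (θ b) (one_mem _) = 1 from map_one (QuotientGroup.mk' _), one_mul, mul_one]⟩
        mul_mem' := fun {a c} ha hc => by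
          obtain ⟨ha, ea⟩ := ha
          obtain ⟨hc, ec⟩ := hc
          exact ⟨mul_mem ha hc, by rw [toBar_mul ha hc, mul_assoc, ec, ← mul_assoc, ea, mul_assoc]⟩
        inv_mem' := fun {a} ha => by
          obtain ⟨ha, ea⟩ := ha
          exact ⟨inv_mem ha, by rw [toBar_inv ha]; exact (show Commute _ _ from ea).inv_left⟩ }
    have hle : S ≤ C := (pieces_cover h hb (el hx) hS hp hc hfixS).trans (iSup_le fun ⟨L, hL, hv, _⟩ y hy => by
      have hy' : y ∈ θ b := pc_pre_le _ hy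
      refine ⟨hy', ?_⟩
      have hw := toBar_pc_pre hy' hy
      have hsupp : ∀ M, IsComponent M → prj M (toBar (θ b) hy') ≠ 1 → Vis β M := fun M hM hne => by
        by_contra hv'
        refine hne (hw.2.2 M hM ?_ ?_ ?_)
        · exact fun e => hv' (e ▸ hv)
        · exact fun e => hv' (e ▸ vis_orbit hR h3 hv)
        · exact fun e => hv' (e ▸ vis_orbit hR h3 (vis_orbit hR h3 hv))
      have hwp : toBar (θ b) hy' ∈ compSup (fun M => IsComponent M ∧ Vis β M) :=
        (mem_compSup_iff hR h3 (fun M hM => hM.1)).mpr ⟨hw.1, fun M hM hMn => by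
          by_contra hne
          exact hMn ⟨hM, hsupp M hM hne⟩⟩
      have hcomm : compSup (fun M => IsComponent M ∧ Vis β M) ≤
          centralizer ({toBar (θ b) (hN hn).1} : Set (Bar (θ b))) := iSup_le fun M k hk =>
        Subgroup.mem_centralizer_singleton_iff.mpr
          (cent_of_radical_fix hR h3 (ac_cube h hb (el hx)) M.2.1 M.2.2 (hNrad n hn) k hk).symm
      exact Subgroup.mem_centralizer_singleton_iff.mp (hcomm hwp))
    obtain ⟨_, e⟩ := hle hsS
    exact e
  have h1 : ⁅N, S⁆ ≤ radS (θ b) := Subgroup.commutator_le.mpr fun n hn s hs => by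
    rw [commutatorElement_def, ← toBar_eq_one_iff
      (mul_mem (mul_mem (mul_mem (hN hn).1 (hS hs)) (inv_mem (hN hn).1)) (inv_mem (hS hs))),
      toBar_commutator (hN hn).1 (hS hs), commutatorElement_eq_one_iff_commute]
    exact (hbar s (hS hs) hs n hn).symm
  have h2 : ⁅⁅N, S⁆, S⁆ = ⊥ := Subgroup.commutator_eq_bot_iff_le_centralizer.mpr fun y hy s hs =>
    (Subgroup.mem_centralizer_iff.mp (hc hs) y (h1 hy)).symm
  have h3' : ⁅⁅S, N⁆, S⁆ = ⊥ := by rwa [Subgroup.commutator_comm S N]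
  have h4 := Subgroup.commutator_commutator_eq_bot_of_rotate h3' h2
  rw [hp] at h4
  exact Subgroup.commutator_eq_bot_iff_le_centralizer.mp h4

end Data

end CfsgLib.SF23
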