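import Cfsg.Agent.Lib.SF23.PropX

/-!
The tori in the layer of a member of the subfunctor are abelian and give a mark group of five-elements, whose
fixed elements lie in the linked products modulo the radical.
-/

set_option autoImplicit false
set_option linter.unusedSectionVars false
set_option linter.style.haveILetI false

namespace CfsgLib.SF23

open Cfsg Subgroup CfsgLib.Signalizer CfsgLib.SolvSF
open scoped commutatorElement

universe u
variable {G : Type u} [Group G] [Finite G] {A : Subgroup G} {θ : G → Subgroup G}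

section Data

variable (h : Ctx 3 A θ) (hcub : CubicTrivial.{u}) {X : Subgroup G} (px : PropX h X)
include h hcub px

theorem comp_lift_le_eX {K : Subgroup (Bar X)} (hK : IsComponent K) : pc (pre X K) ≤ eX X :=
  pc_mono (pre_mono (CfsgLib.le_layer hK))

theorem comp_lifts_commute {K L : Subgroup (Bar X)} (hK : IsComponent K) (hL : IsComponent L) (hne : K ≠ L) :
    ∀ a ∈ pc (pre X K), ∀ b ∈ pc (pre X L), a * b = b * a := by
  intro a ha b hb
  have haX := pc_pre_le K ha
  have hbX := pc_pre_le L hb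
  refine (perfect_cent_of_mod (N := radS X) (pc_perfect _)
    ((comp_lift_le_eX h hcub px hK).trans (eX_cent h hcub px)) (self_normalizes_radS X hbX)
    (fun c hc => ?_) a ha).symm
  have hcX := pc_pre_le K hc
  have hc' : b * c * b⁻¹ ∈ X := mul_mem (mul_mem hbX hcX) (inv_mem hbX)
  rw [← toBar_eq_one_iff (mul_mem (inv_mem hcX) hc'), toBar_mul (inv_mem hcX) hc', toBar_inv hcX,
    toBar_conj hbX hcX, MulAut.conj_apply,
    show toBar X hbX * toBar X hcX = toBar X hcX * toBar X hbX from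
      (comp_commute (bar_rad X) hK hL hne (toBar_pc_pre hcX hc) (toBar_pc_pre hbX hb)).symm]
  group

/-- The tori in the layer commute. -/
theorem tX_abelian : ∀ a ∈ tX h X, ∀ b ∈ tX h X, a * b = b * a := by
  have hR := bar_rad X
  have h3 := bar_not_dvd px.mem.not_dvd
  have hX := px_mem h hcub px
  have hQ := qfive_le_px h hcub px
  let T : {K : Subgroup (Bar X) // IsComponent K} → Subgroup G := fun K =>
    pc (pre X K) ⊓ pre X (tor (K : Subgroup (Bar X)) (tv h X K))
  set W := (⨆ K, T K) ⊔ (eX X ⊓ radS X) with hW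
  have hWE : (⨆ K, T K) ≤ eX X := iSup_le fun K => inf_le_left.trans (comp_lift_le_eX h hcub px K.2)
  have hZc : eX X ⊓ radS X ≤ centralizer (eX X : Set G) :=
    inf_le_right.trans (Subgroup.le_centralizer_iff.mp (eX_cent h hcub px))
  have hTT : ∀ K L, T K ≤ centralizer (T L : Set G) := by
    intro K L a ha
    refine Subgroup.mem_centralizer_iff.mpr fun b hb => ?_
    by_cases hne : (K : Subgroup (Bar X)) = L
    · obtain rfl : K = L := Subtype.ext hne
      obtain ⟨-, -, -, -, ho⟩ := tv_spec h hX hQ K.2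
      have hvK := tv_mem h hX hQ K.2
      obtain ⟨hcyc, -⟩ := suz_torus (component_suzuki hR h3 K.2) (z := ⟨_, hvK⟩) (by rwa [Subgroup.orderOf_mk])
      obtain ⟨g₀, hg₀⟩ := hcyc.exists_generator
      have hgt : (((g₀ : (K : Subgroup (Bar X))) : Bar X)) ∈ tor (K : Subgroup (Bar X)) (tv h X K) :=
        (mem_tor_iff hvK g₀.1.2).mpr g₀.2
      obtain ⟨g, hg, hgΓ, eg⟩ := mem_img_iff.mp ((img_pc_pre (CfsgLib.isComponent_commutator_self K.2)).ge g₀.1.2)
      have key : ∀ x ∈ T K, ∃ (i : ℤ) (r : G), r ∈ pc (pre X (K : Subgroup (Bar X))) ⊓ radS X ∧ x = g ^ i * r := by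
        intro x hx
        have hxX := pc_pre_le _ hx.1
        have hxt := (mem_pre hxX).mp hx.2
        obtain ⟨i, hi⟩ := hg₀ ⟨⟨_, hxt.1⟩, (mem_tor_iff hvK hxt.1).mp hxt⟩
        refine ⟨i, (g ^ i)⁻¹ * x, Subgroup.mem_inf.mpr ⟨mul_mem (inv_mem (zpow_mem hgΓ i)) hx.1, ?_⟩, by group⟩
        rw [← toBar_eq_one_iff (mul_mem (inv_mem (zpow_mem hg i)) hxX), toBar_mul (inv_mem (zpow_mem hg i)) hxX,
          toBar_inv (zpow_mem hg i), inv_mul_eq_one]
        have h1 : toBar X (zpow_mem hg i) = toBar X hg ^ i := map_zpow (QuotientGroup.mk' _) (⟨g, hg⟩ : X) i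
        rw [h1, eg]
        exact congrArg (fun w => ((w : (K : Subgroup (Bar X))) : Bar X))
          (congrArg Subtype.val hi)
      have hcr : ∀ r ∈ pc (pre X (K : Subgroup (Bar X))) ⊓ radS X, ∀ x ∈ pc (pre X (K : Subgroup (Bar X))),
          Commute r x := fun r hr x hx =>
        Subgroup.mem_centralizer_iff.mp (eX_cent h hcub px (comp_lift_le_eX h hcub px K.2 hx)) r hr.2
      obtain ⟨i, r, hr, rfl⟩ := key a ha
      obtain ⟨j, s, hs, rfl⟩ := key b hb
      have c1 : Commute (g ^ i) (g ^ j) := Commute.zpow_zpow_self g i j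
      have c2 : Commute r (g ^ j * s) := hcr r hr _ (mul_mem (zpow_mem hgΓ j) hs.1)
      have c3 : Commute s (g ^ i) := hcr s hs _ (zpow_mem hgΓ i)
      exact (((c1.mul_right c3.symm).mul_left c2).eq).symm
    · exact (comp_lifts_commute h hcub px K.2 L.2 hne a ha.1 b hb.1).symm
  have hWc : W ≤ centralizer (W : Set G) := by
    have h1 : ∀ K, T K ≤ centralizer (W : Set G) := fun K => by
      refine Subgroup.le_centralizer_iff.mp (sup_le (iSup_le fun L => hTT L K) ?_)
      exact hZc.trans (Subgroup.centralizer_le fun x hx => inf_le_left.trans (comp_lift_le_eX h hcub px K.2) hx)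
    refine sup_le (iSup_le h1) (Subgroup.le_centralizer_iff.mp (sup_le ?_ ?_))
    · exact hWE.trans (Subgroup.le_centralizer_iff.mp hZc)
    · exact hZc.trans (Subgroup.centralizer_le fun x hx => hx.1)
  intro a ha b hb
  have hle : tX h X ≤ W := by
    intro x hx
    have hxX := pre_le X _ hx.2
    have h1 : torOnly (tv h X) hR ≤ img X (⨆ K, T K) := (torOnly_le_iSup h hcub px).trans (iSup_le fun K w hw => by
      obtain ⟨y, hy, hyΓ, rfl⟩ := mem_img_iff.mp ((img_pc_pre (CfsgLib.isComponent_commutator_self K.2)).ge hw.1)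
      exact mem_img hy (le_iSup T K (Subgroup.mem_inf.mpr ⟨hyΓ, (mem_pre hy).mpr hw⟩)))
    obtain ⟨w, hw, hwW, e⟩ := mem_img_iff.mp (h1 ((mem_pre hxX).mp hx.2))
    rw [show x = w * (w⁻¹ * x) by group]
    refine Subgroup.mul_mem_sup hwW (Subgroup.mem_inf.mpr ⟨mul_mem (inv_mem (hWE hwW)) hx.1, ?_⟩)
    rw [← toBar_eq_one_iff (mul_mem (inv_mem hw) hxX), toBar_mul (inv_mem hw) hxX, toBar_inv hw, e, inv_mul_cancel]
  exact (Subgroup.mem_centralizer_iff.mp (hWc (hle ha)) b (hle hb)).symm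

theorem mem_k5_iff {x : G} : x ∈ k5 h X ↔ x ∈ tX h X ∧ ∃ e : ℕ, x ^ 5 ^ e = 1 := by
  refine ⟨fun hx => ?_, fun hx => Subgroup.subset_closure hx⟩
  induction hx using Subgroup.closure_induction with
  | mem y hy => exact hy
  | one => exact ⟨one_mem _, 0, one_pow _⟩
  | mul a b _ _ ha hb =>
    obtain ⟨ha, i, ea⟩ := ha
    obtain ⟨hb, j, eb⟩ := hb
    refine ⟨mul_mem ha hb, i + j, ?_⟩
    rw [(show Commute a b from tX_abelian h hcub px a ha b hb).mul_pow, pow_add, pow_mul, ea, one_pow, one_mul,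
      mul_comm (5 ^ i), pow_mul, eb, one_pow]
  | inv a _ ha =>
    obtain ⟨ha, i, ea⟩ := ha
    exact ⟨inv_mem ha, i, by rw [inv_pow, ea, inv_one]⟩

theorem k5_markGrp : MarkGrp h 5 (k5 h X) := by
  have hnor : ∀ g ∈ normalizer (tX h X : Set G), g ∈ normalizer (k5 h X : Set G) := fun g hg =>
    Comp.mem_normalizer_of_maps fun v hv => by
      obtain ⟨hv, e, he⟩ := (mem_k5_iff h hcub px).mp hv
      exact (mem_k5_iff h hcub px).mpr ⟨(Subgroup.mem_normalizer_iff.mp hg v).mp hv, e, by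
        rw [conj_pow, he, mul_one, mul_inv_cancel]⟩
  have hab : ⁅k5 h X, k5 h X⁆ = ⊥ := Subgroup.commutator_eq_bot_iff_le_centralizer.mpr fun a ha =>
    Subgroup.mem_centralizer_iff.mpr fun b hb =>
      (tX_abelian h hcub px a ((mem_k5_iff h hcub px).mp ha).1 b ((mem_k5_iff h hcub px).mp hb).1).symm
  refine ⟨Nat.prime_five, fun x => ?_, fun x hx => tX_le_yCl h hcub px ((mem_k5_iff h hcub px).mp hx).1,
    fun g hg => hnor g (tX_norm h hcub px hg), fun g hg => hnor g (tX_inv h hcub px hg), ?_, ?_⟩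
  · obtain ⟨-, e, he⟩ := (mem_k5_iff h hcub px).mp x.2
    exact ⟨e, Subtype.ext (by rw [SubmonoidClass.coe_pow]; exact he)⟩
  · rw [hab, Subgroup.commutator_bot_left]
  · intro a _
    rw [hab, bot_inf_eq]
    exact bot_le

/-- Five-elements of the layer inside the soluble closure. -/
theorem five_mem_k5 {x : G} (hE : x ∈ eX X) (hY : x ∈ yCl h) {e : ℕ} (he : x ^ 5 ^ e = 1) : x ∈ k5 h X := by
  refine (mem_k5_iff h hcub px).mpr ⟨Subgroup.mem_inf.mpr ⟨hE, ?_⟩, e, he⟩
  have hR := bar_rad X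
  have h3 := bar_not_dvd px.mem.not_dvd
  have hX := px_mem h hcub px
  have hQ := qfive_le_px h hcub px
  have hxX : x ∈ X := pc_pre_le _ hE
  have hl : toBar X hxX ∈ layer (Bar X) := toBar_pc_pre hxX hE
  have hj : toBar X hxX ∈ joinS (img X (qfive h)) := by
    refine le_joinS ?_ (img_mono (qfive_le_yCl h)) (mem_img hxX hY)
    haveI : Group.IsSolvable ((yCl h).subgroupOf X) := by
      haveI := yCl_solvable h
      exact Group.isSolvable_of_isSolvable_injective
        (f := (Subgroup.subgroupOfEquivOfLe (yCl_le_px h hcub px)).toMonoidHom) (MulEquiv.injective _)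
    exact Group.isSolvable_of_surjective (f := (QuotientGroup.mk' (solvableRadical ↥X)).subgroupMap _)
      (MonoidHom.subgroupMap_surjective _ _)
  have ht : toBar X hxX ∈ torusProd (tv h X) hR :=
    join_inf_layer hR h3 (tv h X) (fun K hK => tv_spec h hX hQ hK) (Subgroup.mem_inf.mpr ⟨hj, hl⟩)
  refine (mem_pre hxX).mpr ⟨hl, fun K hK => ?_⟩
  obtain ⟨-, -, -, -, ho⟩ := tv_spec h hX hQ hK
  refine five_pow_tor hR h3 hK (tv_mem h hX hQ hK) ho (ht.2 K hK) (k := e) ?_
  rw [← prj_pow hR h3 hK hl, show toBar X hxX ^ 5 ^ e = 1 from by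
    rw [toBar, ← map_pow, show (⟨x, hxX⟩ : X) ^ 5 ^ e = 1 from Subtype.ext (by simpa using he), map_one],
    prj_one hR hK]

set_option maxHeartbeats 800000 in
/-- The fixed marks of the layer lie in the linked product modulo the radical. -/
theorem k5_layer {a : G} (ha : Pt A a) {k : G} (hk : k ∈ k5 h X) (hka : k ∈ centralizer ({a} : Set G))
    (hkθ : k ∈ θ a) : toBar (θ a) hkθ ∈ layer (Bar (θ a)) := by
  obtain ⟨hkt, e, he⟩ := (mem_k5_iff h hcub px).mp hk
  have hR := bar_rad X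
  have h3 := bar_not_dvd px.mem.not_dvd
  set β := actBar X px.mem.inv (el ha) with hβdef
  have hβ := actBar_cube h.hA px.mem.inv (el ha)
  have hkX : k ∈ X := pc_pre_le _ hkt.1
  have hkl : toBar X hkX ∈ layer (Bar X) := toBar_pc_pre hkX hkt.1
  have hkf : β (toBar X hkX) = toBar X hkX := toBar_fix px.mem.inv (a := el ha) hkX hka
  have hkc := ((mem_pre hkX).mp hkt.2).2
  obtain ⟨t, ht, htl, -, htp⟩ := fix_layer_split hR h3 hβ _ rfl hkl hkf
  obtain ⟨w, hw, hwM, ew⟩ : ∃ (w : G) (hw : w ∈ X), w ∈ mX h a ∧ toBar X hw = t :=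
    mem_img_iff.mp ((iSup_le fun L => piece_le_img h hcub px (el ha) ha L.2.1 L.2.2.1 : _ ≤ img X (mX h a)) ht)
  have hwt : w ∈ tX h X := by
    refine Subgroup.mem_inf.mpr ⟨mX_le_eX h hcub px ha hwM, (mem_pre hw).mpr ?_⟩
    rw [ew]
    refine ⟨htl, fun K hK => ?_⟩
    by_cases hv : Vis β K
    · rw [(htp K hK).1 hv]
      exact hkc K hK
    · rw [(htp K hK).2 hv]
      exact one_mem _
  obtain ⟨j, hj, i, hi⟩ := five_part (isOfFinOrder_of_finite w) e
  have htj : t ^ j = t := by
    refine layer_ext hR (pow_mem htl j) htl fun K hK => ?_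
    rw [prj_pow hR h3 hK htl]
    by_cases hv : Vis β K
    · rw [(htp K hK).1 hv]
      refine pow_mod_self (e := e) ?_ hj
      rw [← prj_pow hR h3 hK hkl, show toBar X hkX ^ 5 ^ e = 1 from by
        rw [toBar, ← map_pow, show (⟨k, hkX⟩ : X) ^ 5 ^ e = 1 from Subtype.ext (by simpa using he), map_one],
        prj_one hR hK]
    · rw [(htp K hK).2 hv, one_pow]
  set k' := (w ^ j)⁻¹ * k with hk'def
  have hk'5 : k' ∈ k5 h X :=
    mul_mem (inv_mem ((mem_k5_iff h hcub px).mpr ⟨pow_mem hwt j, i, hi⟩)) hk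
  have hk'X : k' ∈ X := mul_mem (inv_mem (pow_mem hw j)) hkX
  have hk'θ : k' ∈ θ a := mul_mem (inv_mem (pow_mem (mX_le h a hwM) j)) hkθ
  have hbar : toBar X hk'X = t⁻¹ * toBar X hkX := by
    rw [toBar_mul (inv_mem (pow_mem hw j)) hkX, toBar_inv (pow_mem hw j),
      show toBar X (pow_mem hw j) = toBar X hw ^ j from map_pow (QuotientGroup.mk' _) (⟨w, hw⟩ : X) j, ew, htj]
  have hcen : ∀ m ∈ mX h a, k' * m = m * k' := by
    refine perfect_cent_of_mod (N := radS X) (mX_perfect h a) (mX_cent_radS h hcub px ha)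
      (self_normalizes_radS X hk'X) fun m hm => ?_
    have hmX := mX_le_px h hcub px ha hm
    have hml : toBar X hmX ∈ layer (Bar X) := toBar_pc_pre hmX (mX_le_eX h hcub px ha hm)
    have hQl : img X (mX h a) ≤ layer (Bar X) := fun y hy => by
      obtain ⟨v, hv, hvM, rfl⟩ := mem_img_iff.mp hy
      exact toBar_pc_pre hv (mX_le_eX h hcub px ha hvM)
    have hQf : img X (mX h a) ≤ fix1 β := fun y hy => by
      obtain ⟨v, hv, hvM, rfl⟩ := mem_img_iff.mp hy
      exact toBar_fix px.mem.inv (a := el ha) hv (theta_le_cent h.hθ ha (mX_le h a hvM))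
    have hc : k' * m * k'⁻¹ ∈ X := mul_mem (mul_mem hk'X hmX) (inv_mem hk'X)
    have hl' : toBar X hk'X ∈ layer (Bar X) := by rw [hbar]; exact mul_mem (inv_mem htl) hkl
    have hcomm : toBar X hk'X * toBar X hmX = toBar X hmX * toBar X hk'X := by
      refine layer_ext hR (mul_mem hl' hml) (mul_mem hml hl') fun K hK => ?_
      rw [prj_mul hR hK hl' hml, prj_mul hR hK hml hl', hbar, prj_mul hR hK (inv_mem htl) hkl, prj_inv hR hK htl]
      by_cases hv : Vis β K
      · rw [(htp K hK).1 hv, inv_mul_cancel, one_mul, mul_one]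
      · rw [prj_invisible hR h3 hK hv hQl hQf (img_perfect (mX_le_px h hcub px ha) (mX_perfect h a))
          (mem_img hmX hm), one_mul, mul_one]
    rw [← toBar_eq_one_iff (mul_mem (inv_mem hmX) hc), toBar_mul (inv_mem hmX) hc, toBar_inv hmX,
      toBar_conj hk'X hmX, MulAut.conj_apply, hcomm]
    group
  have hR' := bar_rad (θ a)
  have hk'1 : toBar (θ a) hk'θ = 1 := eq_one_of_centralizes hR' fun M hM l hl => by
    by_contra hne
    have hnt : ∃ l ∈ M, MulAut.conj (toBar (θ a) hk'θ) l ≠ l := ⟨l, hl, fun e => hne (by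
      rw [MulAut.conj_apply, mul_inv_eq_iff_eq_mul] at e
      exact e.symm)⟩
    have hlink := marked_linked h hcub ha ⟨hM, 5, k5 h X, k5_markGrp h hcub px, k', hk'θ, hk'5, hnt⟩
    obtain ⟨y, hy, hyM, rfl⟩ := mem_img_iff.mp
      ((img_pc_pre (compSup_perfect fun K (hK : Linked h a K) => hK.1)).ge (le_compSup hlink hl))
    refine hne ?_
    rw [← toBar_mul hy hk'θ, ← toBar_mul hk'θ hy]
    exact congrArg (QuotientGroup.mk' (solvableRadical ↥(θ a))) (Subtype.ext (hcen y hyM).symm)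
  have h1 : toBar (θ a) hkθ = toBar (θ a) (pow_mem (mX_le h a hwM) j) := by
    have h2 := toBar_mul (inv_mem (pow_mem (mX_le h a hwM) j)) hkθ
    rw [show toBar (θ a) (mul_mem (inv_mem (pow_mem (mX_le h a hwM) j)) hkθ) = 1 from hk'1,
      toBar_inv (pow_mem (mX_le h a hwM) j)] at h2
    exact (inv_mul_eq_one.mp h2.symm).symm
  rw [h1]
  exact compSup_le_layer (fun M hM => hM.1) (toBar_pc_pre _ (pow_mem hwM j))

end Data

end CfsgLib.SF23
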