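import Cfsg.Agent.Lib.SF23.Lay

/-!
Nilpotent subgroups normalised by a fixed group, and the tori of invisible components.
-/

set_option autoImplicit false
set_option linter.unusedSectionVars false
set_option linter.style.haveILetI false

namespace CfsgLib.SF23

open Cfsg Subgroup
open scoped commutatorElement

universe u
variable {H : Type u} [Group H] [Finite H]

/-- The products of the torus coordinates. -/
def torOnly (v : Subgroup H → H) (hR : solvableRadical H = ⊥) : Subgroup H where
  carrier := {x | x ∈ layer H ∧ ∀ K, IsComponent K → prj K x ∈ tor K (v K)}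
  one_mem' := ⟨one_mem _, fun K hK => by rw [prj_one hR hK]; exact one_mem _⟩
  mul_mem' ha hb := ⟨mul_mem ha.1 hb.1, fun K hK => by
    rw [prj_mul hR hK ha.1 hb.1]; exact mul_mem (ha.2 K hK) (hb.2 K hK)⟩
  inv_mem' ha := ⟨inv_mem ha.1, fun K hK => by rw [prj_inv hR hK ha.1]; exact inv_mem (ha.2 K hK)⟩

/-- In a nilpotent group an element sent to a power of itself of prime order by conjugation is centralised. -/
theorem nil_fix {M : Type u} [Group M] {J : Subgroup M} (hJ : Group.IsNilpotent J) {n v : M} (hn : n ∈ J)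
    (hv : v ∈ J) {p : ℕ} [Fact p.Prime] (hp : orderOf v = p) {i : ℤ} (hi : n * v * n⁻¹ = v ^ i) :
    n * v = v * n := by
  by_contra hne
  obtain ⟨k, hk⟩ := Subgroup.isNilpotent_iff_lowerCentralSeries J |>.mp hJ
  have hall : ∀ k, v ∈ J.lowerCentralSeries k := by
    intro k
    induction k with
    | zero => exact hv
    | succ k ih =>
      have hc : ⁅v, n⁆ ∈ J.lowerCentralSeries (k + 1) := by
        rw [Subgroup.lowerCentralSeries_succ]
        exact Subgroup.commutator_mem_commutator ih hn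
      have hz : ⁅v, n⁆ ∈ zpowers v := by
        have h1 : n * v⁻¹ * n⁻¹ = (v ^ i)⁻¹ := by rw [← hi]; group
        rw [show ⁅v, n⁆ = v * (n * v⁻¹ * n⁻¹) by rw [commutatorElement_def]; group, h1]
        exact mul_mem (mem_zpowers v) (inv_mem (zpow_mem (mem_zpowers v) i))
      have hne1 : ⁅v, n⁆ ≠ 1 := fun e => hne (commutatorElement_eq_one_iff_mul_comm.mp e).symm
      haveI hprime : Fact (Nat.card (zpowers v)).Prime := ⟨by rw [Nat.card_zpowers, hp]; exact Fact.out⟩
      have heq : zpowers ⁅v, n⁆ = zpowers v := by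
        rcases ((zpowers ⁅v, n⁆).subgroupOf (zpowers v)).eq_bot_or_eq_top_of_prime_card with e | e
        · refine absurd ?_ hne1
          have h1 : (⟨⁅v, n⁆, hz⟩ : zpowers v) ∈ (zpowers ⁅v, n⁆).subgroupOf (zpowers v) := mem_zpowers _
          rw [e, Subgroup.mem_bot] at h1
          exact congrArg Subtype.val h1
        · exact le_antisymm (Subgroup.zpowers_le.mpr hz) (Subgroup.subgroupOf_eq_top.mp e)
      exact (Subgroup.zpowers_le.mpr hc) (heq.ge (mem_zpowers v))
  have h1 := hall k
  rw [hk, Subgroup.mem_bot] at h1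
  rw [h1, orderOf_one] at hp
  exact (Fact.out : p.Prime).ne_one hp.symm

section Trivial

variable (hR : solvableRadical H = ⊥) (h3 : ¬ 3 ∣ Nat.card H)
include hR h3

/-- An element of five-power order in the normalizer of a torus lies in the torus. -/
theorem five_pow_tor {K : Subgroup H} (hK : IsComponent K) {v : H} (hv : v ∈ K) (ho : orderOf v = 5) {x : H}
    (hx : x ∈ nor K v) {k : ℕ} (hk : x ^ 5 ^ k = 1) : x ∈ tor K v := by
  have hL := component_suzuki hR h3 hK
  obtain ⟨-, -, hcard, -⟩ := suz_torus hL (z := ⟨v, hv⟩) (by rwa [Subgroup.orderOf_mk])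
  set T := centralizer ({⟨v, hv⟩} : Set K)
  set N := normalizer (T : Set K)
  haveI : (T.subgroupOf N).Normal := Subgroup.normal_in_normalizer
  have h4 : Nat.card (↥N ⧸ T.subgroupOf N) = 4 := by
    have h := Subgroup.card_eq_card_quotient_mul_card_subgroup (T.subgroupOf N)
    rw [Nat.card_congr (Subgroup.subgroupOfEquivOfLe (Subgroup.le_normalizer : T ≤ N)).toEquiv, hcard] at h
    exact (Nat.eq_of_mul_eq_mul_right Nat.card_pos h).symm
  let y : N := ⟨⟨x, hx.1⟩, (mem_nor_iff hv hx.1).mp hx⟩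
  have hy : y ^ 5 ^ k = 1 := Subtype.ext (Subtype.ext (by simpa [y] using hk))
  have h1 : orderOf (QuotientGroup.mk' (T.subgroupOf N) y) ∣ 5 ^ k :=
    orderOf_dvd_of_pow_eq_one (by rw [← map_pow, hy, map_one])
  have h2 : orderOf (QuotientGroup.mk' (T.subgroupOf N) y) ∣ 4 := h4 ▸ orderOf_dvd_natCard _
  have h5 : orderOf (QuotientGroup.mk' (T.subgroupOf N) y) = 1 :=
    Nat.dvd_one.mp ((Nat.Coprime.pow_left k (by norm_num : Nat.Coprime 5 4)) ▸ Nat.dvd_gcd h1 h2)
  rw [mem_tor_iff hv hx.1]
  exact (QuotientGroup.eq_one_iff y).mp (orderOf_eq_one_iff.mp h5)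

/-- The fixed part of an invisible component. -/
theorem invisible_data {β : MulAut H} (hβ : β ^ 3 = 1) {K : Subgroup H} (hK : IsComponent K) (hv : ¬ Vis β K) {v : H}
    (hvK : v ∈ K) (h5 : orderOf v = 5) (hvf : β v = v) :
    tor K v = zpowers v ∧ ∃ s ∈ K ⊓ fix1 β, s ∉ tor K v := by
  obtain ⟨h1, k, hk, hne⟩ := not_vis hR h3 hK hv
  have hψ3 : res β K h1 ^ 3 = 1 := by
    refine MulEquiv.ext fun y => Subtype.ext ?_
    show β (β (β (y : H))) = y
    exact cube_orbit hβ _
  have hψ : res β K h1 ≠ 1 := fun e => hne (by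
    have h4 := congrArg Subtype.val (DFunLike.congr_fun e (⟨k, hk⟩ : K))
    exact h4)
  let f : (MonoidHom.eqLocus (res β K h1).toMonoidHom (MonoidHom.id K)) ≃* ↥(K ⊓ fix1 β) :=
    { toFun := fun y => ⟨y, y.1.2, congrArg Subtype.val (y.2 : res β K h1 y.1 = y.1)⟩
      invFun := fun y => ⟨⟨y, y.2.1⟩, Subtype.ext y.2.2⟩
      left_inv := fun y => rfl
      right_inv := fun y => rfl
      map_mul' := fun _ _ => rfl }
  rcases suz_fixed (component_suzuki hR h3 hK) (orderOf_eq_prime (hp := ⟨Nat.prime_three⟩) hψ3 hψ) with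
    ⟨-, -, hc, hz⟩ | hC
  · have hC5 := hz ⟨v, hvK⟩ (by rwa [Subgroup.orderOf_mk])
    have htor : tor K v = (centralizer ({⟨v, hvK⟩} : Set K)).map K.subtype := by
      ext x
      constructor
      · exact fun hx => ⟨⟨x, hx.1⟩, (mem_tor_iff hvK hx.1).mp hx, rfl⟩
      · rintro ⟨y, hy, rfl⟩
        exact (mem_tor_iff hvK y.2).mpr hy
    have hcard : Nat.card (tor K v) = 5 := by
      rw [htor, ← Nat.card_congr (Subgroup.equivMapOfInjective _ K.subtype K.subtype_injective).toEquiv, hC5]
    refine ⟨(Subgroup.eq_of_le_of_card_ge (Subgroup.zpowers_le.mpr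
      (mem_tor_self (component_suzuki hR h3 hK) hvK h5 : v ∈ tor K v)) (by rw [hcard, Nat.card_zpowers, h5])).symm, ?_⟩
    by_contra hall
    push Not at hall
    have h20 : Nat.card ↥(K ⊓ fix1 β) = 20 := by rw [← Nat.card_congr f.toEquiv, hc]
    have := Subgroup.card_le_of_le (H := K ⊓ fix1 β) (K := tor K v) hall
    omega
  · refine absurd (Or.inr fun hs => CfsgLib.isQuasisimple_not_isSolvable (quasisimple_of_suz hC) ?_) hv
    haveI := hs
    exact Group.isSolvable_of_isSolvable_injective (f := f.toMonoidHom) f.injective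

variable {β : MulAut H}

set_option maxHeartbeats 800000 in
/-- A nilpotent subgroup of fixed elements normalised by all of them centralises the fixed torus elements and has
torus coordinates in the layer. -/
theorem nil_fixed_tor (hβ : β ^ 3 = 1) {J : Subgroup H} (hJf : J ≤ fix1 β) (hJn : fix1 β ≤ normalizer (J : Set H))
    (hJ : Group.IsNilpotent J) (v : Subgroup H → H) (hv : ∀ K, IsComponent K → v K ∈ K ∧ orderOf (v K) = 5)
    (hvf : ∀ K, IsComponent K → mp β K = K → β (v K) = v K) :
    (∀ j ∈ J, j ∈ layer H → j ∈ torOnly v hR) ∧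
      ∀ j ∈ J, ∀ x ∈ torOnly v hR, β x = x → j * x * j⁻¹ = x := by
  have hvis : ∀ j ∈ J, ∀ K, IsComponent K → Vis β K → ∀ k ∈ K, j * k = k * j := by
    intro j hj K hK hKv
    haveI : (J.subgroupOf (fix1 β)).Normal := (Subgroup.normal_subgroupOf_iff_le_normalizer hJf).mpr hJn
    have hs : Group.IsSolvable (J.subgroupOf (fix1 β)) := by
      haveI := hJ
      exact Group.isSolvable_of_isSolvable_injective (f := (Subgroup.subgroupOfEquivOfLe hJf).toMonoidHom)
        (MulEquiv.injective _)
    exact cent_of_radical_fix hR h3 hβ hK hKv (x := ⟨j, hJf hj⟩)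
      (CfsgLib.le_solvableRadical (N := J.subgroupOf (fix1 β)) hs hj)
  have hnor : ∀ K, IsComponent K → ¬ Vis β K → ∀ x, x ∈ K → β x = x →
      x ∈ nor K (v K) := fun K hK hKv x hx hxf =>
    invisible_nor hR h3 hK hKv (hv K hK).1 (hv K hK).2 (hvf K hK (not_vis hR h3 hK hKv).1)
      (Subgroup.mem_inf.mpr ⟨hx, hxf⟩)
  have hcoord : ∀ K, IsComponent K → ¬ Vis β K → ∀ w ∈ layer H, β w = w → β (prj K w) = prj K w :=
    fun K hK hKv w hw hwf => by
      have h := prj_map hR β hK hw
      rw [(not_vis hR h3 hK hKv).1, hwf] at h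
      exact h.symm
  have hlay : ∀ j ∈ J, j ∈ layer H → j ∈ torOnly v hR := by
    intro j hj hjl
    refine ⟨hjl, fun K hK => ?_⟩
    by_cases hKv : Vis β K
    · rw [comp_center hR hK (prj_mem K j) fun k hk => ?_]
      · exact one_mem _
      · have h1 := layer_mul_comm_prj hR hK hjl hk
        rw [hvis j hj K hK hKv k hk, mul_inv_cancel_right] at h1
        exact (mul_inv_eq_iff_eq_mul.mp h1.symm).symm
    · obtain ⟨hvK, hv5⟩ := hv K hK
      have hvf' := hvf K hK (not_vis hR h3 hK hKv).1
      obtain ⟨htor, -⟩ := invisible_data hR h3 hβ hK hKv hvK hv5 hvf'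
      set J0 := J ⊓ layer H
      let f : J0 →* H :=
        { toFun := fun y => prj K y
          map_one' := prj_one hR hK
          map_mul' := fun a b => prj_mul hR hK a.2.2 b.2.2 }
      haveI := hJ
      haveI : Group.IsNilpotent ↥J0 :=
        Subgroup.isNilpotent_of_ker_le_center (Subgroup.inclusion (inf_le_left : J0 ≤ J))
          (by rw [(MonoidHom.ker_eq_bot_iff _).mpr (Subgroup.inclusion_injective _)]; exact bot_le)
      have hnil : Group.IsNilpotent f.range :=
        Group.nilpotent_of_surjective f.rangeRestrict f.rangeRestrict_surjective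
      set u := prj K j with hu
      have huR : u ∈ f.range := ⟨⟨j, hj, hjl⟩, rfl⟩
      have hun : u ∈ nor K (v K) := hnor K hK hKv u (prj_mem K j) (hcoord K hK hKv j hjl (hJf hj))
      by_contra hut
      have huv : u * v K * u⁻¹ ∈ tor K (v K) := by
        refine five_mem_tor (component_suzuki hR h3 hK) hvK hv5 ?_ ?_
        · exact mul_mem (mul_mem hun (Subgroup.mem_inf.mpr ⟨hvK, Subgroup.le_normalizer (mem_tor_self (component_suzuki hR h3 hK) hvK hv5)⟩))
            (inv_mem hun)
        · rw [← MulAut.conj_apply, MulEquiv.orderOf_eq, hv5]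
      rw [htor] at huv
      obtain ⟨i, hi⟩ := huv
      -- the commutator is in the image
      have hcR : u * v K * u⁻¹ * (v K)⁻¹ ∈ f.range := by
        have hvl := CfsgLib.le_layer hK hvK
        have hw : v K * j * (v K)⁻¹ ∈ J0 := Subgroup.mem_inf.mpr
          ⟨(Subgroup.mem_normalizer_iff.mp (hJn hvf') j).mp hj, mul_mem (mul_mem hvl hjl) (inv_mem hvl)⟩
        have h1 : v K * u * (v K)⁻¹ ∈ f.range := ⟨⟨_, hw⟩, by
          show prj K (v K * j * (v K)⁻¹) = _
          rw [prj_mul hR hK (mul_mem hvl hjl) (inv_mem hvl), prj_mul hR hK hvl hjl, prj_inv hR hK hvl,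
            prj_self hR hK hvK]⟩
        rw [show u * v K * u⁻¹ * (v K)⁻¹ = u * (v K * u * (v K)⁻¹)⁻¹ by group]
        exact mul_mem huR (inv_mem h1)
      haveI : Fact (Nat.Prime 5) := ⟨Nat.prime_five⟩
      have hi' : u * v K * u⁻¹ * (v K)⁻¹ = v K ^ (i - 1) := by rw [zpow_sub_one, ← hi]
      by_cases he : v K ^ (i - 1) = 1
      · refine hut ((mem_tor_iff hvK (prj_mem K j)).mpr (mem_centralizer_singleton_iff.mpr (Subtype.ext ?_)))
        rw [he, mul_inv_eq_one, mul_inv_eq_iff_eq_mul] at hi'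
        exact hi'
      · have hvR : v K ∈ f.range := by
          haveI : Fact (Nat.card (zpowers (v K))).Prime := ⟨by rw [Nat.card_zpowers, hv5]; norm_num⟩
          rcases (f.range.subgroupOf (zpowers (v K))).eq_bot_or_eq_top_of_prime_card with e | e
          · refine absurd ?_ he
            have h1 : (⟨v K ^ (i - 1), zpow_mem (mem_zpowers _) _⟩ : zpowers (v K)) ∈
                f.range.subgroupOf (zpowers (v K)) := by
              rw [Subgroup.mem_subgroupOf]
              show v K ^ (i - 1) ∈ f.range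
              rw [← hi']
              exact hcR
            rw [e, Subgroup.mem_bot] at h1
            exact congrArg Subtype.val h1
          · exact Subgroup.subgroupOf_eq_top.mp e (mem_zpowers _)
        have h1 := nil_fix hnil huR hvR hv5 (i := i) hi.symm
        refine hut ((mem_tor_iff hvK (prj_mem K j)).mpr (mem_centralizer_singleton_iff.mpr (Subtype.ext ?_)))
        exact h1
  refine ⟨hlay, fun j hj x hx hxf => ?_⟩
  have hfix : ∀ K, IsComponent K → mp (MulAut.conj j) K = K ∧ j * prj K x * j⁻¹ = prj K x := by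
    intro K hK
    by_cases hKv : Vis β K
    · have hc := fun k hk => mul_inv_eq_iff_eq_mul.mpr (hvis j hj K hK hKv k hk)
      refine ⟨le_antisymm ?_ fun k hk => ⟨k, hk, hc k hk⟩, hc _ (prj_mem K x)⟩
      rintro _ ⟨k, hk, rfl⟩
      show j * k * j⁻¹ ∈ K
      rwa [hc k hk]
    obtain ⟨hK1, -⟩ := not_vis hR h3 hK hKv
    obtain ⟨hvK, hv5⟩ := hv K hK
    obtain ⟨htor, s, hs, hst⟩ := invisible_data hR h3 hβ hK hKv hvK hv5 (hvf K hK hK1)
    have hjf : β j = j := hJf hj
    have hKfix : mp (MulAut.conj j) K = K := by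
      by_contra hne
      set L := mp (MulAut.conj j) K with hLdef
      have hL : IsComponent L := mp_comp hK
      have hcomm : ∀ y ∈ K ⊓ fix1 β, j * y * j⁻¹ ∈ tor L (v L) := by
        intro y hy
        have hyl := CfsgLib.le_layer hK hy.1
        have hjy : j * y * j⁻¹ ∈ layer H := CfsgLib.le_layer hL (mem_mp hy.1)
        have hcJ : j * y * j⁻¹ * y⁻¹ ∈ J := by
          rw [show j * y * j⁻¹ * y⁻¹ = j * (y * j⁻¹ * y⁻¹) by group]
          exact mul_mem hj ((Subgroup.mem_normalizer_iff.mp (hJn hy.2) _).mp (inv_mem hj))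
        have h1 := (hlay _ hcJ (mul_mem hjy (inv_mem hyl))).2 L hL
        rwa [prj_mul hR hL hjy (inv_mem hyl), prj_inv hR hL hyl, prj_other hR hL hK hne hy.1, inv_one, mul_one,
          prj_self hR hL (show j * y * j⁻¹ ∈ L from mem_mp (e := MulAut.conj j) hy.1)] at h1
      obtain ⟨hvL, hvL5⟩ := hv L hL
      obtain ⟨hcyc, -⟩ := suz_torus (component_suzuki hR h3 hL) (z := ⟨v L, hvL⟩) (by rwa [Subgroup.orderOf_mk])
      have h2 : v K * s = s * v K := by
        have ha := hcomm (v K) (Subgroup.mem_inf.mpr ⟨hvK, hvf K hK hK1⟩)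
        have hb := hcomm s hs
        haveI := hcyc
        let _ : CommGroup (centralizer ({⟨v L, hvL⟩} : Set L)) := IsCyclic.commGroup
        have h3 := congrArg (fun w : centralizer ({⟨v L, hvL⟩} : Set L) => ((w : L) : H))
          (mul_comm (⟨⟨_, ha.1⟩, (mem_tor_iff hvL ha.1).mp ha⟩ : centralizer ({⟨v L, hvL⟩} : Set L))
            ⟨⟨_, hb.1⟩, (mem_tor_iff hvL hb.1).mp hb⟩)
        simp only [Subgroup.coe_mul] at h3
        exact (MulAut.conj j).injective (by rw [map_mul, map_mul]; exact h3)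
      exact hst ((mem_tor_iff hvK hs.1).mpr (mem_centralizer_singleton_iff.mpr (Subtype.ext h2.symm)))
    refine ⟨hKfix, ?_⟩
    have hjv : j * v K * j⁻¹ ∈ tor K (v K) := by
      refine five_mem_tor (component_suzuki hR h3 hK) hvK hv5 ?_ ?_
      · refine hnor K hK hKv _ (hKfix.le (mem_mp hvK)) ?_
        rw [map_mul, map_mul, map_inv, hjf, hvf K hK hK1]
      · rw [← MulAut.conj_apply, MulEquiv.orderOf_eq, hv5]
    rw [htor] at hjv
    obtain ⟨i, hi⟩ := hjv
    haveI : Fact (Nat.Prime 5) := ⟨Nat.prime_five⟩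
    have hjv' : j * v K * j⁻¹ = v K := by
      by_contra hne
      have hc : v K ^ (i - 1) ∈ J := by
        rw [zpow_sub_one, show v K ^ i = _ from hi, show j * v K * j⁻¹ * (v K)⁻¹ = j * (v K * j⁻¹ * (v K)⁻¹) by group]
        exact mul_mem hj ((Subgroup.mem_normalizer_iff.mp (hJn (hvf K hK hK1)) _).mp (inv_mem hj))
      have hvJ : v K ∈ J := by
        haveI : Fact (Nat.card (zpowers (v K))).Prime := ⟨by rw [Nat.card_zpowers, hv5]; norm_num⟩
        rcases (J.subgroupOf (zpowers (v K))).eq_bot_or_eq_top_of_prime_card with e | e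
        · refine absurd ?_ hne
          have h1 : (⟨v K ^ (i - 1), zpow_mem (mem_zpowers _) _⟩ : zpowers (v K)) ∈ J.subgroupOf (zpowers (v K)) := hc
          rw [e, Subgroup.mem_bot] at h1
          have h2 : v K ^ (i - 1) = 1 := congrArg Subtype.val h1
          rw [zpow_sub_one, mul_inv_eq_one] at h2
          rw [← hi]
          exact h2
        · exact Subgroup.subgroupOf_eq_top.mp e (mem_zpowers _)
      exact hne (mul_inv_eq_iff_eq_mul.mpr (nil_fix hJ hj hvJ hv5 hi.symm))
    have hp := hx.2 K hK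
    rw [htor] at hp
    obtain ⟨l, hl⟩ := hp
    show j * prj K x * j⁻¹ = prj K x
    rw [← hl]
    show j * v K ^ l * j⁻¹ = v K ^ l
    rw [← MulAut.conj_apply, map_zpow, MulAut.conj_apply, hjv']
  refine layer_ext hR (mp_layer (MulAut.conj j) hx.1) hx.1 fun K hK => ?_
  have h1 := prj_map hR (MulAut.conj j) hK hx.1
  rw [(hfix K hK).1] at h1
  exact h1.trans ((MulAut.conj_apply _ _).trans (hfix K hK).2)

end Trivial

end CfsgLib.SF23
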