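import Cfsg.Agent.Lib.SF23.Functor
import Cfsg.Agent.Lib.SF23.TorFix

/-!
A member of the subfunctor: its layer, the tori in it, and the five-group of marks they give.
-/

set_option autoImplicit false
set_option linter.unusedSectionVars false
set_option linter.style.haveILetI false

namespace CfsgLib.SF23

open Cfsg Subgroup CfsgLib.Signalizer CfsgLib.SolvSF
open scoped commutatorElement

universe u

section Generic

variable {M : Type u} [Group M]

/-- A perfect group centralising a normalised subgroup modulo which an element centralises it. -/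
theorem perfect_cent_of_mod {P N : Subgroup M} (hP : ⁅P, P⁆ = P) (hc : P ≤ centralizer (N : Set M)) {k : M}
    (hk : k ∈ normalizer (N : Set M)) (hmod : ∀ a ∈ P, a⁻¹ * (k * a * k⁻¹) ∈ N) :
    ∀ a ∈ P, k * a = a * k := by
  have hcz : ∀ a ∈ P, ∀ n ∈ N, Commute n a := fun a ha n hn => Subgroup.mem_centralizer_iff.mp (hc ha) n hn
  have hkP : ∀ a ∈ P, ∀ n ∈ N, Commute n (k * a * k⁻¹) := fun a ha n hn => by
    have h1 := hcz a ha (k⁻¹ * n * k) ((Subgroup.mem_normalizer_iff''.mp hk n).mp hn)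
    have h2 : Commute (MulAut.conj k (k⁻¹ * n * k)) (MulAut.conj k a) := h1.map (MulAut.conj k).toMonoidHom
    rwa [MulAut.conj_apply, MulAut.conj_apply, show k * (k⁻¹ * n * k) * k⁻¹ = n by group] at h2
  have key : ∀ a ∈ P, ∀ b ∈ P, k * ⁅a, b⁆ * k⁻¹ = ⁅a, b⁆ := by
    intro a ha b hb
    obtain ⟨c, hc'⟩ : ∃ c, c = a⁻¹ * (k * a * k⁻¹) := ⟨_, rfl⟩
    obtain ⟨d, hd'⟩ : ∃ d, d = b⁻¹ * (k * b * k⁻¹) := ⟨_, rfl⟩
    have hcN : c ∈ N := hc' ▸ hmod a ha
    have hdN : d ∈ N := hd' ▸ hmod b hb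
    have e1 : k * ⁅a, b⁆ * k⁻¹ = (a * c) * (b * d) * (a * c)⁻¹ * (b * d)⁻¹ := by
      rw [hc', hd', commutatorElement_def]; group
    have hcd : Commute d c := by
      rw [hc']
      exact (hcz a ha d hdN).inv_right.mul_right (hkP a ha d hdN)
    have c1 : Commute c b := hcz b hb c hcN
    have c2 : Commute d a := hcz a ha d hdN
    have c3 : Commute c a := hcz a ha c hcN
    rw [e1, commutatorElement_def]
    calc (a * c) * (b * d) * (a * c)⁻¹ * (b * d)⁻¹ = a * (c * b) * d * c⁻¹ * a⁻¹ * d⁻¹ * b⁻¹ := by group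
      _ = a * (b * c) * d * c⁻¹ * a⁻¹ * d⁻¹ * b⁻¹ := by rw [c1.eq]
      _ = a * b * (c * d) * c⁻¹ * a⁻¹ * d⁻¹ * b⁻¹ := by group
      _ = a * b * (d * c) * c⁻¹ * a⁻¹ * d⁻¹ * b⁻¹ := by rw [hcd.eq]
      _ = a * b * (d * a⁻¹) * d⁻¹ * b⁻¹ := by group
      _ = a * b * (a⁻¹ * d) * d⁻¹ * b⁻¹ := by rw [c2.inv_right.eq]
      _ = a * b * a⁻¹ * b⁻¹ := by group
  intro a ha
  have hle : P ≤ centralizer ({k} : Set M) := by
    conv_lhs => rw [← hP]
    exact Subgroup.commutator_le.mpr fun x hx y hy => Subgroup.mem_centralizer_singleton_iff.mpr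
      (mul_inv_eq_iff_eq_mul.mp (key x hx y hy)).symm
  exact (Subgroup.mem_centralizer_singleton_iff.mp (hle ha)).symm

theorem five_part {x : M} (hx : IsOfFinOrder x) (e : ℕ) :
    ∃ j : ℕ, j ≡ 1 [MOD 5 ^ e] ∧ ∃ k : ℕ, (x ^ j) ^ 5 ^ k = 1 := by
  obtain ⟨k, r, hr, hn⟩ := Nat.exists_eq_pow_mul_and_not_dvd hx.orderOf_pos.ne' 5 (by norm_num)
  obtain ⟨j, hj1, hj0⟩ := Nat.chineseRemainder
    (Nat.Coprime.pow_left e ((Nat.Prime.coprime_iff_not_dvd (by norm_num)).mpr hr) : (5 ^ e).Coprime r) 1 0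
  refine ⟨j, hj1, k, ?_⟩
  obtain ⟨q, hq⟩ := (Nat.modEq_zero_iff_dvd.mp hj0)
  rw [← pow_mul, hq, show r * q * 5 ^ k = 5 ^ k * r * q by ring, ← hn, pow_mul, pow_orderOf_eq_one, one_pow]

theorem pow_mod_self {x : M} {e j : ℕ} (hx : x ^ 5 ^ e = 1) (hj : j ≡ 1 [MOD 5 ^ e]) : x ^ j = x := by
  conv_rhs => rw [← pow_one x]
  exact pow_eq_pow_iff_modEq.mpr (hj.of_dvd (orderOf_dvd_of_pow_eq_one hx))

end Generic

section Bar

variable {G : Type u} [Group G] [Finite G]

theorem layer_perfect {H : Type u} [Group H] [Finite H] : ⁅layer H, layer H⁆ = layer H :=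
  le_antisymm (Subgroup.commutator_le_self _) (sSup_le fun K hK => by
    rw [← CfsgLib.isComponent_commutator_self hK]
    exact Subgroup.commutator_mono (CfsgLib.le_layer hK) (CfsgLib.le_layer hK))

theorem img_perfect {X S : Subgroup G} (hS : S ≤ X) (hp : ⁅S, S⁆ = S) : ⁅img X S, img X S⁆ = img X S := by
  have hS' : ⁅S.subgroupOf X, S.subgroupOf X⁆ = S.subgroupOf X := by
    apply Subgroup.map_injective X.subtype_injective
    rw [Subgroup.map_commutator, Subgroup.map_subgroupOf_eq_of_le hS, hp]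
  rw [img, ← Subgroup.map_commutator, hS']

/-- Lifts fixed by a group of points. -/
theorem lift_fixed {A B X S : Subgroup G} (hA : IsElementaryAbelian 3 A) (hB : B ≤ A)
    (hX : A ≤ normalizer (X : Set G)) (h3 : ¬ 3 ∣ Nat.card X) (hS : S ≤ X) (hSB : B ≤ normalizer (S : Set G))
    {s : G} (hs : s ∈ S)
    (hfix : ∀ b : A, (b : G) ∈ B → actBar X hX b (toBar X (hS hs)) = toBar X (hS hs)) :
    ∃ (c : G) (hc : c ∈ X), c ∈ S ∧ c ∈ centralizer (B : Set G) ∧ toBar X hc = toBar X (hS hs) := by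
  obtain ⟨c, hc, hcs⟩ := coprime_fixed_quotient (N := S ⊓ radS X) hSB
    (ea_coprime (ea_le hA hB) (fun hd => h3 (hd.trans (Subgroup.card_dvd_of_le hS))))
    (Or.inl (ea_solvable (ea_le hA hB))) inf_le_left
    (inf_normalizes Subgroup.le_normalizer (hS.trans (self_normalizes_radS X)))
    (inf_normalizes hSB (hB.trans (le_normalizer_radS hX))) hs (fun b hb => by
      have hbs : b * s * b⁻¹ ∈ S := (Subgroup.mem_normalizer_iff.mp (hSB hb) s).mp hs
      refine Subgroup.mem_inf.mpr ⟨mul_mem hbs (inv_mem hs), ?_⟩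
      rw [← toBar_eq_one_iff (mul_mem (hS hbs) (inv_mem (hS hs))), toBar_mul (hS hbs) (inv_mem (hS hs)),
        toBar_inv (hS hs), mul_inv_eq_one]
      exact (actBar_toBar hX ⟨b, hB hb⟩ (hS hs)).symm.trans (hfix ⟨b, hB hb⟩ hb))
  refine ⟨c, hS hc.1, hc.1, hc.2, ?_⟩
  have h1 := (toBar_eq_one_iff (mul_mem (inv_mem (hS hs)) (hS hc.1))).mpr hcs.2
  rw [toBar_mul (inv_mem (hS hs)) (hS hc.1), toBar_inv (hS hs), inv_mul_eq_one] at h1
  exact h1.symm

end Bar

variable {G : Type u} [Group G] [Finite G] {A : Subgroup G} {θ : G → Subgroup G}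

/-- A member of the subfunctor containing all its values. -/
structure PropX (h : Ctx 3 A θ) (X : Subgroup G) : Prop where
  mem : IsMem 3 A (psF h) X
  le : ∀ a, Pt A a → psF h a ≤ X

/-- The layer of the member. -/
def eX (X : Subgroup G) : Subgroup G := pc (pre X (layer (Bar X)))

/-- The tori in the layer. -/
noncomputable def tX (h : Ctx 3 A θ) (X : Subgroup G) : Subgroup G :=
  eX X ⊓ pre X (torOnly (tv h X) (bar_rad X))

/-- The five-elements of the tori. -/
noncomputable def k5 (h : Ctx 3 A θ) (X : Subgroup G) : Subgroup G :=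
  closure {x | x ∈ tX h X ∧ ∃ e : ℕ, x ^ 5 ^ e = 1}

section Data

variable (h : Ctx 3 A θ) (hcub : CubicTrivial.{u})
include h hcub

theorem perfect_le_mX {g : G} (hg : Pt A g) {P : Subgroup G} (hP : ⁅P, P⁆ = P) (hle : P ≤ psF h g) :
    P ≤ mX h g :=
  perfect_le_of_sup (uF_solvable h hg) (uF_normalizes_mX h hcub hg) hP hle

theorem psF_normalizes_mX {g : G} (hg : Pt A g) : psF h g ≤ normalizer (mX h g : Set G) :=
  sup_le Subgroup.le_normalizer (uF_normalizes_mX h hcub hg)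

/-- A subgroup covering the linked components contains the linked product. -/
theorem mX_le_of_img {g : G} (hg : Pt A g) {W : Subgroup G} (hW : W ≤ mX h g)
    (hle : compSup (Linked h g) ≤ img (θ g) W) : mX h g ≤ W := by
  refine perfect_le_of_sup (radS_solvable (θ g)) (fun r hr => Comp.mem_normalizer_of_maps fun v hv => ?_)
    (mX_perfect h g) fun v hv => ?_
  · rw [Subgroup.mem_centralizer_iff.mp (mX_cent_rad h hcub hg (hW hv)) r hr, mul_inv_cancel_right]
    exact hv
  · have hvX := mX_le h g hv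
    obtain ⟨w, hw, hwW, e⟩ := mem_img_iff.mp (hle (toBar_pc_pre hvX hv))
    rw [show v = w * (w⁻¹ * v) by group]
    refine Subgroup.mul_mem_sup hwW ?_
    rw [← toBar_eq_one_iff (mul_mem (inv_mem hw) hvX), toBar_mul (inv_mem hw) hvX, toBar_inv hw, e, inv_mul_cancel]

variable {X : Subgroup G} (px : PropX h X)
include px

theorem px_mem : IsMem 3 A θ X :=
  ⟨px.mem.not_dvd, px.mem.inv, fun a ha => (px.mem.fix a ha).trans (psF_le h hcub)⟩

theorem yCl_le_px : yCl h ≤ X :=
  iSup_le fun a => le_sup_right.trans (px.le a a.2)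

theorem qfive_le_px : qfive h ≤ X := (qfive_le_yCl h).trans (yCl_le_px h hcub px)

theorem psF_eq {a : G} (ha : Pt A a) : X ⊓ centralizer ({a} : Set G) = psF h a :=
  le_antisymm (px.mem.fix a ha) (le_inf (px.le a ha) ((psF_le h hcub).trans (theta_le_cent h.hθ ha)))

theorem mX_le_px {g : G} (hg : Pt A g) : mX h g ≤ X := le_sup_left.trans (px.le g hg)

theorem px_normalizes_fZero : X ≤ normalizer (fZero h : Set G) :=
  px.mem.le_of h.hA h.hA3 fun a ha => (px.mem.fix a ha).trans (sup_le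
    ((mX_cent_fZero h hcub ha).trans (Subgroup.centralizer_le_normalizer _))
    ((uF_le_yCl h ha).trans (fZero_spec h).2.1))

theorem fZero_le_rad : fZero h ≤ radS X :=
  le_radS ((fZero_spec h).1.trans (yCl_le_px h hcub px)) (solvable_of_le (fZero_spec h).1 (yCl_solvable h))
    (px_normalizes_fZero h hcub px)

set_option maxHeartbeats 400000 in
/-- The radical centralises the largest zero subgroup only inside it. -/
theorem rad_cent_fZero : radS X ⊓ centralizer (fZero h : Set G) ≤ fZero h := by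
  by_contra hne
  obtain ⟨hFy, hYF, hFA, -, -⟩ := fZero_spec h
  obtain ⟨r, K, mg, hKC, hK⟩ := exists_markGrp h
    (inf_le_left.trans (radS_le_yCl h (px_mem h hcub px) (qfive_le_px h hcub px)))
    (inf_normalizes ((yCl_le_px h hcub px).trans (self_normalizes_radS X))
      (hYF.trans (normalizer_le_normalizer_cent _)))
    (inf_normalizes (le_normalizer_radS px.mem.inv) (hFA.trans (normalizer_le_normalizer_cent _))) inf_le_right hne
  obtain ⟨g, hg, hKg⟩ : ∃ g, Pt A g ∧ ¬ K ⊓ centralizer ({g} : Set G) ≤ rv θ g := by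
    by_contra hall
    push Not at hall
    exact hK hall
  obtain ⟨k, hk, hkn⟩ := SetLike.not_le_iff_exists.mp hKg
  have hkθ : k ∈ θ g := (yCl_mem h).fix g hg (Subgroup.mem_inf.mpr ⟨mg.le hk.1, hk.2⟩)
  refine hkn ((toBar_eq_one_iff hkθ).mp (eq_one_of_centralizes (bar_rad _) fun L hL l hl => ?_))
  by_contra hne'
  have hnt : ∃ l ∈ L, MulAut.conj (toBar (θ g) hkθ) l ≠ l := ⟨l, hl, fun e => hne' (by
    rw [MulAut.conj_apply, mul_inv_eq_iff_eq_mul] at e
    exact e.symm)⟩
  obtain ⟨-, -, z, hz, hzK, hzΓ, -, hz1⟩ := mark_clean h hcub mg hg hk.1 hk.2 hkθ hL hnt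
  have hlink := marked_linked h hcub hg ⟨hL, r, K, mg, k, hkθ, hk.1, hnt⟩
  have hΓ : pc (pre (θ g) L) ≤ X :=
    (pc_mono (pre_mono (le_compSup hlink))).trans (mX_le_px h hcub px hg)
  have hall := simple_fill (CfsgLib.isComponent_commutator_self hL) (component_simple (bar_rad _) hL)
    (N := pc (pre (θ g) L) ⊓ radS X) inf_le_left
    (inf_normalizes Subgroup.le_normalizer (hΓ.trans (self_normalizes_radS X))) hz
    (Subgroup.mem_inf.mpr ⟨hzΓ, (hKC hzK).1⟩) hz1
  have hbot : pc (pre (θ g) L) ≤ ⊥ := perfect_le_of_sup (radS_solvable X)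
    (fun r hr => Comp.mem_normalizer_of_maps fun v hv => by
      rw [Subgroup.mem_bot] at hv ⊢
      rw [hv]; group) (pc_perfect _) ((hall.trans inf_le_right).trans le_sup_right)
  exact hz1 ((toBar_eq_one_iff hz).mpr (by rw [Subgroup.mem_bot.mp (hbot hzΓ)]; exact one_mem _))

theorem mX_cent_radS {g : G} (hg : Pt A g) : mX h g ≤ centralizer (radS X : Set G) := by
  set R := radS X
  set M := mX h g
  have hMF : ⁅M, fZero h⁆ = ⊥ := Subgroup.commutator_eq_bot_iff_le_centralizer.mpr (mX_cent_fZero h hcub hg)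
  have hRF : ⁅fZero h, R⁆ ≤ fZero h := Subgroup.commutator_le.mpr fun f hf r hr => by
    rw [show ⁅f, r⁆ = f * (r * f⁻¹ * r⁻¹) by rw [commutatorElement_def]; group]
    exact mul_mem hf ((Subgroup.mem_normalizer_iff.mp (px_normalizes_fZero h hcub px (radS_le X hr)) _).mp
      (inv_mem hf))
  have hFM : ⁅fZero h, M⁆ = ⊥ := by rw [Subgroup.commutator_comm, hMF]
  have h1 : ⁅⁅R, M⁆, fZero h⁆ = ⊥ := Subgroup.commutator_commutator_eq_bot_of_rotate
    (by rw [hMF, Subgroup.commutator_bot_left]) (le_bot_iff.mp ((Subgroup.commutator_mono hRF le_rfl).trans hFM.le))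
  have h2 : ⁅R, M⁆ ≤ fZero h := by
    refine (le_inf ?_ (Subgroup.commutator_eq_bot_iff_le_centralizer.mp h1)).trans (rad_cent_fZero h hcub px)
    refine Subgroup.commutator_le.mpr fun r hr m hm => ?_
    rw [show ⁅r, m⁆ = r * (m * r⁻¹ * m⁻¹) by rw [commutatorElement_def]; group]
    exact mul_mem hr ((Subgroup.mem_normalizer_iff.mp (self_normalizes_radS X (mX_le_px h hcub px hg hm)) _).mp
      (inv_mem hr))
  have h3 : ⁅⁅R, M⁆, M⁆ = ⊥ := le_bot_iff.mp ((Subgroup.commutator_mono h2 le_rfl).trans hFM.le)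
  have h4 : ⁅⁅M, R⁆, M⁆ = ⊥ := by rwa [Subgroup.commutator_comm M R]
  have h5 := Subgroup.commutator_commutator_eq_bot_of_rotate h4 h3
  rw [mX_perfect h g] at h5
  exact Subgroup.commutator_eq_bot_iff_le_centralizer.mp h5

theorem piece_le_img (a : A) (ha : Pt A (a : G)) {K : Subgroup (Bar X)} (hK : IsComponent K)
    (hv : Vis (actBar X px.mem.inv a) K) :
    piece (actBar X px.mem.inv a) K (bar_rad X) ≤ img X (mX h (a : G)) := by
  have hp := piece_perfect (bar_rad X) (bar_not_dvd px.mem.not_dvd) (actBar_cube h.hA px.mem.inv a) hK hv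
  refine (le_map_pc (S := X ⊓ centralizer ({(a : G)} : Set G)) inf_le_left hp fun w hw => ?_).trans
    (img_mono (perfect_le_mX h hcub ha (pc_perfect _) ((pc_le _).trans (px.mem.fix _ ha))))
  obtain ⟨x, hx, hxc, e⟩ := fix_lift h.hA px.mem.inv px.mem.not_dvd (a := a) (y := w) hw.2.1
  exact e ▸ mem_img hx (Subgroup.mem_inf.mpr ⟨hx, hxc⟩)

theorem layer_le_cl : layer (Bar X) ≤ cl X := sSup_le fun K hK =>
  gen_pieces (bar_rad X) (bar_not_dvd px.mem.not_dvd) (actBar X px.mem.inv) (act_cube h.hA) (act_comm h.hA) hK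
    (P := ⊤) (by rw [Subgroup.card_top, h.hA3]; norm_num) fun b _ hb hv => by
      have hbp : Pt A (b : G) := ⟨b.2, fun e => hb (Subtype.ext e)⟩
      exact (piece_le_img h hcub px b hbp hK hv).trans
        (img_mono (le_inf (mX_le_px h hcub px hbp) (mX_cent_radS h hcub px hbp)))

theorem eX_cent : eX X ≤ centralizer (radS X : Set G) := pc_pre_cent (layer_le_cl h hcub px)

theorem eX_normal : X ≤ normalizer (eX X : Set G) := by
  haveI : (layer (Bar X)).Normal := inferInstance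
  refine le_normalizer_pc fun x hx => mem_normalizer_pre hx ?_
  rw [Subgroup.normalizer_eq_top (H := layer (Bar X))]
  exact Subgroup.mem_top _

theorem eX_inv : A ≤ normalizer (eX X : Set G) :=
  le_normalizer_pc fun a ha => mem_normalizer_pre' (actBar X px.mem.inv ⟨a, ha⟩)
    (fun k hk => ⟨_, actBar_toBar px.mem.inv ⟨a, ha⟩ hk⟩) (by
      rintro _ ⟨w, hw, rfl⟩
      exact mp_layer _ hw)

set_option maxHeartbeats 800000 in
/-- The linked products lie in the layer. -/
theorem mX_le_eX {g : G} (hg : Pt A g) : mX h g ≤ eX X := by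
  have hR := bar_rad (θ g)
  have h3 := bar_not_dvd (theta_not_dvd h.hθ hg)
  suffices hbar : mX h g ≤ mX h g ⊓ pre X (layer (Bar X)) from
    le_pc (hbar.trans inf_le_right) (mX_perfect h g)
  refine mX_le_of_img h hcub hg inf_le_left (iSup_le ?_)
  rintro ⟨L, hL⟩
  have hLp := CfsgLib.isComponent_commutator_self hL.1
  set S := pc (pre (θ g) L) with hSdef
  have hSM : S ≤ mX h g := pc_mono (pre_mono (le_compSup hL))
  have hSg : S ≤ θ g := pc_pre_le L
  refine (img_pc_pre hLp).ge.trans (img_mono (le_inf hSM ?_))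
  have hMF : mX h g ≤ psF h g := le_sup_left
  have hSF : S ≤ psF h g := hSM.trans hMF
  set F := psF h g with hFdef
  have hsub : (S.subgroupOf F).IsSubnormal := by
    have hle : S.subgroupOf F ≤ (mX h g).subgroupOf F := fun y hy => hSM hy
    refine Subgroup.IsSubnormal.trans hle (Subgroup.Normal.isSubnormal ?_) (Subgroup.Normal.isSubnormal
      ((Subgroup.normal_subgroupOf_iff_le_normalizer hMF).mpr (psF_normalizes_mX h hcub hg)))
    refine ⟨fun a ha b => ?_⟩
    have hbn : ((b : F) : G) ∈ normalizer (pre (θ g) L : Set G) :=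
      mem_normalizer_pre (mX_le h g b.2) (Comp.mem_normalizer_of_maps fun w hw =>
        (Subgroup.mem_normalizer_iff.mp (layer_le_normalizer hR hL.1
          (compSup_le_layer (fun M hM => hM.1) (toBar_pc_pre (mX_le h g b.2) b.2))) w).mp hw)
    exact (Subgroup.mem_normalizer_iff.mp (le_normalizer_pc (U := normalizer (pre (θ g) L : Set G)) le_rfl hbn) _).mp ha
  have hq : IsQuasisimple ↥S := by
    haveI : Group.IsPerfect ↥S := Subgroup.isPerfect_iff.mpr (pc_perfect _)
    let π : S →* L := ((QuotientGroup.mk' (solvableRadical ↥(θ g))).comp (Subgroup.inclusion hSg)).codRestrict L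
      fun y => toBar_pc_pre (hSg y.2) y.2
    refine Comp.isQuasisimple_of_central_extension π (fun y => ?_) (fun y hy => ?_)
      (quasisimple_of_suz (component_suzuki hR h3 hL.1))
    · obtain ⟨w, hw, hwS, e⟩ := mem_img_iff.mp ((img_pc_pre hLp).ge y.2)
      exact ⟨⟨w, hwS⟩, Subtype.ext e⟩
    · have hyR : (y : G) ∈ radS (θ g) :=
        (toBar_eq_one_iff (hSg y.2)).mp (congrArg Subtype.val (MonoidHom.mem_ker.mp hy))
      exact Subgroup.mem_center_iff.mpr fun z => Subtype.ext (Subgroup.mem_centralizer_iff.mp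
        (pc_pre_cent (linked_le_cl h hcub hg hL) z.2) y hyR).symm
  set γ := actBar X px.mem.inv (el hg) with hγdef
  let f : F →* fix1 γ :=
    ((QuotientGroup.mk' (solvableRadical ↥X)).comp (Subgroup.inclusion (px.le g hg))).codRestrict _
      fun y => toBar_fix px.mem.inv (a := el hg) (px.le g hg y.2)
        (theta_le_cent h.hθ hg (psF_le h hcub y.2))
  have hf : Function.Surjective f := fun y => by
    obtain ⟨w, hw, hwc, e⟩ := fix_lift h.hA px.mem.inv px.mem.not_dvd y.2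
    exact ⟨⟨w, (psF_eq h hcub px hg).le (Subgroup.mem_inf.mpr ⟨hw, hwc⟩)⟩, Subtype.ext e⟩
  intro s hsS
  set Q := (S.subgroupOf F).map f
  have hmem : (⟨s, hSF hsS⟩ : F) ∈ S.subgroupOf F := hsS
  refine (mem_pre (px.le g hg (hSF hsS))).mpr ?_
  by_cases hQ1 : Q = ⊥
  · have h1 : f ⟨s, hSF hsS⟩ ∈ Q := ⟨_, hmem, rfl⟩
    rw [hQ1, Subgroup.mem_bot] at h1
    rw [show toBar X (px.le g hg (hSF hsS)) = 1 from congrArg Subtype.val h1]
    exact one_mem _
  · haveI : Nontrivial Q := (Subgroup.nontrivial_iff_ne_bot Q).mpr hQ1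
    have hQc : IsComponent Q := ⟨hsub.map hf,
      Comp.isQuasisimple_of_surj_nontrivial (f.subgroupMap (S.subgroupOf F)) (MonoidHom.subgroupMap_surjective _ _)
        (CfsgLib.isQuasisimple_of_equiv (Subgroup.subgroupOfEquivOfLe hSF).symm hq)⟩
    exact fixed_comp_le_layer (bar_rad X) (bar_not_dvd px.mem.not_dvd) (actBar_cube h.hA px.mem.inv (el hg)) hQc
      ⟨_, ⟨_, hmem, rfl⟩, rfl⟩

theorem tor_le_torusProd : torOnly (tv h X) (bar_rad X) ≤ torusProd (tv h X) (bar_rad X) := fun _ hx =>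
  ⟨hx.1, fun K hK => Subgroup.mem_inf.mpr ⟨(hx.2 K hK).1, Subgroup.le_normalizer (hx.2 K hK)⟩⟩

theorem tX_le_yCl : tX h X ≤ yCl h := fun x hx =>
  mem_yCl_of_bar h (px_mem h hcub px) (qfive_le_px h hcub px) (pre_le X _ hx.2)
    (tor_le_torusProd h hcub px ((mem_pre (pre_le X _ hx.2)).mp hx.2))

/-- A fixed element of the torus generators has torus coordinates. -/
theorem tv_any {f : Bar X} (hf : f ∈ img X (qfive h)) (hfl : f ∈ layer (Bar X)) {K : Subgroup (Bar X)}
    (hK : IsComponent K) : prj K f ∈ tor K (tv h X K) := by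
  have hR := bar_rad X
  have h3 := bar_not_dvd px.mem.not_dvd
  have hX := px_mem h hcub px
  have hQ := qfive_le_px h hcub px
  have h1 : f ∈ torusProd (tv h X) hR := join_inf_layer hR h3 (tv h X) (fun K hK => tv_spec h hX hQ hK)
    (Subgroup.mem_inf.mpr ⟨q_le_joinS (img_qfive_solvable h X) hf, hfl⟩)
  obtain ⟨q, hq, hqQ, rfl⟩ := mem_img_iff.mp hf
  obtain ⟨e, he⟩ := qfive_p h ⟨q, hqQ⟩
  obtain ⟨-, -, -, -, ho⟩ := tv_spec h hX hQ hK
  refine five_pow_tor hR h3 hK (tv_mem h hX hQ hK) ho (h1.2 K hK) (k := e) ?_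
  rw [← prj_pow hR h3 hK hfl]
  have h2 : toBar X hq ^ 5 ^ e = 1 := by
    have h3 : (⟨q, hq⟩ : X) ^ 5 ^ e = 1 := Subtype.ext (by simpa using congrArg Subtype.val he)
    show (QuotientGroup.mk' (solvableRadical ↥X) (⟨q, hq⟩ : X)) ^ 5 ^ e = 1
    rw [← map_pow, h3, map_one]
  rw [h2, prj_one hR hK]

theorem tX_inv : A ≤ normalizer (tX h X : Set G) := by
  refine inf_normalizes (eX_inv h hcub px) fun a ha => mem_normalizer_pre' (actBar X px.mem.inv ⟨a, ha⟩)
    (fun k hk => ⟨_, actBar_toBar px.mem.inv ⟨a, ha⟩ hk⟩) ?_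
  have hR := bar_rad X
  have h3 := bar_not_dvd px.mem.not_dvd
  set α := actBar X px.mem.inv ⟨a, ha⟩ with hαdef
  rintro _ ⟨w, ⟨hwl, hwc⟩, rfl⟩
  refine ⟨mp_layer α hwl, fun L hL => ?_⟩
  show prj L (α w) ∈ _
  obtain ⟨K, hK, rfl⟩ : ∃ K, IsComponent K ∧ mp α K = L := ⟨mp α⁻¹ L, mp_comp hL, mp_inv_cancel α L⟩
  rw [prj_map hR α hK hwl]
  have h1 : α (prj K w) ∈ tor (mp α K) (α (tv h X K)) := (map_tor α K _).le (mem_mp (hwc K hK))
  obtain ⟨f, hf, hfl, hfe, ho⟩ := tv_spec h (px_mem h hcub px) (qfive_le_px h hcub px) hK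
  have hfA : α f = f := by
    obtain ⟨q, hq, hqQ, rfl⟩ := mem_img_iff.mp hf
    exact toBar_fix px.mem.inv (a := ⟨a, ha⟩) hq (cent_A_le h ha (qfive_le_cent h hqQ))
  have h2 : α (tv h X K) ∈ tor (mp α K) (tv h X (mp α K)) := by
    rw [← hfe, ← prj_map hR α hK hfl, hfA]
    exact tv_any h hcub px hf hfl hL
  have ho' : α (tv h X K) ≠ 1 := fun e => by
    rw [← map_one α] at e
    rw [α.injective e, orderOf_one] at ho
    norm_num at ho
  obtain ⟨-, -, -, -, ho2⟩ := tv_spec h (px_mem h hcub px) (qfive_le_px h hcub px) hL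
  rwa [tor_eq (component_suzuki hR h3 hL) (tv_mem h (px_mem h hcub px) (qfive_le_px h hcub px) hL) ho2 h2 ho'] at h1

theorem tX_norm : yCl h ≤ normalizer (tX h X : Set G) := by
  have hYX := yCl_le_px h hcub px
  refine inf_normalizes (hYX.trans (eX_normal h hcub px)) fun y hy =>
    mem_normalizer_pre' (MulAut.conj (toBar X (hYX hy))) (conj_toBar _) ?_
  rintro _ ⟨w, ⟨hwl, hwc⟩, rfl⟩
  set α := MulAut.conj (toBar X (hYX hy)) with hαdef
  refine ⟨mp_layer α hwl, fun L hL => ?_⟩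
  show prj L (α w) ∈ _
  obtain ⟨K, hK, rfl⟩ : ∃ K, IsComponent K ∧ mp α K = L := ⟨mp α⁻¹ L, mp_comp hL, mp_inv_cancel α L⟩
  rw [prj_map (bar_rad X) α hK hwl]
  exact (map_tor_of_join h (px_mem h hcub px) (qfive_le_px h hcub px) (hYX hy)
    (le_joinIn hYX (yCl_solvable h) (qfive_le_yCl h) hy) hK).le (mem_mp (hwc K hK))

theorem torOnly_le_iSup : torOnly (tv h X) (bar_rad X) ≤
    ⨆ K : {K : Subgroup (Bar X) // IsComponent K}, tor (K : Subgroup (Bar X)) (tv h X K) := by
  classical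
  have hR := bar_rad X
  suffices key : ∀ (n : ℕ) (w : Bar X), w ∈ torOnly (tv h X) hR →
      Nat.card {L : Subgroup (Bar X) // IsComponent L ∧ prj L w ≠ 1} = n →
      w ∈ ⨆ K : {K : Subgroup (Bar X) // IsComponent K}, tor (K : Subgroup (Bar X)) (tv h X K) from
    fun w hw => key _ w hw rfl
  intro n
  induction n using Nat.strong_induction_on with
  | _ n ih =>
  intro w hw hn
  subst hn
  by_cases hall : ∀ L, IsComponent L → prj L w = 1
  · rw [layer_ext hR hw.1 (one_mem _) fun L hL => (hall L hL).trans (prj_one hR hL).symm]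
    exact one_mem _
  push Not at hall
  obtain ⟨K, hK, hne⟩ := hall
  set k := prj K w with hk
  have hkl : k ∈ layer (Bar X) := CfsgLib.le_layer hK (prj_mem K w)
  have hw' : k⁻¹ * w ∈ torOnly (tv h X) hR := ⟨mul_mem (inv_mem hkl) hw.1, fun L hL => by
    rw [prj_mul hR hL (inv_mem hkl) hw.1, prj_inv hR hL hkl]
    refine mul_mem (inv_mem ?_) (hw.2 L hL)
    rcases eq_or_ne L K with rfl | hLK
    · rw [prj_self hR hL (prj_mem L w)]
      exact hw.2 L hL
    · rw [prj_other hR hL hK hLK (prj_mem K w)]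
      exact one_mem _⟩
  have hval : ∀ L, IsComponent L → prj L (k⁻¹ * w) = if L = K then 1 else prj L w := fun L hL => by
    rw [prj_mul hR hL (inv_mem hkl) hw.1, prj_inv hR hL hkl]
    split
    · next e => subst e; rw [prj_self hR hL (prj_mem L w), inv_mul_cancel]
    · next e => rw [prj_other hR hL hK e (prj_mem K w), inv_one, one_mul]
  rw [show w = k * (k⁻¹ * w) by group]
  refine mul_mem ((le_iSup (fun K : {K : Subgroup (Bar X) // IsComponent K} =>
    tor (K : Subgroup (Bar X)) (tv h X K)) ⟨K, hK⟩) (hw.2 K hK)) (ih _ ?_ _ hw' rfl)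
  haveI := Fintype.ofFinite {L : Subgroup (Bar X) // IsComponent L ∧ prj L (k⁻¹ * w) ≠ 1}
  haveI := Fintype.ofFinite {L : Subgroup (Bar X) // IsComponent L ∧ prj L w ≠ 1}
  rw [Nat.card_eq_fintype_card, Nat.card_eq_fintype_card]
  refine Fintype.card_lt_of_injective_of_notMem
    (fun L : {L : Subgroup (Bar X) // IsComponent L ∧ prj L (k⁻¹ * w) ≠ 1} =>
      (⟨L.1, L.2.1, fun e => L.2.2 (by rw [hval L.1 L.2.1]; split; exacts [rfl, e])⟩ :
        {L : Subgroup (Bar X) // IsComponent L ∧ prj L w ≠ 1})) ?_ (b := ⟨K, hK, hne⟩) ?_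
  · intro L M e
    exact Subtype.ext (Subtype.mk.inj e)
  · rintro ⟨L, e⟩
    apply L.2.2
    rw [hval L.1 L.2.1, if_pos (Subtype.mk.inj e)]

end Data

end CfsgLib.SF23
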