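import Cfsg.Agent.Lib.SF23.PropMark

/-!
The subfunctor of linked products and soluble parts is the whole functor.
-/

set_option autoImplicit false
set_option linter.unusedSectionVars false
set_option linter.style.haveILetI false

namespace CfsgLib.SF23

open Cfsg Subgroup CfsgLib.Signalizer CfsgLib.SolvSF
open CfsgLib.DihedralLemma (fit fit_le isNilpotent_fit le_normalizer_fit)
open scoped commutatorElement

universe u
variable {G : Type u} [Group G] [Finite G] {A : Subgroup G} {θ : G → Subgroup G}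

theorem mem_cent_of_pair {b c x : G} (hb : x ∈ centralizer ({b} : Set G)) (hc : x ∈ centralizer ({c} : Set G)) :
    x ∈ centralizer ((zpowers b ⊔ zpowers c : Subgroup G) : Set G) := by
  have hle : zpowers b ⊔ zpowers c ≤ centralizer ({x} : Set G) := sup_le
    (Subgroup.zpowers_le.mpr (Subgroup.mem_centralizer_singleton_iff.mpr
      (Subgroup.mem_centralizer_singleton_iff.mp hb).symm))
    (Subgroup.zpowers_le.mpr (Subgroup.mem_centralizer_singleton_iff.mpr
      (Subgroup.mem_centralizer_singleton_iff.mp hc).symm))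
  exact Subgroup.mem_centralizer_iff.mpr fun w hw => Subgroup.mem_centralizer_singleton_iff.mp (hle hw)

theorem conj_of_commute {x a : G} (h : a * x = x * a) : a * x * a⁻¹ = x := by rw [h, mul_inv_cancel_right]

section Data

variable (h : Ctx 3 A θ) (hcub : CubicTrivial.{u})
include h hcub

section Member

variable {X : Subgroup G} (px : PropX h X)
include px

set_option maxHeartbeats 800000 in
/-- The Fitting subgroup of the radical of a value centralises the commutators of fixed torus elements. -/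
theorem fit_cent {a : G} (ha : Pt A a) {v s : G} (hv : v ∈ tX h X) (hva : v ∈ centralizer ({a} : Set G))
    (hs : s ∈ eX X) (hsa : s ∈ centralizer ({a} : Set G)) (hc : ⁅v, s⁆ ∈ tX h X) {n : G}
    (hn : n ∈ fit (rv θ a)) : n * ⁅v, s⁆ = ⁅v, s⁆ * n := by
  have hR := bar_rad X
  have h3 := bar_not_dvd px.mem.not_dvd
  set β := actBar X px.mem.inv (el ha) with hβdef
  set Φ := fit (rv θ a) with hΦ
  have hΦR : Φ ≤ rv θ a := fit_le _
  have hΦX : Φ ≤ X := (hΦR.trans (rv_le_yCl h ha)).trans (yCl_le_px h hcub px)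
  have hΦa : Φ ≤ centralizer ({a} : Set G) := hΦR.trans ((radS_le _).trans (theta_le_cent h.hθ ha))
  have hFn : θ a ≤ normalizer (Φ : Set G) := le_normalizer_fit (self_normalizes_radS (θ a))
  set J := img X Φ with hJdef
  have hJf : J ≤ fix1 β := fun w hw => by
    obtain ⟨q, hq, hqΦ, rfl⟩ := mem_img_iff.mp hw
    exact toBar_fix px.mem.inv (a := el ha) hq (hΦa hqΦ)
  have hJn : fix1 β ≤ normalizer (J : Set (Bar X)) := fun w hw => by
    obtain ⟨x, hx, hxc, rfl⟩ := fix_lift h.hA px.mem.inv px.mem.not_dvd hw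
    have hxθ : x ∈ θ a := psF_le h hcub (px.mem.fix a ha (Subgroup.mem_inf.mpr ⟨hx, hxc⟩))
    refine Comp.mem_normalizer_of_maps fun u hu => ?_
    obtain ⟨q, hq, hqΦ, rfl⟩ := mem_img_iff.mp hu
    rw [← MulAut.conj_apply, ← toBar_conj hx hq]
    exact mem_img _ ((Subgroup.mem_normalizer_iff.mp (hFn hxθ) q).mp hqΦ)
  have hJ : Group.IsNilpotent J := by
    haveI : Group.IsNilpotent Φ := isNilpotent_fit _
    haveI : Group.IsNilpotent (Φ.subgroupOf X) := Group.nilpotent_of_surjective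
      (Subgroup.subgroupOfEquivOfLe hΦX).symm.toMonoidHom (MulEquiv.surjective _)
    exact Group.nilpotent_of_surjective ((QuotientGroup.mk' (solvableRadical ↥X)).subgroupMap (Φ.subgroupOf X))
      (MonoidHom.subgroupMap_surjective _ _)
  have hX := px_mem h hcub px
  have hQ := qfive_le_px h hcub px
  obtain ⟨hlay, hcen⟩ := nil_fixed_tor hR h3 (actBar_cube h.hA px.mem.inv (el ha)) hJf hJn hJ (tv h X)
    (fun K hK => ⟨tv_mem h hX hQ hK, (tv_spec h hX hQ hK).choose_spec.2.2.2⟩) fun K hK hfx => by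
      obtain ⟨f, hf, hfl, hfe, -⟩ := tv_spec h hX hQ hK
      obtain ⟨q, hq, hqQ, rfl⟩ := mem_img_iff.mp hf
      have h1 := prj_map hR β hK hfl
      have h2 : β (toBar X hq) = toBar X hq :=
        toBar_fix px.mem.inv (a := el ha) hq (cent_A_le h ha.1 (qfive_le_cent h hqQ))
      rw [hfx, h2, hfe] at h1
      exact h1.symm
  have hnX := hΦX hn
  have hvX : v ∈ X := pc_pre_le _ hv.1
  have hsX : s ∈ X := pc_pre_le _ hs
  have hnE : ∀ w ∈ eX X, n * w * n⁻¹ ∈ eX X := fun w hw =>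
    (Subgroup.mem_normalizer_iff.mp (eX_normal h hcub px hnX) w).mp hw
  obtain ⟨ζ, hζdef⟩ : ∃ ζ, ζ = v⁻¹ * (n * v * n⁻¹) := ⟨_, rfl⟩
  obtain ⟨u, hudef⟩ : ∃ u, u = n * s * n⁻¹ * s⁻¹ := ⟨_, rfl⟩
  have hnv : n * v * n⁻¹ ∈ X := mul_mem (mul_mem hnX hvX) (inv_mem hnX)
  have hζR : ζ ∈ radS X := by
    rw [hζdef, ← toBar_eq_one_iff (mul_mem (inv_mem hvX) hnv), toBar_mul (inv_mem hvX) hnv, toBar_inv hvX,
      inv_mul_eq_one, toBar_conj hnX hvX, MulAut.conj_apply]
    exact (hcen _ (mem_img hnX hn) _ ((mem_pre hvX).mp hv.2) (toBar_fix px.mem.inv (a := el ha) hvX hva)).symm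
  have hζc : ∀ w ∈ eX X, Commute ζ w := fun w hw =>
    Subgroup.mem_centralizer_iff.mp (eX_cent h hcub px hw) ζ hζR
  have huE : u ∈ eX X := hudef ▸ mul_mem (hnE s hs) (inv_mem hs)
  have hsn : s * n⁻¹ * s⁻¹ ∈ Φ := (Subgroup.mem_normalizer_iff.mp
    (hFn (psF_le h hcub (px.mem.fix a ha (Subgroup.mem_inf.mpr ⟨hsX, hsa⟩)))) _).mp (inv_mem hn)
  have huΦ : u ∈ Φ := by rw [hudef, show n * s * n⁻¹ * s⁻¹ = n * (s * n⁻¹ * s⁻¹) by group]; exact mul_mem hn hsn
  have hut : u ∈ tX h X := Subgroup.mem_inf.mpr ⟨huE, (mem_pre (hΦX huΦ)).mpr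
    (hlay _ (mem_img (hΦX huΦ) huΦ) (toBar_pc_pre (hΦX huΦ) huE))⟩
  have e1 : n * ⁅v, s⁆ * n⁻¹ = (v * ζ) * (u * s) * (v * ζ)⁻¹ * (u * s)⁻¹ := by
    rw [hζdef, hudef, commutatorElement_def]; group
  have hvu : v * u = u * v := tX_abelian h hcub px v hv u hut
  have hcu : u * ⁅v, s⁆ = ⁅v, s⁆ * u := tX_abelian h hcub px u hut _ hc
  refine mul_inv_eq_iff_eq_mul.mp ?_
  rw [e1]
  calc (v * ζ) * (u * s) * (v * ζ)⁻¹ * (u * s)⁻¹ = v * (ζ * (u * s)) * ζ⁻¹ * v⁻¹ * s⁻¹ * u⁻¹ := by group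
    _ = v * ((u * s) * ζ) * ζ⁻¹ * v⁻¹ * s⁻¹ * u⁻¹ := by rw [(hζc _ (mul_mem huE hs)).eq]
    _ = (v * u) * s * v⁻¹ * s⁻¹ * u⁻¹ := by group
    _ = (u * v) * s * v⁻¹ * s⁻¹ * u⁻¹ := by rw [hvu]
    _ = u * ⁅v, s⁆ * u⁻¹ := by rw [commutatorElement_def]; group
    _ = ⁅v, s⁆ := conj_of_commute hcu

/-- A five-element fixed by a plane which is in the layer at every point of it and centralises the zero subgroup
is trivial on unlinked components. -/
theorem linked_of_layer {b c : G} (hb : Pt A b) (hc : Pt A c) (hne : b ∉ zpowers c) {z : G} (hz : z ∈ uF h b)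
    (hzc : z ∈ centralizer ({c} : Set G)) (hzF : z ∈ centralizer (fZero h : Set G)) {e₀ : ℕ} (he₀ : z ^ 5 ^ e₀ = 1)
    (hlay : ∀ a ∈ zpowers b ⊔ zpowers c, a ≠ 1 → ∀ hza : z ∈ θ a, toBar (θ a) hza ∈ layer (Bar (θ a)))
    {L : Subgroup (Bar (θ b))} (hL : IsComponent L) (hnz : prj L (toBar (θ b) (uF_le h b hz)) ≠ 1) :
    Linked h b L := by
  have hR := bar_rad X
  have h3 := bar_not_dvd px.mem.not_dvd
  have hX := px_mem h hcub px
  set P := zpowers b ⊔ zpowers c with hPdef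
  have hPA : P ≤ A := sup_le (Subgroup.zpowers_le.mpr hb.1) (Subgroup.zpowers_le.mpr hc.1)
  have hP3 : 3 < Nat.card P := plane_card h hb hc hne
  have hzY : z ∈ yCl h := uF_le_yCl h hb hz
  have hzX : z ∈ X := yCl_le_px h hcub px hzY
  have hzP : z ∈ centralizer (P : Set G) :=
    mem_cent_of_pair (theta_le_cent h.hθ hb (uF_le h b hz)) hzc
  have hza : ∀ a ∈ P, z ∈ centralizer ({a} : Set G) := fun a ha =>
    Subgroup.centralizer_le (Set.singleton_subset_iff.mpr ha) hzP
  -- the action on every component is inner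
  have hinner : ∀ K, IsComponent K → ∃ k ∈ K, ∀ l ∈ K, toBar X hzX * l * (toBar X hzX)⁻¹ = k * l * k⁻¹ := by
    intro K hK
    obtain ⟨a, haP, ha1, hv⟩ : ∃ a : A, (a : G) ∈ P ∧ a ≠ 1 ∧ Vis (actBar X px.mem.inv a) K := by
      by_contra hall
      push Not at hall
      have h1 : K ≤ ⊥ := gen_pieces hR h3 (actBar X px.mem.inv) (act_cube h.hA) (act_comm h.hA) hK
        (P := P.subgroupOf A) (by rwa [Nat.card_congr (Subgroup.subgroupOfEquivOfLe hPA).toEquiv])
        fun a ha ha1 hv => absurd hv (hall a (Subgroup.mem_subgroupOf.mp ha) ha1)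
      exact CfsgLib.isQuasisimple_not_isSolvable hK.2
        (solvable_of_le h1 (Group.isSolvable_of_isSolvable_injective (f := (1 : (⊥ : Subgroup (Bar X)) →* Unit))
          fun p q _ => Subsingleton.elim p q))
    have hap : Pt A (a : G) := ⟨a.2, fun e => ha1 (Subtype.ext e)⟩
    have hzθ : z ∈ θ (a : G) := (yCl_mem h).fix _ hap (Subgroup.mem_inf.mpr ⟨hzY, hza _ haP⟩)
    have hR' := bar_rad (θ (a : G))
    have h3' := bar_not_dvd (theta_not_dvd h.hθ hap)
    have hzl := hlay _ haP hap.2 hzθ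
    classical
    obtain ⟨l₀, hl₀, hl₀p⟩ := exists_prj hR'
      (fun M => if Linked h (a : G) M then prj M (toBar (θ (a : G)) hzθ) else 1)
      fun M _ => by split; exacts [prj_mem M _, one_mem _]
    have hl₀c : l₀ ∈ compSup (Linked h (a : G)) :=
      (mem_compSup_iff hR' h3' fun M hM => hM.1).mpr ⟨hl₀, fun M hM hn => by rw [hl₀p M hM, if_neg hn]⟩
    obtain ⟨w, hw, hwM, ew⟩ := mem_img_iff.mp
      ((img_pc_pre (compSup_perfect fun M (hM : Linked h (a : G) M) => hM.1)).ge hl₀c)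
    have hwX : w ∈ X := mX_le_px h hcub px hap hwM
    have hcen : ∀ m ∈ mX h (a : G), (w⁻¹ * z) * m = m * (w⁻¹ * z) := by
      have hqθ : w⁻¹ * z ∈ θ (a : G) := mul_mem (inv_mem hw) hzθ
      refine perfect_cent_of_mod (N := rv θ (a : G)) (mX_perfect h _) (mX_cent_rad h hcub hap)
        (self_normalizes_radS _ hqθ) fun m hm => ?_
      have hmθ := mX_le h _ hm
      have hmc : toBar (θ (a : G)) hmθ ∈ compSup (Linked h (a : G)) := toBar_pc_pre hmθ hm
      obtain ⟨hml, hmp⟩ := (mem_compSup_iff hR' h3' fun M hM => hM.1).mp hmc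
      have hq' : toBar (θ (a : G)) hqθ = l₀⁻¹ * toBar (θ (a : G)) hzθ := by
        rw [toBar_mul (inv_mem hw) hzθ, toBar_inv hw, ew]
      have hql : toBar (θ (a : G)) hqθ ∈ layer (Bar (θ (a : G))) := by rw [hq']; exact mul_mem (inv_mem hl₀) hzl
      have hcomm : toBar (θ (a : G)) hqθ * toBar (θ (a : G)) hmθ = toBar (θ (a : G)) hmθ * toBar (θ (a : G)) hqθ := by
        refine layer_ext hR' (mul_mem hql hml) (mul_mem hml hql) fun M hM => ?_
        rw [prj_mul hR' hM hql hml, prj_mul hR' hM hml hql]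
        by_cases hl : Linked h (a : G) M
        · rw [hq', prj_mul hR' hM (inv_mem hl₀) hzl, prj_inv hR' hM hl₀, hl₀p M hM, if_pos hl, inv_mul_cancel,
            one_mul, mul_one]
        · rw [hmp M hM hl, one_mul, mul_one]
      have hcX : (w⁻¹ * z) * m * (w⁻¹ * z)⁻¹ ∈ θ (a : G) := mul_mem (mul_mem hqθ hmθ) (inv_mem hqθ)
      rw [rv, ← toBar_eq_one_iff (mul_mem (inv_mem hmθ) hcX), toBar_mul (inv_mem hmθ) hcX, toBar_inv hmθ,
        toBar_conj hqθ hmθ, MulAut.conj_apply, hcomm]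
      group
    have hqX : w⁻¹ * z ∈ X := mul_mem (inv_mem hwX) hzX
    set β := actBar X px.mem.inv a with hβdef
    have hqf : β (toBar X hqX) = toBar X hqX := toBar_fix px.mem.inv (a := a) hqX
      (mul_mem (inv_mem (theta_le_cent h.hθ hap hw)) (hza _ haP))
    have hall : ∀ k ∈ K, toBar X hqX * k = k * toBar X hqX := by
      refine cent_comp hR h3 (actBar_cube h.hA px.mem.inv a) hK hqf fun v hvl hvf hsupp => ?_
      obtain ⟨m, hm, hmM, rfl⟩ := mem_img_iff.mp (piece_le_img h hcub px a hap hK hv ⟨hvl, hvf, hsupp⟩)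
      rw [← toBar_mul hqX hm, ← toBar_mul hm hqX]
      exact congrArg (QuotientGroup.mk' (solvableRadical ↥X)) (Subtype.ext (hcen m hmM))
    have hwl : toBar X hwX ∈ layer (Bar X) := toBar_pc_pre hwX (mX_le_eX h hcub px hap hwM)
    refine ⟨prj K (toBar X hwX), prj_mem K _, fun l hl => ?_⟩
    have e1 : toBar X hzX = toBar X hwX * toBar X hqX := by
      rw [toBar_mul (inv_mem hwX) hzX, toBar_inv hwX, mul_inv_cancel_left]
    rw [e1, mul_inv_rev, ← layer_mul_comm_prj hR hK hwl hl]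
    calc toBar X hwX * toBar X hqX * l * ((toBar X hqX)⁻¹ * (toBar X hwX)⁻¹)
        = toBar X hwX * (toBar X hqX * l * (toBar X hqX)⁻¹) * (toBar X hwX)⁻¹ := by group
      _ = _ := by rw [conj_of_commute (hall l hl)]
  have hzl : toBar X hzX ∈ layer (Bar X) := by
    classical
    obtain ⟨v, hvl, hvp⟩ := exists_prj hR (fun K => if hK : IsComponent K then (hinner K hK).choose else 1)
      fun K hK => by rw [dif_pos hK]; exact (hinner K hK).choose_spec.1
    have h1 : v⁻¹ * toBar X hzX = 1 := eq_one_of_centralizes hR fun K hK l hl => by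
      have e1 := (hinner K hK).choose_spec.2 l hl
      have e2 := layer_mul_comm_prj hR hK hvl hl
      rw [hvp K hK, dif_pos hK, ← e1] at e2
      calc l * (v⁻¹ * toBar X hzX) = v⁻¹ * (v * l * v⁻¹) * toBar X hzX := by group
        _ = v⁻¹ * (toBar X hzX * l * (toBar X hzX)⁻¹) * toBar X hzX := by rw [e2]
        _ = v⁻¹ * toBar X hzX * l := by group
    rw [← inv_mul_eq_one.mp h1]
    exact hvl
  -- split off the radical
  obtain ⟨s, hs, hsE, es⟩ := mem_img_iff.mp ((img_pc_pre layer_perfect).ge hzl)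
  obtain ⟨e, heX, heE, heP, ee⟩ := lift_fixed h.hA hPA px.mem.inv px.mem.not_dvd (pc_pre_le _ : eX X ≤ X)
    (hPA.trans (eX_inv h hcub px)) hsE (fun a ha => by
      rw [show toBar X ((pc_pre_le _ : eX X ≤ X) hsE) = toBar X hzX from es]
      exact toBar_fix px.mem.inv (a := a) hzX (hza _ ha))
  have ee' : toBar X heX = toBar X hzX := ee.trans es
  set r := e⁻¹ * z with hr
  have hrR : r ∈ radS X := by
    rw [hr, ← toBar_eq_one_iff (mul_mem (inv_mem heX) hzX), toBar_mul (inv_mem heX) hzX, toBar_inv heX, ee',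
      inv_mul_cancel]
  have heF : e ∈ centralizer (fZero h : Set G) :=
    Subgroup.centralizer_le (fun _ hw => fZero_le_rad h hcub px hw) (eX_cent h hcub px heE)
  have hrF : r ∈ fZero h :=
    rad_cent_fZero h hcub px (Subgroup.mem_inf.mpr ⟨hrR, mul_mem (inv_mem heF) hzF⟩)
  have hbP : b ∈ P := Subgroup.mem_sup_left (mem_zpowers b)
  have heb : e ∈ centralizer ({b} : Set G) := Subgroup.centralizer_le (Set.singleton_subset_iff.mpr hbP) heP
  have hrb : r ∈ rv θ b := (fZero_spec h).2.2.2.2 b hb (Subgroup.mem_inf.mpr ⟨hrF, mul_mem (inv_mem heb) (hza b hbP)⟩)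
  have heY : e ∈ yCl h := by
    rw [show e = z * r⁻¹ by rw [hr]; group]
    exact mul_mem hzY (inv_mem ((fZero_spec h).1 hrF))
  obtain ⟨j, hj, i, hi⟩ := five_part (isOfFinOrder_of_finite e) e₀
  have hk5 : e ^ j ∈ k5 h X := five_mem_k5 h hcub px (pow_mem heE j) (pow_mem heY j) hi
  have hcomm : Commute e r := by
    have := Subgroup.mem_centralizer_iff.mp (eX_cent h hcub px heE) r hrR
    exact this.symm
  have hzj : z = e ^ j * r ^ j := by
    rw [← hcomm.mul_pow, show e * r = z by rw [hr, mul_inv_cancel_left], pow_mod_self he₀ hj]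
  have hzθ := uF_le h b hz
  have hkθ : e ^ j ∈ θ b :=
    (yCl_mem h).fix b hb (Subgroup.mem_inf.mpr ⟨pow_mem heY j, pow_mem heb j⟩)
  have hrθ : r ^ j ∈ θ b := radS_le _ (pow_mem hrb j)
  have hbar : toBar (θ b) hkθ = toBar (θ b) hzθ := by
    have h1 : toBar (θ b) hzθ = toBar (θ b) (mul_mem hkθ hrθ) :=
      congrArg (QuotientGroup.mk' (solvableRadical ↥(θ b))) (Subtype.ext hzj)
    rw [h1, toBar_mul hkθ hrθ, (toBar_eq_one_iff hrθ).mpr (pow_mem hrb j), mul_one]
  refine marked_linked h hcub hb ⟨hL, 5, k5 h X, k5_markGrp h hcub px, _, hkθ, hk5, ?_⟩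
  by_contra hall
  push Not at hall
  rw [hbar] at hall
  refine hnz (comp_center (bar_rad _) hL (prj_mem L _) fun l hl => ?_)
  have hbl : toBar (θ b) hzθ ∈ layer (Bar (θ b)) := hlay b hbP hb.2 hzθ
  have h1 := layer_mul_comm_prj (bar_rad _) hL hbl hl
  have h2 := hall l hl
  rw [MulAut.conj_apply] at h2
  rw [h2] at h1
  exact (mul_inv_eq_iff_eq_mul.mp h1.symm).symm

set_option maxHeartbeats 1600000 in
/-- Fixed elements of a plane map unlinked components to unlinked components. -/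
theorem linked_conj {b c : G} (hb : Pt A b) (hc : Pt A c) (hne : b ∉ zpowers c) {y : G} (hy : y ∈ θ b)
    (hyc : y ∈ centralizer ({c} : Set G)) {L' : Subgroup (Bar (θ b))} (hL' : IsComponent L')
    (hlink : Linked h b (mp (MulAut.conj (toBar (θ b) hy)) L')) : Linked h b L' := by
  have hR := bar_rad (θ b)
  have h3 := bar_not_dvd (theta_not_dvd h.hθ hb)
  have hX := theta_isMem h.hθ hb
  have hQ := qfive_le_theta h hb
  set P := zpowers b ⊔ zpowers c with hPdef
  have hPA : P ≤ A := sup_le (Subgroup.zpowers_le.mpr hb.1) (Subgroup.zpowers_le.mpr hc.1)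
  have hP3 : 3 < Nat.card P := plane_card h hb hc hne
  have hbP : b ∈ P := Subgroup.mem_sup_left (mem_zpowers b)
  have hcP : c ∈ P := Subgroup.mem_sup_right (mem_zpowers c)
  have hin : ∀ {x : G}, x ∈ θ b → x ∈ centralizer ({c} : Set G) → ∀ a ∈ P, x ∈ centralizer ({a} : Set G) :=
    fun hx hxc a ha => Subgroup.centralizer_le (Set.singleton_subset_iff.mpr ha)
      (mem_cent_of_pair (theta_le_cent h.hθ hb hx) hxc)
  have hyθ : ∀ a ∈ P, a ≠ 1 → y ∈ θ a := fun a ha ha1 =>
    balance h.hθ hb ⟨hPA ha, ha1⟩ (Subgroup.mem_inf.mpr ⟨hy, hin hy hyc a ha⟩)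
  set γ := ac h hb (el hc) with hγdef
  have hγ := ac_cube h hb (el hc)
  set κ := MulAut.conj (toBar (θ b) hy) with hκdef
  set L := mp κ L' with hLdef
  have hLc : IsComponent L := hlink.1
  have hyf : γ (toBar (θ b) hy) = toBar (θ b) hy := toBar_fix (theta_inv h.hθ hb) (a := el hc) hy hyc
  have hκγ : ∀ w, γ (κ w) = κ (γ w) := fun w => by
    rw [hκdef, MulAut.conj_apply, MulAut.conj_apply, map_mul, map_mul, map_inv, hyf]
  have hmpκ : ∀ K, mp γ (mp κ K) = mp κ (mp γ K) := fun K => by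
    rw [← mp_mul, ← mp_mul]
    congr 1
    exact MulEquiv.ext hκγ
  suffices hm : ∃ (m : G) (hm : m ∈ θ b) (e₀ : ℕ), m ∈ centralizer ({c} : Set G) ∧ m ^ 5 ^ e₀ = 1 ∧
      (∀ a ∈ P, a ≠ 1 → ∀ hma : m ∈ θ a, toBar (θ a) hma ∈ layer (Bar (θ a))) ∧
      (∀ a ∈ P, a ≠ 1 → ∀ f ∈ fZero h, f ∈ centralizer ({a} : Set G) →
        m * (y * f * y⁻¹) = (y * f * y⁻¹) * m) ∧
      κ⁻¹ (toBar (θ b) hm) ∈ torusProd (tv h (θ b)) hR ∧ prj L' (κ⁻¹ (toBar (θ b) hm)) ≠ 1 by
    obtain ⟨m, hm, e₀, hmc, he₀, hA', hB', ht, htne⟩ := hm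
    have hzb : y⁻¹ * m * y ∈ θ b := mul_mem (mul_mem (inv_mem hy) hm) hy
    have hzbar : toBar (θ b) hzb = κ⁻¹ (toBar (θ b) hm) := by
      rw [toBar_mul (mul_mem (inv_mem hy) hm) hy, toBar_mul (inv_mem hy) hm, toBar_inv hy, hκdef,
        MulAut.inv_def, MulAut.conj_symm_apply]
    have hzu : y⁻¹ * m * y ∈ uF h b := mem_join_of_bar h hX hQ hzb (hzbar ▸ ht)
    refine linked_of_layer h hcub px hb hc hne hzu (mul_mem (mul_mem (inv_mem hyc) hmc) hyc) ?_ (e₀ := e₀) ?_ ?_
      hL' ?_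
    · refine Subgroup.mem_centralizer_iff.mpr fun f hf => ?_
      have hle : fZero h ≤ centralizer ({y⁻¹ * m * y} : Set G) :=
        le_of_fix h.hA hPA hP3 (fZero_mem h).not_dvd (fZero_spec h).2.2.1 fun a ha ha1 v hv => by
          have e1 := hB' a ha ha1 v hv.1 hv.2
          refine Subgroup.mem_centralizer_singleton_iff.mpr ?_
          calc v * (y⁻¹ * m * y) = y⁻¹ * ((y * v * y⁻¹) * m) * y := by group
            _ = y⁻¹ * (m * (y * v * y⁻¹)) * y := by rw [e1]
            _ = y⁻¹ * m * y * v := by group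
      exact Subgroup.mem_centralizer_singleton_iff.mp (hle hf)
    · rw [show y⁻¹ * m * y = y⁻¹ * m * (y⁻¹)⁻¹ by rw [inv_inv], conj_pow, he₀]
      group
    · intro a ha ha1 hza
      have hya := hyθ a ha ha1
      have hma : m ∈ θ a := by
        have := mul_mem (mul_mem hya hza) (inv_mem hya)
        rwa [show y * (y⁻¹ * m * y) * y⁻¹ = m by group] at this
      have e1 : toBar (θ a) hza = MulAut.conj (toBar (θ a) (inv_mem hya)) (toBar (θ a) hma) := by
        rw [← toBar_conj (inv_mem hya) hma]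
        exact congrArg (QuotientGroup.mk' (solvableRadical ↥(θ a))) (Subtype.ext (by group))
      rw [e1]
      exact mp_layer _ (hA' a ha ha1 hma)
    · rwa [show toBar (θ b) (uF_le h b hzu) = κ⁻¹ (toBar (θ b) hm) from hzbar]
  obtain ⟨f, hfQ, hfl, hfe, hf5⟩ := tv_spec h hX hQ hL'
  have hft : f ∈ torusProd (tv h (θ b)) hR := join_inf_layer hR h3 (tv h (θ b)) (fun K hK => tv_spec h hX hQ hK)
    (Subgroup.mem_inf.mpr ⟨q_le_joinS (img_qfive_solvable h _) hfQ, hfl⟩)
  have hff : γ f = f := by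
    obtain ⟨q, hq, hqQ, rfl⟩ := mem_img_iff.mp hfQ
    exact toBar_fix (theta_inv h.hθ hb) (a := el hc) hq (cent_A_le h hc.1 (qfive_le_cent h hqQ))
  by_cases hv : Vis γ L
  · -- visible: a perfect piece
    set S := pc (pre (θ b) (piece γ L hR)) with hSdef
    have hPle := linked_piece_le h hcub hb (el hc) hlink
    have hSM : S ≤ mX h b := pc_mono (pre_mono hPle)
    have hSc : S ≤ centralizer ({c} : Set G) :=
      cent_of_bar_fix (theta_inv h.hθ hb) (pc_pre_le _) (pc_perfect _)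
        (pc_pre_cent (hPle.trans (iSup_le fun M => linked_le_cl h hcub hb M.2))) (el hc)
        fun s hs hsS => (toBar_pc_pre hs hsS).2.1
    have hSa : ∀ a ∈ P, a ≠ 1 → S ≤ mX h a := fun a ha ha1 =>
      perfect_le_mX h hcub ⟨hPA ha, ha1⟩ (pc_perfect _)
        (fun s hs => (psF_functor h hcub).2.2.2 b hb.1 hb.2 a (hPA ha) ha1
          (Subgroup.mem_inf.mpr ⟨Subgroup.mem_sup_left (hSM hs), hin (pc_pre_le _ hs) (hSc hs) a ha⟩))
    classical
    obtain ⟨t, htl, htp⟩ := exists_prj hR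
      (fun K => if K = L' ∨ K = mp γ L' ∨ K = mp γ (mp γ L') then prj K f else 1)
      fun K _ => by split; exacts [prj_mem K _, one_mem _]
    have hcube : ∀ K, mp γ (mp γ (mp γ K)) = K := fun K => by
      rw [← mp_mul, ← mp_mul, show γ * γ * γ = γ ^ 3 from (pow_three' γ).symm, hγ, mp_one]
    have htf : γ t = t := layer_ext hR (mp_layer γ htl) htl fun M hM => by
      obtain ⟨K, hK, rfl⟩ : ∃ K, IsComponent K ∧ mp γ K = M := ⟨mp γ⁻¹ M, mp_comp hM, mp_inv_cancel γ M⟩
      rw [prj_map hR γ hK htl, htp K hK, htp _ hM]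
      by_cases ho : K = L' ∨ K = mp γ L' ∨ K = mp γ (mp γ L')
      · rw [if_pos ho, if_pos (by
          rcases ho with rfl | rfl | rfl
          · exact Or.inr (Or.inl rfl)
          · exact Or.inr (Or.inr rfl)
          · exact Or.inl (hcube L'))]
        have := prj_map hR γ hK hfl
        rw [hff] at this
        exact this.symm
      · rw [if_neg ho, if_neg (fun ho' => ho (by
          rcases ho' with e | e | e
          · exact Or.inr (Or.inr (mp_injective γ (by rw [hcube, e])))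
          · exact Or.inl (mp_injective γ e)
          · exact Or.inr (Or.inl (mp_injective γ e)))), map_one]
    have ht' : κ t ∈ piece γ L hR := by
      refine ⟨mp_layer κ htl, by show γ (κ t) = κ t; rw [hκγ, htf], fun M hM h0 h1 h2 => ?_⟩
      obtain ⟨K, hK, rfl⟩ : ∃ K, IsComponent K ∧ mp κ K = M := ⟨mp κ⁻¹ M, mp_comp hM, mp_inv_cancel κ M⟩
      rw [prj_map hR κ hK htl, htp K hK, if_neg, map_one]
      rintro (rfl | rfl | rfl)
      · exact h0 rfl
      · exact h1 (hmpκ L').symm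
      · exact h2 (by rw [hLdef, hmpκ, hmpκ])
    obtain ⟨s, hs, hsS, es⟩ := mem_img_iff.mp ((img_pc_pre (piece_perfect hR h3 hγ hLc hv)).ge ht')
    obtain ⟨q, hq, hqQ, hqe⟩ := mem_img_iff.mp hfQ
    obtain ⟨e, he⟩ := qfive_p h ⟨q, hqQ⟩
    have hf5e : f ^ 5 ^ e = 1 := by
      rw [← hqe, toBar, ← map_pow,
        show (⟨q, hq⟩ : ↥(θ b)) ^ 5 ^ e = 1 from Subtype.ext (by simpa using congrArg Subtype.val he), map_one]
    have ht5 : t ^ 5 ^ e = 1 := layer_ext hR (pow_mem htl _) (one_mem _) fun K hK => by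
      rw [prj_pow hR h3 hK htl, htp K hK, prj_one hR hK]
      split
      · rw [← prj_pow hR h3 hK hfl, hf5e, prj_one hR hK]
      · exact one_pow _
    obtain ⟨j, hj, i, hi⟩ := five_part (isOfFinOrder_of_finite s) e
    have hm : s ^ j ∈ θ b := pow_mem hs j
    have hmbar : toBar (θ b) hm = κ t := by
      rw [show toBar (θ b) hm = toBar (θ b) hs ^ j from map_pow (QuotientGroup.mk' _) (⟨s, hs⟩ : ↥(θ b)) j, es]
      exact pow_mod_self (by rw [← map_pow, ht5, map_one]) hj
    refine ⟨_, hm, i, hSc (pow_mem hsS j), hi, fun a ha ha1 hma =>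
      compSup_le_layer (fun M hM => hM.1) (toBar_pc_pre hma (hSa a ha ha1 (pow_mem hsS j))),
      fun a ha ha1 v hvF hva => ?_, ?_, ?_⟩
    · have hvR : v ∈ rv θ a := (fZero_spec h).2.2.2.2 a ⟨hPA ha, ha1⟩ (Subgroup.mem_inf.mpr ⟨hvF, hva⟩)
      exact (Subgroup.mem_centralizer_iff.mp
        (mX_cent_rad h hcub ⟨hPA ha, ha1⟩ (hSa a ha ha1 (pow_mem hsS j))) _
        ((Subgroup.mem_normalizer_iff.mp (self_normalizes_radS _ (hyθ a ha ha1)) v).mp hvR)).symm
    · rw [hmbar, MulAut.inv_def, MulEquiv.symm_apply_apply]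
      refine ⟨htl, fun K hK => ?_⟩
      rw [htp K hK]
      split
      · exact hft.2 K hK
      · exact one_mem _
    · rw [hmbar, MulAut.inv_def, MulEquiv.symm_apply_apply, htp L' hL', if_pos (Or.inl rfl), hfe]
      intro e
      rw [e, orderOf_one] at hf5
      norm_num at hf5
  · -- invisible: a commutator in the torus
    obtain ⟨hfx, -⟩ := not_vis hR h3 hLc hv
    obtain ⟨f₂, hf₂, hf₂l, hf₂e, ho⟩ := tv_spec h hX hQ hLc
    set v₀ := tv h (θ b) L with hv₀def
    have hv₀ := tv_mem h hX hQ hLc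
    have hv₀f : γ v₀ = v₀ := by
      obtain ⟨q, hq, hqQ, rfl⟩ := mem_img_iff.mp hf₂
      have h1 := prj_map hR γ hLc hf₂l
      have h2 : γ (toBar (θ b) hq) = toBar (θ b) hq :=
        toBar_fix (theta_inv h.hθ hb) (a := el hc) hq (cent_A_le h hc.1 (qfive_le_cent h hqQ))
      rw [hfx, h2, hf₂e] at h1
      exact h1.symm
    obtain ⟨htor, s₀, hs₀, hs₀t⟩ := invisible_data hR h3 hγ hLc hv hv₀ ho hv₀f
    have hnor := invisible_nor hR h3 hLc hv hv₀ ho hv₀f
    have hlift : ∀ w ∈ L ⊓ fix1 γ, ∃ (x : G) (hx : x ∈ θ b), x ∈ mX h b ∧ x ∈ centralizer ({c} : Set G) ∧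
        x ∈ yCl h ∧ toBar (θ b) hx = w := by
      intro w hw
      obtain ⟨x, hx, hxM, ex⟩ := mem_img_iff.mp
        ((img_pc_pre (compSup_perfect fun M (hM : Linked h b M) => hM.1)).ge (le_compSup hlink hw.1))
      obtain ⟨x', hx', hx'M, hx'P, ex'⟩ := lift_fixed h.hA hPA (theta_inv h.hθ hb) (theta_not_dvd h.hθ hb)
        (mX_le h b) (hPA.trans (mX_inv h hcub hb)) hxM (fun a ha => by
          rw [show toBar (θ b) (mX_le h b hxM) = w from ex]
          have hle : P ≤ (kerPts (ac h hb) (zpowers w)).map A.subtype := by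
            refine sup_le (Subgroup.zpowers_le.mpr ⟨el hb, fun k _ => ?_, rfl⟩)
              (Subgroup.zpowers_le.mpr ⟨el hc, ?_, rfl⟩)
            · obtain ⟨⟨k', hk'⟩, rfl⟩ := QuotientGroup.mk'_surjective _ k
              exact toBar_fix (theta_inv h.hθ hb) (a := el hb) hk' (theta_le_cent h.hθ hb hk')
            · rintro _ ⟨l, rfl⟩
              show γ (w ^ l) = w ^ l
              rw [map_zpow, show γ w = w from hw.2]
          obtain ⟨a', ha', e⟩ := hle ha
          obtain rfl : a' = a := Subtype.ext e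
          exact ha' w (mem_zpowers w))
      refine ⟨x', hx', hx'M, Subgroup.centralizer_le (Set.singleton_subset_iff.mpr hcP) hx'P, ?_, ex'.trans ex⟩
      exact uF_le_yCl h hb (mem_join_of_bar h hX hQ hx' (by
        rw [show toBar (θ b) hx' = w from ex'.trans ex]
        exact mem_torusProd_of_nor h hX hQ hLc (hnor hw)))
    obtain ⟨x, hx, hxM, hxc, hxY, ex⟩ := hlift v₀ (Subgroup.mem_inf.mpr ⟨hv₀, hv₀f⟩)
    obtain ⟨s, hs, hsM, hsc, hsY, es⟩ := hlift s₀ hs₀
    obtain ⟨j, hj, i, hi⟩ := five_part (isOfFinOrder_of_finite x) 1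
    set v := x ^ j with hvdef
    have hvθ : v ∈ θ b := pow_mem hx j
    have ev : toBar (θ b) hvθ = v₀ := by
      rw [show toBar (θ b) hvθ = toBar (θ b) hx ^ j from map_pow (QuotientGroup.mk' _) (⟨x, hx⟩ : ↥(θ b)) j, ex]
      exact pow_mod_self (e := 1) (by rw [pow_one, ← ho, pow_orderOf_eq_one]) hj
    have hv5 : v ∈ k5 h X := five_mem_k5 h hcub px (mX_le_eX h hcub px hb (pow_mem hxM j)) (pow_mem hxY j) hi
    have hc5 : ⁅v, s⁆ ∈ k5 h X := by
      rw [show ⁅v, s⁆ = v * (s * v⁻¹ * s⁻¹) by rw [commutatorElement_def]; group]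
      exact mul_mem hv5 ((Subgroup.mem_normalizer_iff.mp ((k5_markGrp h hcub px).norm hsY) _).mp (inv_mem hv5))
    obtain ⟨hct, e₀, he₀⟩ := (mem_k5_iff h hcub px).mp hc5
    have hcθ : ⁅v, s⁆ ∈ θ b := mul_mem (mul_mem (mul_mem hvθ hs) (inv_mem hvθ)) (inv_mem hs)
    have hcc : ⁅v, s⁆ ∈ centralizer ({c} : Set G) :=
      mul_mem (mul_mem (mul_mem (pow_mem hxc j) hsc) (inv_mem (pow_mem hxc j))) (inv_mem hsc)
    have ec : toBar (θ b) hcθ = ⁅v₀, s₀⁆ := by
      rw [← ev, ← es]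
      exact toBar_commutator hvθ hs
    have hcne : ⁅v₀, s₀⁆ ≠ 1 := fun e => hs₀t ((mem_tor_iff hv₀ hs₀.1).mpr
      (mem_centralizer_singleton_iff.mpr (Subtype.ext (commutatorElement_eq_one_iff_mul_comm.mp e).symm)))
    refine ⟨_, hcθ, e₀, hcc, he₀, fun a ha ha1 hma =>
      k5_layer h hcub px ⟨hPA ha, ha1⟩ hc5 (hin hcθ hcc a ha) hma, fun a ha ha1 w hwF hwa => ?_, ?_⟩
    · have hap : Pt A a := ⟨hPA ha, ha1⟩
      have hwfit : w ∈ fit (rv θ a) := by
        refine le_fit (N := fZero h ⊓ centralizer ({a} : Set G)) ((fZero_spec h).2.2.2.2 a hap)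
          (inf_normalizes ((rv_le_yCl h hap).trans (fZero_spec h).2.1)
            (((radS_le _).trans (theta_le_cent h.hθ hap)).trans Subgroup.le_normalizer)) ?_
          (Subgroup.mem_inf.mpr ⟨hwF, hwa⟩)
        haveI := (fZero_spec h).2.2.2.1
        exact Subgroup.isNilpotent_of_ker_le_center
          (Subgroup.inclusion (inf_le_left : fZero h ⊓ centralizer ({a} : Set G) ≤ fZero h))
          (by rw [(MonoidHom.ker_eq_bot_iff _).mpr (Subgroup.inclusion_injective _)]; exact bot_le)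
      exact (fit_cent h hcub px hap ((mem_k5_iff h hcub px).mp hv5).1 (hin hvθ (pow_mem hxc j) a ha)
        (mX_le_eX h hcub px hb hsM) (hin hs hsc a ha) hct
        ((Subgroup.mem_normalizer_iff.mp (le_normalizer_fit (self_normalizes_radS _) (hyθ a ha ha1)) w).mp hwfit)).symm
    · rw [ec]
      have hcL : ⁅v₀, s₀⁆ ∈ L := mul_mem (mul_mem (mul_mem hv₀ hs₀.1) (inv_mem hv₀)) (inv_mem hs₀.1)
      have hcf : γ ⁅v₀, s₀⁆ = ⁅v₀, s₀⁆ := by
        rw [commutatorElement_def, map_mul, map_mul, map_mul, map_inv, map_inv, hv₀f, show γ s₀ = s₀ from hs₀.2]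
      have htL : κ⁻¹ ⁅v₀, s₀⁆ ∈ L' := by
        obtain ⟨w, hw, e⟩ := (hcL : _ ∈ mp κ L')
        rw [← e]
        show κ⁻¹ (κ w) ∈ L'
        rwa [MulAut.inv_def, MulEquiv.symm_apply_apply]
      have hκf : ∀ w, γ w = w → γ (κ⁻¹ w) = κ⁻¹ w := fun w hw => κ.injective (by
        rw [← hκγ, MulAut.inv_def, MulEquiv.apply_symm_apply, hw])
      have hv' : ¬ Vis γ L' := by
        rintro (hmv | hns)
        · exact hmv (mp_injective κ (by rw [← hmpκ]; exact hfx))
        · refine hns ?_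
          haveI : Group.IsSolvable ↥(L ⊓ fix1 γ) := by
            by_contra hs'
            exact hv (Or.inr hs')
          exact Group.isSolvable_of_isSolvable_injective
            (f := ({ toFun := fun w => ⟨κ w, mem_mp w.2.1, by
                        show γ (κ w) = κ w
                        rw [hκγ, show γ (w : Bar (θ b)) = w from w.2.2]⟩,
                     map_one' := Subtype.ext (map_one κ),
                     map_mul' := fun p q => Subtype.ext (map_mul κ _ _) } :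
              ↥(L' ⊓ fix1 γ) →* ↥(L ⊓ fix1 γ)))
            fun p q e => Subtype.ext (κ.injective (congrArg Subtype.val e))
      have hv'f : γ (tv h (θ b) L') = tv h (θ b) L' := by
        have h1 := prj_map hR γ hL' hfl
        rw [(not_vis hR h3 hL' hv').1, hff, hfe] at h1
        exact h1.symm
      refine ⟨mem_torusProd_of_nor h hX hQ hL' (invisible_nor hR h3 hL' hv' (tv_mem h hX hQ hL') hf5 hv'f
        (Subgroup.mem_inf.mpr ⟨htL, hκf _ hcf⟩)), ?_⟩
      rw [prj_self hR hL' htL]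
      exact fun e => hcne (κ⁻¹.injective (e.trans (map_one _).symm))

end Member

set_option maxHeartbeats 800000 in
/-- The subfunctor is the whole functor. -/
theorem psF_eq_theta {a : G} (ha : Pt A a) : psF h a = θ a := by
  by_contra hne
  obtain ⟨X, hXm, hXle⟩ := h.sub (psF h) (psF_functor h hcub) (fun g _ => psF_le h hcub) ⟨a, ha, hne⟩
  have px : PropX h X := ⟨hXm, hXle⟩
  have hnorm : ∀ b, Pt A b → θ b ≤ normalizer (mX h b : Set G) := fun b hb => by
    refine le_normalizer_pc ?_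
    refine le_of_planes_at h hb (theta_not_dvd h.hθ hb) (theta_inv h.hθ hb) (theta_le_cent h.hθ hb)
      fun B hB hB3 hbB y hy => ?_
    obtain ⟨hyθ, hyB⟩ := Subgroup.mem_inf.mp hy
    obtain ⟨c, hcB, hcb⟩ : ∃ c ∈ B, c ∉ zpowers b := by
      by_contra hall
      push Not at hall
      have h1 := Subgroup.card_le_of_le (H := B) (K := zpowers b) hall
      rw [Nat.card_zpowers, orderOf_eq_prime (hp := ⟨Nat.prime_three⟩) (h.hA.2 b hb.1) hb.2] at h1
      omega
    have hc : Pt A c := ⟨hB hcB, fun e => hcb (e ▸ one_mem _)⟩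
    have hbc : b ∉ zpowers c := fun e => hcb (by
      haveI : Fact (Nat.Prime 3) := ⟨Nat.prime_three⟩
      have heq : zpowers b = zpowers c :=
        Subgroup.eq_of_le_of_card_ge (Subgroup.zpowers_le.mpr e) (le_of_eq (by
          rw [Nat.card_zpowers, Nat.card_zpowers, orderOf_eq_prime (h.hA.2 b hb.1) hb.2,
            orderOf_eq_prime (h.hA.2 c hc.1) hc.2]))
      rw [heq]
      exact mem_zpowers c)
    refine mem_normalizer_pre' (MulAut.conj (toBar (θ b) hyθ)) (conj_toBar _) (mp_compSup fun L hL => ?_)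
    refine linked_conj h hcub px hb hc hbc (inv_mem hyθ)
      (inv_mem (Subgroup.centralizer_le (Set.singleton_subset_iff.mpr hcB) hyB)) (mp_comp hL.1) ?_
    rwa [← mp_mul, ← map_mul, toBar_inv hyθ, inv_mul_cancel, map_one, mp_one]
  set N := ⨆ g : {g : G // Pt A g}, mX h g
  have hNX : N ≤ X := iSup_le fun g => mX_le_px h hcub px g.2
  have hN : IsMem 3 A θ N := (px_mem h hcub px).sub hNX fun x hx => by
    refine Subgroup.mem_normalizer_iff_map_conj_eq.mpr ?_
    rw [Subgroup.map_iSup]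
    exact iSup_congr fun g => Subgroup.mem_normalizer_iff_map_conj_eq.mp (mX_inv h hcub g.2 hx)
  have hN1 : N ≠ ⊥ := fun e => by
    obtain ⟨g, hg, L, hL⟩ := exists_linked h hcub
    have h1 : mX h g = ⊥ := le_bot_iff.mp ((le_iSup (fun g : {g : G // Pt A g} => mX h g) ⟨g, hg⟩).trans e.le)
    refine CfsgLib.isQuasisimple_not_isSolvable hL.1.2 ?_
    have h2 : L ≤ ⊥ := (le_compSup hL).trans ((img_pc_pre (compSup_perfect fun M (hM : Linked h g M) => hM.1)).ge.trans
      fun w hw => by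
        obtain ⟨q, hq, hqM, rfl⟩ := mem_img_iff.mp hw
        have : q ∈ mX h g := hqM
        rw [h1, Subgroup.mem_bot] at this
        exact Subgroup.mem_bot.mpr ((toBar_eq_one_iff hq).mpr (by rw [this]; exact one_mem _)))
    exact solvable_of_le h2 (Group.isSolvable_of_isSolvable_injective
      (f := (1 : (⊥ : Subgroup (Bar (θ g))) →* Unit)) fun p q _ => Subsingleton.elim p q)
  refine h.not_normalized hN hN1 fun g hg => ?_
  refine le_of_planes_at h hg (theta_not_dvd h.hθ hg) (theta_inv h.hθ hg) (theta_le_cent h.hθ hg)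
    fun B hB hB3 hgB y hy => ?_
  obtain ⟨hyg, hyB⟩ := Subgroup.mem_inf.mp hy
  set V := ⨆ b : {b : G // Pt A b ∧ b ∈ B}, mX h b
  have hV : ∀ g, Pt A g → mX h g ≤ V := fun g hg => by
    have hle : compSup (Linked h g) ≤ img (θ g) (mX h g ⊓ V) := iSup_le fun ⟨L, hL⟩ =>
      gen_pieces (bar_rad _) (bar_not_dvd (theta_not_dvd h.hθ hg)) (ac h hg) (act_cube h.hA) (act_comm h.hA) hL.1
        (P := B.subgroupOf A) (by rwa [Nat.card_congr (Subgroup.subgroupOfEquivOfLe hB).toEquiv])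
        fun b hb hb1 hv => by
          have hbp : Pt A (b : G) := ⟨b.2, fun e => hb1 (Subtype.ext e)⟩
          refine (img_pc_pre (piece_perfect (bar_rad _) (bar_not_dvd (theta_not_dvd h.hθ hg)) (ac_cube h hg b)
            hL.1 hv)).ge.trans (img_mono (le_inf (pc_mono (pre_mono (linked_piece_le h hcub hg b hL))) ?_))
          exact (closure_mX h hcub hg hbp hL hv).trans
            (le_iSup (fun b : {b : G // Pt A b ∧ b ∈ B} => mX h b) ⟨b, hbp, Subgroup.mem_subgroupOf.mp hb⟩)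
    exact (mX_le_of_img h hcub hg inf_le_left hle).trans inf_le_right
  have hNV : N = V := le_antisymm (iSup_le fun g => hV g g.2)
    (iSup_le fun b => le_iSup (fun g : {g : G // Pt A g} => mX h g) ⟨b, b.2.1⟩)
  rw [hNV]
  refine Subgroup.mem_normalizer_iff_map_conj_eq.mpr ?_
  rw [Subgroup.map_iSup]
  refine iSup_congr fun b => Subgroup.mem_normalizer_iff_map_conj_eq.mp
    (hnorm b b.2.1 (balance h.hθ hg b.2.1 (Subgroup.mem_inf.mpr ⟨hyg, ?_⟩)))
  exact Subgroup.centralizer_le (Set.singleton_subset_iff.mpr b.2.2) hyB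

end Data

end CfsgLib.SF23
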