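import Cfsg.Agent.Lib.Components
import Cfsg.Agent.Lib.S3Simple.Rows
import Cfsg.Agent.Lib.S3Simple.Classification
import Mathlib

/-!
The quotient by the soluble radical: trivial radical, simple components, automorphisms.
-/

set_option autoImplicit false
set_option linter.unusedSectionVars false

namespace CfsgLib.SF23

open Cfsg Subgroup

universe u
variable {H : Type u} [Group H] [Finite H]

theorem radical_quotient_bot : solvableRadical (H ⧸ solvableRadical H) = ⊥ := by
  set K := solvableRadical H with hK
  haveI := CfsgLib.isSolvable_solvableRadical (G := H)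
  set M := solvableRadical (H ⧸ K) with hM
  haveI := CfsgLib.isSolvable_solvableRadical (G := H ⧸ K)
  set N := M.comap (QuotientGroup.mk' K) with hN
  have hle : K ≤ N := fun k hk => by
    show QuotientGroup.mk' K k ∈ M
    rw [show QuotientGroup.mk' K k = 1 from (QuotientGroup.eq_one_iff k).mpr hk]
    exact one_mem _
  have hNs : Group.IsSolvable N := by
    refine Group.isSolvable_of_ker_le_range (Subgroup.inclusion hle)
      (((QuotientGroup.mk' K).comp N.subtype).codRestrict M fun n => n.2) ?_
    intro n hn
    have h1 : QuotientGroup.mk' K (n : H) = 1 := congrArg Subtype.val (MonoidHom.mem_ker.mp hn)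
    exact ⟨⟨(n : H), (QuotientGroup.eq_one_iff _).mp h1⟩, Subtype.ext rfl⟩
  have hNK : N ≤ K := CfsgLib.le_solvableRadical hNs
  show M = ⊥
  rw [← Subgroup.map_comap_eq_self_of_surjective (QuotientGroup.mk'_surjective K) M,
    Subgroup.map_eq_bot_iff, QuotientGroup.ker_mk']
  exact hNK

theorem map_radical (e : H ≃* H) : (solvableRadical H).map e.toMonoidHom = solvableRadical H := by
  refine le_antisymm ?_ fun x hx => ⟨e.symm x, ?_, e.apply_symm_apply x⟩
  · exact CfsgLib.map_solvableRadical_le_of_equiv e
  · exact CfsgLib.map_solvableRadical_le_of_equiv e.symm ⟨x, hx, rfl⟩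

instance radical_characteristic : (solvableRadical H).Characteristic :=
  Subgroup.characteristic_iff_map_eq.mpr map_radical

/-- An automorphism acts on the quotient by a characteristic subgroup. -/
noncomputable def quotAut (N : Subgroup H) [N.Characteristic] : MulAut H →* MulAut (H ⧸ N) where
  toFun e := QuotientGroup.congr N N e (Subgroup.characteristic_iff_map_eq.mp ‹_› e)
  map_one' := MulEquiv.ext fun x => by
    induction x using QuotientGroup.induction_on with | H z => rfl
  map_mul' a b := MulEquiv.ext fun x => by
    induction x using QuotientGroup.induction_on with | H z => rfl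

theorem quotAut_mk (N : Subgroup H) [N.Characteristic] (e : MulAut H) (x : H) :
    quotAut N e (QuotientGroup.mk' N x) = QuotientGroup.mk' N (e x) := rfl

section Trivial

variable (hR : solvableRadical H = ⊥)
include hR

theorem fitting_bot : fittingSubgroup H = ⊥ :=
  le_bot_iff.mp (CfsgLib.fittingSubgroup_le_solvableRadical.trans hR.le)

theorem centralizer_layer_bot : centralizer (layer H : Set H) = ⊥ := by
  have h1 : generalizedFittingSubgroup H = layer H := by
    rw [generalizedFittingSubgroup, fitting_bot hR, sup_bot_eq]
  have h2 := CfsgLib.centralizer_generalizedFitting_le (G := H)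
  rw [h1] at h2
  haveI : (centralizer (layer H : Set H)).Normal := Subgroup.normal_centralizer
  refine le_bot_iff.mp ((CfsgLib.le_solvableRadical ?_).trans hR.le)
  refine Group.isSolvable_of_comm ?_
  rintro ⟨a, ha⟩ ⟨b, hb⟩
  exact Subtype.ext (hb a (h2 ha))

theorem layer_ne_bot [Nontrivial H] : layer H ≠ ⊥ := fun h => by
  have h1 := centralizer_layer_bot hR
  rw [h] at h1
  obtain ⟨x, hx⟩ := exists_ne (1 : H)
  refine hx (Subgroup.mem_bot.mp (h1 ▸ ?_))
  intro y hy
  rw [SetLike.mem_coe, Subgroup.mem_bot] at hy
  subst hy
  simp

theorem component_center_bot {K : Subgroup H} (hK : IsComponent K) : center K = ⊥ := by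
  have hc : (center K).map K.subtype ≤ solvableRadical H := by
    refine CfsgLib.isSubnormal_solvable_le_radical
      (Subgroup.IsSubnormal.trans' (inferInstance : (center ↥K).Normal).isSubnormal hK.1) ?_
    haveI : Group.IsSolvable (center K) := Group.isSolvable_of_comm fun a b => Subtype.ext (Subgroup.mem_center_iff.mp b.2 a)
    exact Group.isSolvable_of_surjective (f := K.subtype.subgroupMap (center K))
      (MonoidHom.subgroupMap_surjective _ _)
  rw [hR] at hc
  exact (Subgroup.map_eq_bot_iff_of_injective _ K.subtype_injective).mp (le_bot_iff.mp hc)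

theorem component_simple {K : Subgroup H} (hK : IsComponent K) : IsSimpleGroup K := by
  haveI := CfsgLib.isQuasisimple_nontrivial hK.2
  refine ⟨fun N hN => ?_⟩
  haveI := hN
  rcases CfsgLib.quasisimple_normal_le_center_or_eq_top hK.2 N with h | h
  · exact Or.inl (le_bot_iff.mp (h.trans (component_center_bot hR hK).le))
  · exact Or.inr h

theorem component_suzuki (h3 : ¬ 3 ∣ Nat.card H) {K : Subgroup H} (hK : IsComponent K) :
    Lie.IsoSuzuki K := by
  haveI := component_simple hR hK
  have hna : ¬ IsMulCommutative K := fun h =>
    CfsgLib.isQuasisimple_not_isSolvable hK.2 (Group.isSolvable_of_comm fun a b => h.is_comm.comm a b)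
  have h3K : ¬ 3 ∣ Nat.card K := fun h => h3 (h.trans (Subgroup.card_subgroup_dvd_card K))
  have hfree : ¬ Involves (Equiv.Perm (Fin 3)) K := by
    rintro ⟨M, N, hN, ⟨e⟩⟩
    haveI := hN
    refine h3K ((dvd_trans ?_ (Subgroup.card_quotient_dvd_card (N.subgroupOf M))).trans
      (Subgroup.card_subgroup_dvd_card M))
    rw [Nat.card_congr e.toEquiv, Nat.card_perm, Nat.card_eq_fintype_card, Fintype.card_fin]
    decide
  rcases S3Simple.suzuki_or_three (S3Simple.classify K inferInstance hna hfree) with h | h
  · exact h
  · exact absurd h.1 h3K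

end Trivial

end CfsgLib.SF23
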