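import Cfsg.Agent.Lib.SF23.Act

/-!
The join of the soluble subgroups containing a Sylow five-subgroup of the fixed points of a group of
operators of exponent three: it is soluble, and its shape on the components.
-/

set_option autoImplicit false
set_option linter.unusedSectionVars false
set_option linter.style.haveILetI false

namespace CfsgLib.SF23

open Cfsg Subgroup

universe u
variable {H : Type u} [Group H] [Finite H]

/-- The torus of an element of order five of a component. -/
def tor (K : Subgroup H) (z : H) : Subgroup H := K ⊓ centralizer ({z} : Set H)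

/-- Its normalizer in the component. -/
def nor (K : Subgroup H) (z : H) : Subgroup H := K ⊓ normalizer (tor K z : Set H)

section Torus

variable {K : Subgroup H} (hL : Lie.IsoSuzuki K) {z : H} (hz : z ∈ K) (h5 : orderOf z = 5)

theorem mem_tor_iff (hz : z ∈ K) {x : H} (hx : x ∈ K) :
    x ∈ tor K z ↔ (⟨x, hx⟩ : K) ∈ centralizer ({⟨z, hz⟩} : Set K) := by
  rw [tor, Subgroup.mem_inf, mem_centralizer_singleton_iff, mem_centralizer_singleton_iff]
  exact ⟨fun h => Subtype.ext h.2, fun h => ⟨hx, congrArg Subtype.val h⟩⟩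

theorem mem_nor_iff (hz : z ∈ K) {x : H} (hx : x ∈ K) :
    x ∈ nor K z ↔ (⟨x, hx⟩ : K) ∈ normalizer (centralizer ({⟨z, hz⟩} : Set K) : Set K) := by
  rw [nor, Subgroup.mem_inf]
  constructor
  · rintro ⟨-, h⟩
    refine Subgroup.mem_normalizer_iff.mpr fun y => ?_
    have h1 := Subgroup.mem_normalizer_iff.mp h (y : H)
    rw [mem_tor_iff hz y.2, mem_tor_iff hz (mul_mem (mul_mem hx y.2) (inv_mem hx))] at h1
    exact h1
  · intro h
    refine ⟨hx, Subgroup.mem_normalizer_fintype fun y hy => ?_⟩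
    have hyK : y ∈ K := hy.1
    rw [SetLike.mem_coe, mem_tor_iff hz (mul_mem (mul_mem hx hyK) (inv_mem hx))]
    exact (Subgroup.mem_normalizer_iff.mp h ⟨y, hyK⟩).mp ((mem_tor_iff hz hyK).mp hy)

include hL hz h5

theorem order_five_sub : orderOf (⟨z, hz⟩ : K) = 5 := by rwa [Subgroup.orderOf_mk]

theorem mem_tor_self : z ∈ tor K z := ⟨hz, mem_centralizer_singleton_iff.mpr rfl⟩

theorem tor_eq {a : H} (ha : a ∈ tor K z) (h1 : a ≠ 1) : tor K a = tor K z := by
  obtain ⟨-, hTI, -⟩ := suz_torus hL (order_five_sub hL hz h5)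
  have h := hTI ⟨a, ha.1⟩ ((mem_tor_iff hz ha.1).mp ha) fun e => h1 (congrArg Subtype.val e)
  ext x
  constructor <;> intro hx
  · rw [mem_tor_iff hz hx.1, ← h, ← mem_tor_iff ha.1 hx.1]; exact hx
  · rw [mem_tor_iff ha.1 hx.1, h, ← mem_tor_iff hz hx.1]; exact hx

theorem five_mem_tor {x : H} (hx : x ∈ nor K z) (ho : orderOf x = 5) : x ∈ tor K z := by
  obtain ⟨-, -, -, h, -⟩ := suz_torus hL (order_five_sub hL hz h5)
  rw [mem_tor_iff hz hx.1]
  exact h _ ((mem_nor_iff hz hx.1).mp hx) (by rwa [Subgroup.orderOf_mk])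

theorem nor_solvable : Group.IsSolvable (nor K z) := by
  obtain ⟨hc, -, hcard, -⟩ := suz_torus hL (order_five_sub hL hz h5)
  set T := centralizer ({⟨z, hz⟩} : Set K)
  set N := normalizer (T : Set K)
  haveI : IsCyclic T := hc
  haveI : (T.subgroupOf N).Normal := Subgroup.normal_in_normalizer
  have hN : Group.IsSolvable N := by
    refine (Group.isSolvable_iff_subgroup_quotient (T.subgroupOf N)).mpr ⟨?_, ?_⟩
    · let _ : CommGroup T := IsCyclic.commGroup
      exact Group.isSolvable_of_isSolvable_injective (f := (Subgroup.subgroupOfEquivOfLe Subgroup.le_normalizer :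
        T.subgroupOf N ≃* T).toMonoidHom) (MulEquiv.injective _)
    · have h4 : Nat.card (N ⧸ T.subgroupOf N) = 4 := by
        have h := Subgroup.card_eq_card_quotient_mul_card_subgroup (T.subgroupOf N)
        rw [Nat.card_congr (Subgroup.subgroupOfEquivOfLe (Subgroup.le_normalizer : T ≤ N)).toEquiv, hcard] at h
        exact (Nat.eq_of_mul_eq_mul_right Nat.card_pos h).symm
      haveI : Fact (Nat.Prime 2) := ⟨Nat.prime_two⟩
      haveI := (IsPGroup.of_card (p := 2) (n := 2) (G := N ⧸ T.subgroupOf N) h4).isNilpotent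
      infer_instance
  haveI := hN
  let f : nor K z →* N :=
    { toFun := fun x => ⟨⟨x, x.2.1⟩, (mem_nor_iff hz x.2.1).mp x.2⟩
      map_one' := rfl
      map_mul' := fun _ _ => rfl }
  refine Group.isSolvable_of_isSolvable_injective (f := f) fun a b h => Subtype.ext ?_
  exact congrArg (fun w : N => ((w : K) : H)) h

theorem solvable_le_nor {X : Subgroup H} (hXK : X ≤ K) (hX : Group.IsSolvable X) (hzX : z ∈ X) :
    X ≤ nor K z := fun x hx => by
  haveI := hX
  have hX' : Group.IsSolvable (X.subgroupOf K) :=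
    Group.isSolvable_of_isSolvable_injective (f := (Subgroup.subgroupOfEquivOfLe hXK).toMonoidHom) (MulEquiv.injective _)
  exact (mem_nor_iff hz (hXK hx)).mpr (suz_solvable_le hL (order_five_sub hL hz h5) hX' hzX (x := ⟨x, hXK hx⟩) hx)

end Torus

theorem map_tor (e : MulAut H) (K : Subgroup H) (z : H) : mp e (tor K z) = tor (mp e K) (e z) := by
  ext y
  obtain ⟨x, rfl⟩ := e.surjective y
  rw [mp_mem_iff, tor, tor, Subgroup.mem_inf, Subgroup.mem_inf, mp_mem_iff, mem_centralizer_singleton_iff,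
    mem_centralizer_singleton_iff, ← map_mul, ← map_mul, e.injective.eq_iff]

/-- A normal subgroup contains a conjugate of each of its `p`-elements inside a given Sylow subgroup. -/
theorem exists_conj_mem_sylow {F : Type u} [Group F] [Finite F] {p : ℕ} [Fact p.Prime] (P : Sylow p F)
    (N : Subgroup F) [N.Normal] {w : F} (hw : w ∈ N) (hwp : IsPGroup p (zpowers w)) :
    ∃ d ∈ N, d * w * d⁻¹ ∈ (P : Subgroup F) := by
  obtain ⟨R, hR⟩ := (hwp.comap_of_injective N.subtype N.subtype_injective).exists_le_sylow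
  obtain ⟨P', hP'⟩ := (R.2.map N.subtype).exists_le_sylow
  obtain ⟨g, hg⟩ := MulAction.exists_smul_eq F P' P
  have hPN : IsPGroup p ((P : Subgroup F).subgroupOf N) := P.2.comap_of_injective N.subtype N.subtype_injective
  let c : N ≃* N := MulAut.conjNormal g
  have hle : (R : Subgroup N).map c.toMonoidHom ≤ (P : Subgroup F).subgroupOf N := by
    rintro _ ⟨r, hr, rfl⟩
    show (c r : F) ∈ (P : Subgroup F)
    rw [MulAut.conjNormal_apply, ← hg, Sylow.coe_subgroup_smul]
    exact ⟨r, hP' ⟨r, hr, rfl⟩, rfl⟩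
  have he := (R.mapSurjective c.surjective).3 hPN hle
  let T : Sylow p N := ⟨(P : Subgroup F).subgroupOf N, hPN, fun {Q} hQ hle' =>
    (((R.mapSurjective c.surjective).3 hQ (hle.trans hle')).trans he.symm)⟩
  obtain ⟨d, hd⟩ := MulAction.exists_smul_eq N R T
  refine ⟨d, d.2, ?_⟩
  have hwR : (⟨w, hw⟩ : N) ∈ (R : Subgroup N) := hR (show ((⟨w, hw⟩ : N) : F) ∈ zpowers w from mem_zpowers w)
  have h2 : MulAut.conj d • (⟨w, hw⟩ : N) ∈ ((d • R : Sylow p N) : Subgroup N) := by
    rw [Sylow.coe_subgroup_smul]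
    exact ⟨_, hwR, rfl⟩
  rw [hd] at h2
  exact h2

/-- The join of the soluble subgroups containing a given one. -/
def joinS (Q : Subgroup H) : Subgroup H := sSup {X : Subgroup H | Group.IsSolvable X ∧ Q ≤ X}

theorem le_joinS {Q X : Subgroup H} (hX : Group.IsSolvable X) (hQ : Q ≤ X) : X ≤ joinS Q :=
  le_sSup ⟨hX, hQ⟩

theorem q_le_joinS {Q : Subgroup H} (hQ : Group.IsSolvable Q) : Q ≤ joinS Q := le_joinS hQ le_rfl

/-- The soluble subgroup of the layer with all coordinates in the normalizers of the given tori. -/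
def torusProd (v : Subgroup H → H) (hR : solvableRadical H = ⊥) : Subgroup H where
  carrier := {x | x ∈ layer H ∧ ∀ K, IsComponent K → prj K x ∈ nor K (v K)}
  one_mem' := ⟨one_mem _, fun K hK => by rw [prj_one hR hK]; exact one_mem _⟩
  mul_mem' ha hb := ⟨mul_mem ha.1 hb.1, fun K hK => by
    rw [prj_mul hR hK ha.1 hb.1]; exact mul_mem (ha.2 K hK) (hb.2 K hK)⟩
  inv_mem' ha := ⟨inv_mem ha.1, fun K hK => by rw [prj_inv hR hK ha.1]; exact inv_mem (ha.2 K hK)⟩

section Trivial

variable (hR : solvableRadical H = ⊥) (h3 : ¬ 3 ∣ Nat.card H)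
include hR h3

theorem torusProd_solvable {v : Subgroup H → H} (hv : ∀ K, IsComponent K → v K ∈ K ∧ orderOf (v K) = 5) :
    Group.IsSolvable (torusProd v hR) := by
  classical
  haveI := Fintype.ofFinite (Subgroup H)
  have hs : ∀ K, IsComponent K → ∃ n, derivedSeries (nor K (v K)) n = ⊥ := fun K hK =>
    (nor_solvable (component_suzuki hR h3 hK) (hv K hK).1 (hv K hK).2).solvable
  choose n hn using hs
  refine ⟨⟨Finset.univ.sup fun K => if h : IsComponent K then n K h else 0, ?_⟩⟩
  rw [eq_bot_iff]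
  intro x hx
  refine Subgroup.mem_bot.mpr (Subtype.ext (layer_ext hR x.2.1 (one_mem _) fun K hK => ?_))
  rw [OneMemClass.coe_one, prj_one hR hK]
  let f : torusProd v hR →* nor K (v K) :=
    { toFun := fun y => ⟨prj K y, y.2.2 K hK⟩
      map_one' := Subtype.ext (prj_one hR hK)
      map_mul' := fun a b => Subtype.ext (prj_mul hR hK a.2.1 b.2.1) }
  have h1 : f x ∈ derivedSeries (nor K (v K)) (n K hK) := by
    refine derivedSeries_antitone _ ?_ (map_derivedSeries_le_derivedSeries f _ ⟨x, hx, rfl⟩)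
    have := Finset.le_sup (f := fun K => if h : IsComponent K then n K h else 0) (Finset.mem_univ K)
    simpa [hK] using this
  rw [hn K hK, Subgroup.mem_bot] at h1
  exact congrArg Subtype.val h1

/-- Conjugation by an element of the join moves the torus of a fixed five-element to the torus of another. -/
theorem join_tor {Q : Subgroup H} {x : H} (hx : x ∈ joinS Q) (v : Subgroup H → H)
    (hv : ∀ K, IsComponent K → ∃ f ∈ Q, f ∈ layer H ∧ prj K f = v K ∧ orderOf (v K) = 5) :
    ∀ K, IsComponent K →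
      mp (MulAut.conj x) (tor K (v K)) = tor (mp (MulAut.conj x) K) (v (mp (MulAut.conj x) K)) := by
  rw [joinS, sSup_eq_iSup'] at hx
  refine Subgroup.iSup_induction (C := fun y => ∀ K, IsComponent K →
      mp (MulAut.conj y) (tor K (v K)) = tor (mp (MulAut.conj y) K) (v (mp (MulAut.conj y) K))) _ hx
    ?_ (fun K _ => by rw [map_one, mp_one, mp_one]) ?_
  · rintro ⟨X, hX, hQX⟩ y hy K hK
    obtain ⟨f, hfQ, hfl, hfK, h5⟩ := hv K hK
    set e := MulAut.conj y
    have hK' : IsComponent (mp e K) := mp_comp hK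
    obtain ⟨f', hf'Q, hf'l, hf'K, h5'⟩ := hv _ hK'
    haveI := hX
    let Y : Subgroup H := X ⊓ layer H
    have hg : e f ∈ Y :=
      Subgroup.mem_inf.mpr ⟨X.mul_mem (X.mul_mem hy (hQX hfQ)) (X.inv_mem hy), mp_layer e hfl⟩
    let π : Y →* H :=
      { toFun := fun a => prj (mp e K) a
        map_one' := prj_one hR hK'
        map_mul' := fun a b => prj_mul hR hK' a.2.2 b.2.2 }
    have hYs : Group.IsSolvable Y :=
      Group.isSolvable_of_isSolvable_injective (f := Subgroup.inclusion (inf_le_left : Y ≤ X))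
        (Subgroup.inclusion_injective _)
    have hπs : Group.IsSolvable π.range := Group.isSolvable_of_surjective π.rangeRestrict_surjective
    have hle : π.range ≤ nor (mp e K) (v (mp e K)) :=
      solvable_le_nor (component_suzuki hR h3 hK') (hf'K ▸ prj_mem _ _) h5'
        (by rintro _ ⟨a, rfl⟩; exact prj_mem _ _) hπs ⟨⟨f', hQX hf'Q, hf'l⟩, hf'K⟩
    have hge : e (v K) ∈ nor (mp e K) (v (mp e K)) := hle ⟨⟨e f, hg⟩, by
      show prj (mp e K) (e f) = e (v K)
      rw [prj_map hR e hK hfl, hfK]⟩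
    have ho : orderOf (e (v K)) = 5 := by rw [MulEquiv.orderOf_eq, h5]
    have hz' : v (mp e K) ∈ mp e K := hf'K ▸ prj_mem _ _
    rw [map_tor, tor_eq (component_suzuki hR h3 hK') hz' h5'
      (five_mem_tor (component_suzuki hR h3 hK') hz' h5' hge ho)
      fun h => by rw [h, orderOf_one] at ho; norm_num at ho]
  · intro a b ha hb K hK
    rw [map_mul, mp_mul, mp_mul, hb K hK, ha _ (mp_comp hK)]

theorem join_inf_layer {Q : Subgroup H} (v : Subgroup H → H)
    (hv : ∀ K, IsComponent K → ∃ f ∈ Q, f ∈ layer H ∧ prj K f = v K ∧ orderOf (v K) = 5) :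
    joinS Q ⊓ layer H ≤ torusProd v hR := by
  rintro x ⟨hx, hxl⟩
  refine ⟨hxl, fun K hK => ⟨prj_mem K x, ?_⟩⟩
  have h := join_tor hR h3 hx v hv K hK
  rw [mp_conj_eq_iff.mpr (layer_le_normalizer hR hK hxl)] at h
  refine Subgroup.mem_normalizer_fintype fun y hy => ?_
  show prj K x * y * (prj K x)⁻¹ ∈ tor K (v K)
  rw [← layer_mul_comm_prj hR hK hxl hy.1]
  exact h.le (mem_mp hy)

theorem torusProd_le_join {Q : Subgroup H} (hQ : Group.IsSolvable Q) (v : Subgroup H → H)
    (hv : ∀ K, IsComponent K → ∃ f ∈ Q, f ∈ layer H ∧ prj K f = v K ∧ orderOf (v K) = 5) :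
    torusProd v hR ≤ joinS Q := by
  have hn : Q ≤ normalizer (torusProd v hR : Set H) := fun q hq => by
    refine Subgroup.mem_normalizer_fintype fun x hx => ⟨mp_layer (MulAut.conj q) hx.1, fun K hK => ?_⟩
    set e := MulAut.conj q
    have hL : IsComponent (mp e⁻¹ K) := mp_comp hK
    have hpe := prj_map hR e hL hx.1
    rw [mp_inv_cancel] at hpe
    have h1 := join_tor hR h3 (q_le_joinS hQ hq) v hv _ hL
    rw [mp_inv_cancel] at h1
    have hnm : mp e (nor (mp e⁻¹ K) (v (mp e⁻¹ K))) = nor K (v K) := by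
      ext y
      obtain ⟨w, rfl⟩ := e.surjective y
      rw [mp_mem_iff, nor, nor, Subgroup.mem_inf, Subgroup.mem_inf]
      refine and_congr ?_ ?_
      · conv_rhs => rw [← mp_inv_cancel e K]
        exact mp_mem_iff.symm
      · rw [← h1]
        have hh : normalizer ((mp e (tor (mp e⁻¹ K) (v (mp e⁻¹ K)))) : Set H) =
            mp e (normalizer (tor (mp e⁻¹ K) (v (mp e⁻¹ K)) : Set H)) :=
          (map_equiv_normalizer_eq _ _).symm
        rw [hh]
        exact mp_mem_iff.symm
    rw [← hnm, show (q * x * q⁻¹ : H) = e x from rfl, hpe]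
    exact mem_mp (hx.2 _ hL)
  refine le_sup_left.trans (le_joinS (X := torusProd v hR ⊔ Q) ?_ le_sup_right)
  exact CfsgLib.Signalizer.isSolvable_sup' (torusProd_solvable hR h3 fun K hK => by
    obtain ⟨f, -, -, hfK, h5⟩ := hv K hK
    exact ⟨hfK ▸ prj_mem K f, h5⟩) hQ hn

end Trivial

section Action

variable {B : Type u} [Group B] [Finite B] (α : B →* MulAut H)

/-- In a group with trivial radical every component sees an element of order five of the fixed Sylow. -/
theorem exists_five_in_sylow (hR : solvableRadical H = ⊥) (h3 : ¬ 3 ∣ Nat.card H) (hB : ∀ b : B, b ^ 3 = 1)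
    (hBc : ∀ a b : B, a * b = b * a) [Fact (Nat.Prime 5)] (P : Sylow 5 (fixedSub α)) {K : Subgroup H}
    (hK : IsComponent K) :
    ∃ f ∈ (P : Subgroup (fixedSub α)).map (fixedSub α).subtype, f ∈ layer H ∧ orderOf (prj K f) = 5 := by
  obtain ⟨z, hzK, hz5, hzf⟩ := exists_five_fixed hR h3 hK α hB hBc
  obtain ⟨w, hw, hwF, hwp, hwo⟩ := exists_fixed_orbit hR h3 hK α hzK hzf
  have h5 : ∀ {K' : Subgroup H}, IsComponent K' → ∀ n, prj K' (w ^ n) = prj K' w ^ n := by
    intro K' hK' n
    induction n with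
    | zero => rw [pow_zero, pow_zero, prj_one hR hK']
    | succ n ih => rw [pow_succ, pow_succ, prj_mul hR hK' (pow_mem hw n) hw, ih]
  have hw5 : w ^ 5 = 1 := layer_ext hR (pow_mem hw 5) (one_mem _) fun L hL => by
    rw [h5 hL, prj_one hR hL]
    by_cases h : ∃ b, mp (α b) K = L
    · obtain ⟨b, rfl⟩ := h
      rw [hwp b, ← map_pow, ← hz5, pow_orderOf_eq_one, map_one]
    · push Not at h
      rw [hwo L hL h, one_pow]
  let wF : fixedSub α := ⟨w, hwF⟩
  haveI : ((layer H).subgroupOf (fixedSub α)).Normal := inferInstance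
  obtain ⟨d, hd, hdP⟩ := exists_conj_mem_sylow P ((layer H).subgroupOf (fixedSub α)) (w := wF) hw (by
    rintro ⟨x, m, rfl⟩
    refine ⟨1, Subtype.ext (Subtype.ext ?_)⟩
    show ((wF ^ m) ^ (5 ^ 1) : fixedSub α).1 = 1
    rw [pow_one, ← zpow_natCast, ← zpow_mul, mul_comm, zpow_mul, zpow_natCast,
      show wF ^ 5 = 1 from Subtype.ext hw5, one_zpow]
    rfl)
  have hdl : (d : H) ∈ layer H := hd
  refine ⟨(d : H) * w * (d : H)⁻¹, ⟨_, hdP, rfl⟩, mul_mem (mul_mem hdl hw) (inv_mem hdl), ?_⟩
  rw [prj_mul hR hK (mul_mem hdl hw) (inv_mem hdl), prj_mul hR hK hdl hw, prj_inv hR hK hdl]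
  have hk : prj K w = z := by
    have h := hwp 1
    rwa [map_one, mp_one, MulAut.one_apply] at h
  rw [hk, show prj K (d : H) * z * (prj K (d : H))⁻¹ = MulAut.conj (prj K (d : H)) z from rfl,
    MulEquiv.orderOf_eq, hz5]

end Action

set_option maxHeartbeats 800000 in
/-- The join of the soluble subgroups containing the fixed Sylow five-subgroup is soluble. -/
theorem join_solvable {B : Type u} [Group B] [Finite B] (hB : ∀ b : B, b ^ 3 = 1)
    (hBc : ∀ a b : B, a * b = b * a) [Fact (Nat.Prime 5)] (n : ℕ) :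
    ∀ {H : Type u} [Group H] [Finite H], ¬ 3 ∣ Nat.card H → ∀ (α : B →* MulAut H)
      (P : Sylow 5 (fixedSub α)), Nat.card H = n →
      Group.IsSolvable (joinS ((P : Subgroup (fixedSub α)).map (fixedSub α).subtype)) := by
  induction n using Nat.strong_induction_on with
  | _ n IH =>
  intro H _ _ h3 α P hn
  subst hn
  have hBp : IsPGroup 3 B := fun b => ⟨1, by rw [pow_one]; exact hB b⟩
  have hBs : Group.IsSolvable B := Group.isSolvable_of_comm hBc
  have hcop : (Nat.card B).Coprime (Nat.card H) := by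
    haveI : Fact (Nat.Prime 3) := ⟨Nat.prime_three⟩
    obtain ⟨k, hk⟩ := IsPGroup.iff_card.mp hBp
    rw [hk]
    exact Nat.Coprime.pow_left _ (Nat.prime_three.coprime_iff_not_dvd.mpr h3)
  set Q := (P : Subgroup (fixedSub α)).map (fixedSub α).subtype with hQ
  set J := joinS Q
  have step : ∀ (N : Subgroup H) [N.Characteristic], N ≠ ⊥ → Group.IsSolvable ↥(J ⊓ N) →
      Group.IsSolvable J := by
    intro N _ hN hJN
    let π := QuotientGroup.mk' N
    let β : B →* MulAut (H ⧸ N) := (quotAut N).comp α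
    have hinv : ∀ b, ∀ x ∈ N, α b x ∈ N := fun b x hx =>
      (Subgroup.characteristic_iff_map_eq.mp ‹_› (α b)).le ⟨x, hx, rfl⟩
    have hmap := map_fixedSub_eq α hBs hcop N hinv β (fun b h => quotAut_mk N (α b) h)
    let f : fixedSub α →* fixedSub β :=
      (π.comp (fixedSub α).subtype).codRestrict (fixedSub β) fun x => hmap.le ⟨x, x.2, rfl⟩
    have hf : Function.Surjective f := fun y => by
      obtain ⟨x, hx, hxy⟩ := hmap.ge y.2
      exact ⟨⟨x, hx⟩, Subtype.ext hxy⟩
    have hlt : Nat.card (H ⧸ N) < Nat.card H := by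
      rw [N.card_eq_card_quotient_mul_card_subgroup]
      refine lt_mul_of_one_lt_right Nat.card_pos ?_
      rw [Subgroup.one_lt_card_iff_ne_bot]
      exact hN
    have h3q : ¬ 3 ∣ Nat.card (H ⧸ N) := fun h => h3 (h.trans (Subgroup.card_quotient_dvd_card N))
    have hJ' := IH _ hlt h3q β (P.mapSurjective hf) rfl
    have himg : J.map π ≤ joinS (((P.mapSurjective hf : Sylow 5 (fixedSub β)) : Subgroup (fixedSub β)).map
        (fixedSub β).subtype) := by
      rw [Subgroup.map_le_iff_le_comap]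
      refine sSup_le fun X hX => ?_
      rw [← Subgroup.map_le_iff_le_comap]
      haveI := hX.1
      refine le_joinS (Group.isSolvable_of_surjective (f := π.subgroupMap X) (π.subgroupMap_surjective X)) ?_
      rintro _ ⟨_, ⟨x, hx, rfl⟩, rfl⟩
      exact ⟨x, hX.2 ⟨x, hx, rfl⟩, rfl⟩
    haveI := hJ'
    haveI := hJN
    have : Group.IsSolvable (J.map π) := Group.isSolvable_of_isSolvable_injective
      (f := Subgroup.inclusion himg) (Subgroup.inclusion_injective _)
    refine Group.isSolvable_of_ker_le_range (Subgroup.inclusion (inf_le_left : J ⊓ N ≤ J)) (π.subgroupMap J) ?_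
    intro x hx
    have h1 : π (x : H) = 1 := congrArg Subtype.val (MonoidHom.mem_ker.mp hx)
    exact ⟨⟨x, x.2, (QuotientGroup.eq_one_iff _).mp h1⟩, rfl⟩
  have hQs : Group.IsSolvable Q := by
    haveI := (P.2.map (fixedSub α).subtype).isNilpotent
    infer_instance
  by_cases hR : solvableRadical H = ⊥
  swap
  · haveI := CfsgLib.isSolvable_solvableRadical (G := H)
    exact step _ hR (Group.isSolvable_of_isSolvable_injective
      (f := Subgroup.inclusion (inf_le_right : J ⊓ solvableRadical H ≤ solvableRadical H))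
      (Subgroup.inclusion_injective _))
  rcases subsingleton_or_nontrivial H with h | h
  · exact Group.isSolvable_of_comm fun a b => Subsingleton.elim _ _
  classical
  have hv := fun K (hK : IsComponent K) => exists_five_in_sylow α hR h3 hB hBc P hK
  choose f hfQ hfl hf5 using hv
  let v : Subgroup H → H := fun K => if h : IsComponent K then prj K (f K h) else 1
  have hv' : ∀ K, IsComponent K → ∃ g ∈ Q, g ∈ layer H ∧ prj K g = v K ∧ orderOf (v K) = 5 := fun K hK =>
    ⟨f K hK, hfQ K hK, hfl K hK, by simp [v, hK], by simp [v, hK, hf5]⟩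
  haveI := torusProd_solvable hR h3 (v := v) fun K hK => by
    obtain ⟨g, -, -, e, h5⟩ := hv' K hK
    exact ⟨e ▸ prj_mem K g, h5⟩
  exact step (layer H) (layer_ne_bot hR) (Group.isSolvable_of_isSolvable_injective
    (f := Subgroup.inclusion (join_inf_layer hR h3 v hv')) (Subgroup.inclusion_injective _))

end CfsgLib.SF23
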