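import Cfsg.Agent.Lib.Suzuki.Subfield
import Cfsg.Agent.Lib.Suzuki.Aut
import Cfsg.Agent.Lib.Suzuki.Fixity
import Cfsg.Agent.Lib.Suzuki.Solvable

/-!
Automorphisms of the model `Sz(q)` of order a power of three, and the frame of an opposite pair of Sylow 2-subgroups.

Blueprint: `blueprint/S1919.md`, section 1.
-/

set_option autoImplicit false
set_option linter.unusedSectionVars false
set_option linter.style.haveILetI false

namespace CfsgLib.SF23.SzM

open Cfsg CfsgLib.Suzuki Subgroup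

universe v

variable {F : Type v} [Field F] [Fintype F] {m : ℕ} (hF : Fintype.card F = 2 ^ (2 * m + 1))
include hF

theorem five_not_dvd_q : ¬ 5 ∣ 2 ^ (2 * m + 1) - 1 ∧ ¬ 5 ∣ (2 ^ (2 * m + 1)) ^ 2 ∧
    5 ∣ (2 ^ (2 * m + 1)) ^ 2 + 1 := by
  have h : 2 ^ (2 * m + 1) % 5 = 2 ∨ 2 ^ (2 * m + 1) % 5 = 3 := by
    clear hF
    induction m with
    | zero => left; norm_num
    | succ k ih =>
      rw [show 2 * (k + 1) + 1 = (2 * k + 1) + 2 by ring, pow_add]
      omega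
  have hsq : (2 ^ (2 * m + 1)) ^ 2 % 5 = 4 := by
    rw [Nat.pow_mod]
    rcases h with h | h <;> rw [h]
  have hpos : 0 < 2 ^ (2 * m + 1) := by positivity
  omega

variable (hm : 1 ≤ m)
include hm

theorem fAut_val (i : ℕ) (x : ↥(Cfsg.Sz F m)) (r s : Fin 4) :
    ((fAut hF hm i x).1.1 r s : F) = (x.1.1 r s) ^ 2 ^ i := rfl

theorem fAut_mul (i j : ℕ) : fAut hF hm i * fAut hF hm j = fAut hF hm (i + j) := by
  refine MulEquiv.ext fun x => Subtype.ext (Subtype.ext ?_)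
  ext r s
  show ((x.1.1 r s) ^ 2 ^ j) ^ 2 ^ i = (x.1.1 r s) ^ 2 ^ (i + j)
  rw [← pow_mul, ← pow_add, add_comm i]

theorem fAut_one : fAut hF hm 0 = 1 := by
  refine MulEquiv.ext fun x => Subtype.ext (Subtype.ext ?_)
  ext r s
  show (x.1.1 r s) ^ 2 ^ 0 = x.1.1 r s
  rw [pow_zero, pow_one]

theorem fAut_top : fAut hF hm (2 * m + 1) = 1 := by
  refine MulEquiv.ext fun x => Subtype.ext (Subtype.ext ?_)
  ext r s
  show (x.1.1 r s) ^ 2 ^ (2 * m + 1) = x.1.1 r s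
  rw [← hF, FiniteField.pow_card]

theorem fAut_pow (i k : ℕ) : fAut hF hm i ^ k = fAut hF hm (i * k) := by
  induction k with
  | zero => rw [pow_zero, mul_zero, fAut_one]
  | succ k ih => rw [pow_succ, ih, fAut_mul, mul_add, mul_one]

theorem fAut_eq_one_iff {i : ℕ} : fAut hF hm i = 1 ↔ 2 * m + 1 ∣ i := by
  constructor
  · intro h
    have h' : fAut hF hm (i % (2 * m + 1)) = 1 := by
      rw [← Nat.div_add_mod i (2 * m + 1), ← fAut_mul, ← fAut_pow, fAut_top, one_pow, one_mul] at h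
      exact h
    refine Nat.dvd_of_mod_eq_zero (pow_two_pow_injective hF (Nat.mod_lt _ (by omega)) (by omega) hm fun a => ?_)
    have h1 := MulEquiv.congr_fun h' (uS hF a 0)
    rw [fAut_uS, MulAut.one_apply] at h1
    rw [pow_zero, pow_one]
    exact (uS_inj hF h1).1
  · rintro ⟨k, rfl⟩
    rw [← fAut_pow, fAut_top, one_pow]

theorem orderOf_fAut_one : orderOf (fAut hF hm 1) = 2 * m + 1 := by
  refine (orderOf_eq_iff (by omega)).mpr ⟨by rw [fAut_pow, one_mul, fAut_top], fun k hk hk0 => ?_⟩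
  rw [fAut_pow, one_mul, Ne, fAut_eq_one_iff]
  exact fun h => absurd (Nat.le_of_dvd hk0 h) (by omega)

/-- The points fixed by a field automorphism are fixed by its powers. -/
theorem fix_pow {φ : MulAut ↥(Cfsg.Sz F m)} {x : ↥(Cfsg.Sz F m)} (h : φ x = x) (k : ℕ) : (φ ^ k) x = x := by
  induction k with
  | zero => rw [pow_zero, MulAut.one_apply]
  | succ k ih => rw [pow_succ, MulAut.mul_apply, h, ih]

theorem conj_injective : Function.Injective (MulAut.conj : ↥(Cfsg.Sz F m) →* MulAut ↥(Cfsg.Sz F m)) := by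
  haveI := isSimple hF hm
  rw [← MonoidHom.ker_eq_bot_iff]
  refine ((inferInstance : (MulAut.conj (G := ↥(Cfsg.Sz F m))).ker.Normal).eq_bot_or_eq_top).resolve_right
    fun h => ?_
  have hc : commutator ↥(Cfsg.Sz F m) = ⊥ := by
    rw [commutator_def, eq_bot_iff, commutator_le]
    intro a _ b _
    rw [mem_bot, commutatorElement_eq_one_iff_mul_comm]
    have := MulEquiv.congr_fun (MonoidHom.mem_ker.mp (h.ge (mem_top a))) b
    rw [MulAut.conj_apply, MulAut.one_apply] at this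
    exact mul_inv_eq_iff_eq_mul.mp this
  rw [perfect hF hm] at hc
  exact top_ne_bot hc

theorem finite_aut : Finite (MulAut ↥(Cfsg.Sz F m)) := MulEquiv.toEquiv_injective |> Finite.of_injective _

theorem card_aut : Nat.card (MulAut ↥(Cfsg.Sz F m)) = Nat.card ↥(Cfsg.Sz F m) * (2 * m + 1) := by
  rw [← (Inn ↥(Cfsg.Sz F m)).card_mul_index, Subgroup.index_eq_card, card_out hF hm,
    Nat.card_congr (MonoidHom.ofInjective (conj_injective hF hm)).toEquiv]

theorem not_three_dvd : ¬ 3 ∣ Nat.card ↥(Cfsg.Sz F m) := by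
  rw [card_Sz hF hm]
  set Q := 2 ^ (2 * m + 1) with hQ
  have hQ3 : Q % 3 = 2 := by rw [hQ, pow_succ, pow_mul, Nat.mul_mod, Nat.pow_mod]; norm_num
  have e2 : Q ^ 2 % 3 = 1 := by rw [Nat.pow_mod, hQ3]
  intro hd
  have h2 : (Q - 1) % 3 = 1 := by omega
  have h4 : (Q ^ 2 + 1) % 3 = 2 := by omega
  rcases (Nat.Prime.dvd_mul Nat.prime_three).mp hd with q | q
  · rcases (Nat.Prime.dvd_mul Nat.prime_three).mp q with q' | q' <;> omega
  · omega

/-- A group of automorphisms of 3-power order is conjugate to one of field automorphisms. -/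
theorem three_group_field {Y : Subgroup (MulAut ↥(Cfsg.Sz F m))} (hY : IsPGroup 3 Y) :
    ∃ β : MulAut ↥(Cfsg.Sz F m), ∀ y ∈ Y, β * y * β⁻¹ ∈ zpowers (fAut hF hm 1) := by
  haveI := finite_aut hF hm
  haveI : Fact (Nat.Prime 3) := ⟨Nat.prime_three⟩
  set Φ := zpowers (fAut hF hm 1) with hΦ
  have hi : Φ.index = Nat.card ↥(Cfsg.Sz F m) := by
    have h := Φ.card_mul_index
    rw [Nat.card_zpowers, orderOf_fAut_one hF hm, card_aut hF hm, mul_comm (Nat.card _)] at h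
    exact Nat.eq_of_mul_eq_mul_left (by omega) h
  obtain ⟨Q⟩ : Nonempty (Sylow 3 Φ) := inferInstance
  have hQ : ¬ 3 ∣ ((Q : Subgroup Φ).map Φ.subtype).index := by
    rw [index_map_subtype, hi, Nat.prime_three.dvd_mul]
    exact not_or.mpr ⟨Q.not_dvd_index, not_three_dvd hF hm⟩
  obtain ⟨P, hP⟩ := hY.exists_le_sylow
  obtain ⟨β, hβ⟩ := MulAction.exists_smul_eq (MulAut ↥(Cfsg.Sz F m)) P ((Q.2.map Φ.subtype).toSylow hQ)
  refine ⟨β, fun y hy => map_subtype_le (Q : Subgroup Φ) ?_⟩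
  have h1 : β * y * β⁻¹ ∈ ((β • P : Sylow 3 (MulAut ↥(Cfsg.Sz F m))) : Subgroup (MulAut ↥(Cfsg.Sz F m))) := by
    rw [Sylow.coe_subgroup_smul]
    exact ⟨y, hP hy, rfl⟩
  rw [hβ] at h1
  exact h1

theorem mem_field {φ : MulAut ↥(Cfsg.Sz F m)} (h : φ ∈ zpowers (fAut hF hm 1)) : ∃ i : ℕ, φ = fAut hF hm i := by
  haveI := finite_aut hF hm
  rw [← mem_powers_iff_mem_zpowers] at h
  obtain ⟨i, rfl⟩ := h
  exact ⟨i, by show fAut hF hm 1 ^ i = _; rw [fAut_pow, one_mul]⟩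

theorem three_field {ψ : MulAut ↥(Cfsg.Sz F m)} (hψ : orderOf ψ = 3) :
    ∃ (β : MulAut ↥(Cfsg.Sz F m)) (k : ℕ), 2 * m + 1 = 3 * (2 * k + 1) ∧
      ∀ x, ψ x = x ↔ β x ∈ subGp hF hm k := by
  obtain ⟨β, hβ⟩ := three_group_field hF hm (Y := zpowers ψ)
    (IsPGroup.of_card (n := 1) (by rw [Nat.card_zpowers, hψ, pow_one]))
  obtain ⟨i, hi⟩ := mem_field hF hm (hβ ψ (mem_zpowers ψ))
  have ho : orderOf (fAut hF hm i) = 3 := by
    rw [← hi, ← MulAut.conj_apply, MulEquiv.orderOf_eq, hψ]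
  have h3 : 2 * m + 1 ∣ i * 3 := by
    rw [← fAut_eq_one_iff hF hm, ← fAut_pow, ← ho, pow_orderOf_eq_one]
  have hn : ¬ 2 * m + 1 ∣ i := fun h => by
    rw [(fAut_eq_one_iff hF hm).mpr h, orderOf_one] at ho
    norm_num at ho
  obtain ⟨d, hd⟩ : 3 ∣ 2 * m + 1 := by
    by_contra hc
    exact hn ((Nat.Coprime.symm ((Nat.prime_three.coprime_iff_not_dvd).mpr hc)).dvd_of_dvd_mul_right h3)
  obtain ⟨k, rfl⟩ : Odd d := Nat.Odd.of_mul_right (show Odd (3 * d) by rw [← hd]; exact ⟨m, rfl⟩)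
  refine ⟨β, k, hd, fun x => ?_⟩
  obtain ⟨r, hr⟩ : 2 * k + 1 ∣ i := by
    rw [hd, mul_comm i] at h3
    exact Nat.dvd_of_mul_dvd_mul_left (by norm_num) h3
  have hr3 : ¬ 3 ∣ r := fun ⟨w, hw⟩ => hn ⟨w, by rw [hr, hw, hd]; ring⟩
  have hψx : ψ x = x ↔ fAut hF hm i (β x) = β x := by
    rw [← hi, MulAut.mul_apply, MulAut.mul_apply, MulAut.inv_apply_self, β.injective.eq_iff]
  rw [hψx, mem_subGp hF hm]
  constructor
  · intro h
    -- `2k+1` is a multiple of `i` modulo `3 (2k+1)`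
    obtain ⟨l, hl⟩ : ∃ l, r * l % 3 = 1 := by
      rcases (by omega : r % 3 = 1 ∨ r % 3 = 2) with h | h
      · exact ⟨1, by rw [mul_one]; exact h⟩
      · exact ⟨2, by omega⟩
    have e : fAut hF hm (2 * k + 1) = fAut hF hm i ^ l := by
      have e1 : i * l = (2 * k + 1) * 1 + (2 * m + 1) * (r * l / 3) := by
        calc i * l = (2 * k + 1) * (3 * (r * l / 3) + r * l % 3) := by rw [Nat.div_add_mod, hr]; ring
          _ = _ := by rw [hl, hd]; ring
      rw [fAut_pow, e1, mul_one, ← fAut_mul hF hm (2 * k + 1) ((2 * m + 1) * (r * l / 3)),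
        (fAut_eq_one_iff hF hm).mpr (dvd_mul_right _ _), mul_one]
    rw [e]
    exact fix_pow hF hm h l
  · intro h
    rw [hr, ← fAut_pow]
    exact fix_pow hF hm h r

/-- An automorphism normalising the two standard Sylow 2-subgroups and fixing `uS 0 1` is a field automorphism. -/
theorem frame_aut {φ : MulAut ↥(Cfsg.Sz F m)} (h1 : φ (uS hF 0 1) = uS hF 0 1)
    {b : F} (hb : b ≠ 0) (h2 : φ (wS hF * uS hF 0 b * wS hF) ∈ (U hF).map (MulAut.conj (wS hF)).toMonoidHom) :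
    ∃ i : ℕ, i < 2 * m + 1 ∧ φ = fAut hF hm i := by
  obtain ⟨g, i, rfl⟩ := aut_eq hF hm φ
  rw [MulAut.mul_apply, fAut_uS, one_pow, zero_pow (by positivity), MulAut.conj_apply] at h1
  have hg : g ∈ U hF := centralizer_unipotent hF hm ⟨0, 1, rfl⟩
    (fun e => one_ne_zero ((eq_one_iff_uS hF).mp e).2)
    (mem_centralizer_singleton_iff.mpr (mul_inv_eq_iff_eq_mul.mp h1))
  refine ⟨i, i.2, ?_⟩
  by_cases hg1 : g = 1
  · rw [hg1, map_one, one_mul]
  exfalso
  rw [MulAut.mul_apply, map_mul (fAut hF hm _), map_mul (fAut hF hm _), fAut_uS, fAut_wS, MulAut.conj_apply,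
    zero_pow (by positivity), mem_map_conj_iff, wS_inv] at h2
  have hb' : b ^ 2 ^ (i : ℕ) ≠ 0 := pow_ne_zero _ hb
  set v := uS hF 0 (b ^ 2 ^ (i : ℕ))
  have h3 : wS hF * g * wS hF * v * (wS hF * g * wS hF)⁻¹ ∈ U hF := by
    have e : wS hF * g * wS hF * v * (wS hF * g * wS hF)⁻¹ =
        wS hF * (g * (wS hF * v * wS hF) * g⁻¹) * wS hF := by
      rw [_root_.mul_inv_rev, _root_.mul_inv_rev, wS_inv]
      group
    rw [e]
    exact h2
  have h4 := conj_fix_inf hF (g := v) ⟨_, _, rfl⟩ (fun e => hb' ((eq_one_iff_uS hF).mp e).2) h3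
  rw [mul_smul, mul_smul, smul_wS_inf, ← wS_inv, inv_smul_eq_iff, smul_wS_inf] at h4
  have h5 := fix_unique hF hg hg1 (by rw [← pt_zero (m := m)]; exact pt_mem _ _) h4
  rw [← pt_zero (m := m)] at h5
  exact pt_ne_inf _ _ h5

/-- The frame of an involution and a conjugate of it under an element of order five. -/
theorem exists_frame {s z : ↥(Cfsg.Sz F m)} (hs : orderOf s = 2) (hz : orderOf z = 5) :
    ∃ (g : ↥(Cfsg.Sz F m)) (b : F), b ≠ 0 ∧ g * s * g⁻¹ = uS hF 0 1 ∧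
      g * (z * s * z⁻¹) * g⁻¹ = wS hF * uS hF 0 b * wS hF := by
  haveI : Fact (Nat.Prime 2) := ⟨Nat.prime_two⟩
  obtain ⟨n1, n2, -⟩ := five_not_dvd_q hF
  have hs1 : s ≠ 1 := fun e => by rw [e, orderOf_one] at hs; norm_num at hs
  have hss : s * s = 1 := by rw [← sq, ← hs, pow_orderOf_eq_one]
  have hz1 : z ≠ 1 := fun e => by rw [e, orderOf_one] at hz; norm_num at hz
  obtain ⟨p, hp, hsp, -⟩ := unip_fix hF hm (invol_unip hF hm hs1 hss)
  have hne : p ≠ z • p := by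
    intro e
    rcases classify_point hF hm hz1 hp e.symm with h | h
    · have := orderOf_dvd_of_conjSet _ h
      rw [hz, card_U] at this
      exact n2 this
    · have := orderOf_dvd_of_conjSet _ h
      rw [hz, card_T] at this
      exact n1 this
  obtain ⟨g1, e1, e0⟩ := exists_to_inf_zero hF hp (smul_mem_ovoid z.2 hp : z • p ∈ suzukiOvoid F m) hne
  have e0' : g1 • (z • p) = suzukiPointZero F := e0
  have key : ∀ (g x : ↥(Cfsg.Sz F m)), x ≠ 1 → x * x = 1 →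
      (g * x * g⁻¹) • suzukiPointInfinity F = suzukiPointInfinity F → ∃ b, b ≠ 0 ∧ g * x * g⁻¹ = uS hF 0 b := by
    intro g x hx1 hx2 hfix
    have h1 : g * x * g⁻¹ ≠ 1 := fun e => hx1 (conj_eq_one_iff.mp e)
    obtain ⟨b, hb⟩ := invol_mem_Z hF hm h1 (by
      rw [show g * x * g⁻¹ * (g * x * g⁻¹) = g * (x * x) * g⁻¹ by group, hx2]; group) hfix
    exact ⟨b, fun e => h1 (by rw [hb, e, uS_zero]), hb⟩
  obtain ⟨b, hb, hgs⟩ := key g1 s hs1 hss (by rw [mul_smul, mul_smul, inv_smul_eq_iff.mpr e1.symm, hsp, e1])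
  obtain ⟨τ, hτ⟩ := th_sq_surj hF (m := m) (inv_ne_zero hb)
  obtain ⟨g, hg⟩ : ∃ g, g = dS hF τ * g1 := ⟨_, rfl⟩
  have hg0 : g⁻¹ • suzukiPointZero F = z • p := by
    rw [inv_smul_eq_iff, hg, mul_smul, e0', smul_dS_zero]
  obtain ⟨b', hb', hgt⟩ := key (wS hF * g) (z * s * z⁻¹)
    (fun e => hs1 (conj_eq_one_iff.mp e)) (by
      rw [show z * s * z⁻¹ * (z * s * z⁻¹) = z * (s * s) * z⁻¹ by group, hss]; group) (by
      rw [show wS hF * g * (z * s * z⁻¹) * (wS hF * g)⁻¹ = wS hF * (g * (z * (s * (z⁻¹ * (g⁻¹ * (wS hF)⁻¹))))) by group,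
        wS_inv, mul_smul, mul_smul, mul_smul, mul_smul, mul_smul, mul_smul, smul_wS_inf, hg0,
        inv_smul_smul, hsp, ← hg0, smul_inv_smul, smul_wS_zero])
  refine ⟨g, b', hb', ?_, ?_⟩
  · rw [hg, show dS hF τ * g1 * s * (dS hF τ * g1)⁻¹ = dS hF τ * (g1 * s * g1⁻¹) * (dS hF τ)⁻¹ by group, hgs,
      dS_uS, mul_zero, hτ, inv_mul_cancel₀ hb]
  · rw [← hgt, _root_.mul_inv_rev, wS_inv]
    calc g * (z * s * z⁻¹) * g⁻¹
        = wS hF * wS hF * g * (z * s * z⁻¹) * g⁻¹ * (wS hF * wS hF) := by rw [wS_mul_self, one_mul, mul_one]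
      _ = _ := by group

end CfsgLib.SF23.SzM
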