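import Cfsg.Agent.Lib.SF23.Outside

/-!
The transitivity theorem for members: two maximal invariant `q`-members are conjugate under the fixed group.
-/

set_option autoImplicit false
set_option linter.unusedSectionVars false
set_option linter.style.haveILetI false

namespace CfsgLib.SF23

open Cfsg Subgroup CfsgLib.Signalizer CfsgLib.SolvSF

universe u
variable {G : Type u} [Group G] [Finite G] {A : Subgroup G} {θ : G → Subgroup G}

/-- A maximal `q`-member. -/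
def IsMaxM (A : Subgroup G) (θ : G → Subgroup G) (q : ℕ) (Q : Subgroup G) : Prop :=
  IsMem 3 A θ Q ∧ IsPGroup q Q ∧ ∀ R, IsMem 3 A θ R → IsPGroup q R → Q ≤ R → R = Q

theorem exists_maxM {q : ℕ} {R : Subgroup G} (hR : IsMem 3 A θ R) (hq : IsPGroup q R) :
    ∃ Q, IsMaxM A θ q Q ∧ R ≤ Q := by
  obtain ⟨Q, ⟨hQ, hQq, hRQ⟩, hmax⟩ := (Set.toFinite {Q : Subgroup G |
    IsMem 3 A θ Q ∧ IsPGroup q Q ∧ R ≤ Q}).exists_maximal ⟨R, hR, hq, le_rfl⟩
  exact ⟨Q, ⟨hQ, hQq, fun S hS hSq hQS => le_antisymm (hmax ⟨hS, hSq, hRQ.trans hQS⟩ hQS) hQS⟩, hRQ⟩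

variable (h : Ctx 3 A θ)
include h

theorem maxM_conj {c : G} (hc : c ∈ dfix h) {q : ℕ} {Q : Subgroup G} (hQ : IsMaxM A θ q Q) :
    IsMaxM A θ q (Q.map (MulAut.conj c).toMonoidHom) := by
  refine ⟨conj_isMem h hQ.1 hc, hQ.2.1.map _, fun R hR hRq hle => ?_⟩
  have h1 : Q ≤ R.map (MulAut.conj c⁻¹).toMonoidHom := by
    have h2 := Subgroup.map_mono (f := (MulAut.conj c⁻¹).toMonoidHom) hle
    rwa [map_conj_conj, inv_mul_cancel, map_conj_one] at h2
  have h2 := hQ.2.2 _ (conj_isMem h hR (inv_mem hc)) (hRq.map _) h1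
  rw [← h2, map_conj_conj, mul_inv_cancel, map_conj_one]

/-- The transitivity theorem. -/
theorem transit {q : ℕ} [Fact q.Prime] :
    ∀ Q₁ Q₂ : Subgroup G, IsMaxM A θ q Q₁ → IsMaxM A θ q Q₂ →
      ∃ c ∈ dfix h, Q₁.map (MulAut.conj c).toMonoidHom = Q₂ := by
  have hA := h.hA
  have hA3 := h.hA3.ge
  suffices key : ∀ n, ∀ Q₁ Q₂ : Subgroup G, Nat.card G - Nat.card ↥(Q₁ ⊓ Q₂) = n → IsMaxM A θ q Q₁ →
      IsMaxM A θ q Q₂ → ∃ c ∈ dfix h, Q₁.map (MulAut.conj c).toMonoidHom = Q₂ from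
    fun Q₁ Q₂ h1 h2 => key _ Q₁ Q₂ rfl h1 h2
  intro n
  induction n using Nat.strong_induction_on with
  | _ n ih =>
    intro Q₁ Q₂ hn h₁ h₂
    subst hn
    by_cases heq : Q₁ = Q₂
    · exact ⟨1, one_mem _, by rw [map_conj_one, heq]⟩
    set D := Q₁ ⊓ Q₂ with hD
    have hD₁ : D ≠ Q₁ := fun e => heq (h₁.2.2 Q₂ h₂.1 h₂.2.1 (e ▸ inf_le_right)).symm
    have hD₂ : D ≠ Q₂ := fun e => heq (h₂.2.2 Q₁ h₁.1 h₁.2.1 (e ▸ inf_le_left))
    have hA₁ := h₁.1.inv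
    have hA₂ := h₂.1.inv
    obtain ⟨a, ha, ha1, hn₁, hn₂⟩ :=
      exists_centralizing hA hA3 h₁.2.1 h₂.2.1 h₁.1.not_dvd h₂.1.not_dvd hA₁ hA₂ hD₁ hD₂
    have hDA := inf_normalizes hA₁ hA₂
    have hAD : A ≤ Subgroup.normalizer (Subgroup.normalizer (D : Set G) : Set G) := fun g hg =>
      Subgroup.le_normalizer (hDA hg)
    -- a member containing both enlargements
    obtain ⟨M, hM, hMmax⟩ : ∃ M, IsMem 3 A θ M ∧ ∀ X, IsMem 3 A θ X → D ≤ X →
        X ≤ normalizer (D : Set G) → (D = ⊥ → X ≤ θ a) → X ≤ M := by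
      by_cases hbot : D = ⊥
      · exact ⟨θ a, theta_isMem h.hθ ⟨ha, ha1⟩, fun X _ _ _ hX => hX hbot⟩
      · obtain ⟨M, hM, hmax⟩ := h.maxOf D (h₁.1.sub inf_le_left hDA) hbot
        exact ⟨M, hM, fun X hX _ hXn _ => hmax X hX hXn⟩
    have step : ∀ Q, IsMaxM A θ q Q → D ≤ Q →
        ¬ (Subgroup.normalizer (D : Set G) ⊓ Q ⊓ Subgroup.centralizer {a} ≤ D) →
        ∃ S : Sylow q M, A ≤ Subgroup.normalizer ((S : Subgroup M).map M.subtype : Set G) ∧
          D < Q ⊓ (S : Subgroup M).map M.subtype := by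
      intro Q hQ hDQ hnot
      set R := Subgroup.normalizer (D : Set G) ⊓ Q ⊓ Subgroup.centralizer {a} with hR
      have hRθ : R ≤ θ a := (inf_le_inf_right _ inf_le_right).trans (hQ.1.fix a ⟨ha, ha1⟩)
      have hU : D ⊔ R ≤ Q := sup_le hDQ (inf_le_left.trans inf_le_right)
      have hRA : A ≤ Subgroup.normalizer (R : Set G) :=
        inf_normalizes (inf_normalizes hAD hQ.1.inv) (centralizer_singleton_normalizes hA ha)
      have hUA : A ≤ Subgroup.normalizer ((D ⊔ R : Subgroup G) : Set G) := normalizes_sup' hDA hRA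
      have hUM : D ⊔ R ≤ M := hMmax _ (hQ.1.sub hU hUA) le_sup_left
        (sup_le Subgroup.le_normalizer (inf_le_left.trans inf_le_left))
        (fun e => by rw [e, bot_sup_eq]; exact hRθ)
      obtain ⟨S, hS, hSA⟩ := coprime_le_invariant_sylow hM.inv (ea_coprime hA hM.not_dvd) (Or.inl (ea_solvable hA))
        hUM (hQ.2.1.to_le hU) hUA
      refine ⟨S, hSA, lt_of_lt_of_le (lt_of_le_of_ne le_sup_left fun e => hnot ?_) (le_inf hU hS)⟩
      exact le_sup_right.trans e.ge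
    obtain ⟨S₁, hS₁A, hlt₁⟩ := step Q₁ h₁ inf_le_left hn₁
    obtain ⟨S₂, hS₂A, hlt₂⟩ := step Q₂ h₂ inf_le_right hn₂
    obtain ⟨c, hcA, hc⟩ := coprime_invariant_sylow_conj hM.inv (ea_coprime hA hM.not_dvd) (Or.inl (ea_solvable hA))
      S₁ S₂ hS₁A hS₂A
    have hcinf : (c : G) ∈ dfix h :=
      mem_cent_le_dfix h hM ⟨c.2, fun x hx => (hcA x hx)⟩
    have hSmap : ((S₁ : Subgroup M).map M.subtype).map (MulAut.conj (c : G)).toMonoidHom =
        (S₂ : Subgroup M).map M.subtype := by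
      rw [← hc, Sylow.pointwise_smul_def, Subgroup.pointwise_smul_def]
      show _ = ((S₁ : Subgroup M).map (MulAut.conj c).toMonoidHom).map M.subtype
      rw [Subgroup.map_map, Subgroup.map_map]
      rfl
    obtain ⟨Q₃, h₃, hS₁Q₃⟩ := exists_maxM (hM.sub (Subgroup.map_subtype_le _) hS₁A) (S₁.2.map _)
    have h₄ := maxM_conj h hcinf h₃
    set Q₄ := Q₃.map (MulAut.conj (c : G)).toMonoidHom with hQ₄
    have hlt3 : D < Q₁ ⊓ Q₃ := hlt₁.trans_le (inf_le_inf_left _ hS₁Q₃)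
    have hlt4 : D < Q₄ ⊓ Q₂ := by
      refine hlt₂.trans_le (le_inf (inf_le_right.trans ?_) inf_le_left)
      rw [← hSmap]
      exact Subgroup.map_mono hS₁Q₃
    have hcard : ∀ X : Subgroup G, D < X → Nat.card G - Nat.card X < Nat.card G - Nat.card D := by
      intro X hX
      have h1 : Nat.card D < Nat.card X := by
        rcases lt_or_eq_of_le (Subgroup.card_le_of_le hX.le) with h | h
        · exact h
        · exact absurd (Subgroup.eq_of_le_of_card_ge hX.le h.ge) hX.ne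
      have h2 := Subgroup.card_le_card_group X
      omega
    obtain ⟨c₁, hc₁, e₁⟩ := ih _ (hcard _ hlt3) Q₁ Q₃ rfl h₁ h₃
    obtain ⟨c₂, hc₂, e₂⟩ := ih _ (hcard _ hlt4) Q₄ Q₂ rfl h₄ h₂
    refine ⟨c₂ * (c * c₁), mul_mem hc₂ (mul_mem hcinf hc₁), ?_⟩
    rw [← e₂, hQ₄, ← e₁, map_conj_conj, map_conj_conj, mul_assoc]

end CfsgLib.SF23
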